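import Cfsg.Agent.H6.Th.D.D0

set_option autoImplicit false
set_option maxRecDepth 100000
set_option Elab.async false

namespace Cfsg.H6.Th.D

theorem k30 : allR D.ok 3000 100 = true := by decide +kernel

theorem k31 : allR D.ok 3100 100 = true := by decide +kernel

theorem k32 : allR D.ok 3200 100 = true := by decide +kernel

theorem k33 : allR D.ok 3300 100 = true := by decide +kernel

theorem k34 : allR D.ok 3400 100 = true := by decide +kernel

theorem k35 : allR D.ok 3500 100 = true := by decide +kernel

end Cfsg.H6.Th.D
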