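import Cfsg.Agent.H6.Th.D.D0

set_option autoImplicit false
set_option maxRecDepth 100000
set_option Elab.async false

namespace Cfsg.H6.Th.D

theorem k36 : allR D.ok 3600 100 = true := by decide +kernel

theorem k37 : allR D.ok 3700 100 = true := by decide +kernel

theorem k38 : allR D.ok 3800 100 = true := by decide +kernel

theorem k39 : allR D.ok 3900 100 = true := by decide +kernel

theorem k40 : allR D.ok 4000 100 = true := by decide +kernel

theorem k41 : allR D.ok 4100 100 = true := by decide +kernel

end Cfsg.H6.Th.D
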