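import Cfsg.Agent.H6.Th.D.D0

set_option autoImplicit false
set_option maxRecDepth 100000
set_option Elab.async false

namespace Cfsg.H6.Th.D

theorem k42 : allR D.ok 4200 100 = true := by decide +kernel

theorem k43 : allR D.ok 4300 100 = true := by decide +kernel

theorem k44 : allR D.ok 4400 100 = true := by decide +kernel

theorem k45 : allR D.ok 4500 100 = true := by decide +kernel

theorem k46 : allR D.ok 4600 100 = true := by decide +kernel

theorem k47 : allR D.ok 4700 100 = true := by decide +kernel

end Cfsg.H6.Th.D
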