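import Cfsg.Agent.H6.DCE5
import Cfsg.Agent.H6.Th.H.Main

set_option autoImplicit false
set_option maxRecDepth 100000
set_option Elab.async false

namespace Cfsg.H6.Th.D

def c0 : Clm := ⟨0, 0, false, [], [1], 0, [], []⟩
def c1 : Clm := ⟨0, 0, false, [], [2], 0, [], []⟩
def c2 : Clm := ⟨0, 0, false, [], [3], 0, [], []⟩
def c3 : Clm := ⟨0, 0, false, [], [4], 0, [], []⟩
def c4 : Clm := ⟨0, 0, false, [], [5], 0, [], []⟩
def c5 : Clm := ⟨0, 0, false, [], [6], 0, [], []⟩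
def c6 : Clm := ⟨0, 0, false, [], [8], 0, [], []⟩
def c7 : Clm := ⟨0, 1, true, [], [], 1, [], []⟩
def c8 : Clm := ⟨1, 0, true, [1,3], [], 5, [([], 7, [])], []⟩
def c9 : Clm := ⟨0, 1, true, [1,3], [1,3], 5, [([], 8, [])], []⟩
def c10 : Clm := ⟨1, 1, false, [], [1], 3, [([], 7, []), ([7,11,9,12,10,1,11,13,8,10,6], 7, [1])], []⟩
def c11 : Clm := ⟨1, 1, false, [], [13], 3, [([], 7, []), ([3,1,7,5,3,7,11,9,11,12,1,13,10,8,10,6,2,4,6,0,2], 7, [11])], []⟩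
def c12 : Clm := ⟨1, 1, false, [], [13,10,13,12,13,5,12], 3, [([], 7, []), ([3,7,5,10,9,7,5,3,10,9,7,11,4,6,8,11,6,4,6,8,6,4,6,2], 7, [1,11,10,13,12,13,12])], []⟩
def c13 : Clm := ⟨1, 1, false, [], [8], 3, [([], 7, []), ([3,1,7,5,3,7,10,9,13,10,13,11,12,8,10,8,6,2,4,6,0,2], 7, [9])], []⟩
def c14 : Clm := ⟨1, 1, true, [6], [7], 21, [([], 9, [1,3]), ([10], 8, [1,3])], []⟩
def c15 : Clm := ⟨1, 1, true, [1,3,7], [6], 5, [([], 14, [])], []⟩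
def c16 : Clm := ⟨1, 1, true, [1,3,6], [1,3,7], 5, [([], 15, [])], []⟩
def c17 : Clm := ⟨1, 2, true, [4], [], 1, [], []⟩
def c18 : Clm := ⟨2, 1, true, [1,3], [4], 5, [([], 17, [])], []⟩
def c19 : Clm := ⟨1, 2, true, [1,11,4], [1,3], 5, [([], 18, [])], []⟩
def c20 : Clm := ⟨2, 2, false, [], [8], 3, [([], 17, []), ([27], 17, [9])], []⟩
def c21 : Clm := ⟨2, 2, false, [], [1,5,13,5,11], 3, [([], 17, []), ([23], 17, [5,11,5,13])], []⟩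
def c22 : Clm := ⟨2, 2, false, [], [1], 3, [([], 17, []), ([21], 17, [1])], []⟩
def c23 : Clm := ⟨2, 2, false, [], [13], 3, [([], 17, []), ([24,21,25], 17, [11])], []⟩
def c24 : Clm := ⟨2, 2, false, [], [3,8,12,11,12,13], 3, [([], 17, []), ([24,23,27,22,25], 17, [3,9,11,12,13,12])], []⟩
def c25 : Clm := ⟨2, 2, false, [], [10,11,5,12,11,10], 3, [([], 17, []), ([25,25,25], 17, [10,11,5,12,11,10])], []⟩
def c26 : Clm := ⟨2, 2, false, [], [1,5,8,12,13,5,12,9,11], 3, [([], 17, []), ([25,26,24,23,25,27,24], 17, [5,9,12,11,5,12,8,13])], []⟩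
def c27 : Clm := ⟨2, 2, false, [], [8,11,12,13,12,9,13], 3, [([], 17, []), ([25,23,25,23,24,22,24], 17, [9,11,13,12,11,12,8])], []⟩
def c28 : Clm := ⟨2, 1, true, [5,4], [1,11,5,13,4], 9, [([], 19, [1,3,5]), ([], 9, [13,3]), ([6], 8, [1,5,13,5,11])], []⟩
def c29 : Clm := ⟨1, 2, true, [13,3,5,4], [5,4], 5, [([], 28, [])], []⟩
def c30 : Clm := ⟨2, 2, false, [5,4], [3,5,12,13,5,12,8,4,5], 3, [([], 29, []), ([25,26,25,26,22,24], 17, [3,5,12,11,5,12,9])], []⟩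
def c31 : Clm := ⟨2, 1, true, [10,11,2,11,10], [5,11,5,4,5,10,4], 13, [([], 19, [1,3]), ([], 9, [13,3]), ([6,4,6,2,4,6,0,2], 8, [5,11,5,11])], []⟩
def c32 : Clm := ⟨1, 2, true, [3,13,10,11,2,13,5,10], [10,11,2,11,10], 5, [([], 31, [])], []⟩
def c33 : Clm := ⟨2, 1, true, [10,11,10,2,1,11,10], [3,13,10,11,2,13,5,10], 5, [([], 32, [])], []⟩
def c34 : Clm := ⟨2, 1, true, [1,5,12,11,4], [1,5,9,13,5,12,11,12,8,4,12,4], 11, [([], 19, [1,3,5,12]), ([25,27,24,22,25,26,20,24], 33, [10,13,12,13,10]), ([54,42], 32, [1,10,13,12,13,10])], []⟩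
def c35 : Clm := ⟨1, 2, true, [10,11,10,12,11,10,4,12,4], [1,5,12,11,4], 5, [([], 34, [])], []⟩
def c36 : Clm := ⟨2, 1, true, [5,12,4], [10,11,10,12,11,10,4,12,4], 5, [([], 35, [])], []⟩
def c37 : Clm := ⟨2, 2, true, [8,4,7,9], [3,9,12,4,6,12,6], 43, [([], 19, [1,3]), ([27], 16, [3,8,11,12,11,12,13]), ([26,25,27,24], 36, [9,11,5,12])], []⟩
def c38 : Clm := ⟨2, 2, true, [9,12,11,3,4,6,12,6], [8,4,7,9], 5, [([], 37, [])], []⟩
def c39 : Clm := ⟨2, 2, true, [1,8,11,4,7,9], [9,12,11,3,4,6,12,6], 5, [([], 38, [])], []⟩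
def c40 : Clm := ⟨1, 1, true, [11,5,12,9,13,12,8,4,5,7], [5,12,11,13,12,9,13,12,8,4,7,12,7], 47, [([], 36, [5,8,11,13,12,9,13]), ([61,41], 38, [5,9,11,5,12,11]), ([61], 19, [8,10,12,13,5,12,9,13,10])], []⟩
def c41 : Clm := ⟨1, 1, true, [12,8,11,12,9,12,13,12,4,7,12,7], [11,5,12,9,13,12,8,4,5,7], 5, [([], 40, [])], []⟩
def c42 : Clm := ⟨2, 1, true, [9,11,12,11,13,6], [11,12,8,11,13,12,11,13,4,12,4], 47, [([], 39, [13,5,12,8,13,12,9]), ([60], 19, [5,8,12,11,12,8,13]), ([26,25,27,24], 41, [1,5,8,12,13,5,12,11])], []⟩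
def c43 : Clm := ⟨1, 2, true, [12,8,11,13,12,11,13,4,12,4], [9,11,12,11,13,6], 5, [([], 42, [])], []⟩
def c44 : Clm := ⟨2, 2, false, [9,11,12,11,13,6], [10,12,13,12,13,5,10,4,7,12,8], 3, [([], 43, []), ([25,27,24], 35, [5,12,11,5,12])], []⟩
def c45 : Clm := ⟨1, 3, true, [7,2], [], 1, [], []⟩
def c46 : Clm := ⟨3, 1, true, [1,3], [2,7], 5, [([], 45, [])], []⟩
def c47 : Clm := ⟨1, 3, true, [10,2,7], [1,3], 5, [([], 46, [])], []⟩
def c48 : Clm := ⟨3, 3, false, [], [5], 3, [([], 45, []), ([27,25,27,27,25,25], 45, [5])], []⟩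
def c49 : Clm := ⟨3, 3, false, [], [5,10], 3, [([], 45, []), ([21,26,24,21,25,27], 45, [10])], []⟩
def c50 : Clm := ⟨3, 3, false, [], [8,10,12,9], 3, [([], 45, []), ([21,26,24,27,24,27,27,25,27,24,24], 45, [5,9,10,12,8])], []⟩
def c51 : Clm := ⟨3, 3, false, [], [1,3,5,8,10,12,9], 3, [([], 45, []), ([24,23,27,24,24,23,24,26,22,24,24], 45, [1,3,9,10,12,8])], []⟩
def c52 : Clm := ⟨3, 3, false, [], [10,12], 3, [([], 45, []), ([23,27,24,24,23,24,26,24], 45, [5,10,12])], []⟩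
def c53 : Clm := ⟨3, 1, true, [1,13,5,11,2,11,10], [3,8,11,12,8,11,12,8,11,4,6,10,12,4], 13, [([], 47, [3,11,10]), ([27,24,27,24], 36, [10,11,10,12,9,13,5,12]), ([88], 19, [12,9,13,12,8,11,12])], []⟩
def c54 : Clm := ⟨1, 3, true, [3,8,11,12,8,11,12,8,4,6,10,12,4,3], [1,13,5,11,2,11,10], 5, [([], 53, [])], []⟩
def c55 : Clm := ⟨3, 3, false, [1,13,5,11,2,11,10], [10,13,3,10,12,11,13,12,4,10,13,2], 3, [([], 54, []), ([26,25,26,25,26], 45, [1,11,5,12,11,13,10,12])], []⟩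
def c56 : Clm := ⟨3, 1, true, [1,2,11,10], [5,12,8,11,12,11,13,4,7,5,7,10,4], 13, [([], 47, [13,3,5,10]), ([27,24,27,24], 36, [3,12,13,10,12,9,11,13,12]), ([88,41], 35, [1,9,12,11,5,12,9,13])], []⟩
def c57 : Clm := ⟨1, 3, true, [1,9,13,10,12,11,12,9,12,2,6,13,5,6,10], [1,2,11,10], 5, [([], 56, [])], []⟩
def c58 : Clm := ⟨3, 1, true, [1,10,2,1,11,10], [1,9,13,10,12,11,12,9,12,2,6,13,5,6,10], 5, [([], 57, [])], []⟩
def c59 : Clm := ⟨3, 2, true, [11,10,12,13,5,10,12,13,2,11,10], [1,9,12,11,12,8,12,4,5,10,12,4], 13, [([], 47, [11,3,10,12,11,12]), ([27,24,27,24], 36, [5,8,11,12,8,13,12,13,10]), ([88,41], 38, [5,9,11,12,9,13,12])], []⟩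
def c60 : Clm := ⟨2, 3, true, [12,9,12,11,12,8,11,4,10,12,13,4], [11,10,12,13,5,10,12,13,2,11,10], 5, [([], 59, [])], []⟩
def c61 : Clm := ⟨3, 2, true, [10,11,10,12,13,5,10,12,13,2,1,11,10], [12,9,12,11,12,8,11,4,10,12,13,4], 5, [([], 60, [])], []⟩
def c62 : Clm := ⟨3, 2, true, [11,12,13,10,11,12,13,2,11,10], [1,9,13,10,13,12,8,11,10,4,5,7,7,10,4], 13, [([], 47, [11,3,10,12,13,12]), ([27,24,27,24], 36, [13,10,12,9,11,13,12]), ([61,40], 38, [5,11,5,12,8,13,12,11])], []⟩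
def c63 : Clm := ⟨2, 3, true, [9,10,13,10,12,8,2,13,5,6,6,10], [11,12,13,10,11,12,13,2,11,10], 5, [([], 62, [])], []⟩
def c64 : Clm := ⟨3, 2, true, [10,11,12,13,10,11,12,13,2,1,11,10], [9,10,13,10,12,8,2,13,5,6,6,10], 5, [([], 63, [])], []⟩
def c65 : Clm := ⟨3, 3, true, [5,11,12,13,10,13,12,11,2,11,10], [3,13,5,10,12,11,13,12,8,4,12,4], 13, [([], 47, [3,11,10,12,11,12]), ([27,24,27,24], 36, [11,3,5,10,12,9,11,12]), ([52,88,41], 61, [8,12,11,13,12,13])], []⟩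
def c66 : Clm := ⟨3, 3, true, [9,11,13,12,9,13,10,13,4,12,4], [5,11,12,13,10,13,12,11,2,11,10], 5, [([], 65, [])], []⟩
def c67 : Clm := ⟨3, 3, true, [1,11,12,13,10,11,12,13,2,11,10], [10,13,10,13,12,11,12,8,4,5], 13, [([], 47, [3,11,10,12,13,12]), ([27,24,27,24], 36, [8,10,12,13,5,10,12,8]), ([52,88,49], 61, [8])], []⟩
def c68 : Clm := ⟨3, 3, true, [10,11,10,12,13,5,12,8,4,5], [1,11,12,13,10,11,12,13,2,11,10], 5, [([], 67, [])], []⟩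
def c69 : Clm := ⟨3, 3, true, [1,10,11,12,13,10,11,12,13,2,1,11,10], [10,11,10,12,13,5,12,8,4,5], 5, [([], 68, [])], []⟩
def c70 : Clm := ⟨3, 3, true, [1,11,13,12,11,13,2,11,10], [10,11,5,13,12,8,12,2,7,13,5,6,10], 13, [([], 47, [13,5,13,12,13,10]), ([27,24,27,24], 36, [8,13,5,10,11,12,8]), ([88,42,41], 61, [5,13,5,12,13,12,8])], []⟩
def c71 : Clm := ⟨3, 3, true, [9,10,11,13,12,13,10,4,10,12,4,9], [1,11,13,12,11,13,2,11,10], 5, [([], 70, [])], []⟩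
def c72 : Clm := ⟨3, 3, true, [9,11,10,12,11,13,12,9,4,7,10,13,6], [1,5,13,5,10,4], 17, [([], 68, [8,11,12,13,12,8,13]), ([111], 47, [3,5,11,10]), ([20], 46, [5,13,5,10])], []⟩
def c73 : Clm := ⟨3, 3, true, [1,13,5,10,13,4], [9,11,10,12,11,13,12,9,4,7,10,13,6], 5, [([], 72, [])], []⟩
def c74 : Clm := ⟨3, 3, true, [6], [9,7], 21, [([], 47, [1,3]), ([26], 46, [1,3,9])], []⟩
def c75 : Clm := ⟨3, 3, true, [1,3,9,7], [6], 5, [([], 74, [])], []⟩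
def c76 : Clm := ⟨3, 3, true, [9,6], [3,9,10,12,2,11,13,12,11,13,7], 21, [([], 47, [1,3,8]), ([27,25,25,27,22,25], 58, [5,12,11,10,12,13,12,9])], []⟩
def c77 : Clm := ⟨3, 3, true, [3,9,12,2,11,13,12,11,13,7], [9,6], 5, [([], 76, [])], []⟩
def c78 : Clm := ⟨3, 3, true, [1,3,9,6], [3,9,12,2,11,13,12,11,13,7], 5, [([], 77, [])], []⟩
def c79 : Clm := ⟨3, 3, true, [8,6], [3,2,4,7,13,4,7,7], 21, [([], 47, [1,3,9]), ([25,25,27,22,25], 58, [5,12,11,10,12,13,12])], []⟩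
def c80 : Clm := ⟨3, 3, true, [3,10,2,4,7,13,4,7,7], [8,6], 5, [([], 79, [])], []⟩
def c81 : Clm := ⟨3, 3, true, [13,5,10,4,7,9], [11,13,12,13,10,11,4,7,9,10,12,11], 43, [([], 47, [8,11,3,10]), ([27,22,24,26], 41, [10,13,12,9,12,11,5,11]), ([26,25,26,22,24,26,24], 58, [3,8,12,13,12,8])], []⟩
def c82 : Clm := ⟨3, 3, true, [9,13,5,10,4,7,9], [1,9,12,11,10,12,13,12,4,7,10,12,9], 43, [([], 47, [9,11,3,10]), ([25], 18, [10,13,10,12,8,13,12,11]), ([88,61,88], 61, [1,5,12,9,13,12,9,11,12])], []⟩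
def c83 : Clm := ⟨3, 2, true, [3,9,10,13,10,12,11,12,8,4,7], [1,10,13,10,12,11,13,12,8,2,7,11,10,12,4,12], 45, [([], 80, [1,8,13,12,11,13,5,10]), ([111], 47, [8,11,3,10,12,8]), ([22,25,22,24], 33, [8,11,13,5,12,11,12])], []⟩
def c84 : Clm := ⟨2, 3, true, [3,5,8,10,13,10,2,6,13,6,6,10,12], [3,9,10,13,10,12,11,12,8,4,7], 5, [([], 83, [])], []⟩
def c85 : Clm := ⟨3, 3, false, [3,9,10,13,10,12,11,12,8,4,7], [8,12,11,13,10,12,11,13,2,4,13,4,6], 3, [([], 84, []), ([89,48,40], 60, [9,12,8,11,5,12,9,13])], []⟩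
def c86 : Clm := ⟨3, 3, true, [1,11,12,8,11,13,5,10,12,4,6], [5,11,5,13,12,8,2,11,5,7,9,10], 47, [([], 75, [12,9,13,3,10,13,12,13]), ([170,110], 47, [11,10,12,8]), ([26,24,27,22,25], 58, [1,5,9,12,11,13,12,8])], []⟩
def c87 : Clm := ⟨3, 3, true, [10,12,8,11,5,13,2,13,10,13,7,9], [1,11,12,8,11,13,5,10,12,4,6], 5, [([], 86, [])], []⟩
def c88 : Clm := ⟨3, 3, true, [9,12,13,10,13,12,9,11,13,4,6], [10,12,8,11,5,13,2,13,10,13,7,9], 5, [([], 87, [])], []⟩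
def c89 : Clm := ⟨3, 3, true, [9,11,10,12,13,10,12,11,2,7,7,13,7,10,12], [11,13,5,10,12,9,11,13,2,6,6,13,7,5,10], 47, [([], 88, [1,13,12,8,13,5,12]), ([171,111], 47, [8,13,10,12,8]), ([26,22,25,27,25], 58, [8,12,8,13,3,5])], []⟩
def c90 : Clm := ⟨3, 3, true, [1,12,11,13,10,12,9,11,13,2,13,6,5,10,12,11], [9,11,10,12,13,10,12,11,2,7,7,13,7,10,12], 5, [([], 89, [])], []⟩
def c91 : Clm := ⟨3, 3, true, [3,12,13,10,12,9,12,13,12,4,12,4,10,4,5,6], [1,12,11,13,10,12,9,11,13,2,13,6,5,10,12,11], 5, [([], 90, [])], []⟩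
def c92 : Clm := ⟨3, 3, true, [9,13,10,12,11,10,12,13,2,1,13,7,10], [9,13,10,13,12,13,12,4,7,9], 47, [([], 90, [8,11,12,9,11,13,12,11]), ([170], 47, [9,11,3,10,12,8]), ([24,26,24,22,25,27,25,27], 46, [3,12,8,13,10,11])], []⟩
def c93 : Clm := ⟨3, 3, true, [3,5,9,13,10,12,13,12,4,7,9], [9,13,10,12,11,10,12,13,2,1,13,7,10], 5, [([], 92, [])], []⟩
def c94 : Clm := ⟨3, 3, true, [11,13,5,10,12,11,13,12,9,2,7,7,13,10,12,4], [9,12,8,11,10,12,9,12,11,4,7,9], 47, [([], 91, [1,8,12,9,13,12,13,5]), ([111], 47, [9,11,3,10,12,9]), ([26,24,27,24,22,25,26,25], 46, [9,10,12,9,13,10,12,13])], []⟩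
def c95 : Clm := ⟨3, 3, true, [5,8,11,12,8,13,12,11,10,4,7,9], [11,13,5,10,12,11,13,12,9,2,7,7,13,10,12,4], 5, [([], 94, [])], []⟩
def c96 : Clm := ⟨3, 3, true, [3,12,9,11,13,10,12,11,13,2,1,7,7,13,10,12,7], [5,8,11,12,8,13,12,11,10,4,7,9], 5, [([], 95, [])], []⟩
def c97 : Clm := ⟨1, 4, true, [4,2], [], 1, [], []⟩
def c98 : Clm := ⟨4, 1, true, [1,3], [2,4], 5, [([], 97, [])], []⟩
def c99 : Clm := ⟨1, 4, true, [4,10,2], [1,3], 5, [([], 98, [])], []⟩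
def c100 : Clm := ⟨4, 4, false, [], [8], 3, [([], 97, []), ([27], 97, [9])], []⟩
def c101 : Clm := ⟨4, 4, false, [], [1,13], 3, [([], 97, []), ([24,23,26,25,26,23,24,26,22,20,25], 97, [1,11])], []⟩
def c102 : Clm := ⟨4, 4, false, [], [5,8,10], 3, [([], 97, []), ([24,21,23,26,25,23,20,24,24,26,25,22], 97, [9,10])], []⟩
def c103 : Clm := ⟨4, 1, true, [10,11,2,11,10], [3,5,8,12,11,12,13,10,13,2,11,5,4], 13, [([], 99, [1,3]), ([24,26,24,22,25,27,24], 33, [8,10,11,5,12,9,13]), ([61], 19, [5,12,13,3,5,10,12,8,11])], []⟩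
def c104 : Clm := ⟨1, 4, true, [3,8,11,12,13,12,13,2,1,13,2,1], [10,11,2,11,10], 5, [([], 103, [])], []⟩
def c105 : Clm := ⟨4, 4, false, [10,11,2,11,10], [1,13,5,10,13,2,11,10], 3, [([], 104, []), ([27,25,25], 97, [3,5,11,5])], []⟩
def c106 : Clm := ⟨4, 3, true, [3,12,13,10,12,11,2,11,10], [1,5,11,5,13,12,9,2,1,13,12,4,7,13], 13, [([], 99, [1,12,11,12]), ([24,26,24,22,25,27,24], 33, [9,12,8,11,12,11,10,12]), ([89,42,41], 61, [8,12,9,11,12,11,12,9])], []⟩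
def c107 : Clm := ⟨3, 4, true, [5,12,9,11,10,12,13,12,2,7,13,7,13,2,1], [3,12,13,10,12,11,2,11,10], 5, [([], 106, [])], []⟩
def c108 : Clm := ⟨4, 3, true, [3,12,13,10,12,11,10,2,1,11,10], [5,12,9,11,10,12,13,12,2,7,13,7,13,2,1], 5, [([], 107, [])], []⟩
def c109 : Clm := ⟨4, 4, true, [8,4,7,9], [5,11,5,12,13,12,9,11,4,5,7,9,10,13], 43, [([], 99, [1,3]), ([27], 46, [8,11,13,12,11,12]), ([110,110], 108, [8,12,11,5,11,5,12,13])], []⟩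
def c110 : Clm := ⟨1, 5, true, [7,4,2], [], 1, [], []⟩
def c111 : Clm := ⟨5, 1, true, [1,3], [2,4,6], 5, [([], 110, [])], []⟩
def c112 : Clm := ⟨1, 5, true, [4,6,10,2], [1,3], 5, [([], 111, [])], []⟩
def c113 : Clm := ⟨5, 5, false, [], [3,5,10,13], 3, [([], 110, []), ([25,23,25,26,25,25,27,22,25,25,27,24,26], 110, [3,10,11])], []⟩
def c114 : Clm := ⟨5, 5, false, [], [5,10], 3, [([], 110, []), ([25,23,24,23,25,23,26,24,26,25,26], 110, [10])], []⟩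
def c115 : Clm := ⟨5, 3, true, [10,11,2,11,10], [8,12,11,13,5,10,12,11,13,2,1,13,4,6,13,7], 13, [([], 112, [1,3]), ([], 46, [13]), ([], 73, [9,12,9,13,10,13,12,11])], []⟩
def c116 : Clm := ⟨3, 5, true, [1,10,13,12,11,10,13,12,8,11,2,7,13,5,6,13,4], [10,11,2,11,10], 5, [([], 115, [])], []⟩
def c117 : Clm := ⟨5, 3, true, [10,11,10,2,1,11,10], [1,10,13,12,11,10,13,12,8,11,2,7,13,5,6,13,4], 5, [([], 116, [])], []⟩
def c118 : Clm := ⟨5, 3, true, [11,5,10,13,2,11,10], [5,12,8,11,13,12,11,13,2,4,6,13,3,7,13], 13, [([], 112, [5,13,3,5]), ([], 46, [3,11]), ([], 69, [5,12,11,3,12,8])], []⟩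
def c119 : Clm := ⟨3, 5, true, [5,12,8,11,13,12,11,13,2,4,6,13,7,13], [11,5,10,13,2,11,10], 5, [([], 118, [])], []⟩
def c120 : Clm := ⟨5, 3, true, [1,5,10,13,2,1,11,10], [5,12,8,11,13,12,11,13,2,4,6,13,7,13], 5, [([], 119, [])], []⟩
def c121 : Clm := ⟨5, 3, true, [3,12,13,10,12,11,2,11,10], [12,11,13,5,10,12,9,11,13,2,13,5,7,12,4], 13, [([], 112, [1,12,11,12]), ([], 46, [1,5,9,12,13,5,12,8]), ([171,111], 87, [1,11,12,9,12,13,5,12])], []⟩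
def c122 : Clm := ⟨3, 5, true, [1,11,5,11,12,9,11,13,2,7,13,12,13,10,4], [3,12,13,10,12,11,2,11,10], 5, [([], 121, [])], []⟩
def c123 : Clm := ⟨5, 3, true, [3,12,13,10,12,11,10,2,1,11,10], [1,11,5,11,12,9,11,13,2,7,13,12,13,10,4], 5, [([], 122, [])], []⟩
def c124 : Clm := ⟨5, 3, true, [12,11,3,10,12,11,2,11,10], [11,5,10,12,8,13,12,11,4,5,7,5,10,4], 13, [([], 112, [1,12,13,12]), ([], 46, [8,11,12,13,12,9,13]), ([110], 88, [11,12,8,11,12,9,13])], []⟩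
def c125 : Clm := ⟨3, 5, true, [3,9,11,10,12,9,13,4,5,7,10,13,4], [12,11,3,10,12,11,2,11,10], 5, [([], 124, [])], []⟩
def c126 : Clm := ⟨5, 5, false, [12,11,3,10,12,11,2,11,10], [1,5,9,10,11,12,9,13,10,4,10,12,4,3], 3, [([], 125, []), ([98,171,96], 119, [11,12,11,5,11,5,12,9])], []⟩
def c127 : Clm := ⟨5, 4, true, [6], [7], 21, [([], 112, [1,3]), ([], 98, [1,3])], []⟩
def c128 : Clm := ⟨4, 5, true, [1,3,7], [6], 5, [([], 127, [])], []⟩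
def c129 : Clm := ⟨5, 4, true, [1,3,6], [1,3,7], 5, [([], 128, [])], []⟩
def c130 : Clm := ⟨5, 5, true, [9,6], [7], 21, [([], 112, [1,3,8]), ([27], 111, [1,3])], []⟩
def c131 : Clm := ⟨5, 5, true, [1,3,7], [9,6], 5, [([], 130, [])], []⟩
def c132 : Clm := ⟨5, 5, true, [1,3,9,6], [1,3,7], 5, [([], 131, [])], []⟩
def c133 : Clm := ⟨5, 5, true, [8,4,7,9], [5,9,13,5,12,11,12,8,4,7,9,10,12], 43, [([], 112, [1,3]), ([27,25,25,27,22,25], 58, [1,11,13,5,12,13,10]), ([111,171,96], 120, [3,11,12,11,13,12,9])], []⟩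
def c134 : Clm := ⟨5, 5, true, [5,9,12,13,3,5,12,8,4,7,9,10,12], [8,4,7,9], 5, [([], 133, [])], []⟩
def c135 : Clm := ⟨4, 5, true, [3,13,12,13,10,12,11,2,6,6,13,5,7,10], [1,10,11,5,2,1,7,11,10], 23, [([], 107, [11,12,13,12,13]), ([171,110,104], 117, [3,13])], []⟩
def c136 : Clm := ⟨5, 4, true, [1,13,10,11,2,7,11,10], [3,13,12,13,10,12,11,2,6,6,13,5,7,10], 5, [([], 135, [])], []⟩
def c137 : Clm := ⟨4, 5, true, [3,10,13,12,13,10,4,5,7,10,12,4], [1,13,10,11,2,7,11,10], 5, [([], 136, [])], []⟩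
def c138 : Clm := ⟨5, 5, true, [3,12,13,12,13,10,11,12,2,6,13,6,5,8,10], [1,8,13,10,11,12,9,2,7,13,10,12,13,4], 7, [([], 116, [9,12]), ([98,170,111,96], 108, [8,11,12,8,11,13,12,9]), ([201], 136, [10,11,12,13,10,12,13])], []⟩
def c139 : Clm := ⟨5, 5, true, [3,10,13,12,9,13,10,11,4,6,10,12,4,12,8], [3,12,13,12,13,10,11,12,2,6,13,6,5,8,10], 5, [([], 138, [])], []⟩
def c140 : Clm := ⟨5, 5, true, [8,10,11,2,11,10,12,4,5], [3,10,13,12,9,13,10,11,4,6,10,12,4,12,8], 5, [([], 139, [])], []⟩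
def c141 : Clm := ⟨5, 5, true, [5,8,13,5,10,11,12,9,2,6,13,5,10], [3,13,12,8,11,13,4,6,12,4,10,4], 15, [([], 128, [1,9,12,11,13,12,8,13]), ([211], 129, [1,3]), ([252], 134, [9,11,5,12,13,5,10])], []⟩
def c142 : Clm := ⟨5, 5, true, [3,11,13,12,8,11,13,4,6,12,4,10,4,3], [5,8,13,5,10,11,12,9,2,6,13,5,10], 5, [([], 141, [])], []⟩
def c143 : Clm := ⟨5, 5, true, [1,5,8,12,13,5,12,9,4,7,5,10,4], [3,11,13,12,8,11,13,4,6,12,4,10,4,3], 5, [([], 142, [])], []⟩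
def c144 : Clm := ⟨4, 5, true, [3,10,11,2,7,11,10], [3,9,12,13,12,8,4,6,5,9,10,4], 13, [([], 129, [1]), ([252], 134, [5,9,13,10,12,11,10]), ([253], 131, [9,12,11,5,11,5,12])], []⟩
def c145 : Clm := ⟨5, 4, true, [3,9,11,5,10,13,12,8,2,7,9,13,5,10], [3,10,11,2,7,11,10], 5, [([], 144, [])], []⟩
def c146 : Clm := ⟨4, 5, true, [3,10,11,10,2,1,7,11,10], [3,9,11,5,10,13,12,8,2,7,9,13,5,10], 5, [([], 145, [])], []⟩
def c147 : Clm := ⟨4, 5, true, [10,11,12,11,10,13,4,7,10,12,4,9,12], [1,10,12,9,13,10,12,13,10,12,4,7], 47, [([], 136, [1,13,5,12,9,13,12,9]), ([], 146, [1,8,11,12,11]), ([211], 129, [1,3,9,12])], []⟩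
def c148 : Clm := ⟨5, 4, true, [5,9,12,8,13,5,13,12,9,4,7], [10,11,12,11,10,13,4,7,10,12,4,9,12], 5, [([], 147, [])], []⟩
def c149 : Clm := ⟨4, 5, true, [12,11,5,10,12,13,2,7,9,13,10,12,6], [5,9,12,8,13,5,13,12,9,4,7], 5, [([], 148, [])], []⟩
def c150 : Clm := ⟨5, 5, true, [10,11,10,12,9,2,1,13,10,12,13,4], [5,10,11,12,8,11,13,5,2,1,7,11,10,12,9], 45, [([], 137, [8,12,13,5,12,13]), ([210], 129, [1,3,12,9]), ([253], 143, [9,11,12,9,13,12,9,13])], []⟩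
def c151 : Clm := ⟨5, 5, true, [10,13,10,12,8,11,13,5,2,7,11,10,12,9], [10,11,10,12,9,2,1,13,10,12,13,4], 5, [([], 150, [])], []⟩
def c152 : Clm := ⟨5, 5, true, [12,11,5,10,12,9,13,2,7,7,13,6,5,10], [10,13,10,12,8,11,13,5,2,7,11,10,12,9], 5, [([], 151, [])], []⟩
def c153 : Clm := ⟨5, 5, true, [8,10,12,13,5,12,11,10,2,4,12,4,3,13,12,6], [5,10,13,5,11,2,4,3,13,12,13,7,10], 15, [([], 151, [9,10,13,10,12,9]), ([226,253], 132, [8,12,13,3,10,12,9,12,13]), ([226,253], 143, [11,13,5,12,11])], []⟩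
def c154 : Clm := ⟨5, 5, true, [5,10,13,3,2,11,12,13,6,10,4], [8,10,12,13,5,12,11,10,2,4,12,4,3,13,12,6], 5, [([], 153, [])], []⟩
def c155 : Clm := ⟨5, 3, true, [3,9,10,11,12,9,11,10,13,2,4,3,5,6,5,6,13], [9,13,10,12,11,10,12,2,1,4,5,7,13,6], 17, [([], 137, [3,9,10,13,12]), ([205,202,204,210,204], 148, [3,8,12,11,12,8,11,10,12]), ([226,252,226], 119, [8,12,13,3,5,10,12])], []⟩
def c156 : Clm := ⟨3, 5, true, [9,13,10,12,11,10,12,2,4,5,7,13,3,6], [3,9,10,11,12,9,11,10,13,2,4,3,5,6,5,6,13], 5, [([], 155, [])], []⟩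
def c157 : Clm := ⟨5, 3, true, [3,12,13,12,8,13,12,11,2,4,5,6,5,4,13], [9,13,10,12,11,10,12,2,4,5,7,13,3,6], 5, [([], 156, [])], []⟩
def c158 : Clm := ⟨3, 3, true, [1,12,8,11,5,11,12,13,10,2,1,13,12,9,11,2], [1,9,12,13,12,9,12,11,2,1,13,5,12,13,2], 13, [([], 157, [8,10,11,5,12,11,12,8]), ([], 137, [1,9,12,11,12,8,12,11,10]), ([200], 107, [3,12,9])], []⟩
def c159 : Clm := ⟨3, 3, true, [10,11,12,8,11,13,10,2,13,2,12,11,13,6], [1,12,8,11,5,11,12,13,10,2,1,13,12,9,11,2], 5, [([], 158, [])], []⟩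
def c160 : Clm := ⟨3, 3, true, [1,11,12,9,11,12,8,11,2,13,6,13,2,12,7], [10,11,12,8,11,13,10,2,13,2,12,11,13,6], 5, [([], 159, [])], []⟩
def c161 : Clm := ⟨3, 5, true, [10,13,3,12,8,11,10,12,2,4,13,7,13,12,4], [5,11,12,13,10,12,13,2,7,13,7,12,4], 13, [([], 157, [11,10,12,8,12,13,10]), ([], 137, [3,10,12,8,13,12,13,5]), ([211,200], 145, [5,12,11,12,8,12,11,13])], []⟩
def c162 : Clm := ⟨5, 3, true, [1,9,10,12,11,12,8,13,10,2,1,4,7,12,13,2,7], [10,13,3,12,8,11,10,12,2,4,13,7,13,12,4], 5, [([], 161, [])], []⟩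
def c163 : Clm := ⟨3, 5, true, [10,13,3,12,8,11,10,12,2,4,12,13,7,5,4], [1,9,10,12,11,12,8,13,10,2,1,4,7,12,13,2,7], 5, [([], 162, [])], []⟩
def c164 : Clm := ⟨4, 4, true, [3,12,13,10,12,9,11,13,2,13,2,6,13,3,7], [9,12,13,3,12,8,4,5,10,12,7], 15, [([], 107, [13,12,8,13,5,10,11]), ([111,100], 157, [13,3,12,9,11,10]), ([], 137, [9,10,11,12,8,13])], []⟩
def c165 : Clm := ⟨4, 4, true, [3,9,12,13,12,8,11,4,5,10,12,7], [3,12,13,10,12,9,11,13,2,13,2,6,13,3,7], 5, [([], 164, [])], []⟩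
def c166 : Clm := ⟨4, 4, false, [3,12,13,10,12,9,11,13,2,13,2,6,13,3,7], [3,9,10,11,12,11,13,12,2,4,13,5,6,9,13,12], 3, [([], 165, []), ([200], 109, [3,11,12,8,13,10])], []⟩
def c167 : Clm := ⟨3, 5, true, [12,9,11,3,12,9,13,2,4,5,6,13,2,12,6], [1,9,12,13,5,10,12,8,13,2,1,4,6,6,12,13,12], 13, [([], 162, [5,10,13,5]), ([228,253,226], 137, [12,8,11,13,5,10]), ([211,200], 145, [5,12,13,12,8,13,12,11])], []⟩
def c168 : Clm := ⟨5, 3, true, [1,9,12,13,5,10,12,13,12,2,13,12,13,4,6,8], [12,9,11,3,12,9,13,2,4,5,6,13,2,12,6], 5, [([], 167, [])], []⟩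
def c169 : Clm := ⟨3, 5, true, [1,8,11,13,12,8,11,12,2,7,9,13,6,5,4,13], [1,9,12,13,5,10,12,13,12,2,13,12,13,4,6,8], 5, [([], 168, [])], []⟩
def c170 : Clm := ⟨5, 3, true, [1,12,9,13,12,8,11,13,2,1,6,6,13,2], [5,8,10,13,3,12,8,2,1,11,12,6,13,2,13], 15, [([], 149, [3,11,10,13,12,9,11,13]), ([332,211], 136, [8,10,11,5,12]), ([], 156, [1,5,13,10,12,11,10])], []⟩
def c171 : Clm := ⟨3, 5, true, [8,12,9,13,3,10,2,1,6,9,13,2,12,11], [1,12,9,13,12,8,11,13,2,1,6,6,13,2], 5, [([], 170, [])], []⟩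
def c172 : Clm := ⟨5, 3, true, [1,10,12,9,12,11,12,8,2,1,6,6,11,5,4], [8,12,9,13,3,10,2,1,6,9,13,2,12,11], 5, [([], 171, [])], []⟩
def c173 : Clm := ⟨5, 5, true, [8,10,11,3,12,11,10,13,2,4,3,5,12,8,13], [3,13,5,10,13,12,8,2,13,4,7,7], 17, [([], 116, [9,10,13,3,12,9]), ([98,171,110], 162, [1,8,10,12,9,13,12,11,12]), ([253,227,252], 143, [3,12,8,11,10,12])], []⟩
def c174 : Clm := ⟨5, 5, true, [1,13,5,10,13,12,8,11,2,13,4,7,7,10], [8,10,11,3,12,11,10,13,2,4,3,5,12,8,13], 5, [([], 173, [])], []⟩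
def c175 : Clm := ⟨5, 5, true, [8,10,11,3,12,11,10,13,2,4,5,12,8,13], [1,13,5,10,13,12,8,11,2,13,4,7,7,10], 5, [([], 174, [])], []⟩
def c176 : Clm := ⟨5, 5, true, [1,5,8,10,11,12,2,7,7,11,10], [3,5,10,13,5,12,11,10,12,2,4,13,6,10,12,9], 13, [([], 132, [3,11,5,12,8,13,12,8]), ([253], 143, [9,12,9,13,3,12]), ([], 175, [12,11,5,11,5,12])], []⟩
def c177 : Clm := ⟨5, 5, true, [1,12,13,5,10,13,12,2,4,5,6,11,12,9], [1,5,8,10,11,12,2,7,7,11,10], 5, [([], 176, [])], []⟩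
def c178 : Clm := ⟨5, 5, true, [1,8,11,10,13,12,2,1,7,7,11,10], [1,12,13,5,10,13,12,2,4,5,6,11,12,9], 5, [([], 177, [])], []⟩
def c179 : Clm := ⟨5, 5, true, [3,5,8,10,13,10,12,8,2,1,4,12,13,12], [3,9,10,11,10,12,11,10,2,6,13,2,6,6], 43, [([], 146, [13,3,10,12]), ([332,202,205,200], 145, [9,12,8,11,3,10,12,9]), ([228,227], 175, [5,8,12,11,5,11,12,9,11])], []⟩
def c180 : Clm := ⟨5, 5, true, [3,9,12,13,12,13,10,2,1,7,11,12,4,10], [3,5,8,10,13,10,12,8,2,1,4,12,13,12], 5, [([], 179, [])], []⟩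
def c181 : Clm := ⟨5, 5, true, [5,8,12,9,11,12,8,2,13,7,12,4,12,4], [5,10,13,3,12,8,11,10,13,2,6,13,2,7,5,11,5], 13, [([], 152, [3,9,11,10,13,12]), ([228,227], 169, [3,9,11,12,11,12]), ([110,104], 120, [10,12,13,12,8,11,12])], []⟩
def c182 : Clm := ⟨1, 6, true, [6,4,2], [], 1, [], []⟩
def c183 : Clm := ⟨6, 1, true, [1,3], [2,4,7], 5, [([], 182, [])], []⟩
def c184 : Clm := ⟨1, 6, true, [4,7,10,2], [1,3], 5, [([], 183, [])], []⟩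
def c185 : Clm := ⟨6, 6, false, [], [5,10], 3, [([], 182, []), ([21,23,27,24,27,25,27,25,22,24,22,25], 182, [10])], []⟩
def c186 : Clm := ⟨6, 6, false, [], [3,5,10,13], 3, [([], 182, []), ([27,24,23,26,25,27,27,24,24,27,20,25,22], 182, [3,10,11])], []⟩
def c187 : Clm := ⟨6, 3, true, [10,11,2,11,10], [11,12,11,5,11,12,11,2,1,11,5,4], 13, [([], 184, [1,3]), ([22,25,26,24,27,24], 58, [3,8,12,11,5,12,11,10]), ([], 73, [3,5,10,13,5,12,11])], []⟩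
def c188 : Clm := ⟨3, 6, true, [3,12,11,13,10,12,13,10,2,1,13,2], [10,11,2,11,10], 5, [([], 187, [])], []⟩
def c189 : Clm := ⟨6, 3, true, [10,11,10,2,1,11,10], [3,12,11,13,10,12,13,10,2,1,13,2], 5, [([], 188, [])], []⟩
def c190 : Clm := ⟨6, 3, true, [11,5,10,13,2,11,10], [1,8,12,9,2,4,3,13], 13, [([], 184, [5,13,3,5]), ([22,25,26,24,27,24], 58, [8,11,12,11,10,12]), ([110], 71, [8,12,11,13,12,8,13,5])], []⟩
def c191 : Clm := ⟨3, 6, true, [1,8,12,9,2,4,13], [11,5,10,13,2,11,10], 5, [([], 190, [])], []⟩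
def c192 : Clm := ⟨6, 3, true, [1,5,10,13,2,1,11,10], [1,8,12,9,2,4,13], 5, [([], 191, [])], []⟩
def c193 : Clm := ⟨6, 6, true, [12,13,10,12,11,2,11,10], [9,12,8,13,12,9,13,4,6,5,6], 13, [([], 184, [12,11,3,12]), ([22,25,26,24,27,24], 58, [3,11,12,8,11,10,13,12]), ([104], 192, [3,8,12,13,12,8,13])], []⟩
def c194 : Clm := ⟨6, 6, true, [5,13,12,9,11,12,11,5,4,6,5,6], [12,13,10,12,11,2,11,10], 5, [([], 193, [])], []⟩
def c195 : Clm := ⟨6, 6, true, [12,13,10,12,11,10,2,1,11,10], [5,13,12,9,11,12,11,5,4,6,5,6], 5, [([], 194, [])], []⟩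
def c196 : Clm := ⟨6, 6, true, [1,12,11,10,12,11,2,11,10], [5,11,12,13,12,9,13,12,4,6,5,12], 13, [([], 184, [12,13,3,12]), ([22,25,26,24,27,24], 58, [5,9,10,12,8,11,12,8]), ([104,102], 192, [8,11,12,11,13,12,8,13])], []⟩
def c197 : Clm := ⟨6, 6, true, [5,11,13,12,13,12,9,12,11,4,6,5,12], [1,12,11,10,12,11,2,11,10], 5, [([], 196, [])], []⟩
def c198 : Clm := ⟨6, 6, true, [11,12,11,10,12,11,2,1,11,10], [5,11,13,12,13,12,9,12,11,4,6,5,12], 5, [([], 197, [])], []⟩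
def c199 : Clm := ⟨6, 3, true, [3,12,13,10,12,11,2,11,10], [3,5,8,10,13,10,12,9,11,4,5,7,9,10,4], 13, [([], 184, [1,12,11,12]), ([22,25,26,24,27,24], 58, [9,10,13,12,11,12,9,12]), ([170,110], 66, [8,12,8,13,5,12,9,11])], []⟩
def c200 : Clm := ⟨3, 6, true, [8,10,11,3,5,12,9,11,10,2,13,5,6,9,10], [3,12,13,10,12,11,2,11,10], 5, [([], 199, [])], []⟩
def c201 : Clm := ⟨6, 3, true, [3,12,13,10,12,11,10,2,1,11,10], [8,10,11,3,5,12,9,11,10,2,13,5,6,9,10], 5, [([], 200, [])], []⟩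
def c202 : Clm := ⟨6, 3, true, [12,11,3,10,12,11,2,11,10], [5,11,10,12,9,13,12,11,13,4,12,4,10,4], 13, [([], 184, [1,12,13,12]), ([22,25,26,24,27,24], 58, [1,10,11,5,12,9,11,12,9]), ([], 93, [9,13,12,9,11,13,12,13])], []⟩
def c203 : Clm := ⟨3, 6, true, [8,13,10,13,12,8,13,4,12,4,10,4,3], [12,11,3,10,12,11,2,11,10], 5, [([], 202, [])], []⟩
def c204 : Clm := ⟨6, 3, true, [3,11,12,11,10,12,11,2,1,11,10], [8,13,10,13,12,8,13,4,12,4,10,4,3], 5, [([], 203, [])], []⟩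
def c205 : Clm := ⟨6, 6, true, [1,9,12,11,10,12,11,2,11,10], [8,13,12,8,13,12,8,13,4,6,5,12], 13, [([], 184, [8,12,13,3,12]), ([22,25,26,24,27,24], 58, [8,11,3,12,11,10,13,12,9]), ([100], 192, [3,11,12,13,12])], []⟩
def c206 : Clm := ⟨6, 6, true, [10,12,8,13,12,9,11,10,4,6,5,12], [1,9,12,11,10,12,11,2,11,10], 5, [([], 205, [])], []⟩
def c207 : Clm := ⟨6, 6, true, [9,11,12,11,10,12,11,2,1,11,10], [10,12,8,13,12,9,11,10,4,6,5,12], 5, [([], 206, [])], []⟩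
def c208 : Clm := ⟨6, 3, true, [1,12,11,13,10,12,11,2,11,10], [1,8,12,8,13,10,13,12,13,4,7,5,9,10,4], 13, [([], 184, [12,11,3,13,12]), ([22,25,26,24,27,24], 58, [5,8,10,12,11,5,13]), ([171,111], 78, [5,13,5,10,12,9,13])], []⟩
def c209 : Clm := ⟨3, 6, true, [3,5,12,9,11,12,13,2,6,9,13,5,10], [1,12,11,13,10,12,11,2,11,10], 5, [([], 208, [])], []⟩
def c210 : Clm := ⟨6, 3, true, [1,11,12,11,13,10,12,11,2,1,11,10], [3,5,12,9,11,12,13,2,6,9,13,5,10], 5, [([], 209, [])], []⟩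
def c211 : Clm := ⟨6, 3, true, [1,11,12,11,13,2,11,10], [3,5,13,12,9,11,2,6,9,11,10], 13, [([], 184, [5,11,3,12,13,10]), ([27,22,24,26,24], 58, [3,12,9,13,12,9,13,10]), ([170,110], 93, [11,10,13,12,11,10,12,11,12])], []⟩
def c212 : Clm := ⟨3, 6, true, [3,5,13,12,9,11,10,2,1,6,9,11,10], [1,11,12,11,13,2,11,10], 5, [([], 211, [])], []⟩
def c213 : Clm := ⟨6, 3, true, [1,11,12,11,13,10,2,1,11,10], [3,5,13,12,9,11,10,2,1,6,9,11,10], 5, [([], 212, [])], []⟩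
def c214 : Clm := ⟨6, 6, true, [5,12,13,5,10,12,11,2,11,10], [8,11,4,10,12,4,3,8], 13, [([], 184, [5,12,11,3,5,12]), ([22,25,26,24,27,24], 58, [5,9,13,12,9,11,10,13,12]), ([104,102,96], 192, [10,13,12,9,12,11,5,10])], []⟩
def c215 : Clm := ⟨6, 6, true, [8,4,10,12,4,8], [5,12,13,5,10,12,11,2,11,10], 5, [([], 214, [])], []⟩
def c216 : Clm := ⟨6, 3, true, [10,12,13,10,13,12,11,2,11,10], [1,11,13,12,8,12,11,13,2,4,12,11,12,6], 13, [([], 184, [5,12,13,3,5,12]), ([22,25,26,24,27,24], 58, [3,9,13,12,9,13,10,12]), ([171,110], 69, [3,12,9,11,12,9,11,13])], []⟩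
def c217 : Clm := ⟨3, 6, true, [1,11,13,12,8,12,11,13,2,4,3,12,11,12,6], [10,12,13,10,13,12,11,2,11,10], 5, [([], 216, [])], []⟩
def c218 : Clm := ⟨6, 3, true, [5,11,12,11,10,12,13,2,1,11,10], [1,11,13,12,8,12,11,13,2,4,3,12,11,12,6], 5, [([], 217, [])], []⟩
def c219 : Clm := ⟨6, 6, true, [11,12,11,13,2,11,10], [1,9,10,11,5,12,11,10,4,10,12,4,3], 13, [([], 184, [3,5,11,12,13,10]), ([27,22,24,26,24], 58, [12,9,13,12,9,13,10,13]), ([104,96], 192, [5,9,12,13,5,13,12])], []⟩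
def c220 : Clm := ⟨6, 6, true, [1,9,10,11,12,11,10,13,4,10,12,4], [11,12,11,13,2,11,10], 5, [([], 219, [])], []⟩
def c221 : Clm := ⟨6, 6, true, [11,12,11,13,10,2,1,11,10], [1,9,10,11,12,11,10,13,4,10,12,4], 5, [([], 220, [])], []⟩
def c222 : Clm := ⟨6, 3, true, [3,5,12,13,5,10,12,11,2,11,10], [12,9,13,5,10,13,12,13,4,6,5,9,10,4], 13, [([], 184, [1,5,12,11,5,12]), ([22,25,26,24,27,24], 58, [1,5,11,5,12,8,13,10,12]), ([111], 75, [8,12,11,10,12,8,12,13])], []⟩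
def c223 : Clm := ⟨3, 6, true, [3,8,12,8,13,12,13,2,7,9,13,5,10], [3,5,12,13,5,10,12,11,2,11,10], 5, [([], 222, [])], []⟩
def c224 : Clm := ⟨6, 3, true, [3,5,12,13,12,11,10,13,2,1,11,10], [3,8,12,8,13,12,13,2,7,9,13,5,10], 5, [([], 223, [])], []⟩
def c225 : Clm := ⟨6, 6, true, [10,13,5,2,13,5,10], [1,5,8,10,13,12,8,2,1,13,4], 15, [([], 184, [1,5]), ([27,25,27,24,27], 58, [12,13,12,8,13,5,10]), ([104,100,96], 192, [5,8,10,13,3,12,8,11,10])], []⟩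
def c226 : Clm := ⟨6, 6, true, [8,10,11,12,8,11,10,13,2,11,13,2], [10,13,5,2,13,5,10], 5, [([], 225, [])], []⟩
def c227 : Clm := ⟨6, 6, true, [1,3,5,4,5,10,4], [8,10,11,12,8,11,10,13,2,11,13,2], 5, [([], 226, [])], []⟩
def c228 : Clm := ⟨6, 6, true, [5,10,12,13,5,2,13,5,10], [5,10,13,10,12,8,2,1,13,4], 15, [([], 184, [1,12]), ([24,27,22,24], 58, [9,13,5,12,13,10,12]), ([104,98], 192, [3,10,11,10,12,8,13,5,10])], []⟩
def c229 : Clm := ⟨6, 6, true, [10,11,5,12,8,11,10,2,11,13,2], [5,10,12,13,5,2,13,5,10], 5, [([], 228, [])], []⟩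
def c230 : Clm := ⟨6, 6, true, [1,3,12,4,5,10,4], [10,11,5,12,8,11,10,2,11,13,2], 5, [([], 229, [])], []⟩
def c231 : Clm := ⟨6, 6, true, [10,12,13,5,2,13,5,10], [13,5,10,13,12,2,1,13,4], 15, [([], 184, [1,5,12]), ([22,25,27,22,24,27,24], 58, [1,9,12,11,5,10,12,8]), ([104], 192, [3,5,10,13,12,11,10,13])], []⟩
def c232 : Clm := ⟨6, 6, true, [1,10,11,12,11,10,2,11,13,2], [10,12,13,5,2,13,5,10], 5, [([], 231, [])], []⟩
def c233 : Clm := ⟨6, 6, true, [1,3,5,12,4,5,10,4], [1,10,11,12,11,10,2,11,13,2], 5, [([], 232, [])], []⟩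
def c234 : Clm := ⟨6, 6, true, [10,12,13,5,13,12,4,10,12,9,13], [1,9,11,12,11,13,12,8,4], 17, [([], 220, [11,10,13,12,8,13,10]), ([], 184, [1,12,11,12]), ([27,25,26,20,25,25], 183, [9,11,12,11,13,12,8])], []⟩
def c235 : Clm := ⟨6, 6, true, [9,12,11,13,12,8,4], [10,12,13,5,13,12,4,10,12,9,13], 5, [([], 234, [])], []⟩
def c236 : Clm := ⟨6, 6, true, [12,8,11,12,8,11,12,13,4,5], [13,3,10,11,2,11,10], 11, [([370], 235, [9,13,10,11,12,8,11,5]), ([], 184, [1,11]), ([26,24,24,27,22,20,24], 183, [13])], []⟩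
def c237 : Clm := ⟨6, 6, true, [10,11,3,5,2,1,11,10], [12,8,11,12,8,11,12,13,4,5], 5, [([], 236, [])], []⟩
def c238 : Clm := ⟨6, 6, true, [8,10,11,12,8,13,10,4,5], [10,11,3,5,2,1,11,10], 5, [([], 237, [])], []⟩
def c239 : Clm := ⟨6, 6, true, [3,5,8,10,13,12,8,11,10,2,1,13,2], [10,11,13,2,11,10], 11, [([], 238, [9,10,11,12,9,11]), ([], 184, [1,3,5]), ([27,22,24,22,24,26], 183, [10,13,3,10])], []⟩
def c240 : Clm := ⟨6, 6, true, [11,5,11,2,1,11,10], [3,5,8,10,13,12,8,11,10,2,1,13,2], 5, [([], 239, [])], []⟩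
def c241 : Clm := ⟨6, 6, true, [8,13,3,10,11,12,8,2,1,11,5,4], [11,5,11,2,1,11,10], 5, [([], 240, [])], []⟩
def c242 : Clm := ⟨6, 3, true, [8,10,11,12,8,11,2,13,4,10], [1,12,13,10,13,12,9,12,2,4,3,7,9,12,13], 11, [([], 238, [5,9,10,13,10,12,9,11]), ([], 184, [1,5]), ([25,22,25,22,24,22], 58, [13,5,12,11,10,12,8])], []⟩
def c243 : Clm := ⟨3, 6, true, [1,12,13,10,13,12,9,12,2,4,7,9,12,13], [8,10,11,12,8,11,2,13,4,10], 5, [([], 242, [])], []⟩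
def c244 : Clm := ⟨6, 6, true, [12,11,12,9,12,13,12,4,5,10,4], [3,5,10,13,10,2,11,10], 11, [([370], 235, [3,9,10,11,12,8,11,5]), ([], 184, [5,13,5,13]), ([25,20,24], 183, [1,5,11,5])], []⟩
def c245 : Clm := ⟨6, 6, true, [3,5,10,13,2,1,11,10], [12,11,12,9,12,13,12,4,5,10,4], 5, [([], 244, [])], []⟩
def c246 : Clm := ⟨6, 6, true, [3,10,11,5,12,9,13,5,10,2,1,13,2,1], [12,8,11,2,11,10], 11, [([], 238, [10,11,3,5,12,8,11]), ([], 184, [1,10,11,12,13,10]), ([25,22,24,24,27,20,24], 183, [1,3,10,12,8])], []⟩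
def c247 : Clm := ⟨6, 6, true, [12,8,11,10,2,1,11,10], [3,10,11,5,12,9,13,5,10,2,1,13,2,1], 5, [([], 246, [])], []⟩
def c248 : Clm := ⟨6, 6, true, [10,11,3,10,12,9,2,11,5,4], [12,8,11,10,2,1,11,10], 5, [([], 247, [])], []⟩
def c249 : Clm := ⟨6, 6, true, [3,5,10,13,12,9,11,10,2,11,13,2], [1,13,5,12,9,11,5,2,11,10], 11, [([], 238, [3,13,5,10,13,12,8,11]), ([], 184, [10,11,3,12,13,10]), ([27,25,22,20,25,27], 183, [3,13,5,10,12,9,11,13])], []⟩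
def c250 : Clm := ⟨6, 6, true, [13,10,12,9,13,10,13,2,1,11,10], [3,5,10,13,12,9,11,10,2,11,13,2], 5, [([], 249, [])], []⟩
def c251 : Clm := ⟨6, 6, true, [3,13,10,11,12,9,2,1,13,4], [13,10,12,9,13,10,13,2,1,11,10], 5, [([], 250, [])], []⟩
def c252 : Clm := ⟨6, 5, true, [3,10,11,5,12,8,2,1,11,13,12,4,8], [1,9,13,10,12,8,11,12,9,2,11,10], 11, [([], 238, [8,12,11,5,10,12,11,13]), ([], 184, [5,12,11,3,12]), ([25,25,26,24,22,25,20], 111, [1,5,11,13,12,8,13,12,8])], []⟩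
def c253 : Clm := ⟨5, 6, true, [9,10,12,9,13,12,8,11,13,2,1,11,10], [3,10,11,5,12,8,2,1,11,13,12,4,8], 5, [([], 252, [])], []⟩
def c254 : Clm := ⟨6, 5, true, [3,10,11,12,2,11,5,11,12,4,9], [5,12,11,5,12,8,2,11,10], 11, [([], 238, [3,12,11,13,12,8,13,10]), ([], 184, [5,12,13,3,12]), ([22,24,24,27,24,24,20], 111, [3,5,13,5,12,13,10,12,8])], []⟩
def c255 : Clm := ⟨5, 6, true, [5,12,11,5,10,12,8,2,1,11,10], [3,10,11,12,2,11,5,11,12,4,9], 5, [([], 254, [])], []⟩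
def c256 : Clm := ⟨6, 5, true, [3,12,9,12,13,12,8,13,12,2,1,13,2,1], [1,13,10,12,9,12,11,2,11,10], 11, [([], 238, [8,10,11,3,5,12,9,11]), ([], 184, [1,8,10,11,12,13,10]), ([22,24,26,24,27,20,24], 111, [3,13,12,9,12])], []⟩
def c257 : Clm := ⟨5, 6, true, [1,8,13,12,8,11,10,13,2,1,11,10], [3,12,9,12,13,12,8,13,12,2,1,13,2,1], 5, [([], 256, [])], []⟩
def c258 : Clm := ⟨6, 5, true, [9,10,11,3,10,12,8,2,11,5,4], [1,8,13,12,8,11,10,13,2,1,11,10], 5, [([], 257, [])], []⟩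
def c259 : Clm := ⟨6, 4, true, [5,8,13,5,13,2,1,13,2,1], [8,12,8,11,2,11,10], 11, [([], 238, [1,3,9,10]), ([], 184, [1,9,10,11,12,13,10]), ([26,22,25,26,20,25], 98, [1,3,8,10,12,8])], []⟩
def c260 : Clm := ⟨4, 6, true, [8,12,8,11,10,2,1,11,10], [5,8,13,5,13,2,1,13,2,1], 5, [([], 259, [])], []⟩
def c261 : Clm := ⟨6, 4, true, [8,13,3,10,11,2,11,5,4], [8,12,8,11,10,2,1,11,10], 5, [([], 260, [])], []⟩
def c262 : Clm := ⟨6, 2, true, [10,11,12,9,11,10,4,5,12,4], [9,13,10,12,8,13,12,2,4,6,13,12,6,11,2], 11, [([370], 235, [8,11,5,12,11,12,9,11,10]), ([], 184, [3,10,13,10,12,13,10]), ([24,27,25,22,25,26,22,24], 33, [1,11,5,12,9,13,12,8])], []⟩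
def c263 : Clm := ⟨2, 6, true, [3,13,12,13,10,12,11,2,6,11,13,12,4,7], [10,11,12,9,11,10,4,5,12,4], 5, [([], 262, [])], []⟩
def c264 : Clm := ⟨6, 2, true, [9,10,13,12,13,10,13,4,5,12,4], [3,13,12,13,10,12,11,2,6,11,13,12,4,7], 5, [([], 263, [])], []⟩
def c265 : Clm := ⟨6, 3, true, [8,12,9,13,5,12,11,4,7,9,12], [10,11,13,12,8,11,13,12,2,6,13,4,7,8,13], 11, [([370], 235, [11,5,12,11,13,10,12]), ([], 184, [5,13,5,12,11,12]), ([22,24,27,22], 58, [1,12,11,13,12,9,12,11,13])], []⟩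
def c266 : Clm := ⟨3, 6, true, [3,5,9,12,11,10,2,11,12,11,2,13,3], [8,12,9,13,5,12,11,4,7,9,12], 5, [([], 265, [])], []⟩
def c267 : Clm := ⟨6, 3, true, [1,8,12,9,13,5,12,4,7,9,12], [3,5,9,12,11,10,2,11,12,11,2,13,3], 5, [([], 266, [])], []⟩
def c268 : Clm := ⟨6, 3, true, [12,9,11,12,11,13,12,4,7,5,7], [8,13,12,9,12,11,5,10,2,11,10], 11, [([370], 235, [13,3,10,13,12,11]), ([], 184, [5,12,11,5,12,11]), ([22,24,26,24,27,24,22,20], 46, [8,13,3,10,12,9,12,13])], []⟩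
def c269 : Clm := ⟨3, 6, true, [8,13,12,9,12,11,5,2,1,11,10], [12,9,11,12,11,13,12,4,7,5,7], 5, [([], 268, [])], []⟩
def c270 : Clm := ⟨6, 3, true, [1,12,9,12,11,13,12,4,7,5,7], [8,13,12,9,12,11,5,2,1,11,10], 5, [([], 269, [])], []⟩
def c271 : Clm := ⟨6, 3, true, [8,11,5,10,13,12,8,2,1,11,5,4], [12,9,11,10,2,4,12,9,13,4], 13, [([], 238, [9,10,11,12,9,11,5,10]), ([], 184, [1,3,5]), ([27,22,24,26,24], 58, [11,5,12,11,10,12,8])], []⟩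
def c272 : Clm := ⟨3, 6, true, [1,9,12,11,13,10,12,13,10,2,4,12,9,13,4,10], [8,11,5,10,13,12,8,2,1,11,5,4], 5, [([], 271, [])], []⟩
def c273 : Clm := ⟨6, 5, true, [1,5,8,10,13,12,9,12,2,1,13,4], [5,9,10,13,3,12,9,4,5,10,4], 13, [([], 238, [1,8,10,11,10,12,9,13,10,13]), ([], 184, [1,8,10,11,12,13,10]), ([27,22,25,27,25,25,22], 111, [5,9,10,13,3,12,9,11])], []⟩
def c274 : Clm := ⟨5, 6, true, [9,13,3,10,11,12,9,11,2,13,5,10], [1,5,8,10,13,12,9,12,2,1,13,4], 5, [([], 273, [])], []⟩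
def c275 : Clm := ⟨6, 5, true, [1,9,10,11,10,12,8,11,10,2,11,13,2], [9,13,3,10,11,12,9,11,2,13,5,10], 5, [([], 274, [])], []⟩
def c276 : Clm := ⟨6, 5, true, [1,5,8,10,13,2,1,13,4], [5,13,5,10,11,12,9,4,5,10,4], 13, [([], 238, [1,3,5,9]), ([], 184, [1,9,10,11,12,13,10]), ([25,25,26,22,24,24,26,24], 111, [3,13,5,10,13,12,9,11])], []⟩
def c277 : Clm := ⟨5, 6, true, [10,11,3,12,9,11,2,13,5,10], [1,5,8,10,13,2,1,13,4], 5, [([], 276, [])], []⟩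
def c278 : Clm := ⟨6, 5, true, [1,8,13,2,11,13,2], [10,11,3,12,9,11,2,13,5,10], 5, [([], 277, [])], []⟩
def c279 : Clm := ⟨6, 5, true, [9,13,5,10,13,12,8,2,1,13,4], [1,3,12,9,12,4,5,10,4], 13, [([], 238, [8,10,11,3,12,9,13,10,11]), ([], 184, [1,8,10,11,5,12,13,10]), ([27,24,27,25,27,22,24,22], 111, [3,12,9,12,11])], []⟩
def c280 : Clm := ⟨5, 6, true, [8,10,12,8,13,5,2,13,5,10], [9,13,5,10,13,12,8,2,1,13,4], 5, [([], 279, [])], []⟩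
def c281 : Clm := ⟨6, 5, true, [1,9,10,11,12,8,11,10,2,11,13,2], [8,10,12,8,13,5,2,13,5,10], 5, [([], 280, [])], []⟩
def c282 : Clm := ⟨6, 6, true, [6], [9,7], 21, [([], 184, [1,3]), ([26], 183, [1,3,9])], []⟩
def c283 : Clm := ⟨6, 6, true, [1,3,9,7], [6], 5, [([], 282, [])], []⟩
def c284 : Clm := ⟨6, 5, true, [9,6], [8,7], 21, [([], 184, [1,3,8]), ([26], 111, [1,3,8])], []⟩
def c285 : Clm := ⟨5, 6, true, [1,3,8,7], [9,6], 5, [([], 284, [])], []⟩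
def c286 : Clm := ⟨6, 5, true, [1,3,9,6], [1,3,8,7], 5, [([], 285, [])], []⟩
def c287 : Clm := ⟨6, 5, true, [8,6], [9,7], 21, [([], 184, [1,3,9]), ([27], 111, [1,3,9])], []⟩
def c288 : Clm := ⟨5, 6, true, [1,3,9,7], [8,6], 5, [([], 287, [])], []⟩
def c289 : Clm := ⟨6, 5, true, [1,3,8,6], [1,3,9,7], 5, [([], 288, [])], []⟩
def c290 : Clm := ⟨6, 4, true, [1,3,8,7,7], [6,9], 33, [([], 285, [8]), ([], 289, []), ([], 184, [1,3,9]), ([], 111, [8]), ([], 286, []), ([], 288, [1,3,9]), ([], 128, [1,3,9])], []⟩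
def c291 : Clm := ⟨4, 6, true, [1,3,6,9], [1,3,8,7,7], 5, [([], 290, [])], []⟩
def c292 : Clm := ⟨6, 5, true, [1,3,8,7], [8,6], 25, [([], 291, []), ([201], 129, [9]), ([], 132, [1,3,8]), ([], 286, [1,3,8]), ([], 283, [1,3]), ([], 184, [1,3,8]), ([26], 111, [1,3,8])], []⟩
def c293 : Clm := ⟨5, 6, true, [1,3,8,6], [1,3,8,7], 5, [([], 292, [])], []⟩
def c294 : Clm := ⟨6, 5, true, [8,7], [1,3,8,6], 5, [([], 293, [])], []⟩
def c295 : Clm := ⟨6, 6, true, [8,4,7,9], [3,11,10,13,12,8,13,10,4,7,9,12], 43, [([], 184, [1,3]), ([25,25,27,22,25], 58, [9,11,10,12,13,12,11]), ([110,110,104,96], 270, [8,11,3,12,11,13,12,13])], []⟩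
def c296 : Clm := ⟨6, 5, true, [5,8,4,7,9], [3,12,13,10,12,8,11,2,11,5,6,10,13,4], 43, [([], 184, [1,3,5]), ([25,26,22,25,25], 111, [13,12,9,11,13,12,11,12]), ([252], 140, [9,12,8,11,3])], []⟩
def c297 : Clm := ⟨5, 6, true, [3,11,12,13,10,12,8,11,2,13,6,10,13,4], [5,8,4,7,9], 5, [([], 296, [])], []⟩
def c298 : Clm := ⟨6, 6, true, [4,7,9], [1,8,10,13,12,9,12,13,10,4,7,9,12], 43, [([], 184, [1,3,8]), ([], 46, [9,11,13,12,11,12]), ([110,104,102], 267, [9,11,12,11,12,8,13])], []⟩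
def c299 : Clm := ⟨6, 6, true, [9,4,7,9], [1,10,13,12,9,12,13,10,4,7,9,12], 43, [([], 184, [1,3,9]), ([24,26,24,22,25,27,24], 33, [8,11,13,10,12,11,13]), ([42,52], 264, [12,13,12,9,11])], []⟩
def c300 : Clm := ⟨6, 4, true, [5,4,7,9], [9,10,13,10,12,11,13,5,2,13,7,10,13], 43, [([], 184, [1,3,5,8]), ([25,26,22,25,25,26], 111, [8,13,12,9,11,13,12,11,12]), ([252], 137, [5,12,11,12,9,11,12,13])], []⟩
def c301 : Clm := ⟨4, 6, true, [9,10,13,10,12,11,13,5,2,1,13,7,10,13], [5,4,7,9], 5, [([], 300, [])], []⟩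
def c302 : Clm := ⟨6, 4, true, [1,5,11,4,7,9], [9,10,13,10,12,11,13,5,2,1,13,7,10,13], 5, [([], 301, [])], []⟩
def c303 : Clm := ⟨6, 5, true, [5,12,8,4,7,9], [12,13,5,10,12,13,2,7,13,6,6,10,12], 43, [([], 184, [1,3,5,12]), ([26,24,24,27,24], 111, [5,8,12,9,11,12,11,13]), ([252], 139, [1,9,12,8,11,5,11])], []⟩
def c304 : Clm := ⟨5, 6, true, [13,12,13,5,10,12,13,12,2,11,5,6,10,13,5], [5,12,8,4,7,9], 5, [([], 303, [])], []⟩
def c305 : Clm := ⟨6, 5, true, [12,4,7,9], [3,9,12,13,10,12,8,11,10,2,6,9,13,10,12], 43, [([], 184, [1,3,12,8]), ([27,25,26,25,25], 111, [5,9,11,13,12,11,12]), ([252], 152, [3,9,12,9,13,12,9,11])], []⟩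
def c306 : Clm := ⟨5, 6, true, [3,9,12,13,10,12,8,11,2,1,6,9,13,10,12], [12,4,7,9], 5, [([], 305, [])], []⟩
def c307 : Clm := ⟨6, 5, true, [1,12,11,4,7,9], [3,9,12,13,10,12,8,11,2,1,6,9,13,10,12], 5, [([], 306, [])], []⟩
def c308 : Clm := ⟨6, 5, true, [12,9,4,7,9], [5,9,12,11,12,8,11,10,13,2,7,13,5,7,5,10], 43, [([], 184, [1,3,12,9]), ([24,24,27,24,27], 111, [5,11,12,11,13]), ([252], 142, [5,11,12,9,12,13])], []⟩
def c309 : Clm := ⟨5, 6, true, [3,8,10,11,12,9,12,11,10,4,6,5,6,10,4,5], [12,9,4,7,9], 5, [([], 308, [])], []⟩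
def c310 : Clm := ⟨6, 5, true, [5,9,12,8,4,7,9], [12,11,5,10,12,8,13,2,11,13,6,13,10], 43, [([], 184, [1,3,5,8,12]), ([27,24,24,27,24], 98, [12,8,11,13,12,11,12]), ([211,200], 136, [1,10,11,5,12,8,13,10])], []⟩
def c311 : Clm := ⟨5, 6, true, [11,12,11,5,10,12,8,13,2,1,11,13,6,13,10], [5,9,12,8,4,7,9], 5, [([], 310, [])], []⟩
def c312 : Clm := ⟨6, 4, true, [5,12,9,4,7,9], [9,12,13,10,12,11,2,6,13,6,10,13], 43, [([], 184, [1,3,5,12,9]), ([25,26,25,25,26], 111, [8,12,8,11,12,11,13]), ([252], 146, [8,13,12,8,11,13,12,13])], []⟩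
def c313 : Clm := ⟨4, 6, true, [9,12,13,10,12,11,2,1,6,13,6,10,13], [5,12,9,4,7,9], 5, [([], 312, [])], []⟩
def c314 : Clm := ⟨6, 4, true, [1,5,12,9,11,4,7,9], [9,12,13,10,12,11,2,1,6,13,6,10,13], 5, [([], 313, [])], []⟩
def c315 : Clm := ⟨6, 5, true, [9,12,4,7,9], [1,8,10,11,5,12,2,13,10,13,6,9], 43, [([], 184, [1,3,8,12,8]), ([25,22,24], 98, [3,8,12,13,5,12,13]), ([210,200], 145, [12,8,11,12,11,5])], []⟩
def c316 : Clm := ⟨5, 6, true, [8,10,11,10,12,2,11,5,6,9,10], [9,12,4,7,9], 5, [([], 315, [])], []⟩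
def c317 : Clm := ⟨6, 5, true, [1,9,12,11,4,7,9], [8,10,11,10,12,2,11,5,6,9,10], 5, [([], 316, [])], []⟩
def c318 : Clm := ⟨6, 4, true, [9,12,9,4,7,9], [3,10,12,11,13,12,13,2,11,10,12,4,5,6], 43, [([], 184, [1,3,8,12,9]), ([27,25,22,24], 111, [8,12,11,5,11]), ([], 149, [1,8,10,11,10,12,11,10])], []⟩
def c319 : Clm := ⟨4, 6, true, [10,11,13,12,13,2,4,13,6,13,2,5], [9,12,9,4,7,9], 5, [([], 318, [])], []⟩
def c320 : Clm := ⟨6, 5, true, [5,8,12,9,4,7,9], [8,10,11,12,9,12,11,10,4,7,10,12,4,5,6], 43, [([], 184, [1,3,12,8,12]), ([27,24,24,27,22,24], 111, [13,12,8,11,12,11,13]), ([252], 151, [12,9,11,12,9,11,12,9])], []⟩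
def c321 : Clm := ⟨5, 6, true, [3,5,10,11,12,9,12,11,13,2,6,13,10,12,8,13], [5,8,12,9,4,7,9], 5, [([], 320, [])], []⟩
def c322 : Clm := ⟨6, 5, true, [1,5,8,12,9,11,4,7,9], [3,5,10,11,12,9,12,11,13,2,6,13,10,12,8,13], 5, [([], 321, [])], []⟩
def c323 : Clm := ⟨6, 5, true, [5,9,12,4,7,9], [10,13,10,12,9,11,13,2,6,9,13,7,5,10], 43, [([], 184, [1,3,12,9,12]), ([26,25,26,25,25,26], 111, [9,12,9,11,12,11,13]), ([253], 143, [1,10,13,10,12,11,10,12,8,13])], []⟩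
def c324 : Clm := ⟨5, 6, true, [1,8,12,13,5,10,12,8,13,2,13,7,9,10,13,12], [5,9,12,4,7,9], 5, [([], 323, [])], []⟩
def c325 : Clm := ⟨6, 5, true, [1,5,9,12,11,4,7,9], [1,8,12,13,5,10,12,8,13,2,13,7,9,10,13,12], 5, [([], 324, [])], []⟩
def c326 : Clm := ⟨6, 5, true, [5,8,12,4,7,9], [12,8,11,12,8,11,12,4,7,9,12], 43, [([], 184, [1,3,5,9,12,8]), ([27,24,24,27,22,24], 98, [13,12,9,11,12,11,13]), ([211,200], 148, [9,11,3,13,12,13])], []⟩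
def c327 : Clm := ⟨5, 6, true, [8,10,11,12,8,13,10,13,4,7,9,12], [5,8,12,4,7,9], 5, [([], 326, [])], []⟩
def c328 : Clm := ⟨6, 5, true, [1,5,8,12,11,4,7,9], [8,10,11,12,8,13,10,13,4,7,9,12], 5, [([], 327, [])], []⟩
def c329 : Clm := ⟨5, 6, true, [5,13,12,8,11,10,12,13,10,2,4,12,13,3,6,10,13], [1,9,13,10,11,2,11,5,12,4], 7, [([], 178, [5,10,11,12,8,11,13]), ([252,228,253,227], 163, [1,5,11,13,10,12,8,13,10]), ([111,171,100], 189, [3,9,13,5,10,12])], []⟩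
def c330 : Clm := ⟨6, 5, true, [1,9,10,11,2,13,12,4,13,3], [5,13,12,8,11,10,12,13,10,2,4,12,13,3,6,10,13], 5, [([], 329, [])], []⟩
def c331 : Clm := ⟨5, 6, true, [5,13,12,8,11,10,12,13,10,2,4,3,12,13,6,10,13], [1,9,10,11,2,13,12,4,13,3], 5, [([], 330, [])], []⟩
def c332 : Clm := ⟨3, 6, true, [3,5,9,12,13,10,12,8,13,2,13,6,13,12,4,6], [1,5,8,12,13,10,12,8,2,4,13,12,13,6,5], 13, [([], 189, [3,10,12,13,12]), ([372], 277, [1,9,11,10,12,13,12,9]), ([226,252], 330, [8,12,8,11,3,12,8,13,10])], []⟩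
def c333 : Clm := ⟨6, 3, true, [1,5,8,12,13,10,12,8,2,4,13,3,12,13,6,5], [3,5,9,12,13,10,12,8,13,2,13,6,13,12,4,6], 5, [([], 332, [])], []⟩
def c334 : Clm := ⟨3, 6, true, [1,10,13,5,12,8,11,13,12,2,1,6,13,7,9,12,4], [1,5,8,12,13,10,12,8,2,4,13,3,12,13,6,5], 5, [([], 333, [])], []⟩
def c335 : Clm := ⟨3, 6, true, [12,13,5,10,12,9,13,2,1,13,2,12,13,7,9], [5,9,11,12,8,13,10,12,11,2,4,6,12], 13, [([], 189, [12,9,11,3,10,12]), ([], 331, [8,10,13,3,12,9,12,13,10]), ([253,227], 278, [8,10,12,8,13,3,5])], []⟩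
def c336 : Clm := ⟨6, 3, true, [5,9,11,12,8,13,10,12,11,4,6,10,2,12], [12,13,5,10,12,9,13,2,1,13,2,12,13,7,9], 5, [([], 335, [])], []⟩
def c337 : Clm := ⟨3, 6, true, [5,11,5,11,12,8,11,2,7,7,13,2,12,11,2], [5,9,11,12,8,13,10,12,11,4,6,10,2,12], 5, [([], 336, [])], []⟩
def c338 : Clm := ⟨6, 5, true, [3,5,9,10,12,2,1,6,9,13,2,5,12], [5,10,12,11,5,12,8,13,2,1,13,10,12,7], 15, [([], 334, [1,12,8,13,10,12,13,12]), ([100,110], 189, [9,13,3,12,13,10]), ([372], 277, [5,9,11,5,11,12,13,10])], []⟩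
def c339 : Clm := ⟨5, 6, true, [3,5,10,13,12,8,13,2,13,10,12,4], [3,5,9,10,12,2,1,6,9,13,2,5,12], 5, [([], 338, [])], []⟩
def c340 : Clm := ⟨6, 5, true, [8,11,13,12,8,13,10,2,6,9,13,2,13,12], [3,5,10,13,12,8,13,2,13,10,12,4], 5, [([], 339, [])], []⟩
def c341 : Clm := ⟨6, 6, true, [8,10,12,13,12,9,2,6,9,11,5], [1,8,13,10,11,12,2,4], 17, [([], 321, [5,8,12,11,10,12,9,13]), ([228,253,226], 116, [5,10,13,10,12,8,11]), ([111,102], 189, [8,13,3,10,11,12])], []⟩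
def c342 : Clm := ⟨6, 6, true, [1,8,13,10,11,12,4,10,2], [8,10,12,13,12,9,2,6,9,11,5], 5, [([], 341, [])], []⟩
def c343 : Clm := ⟨6, 6, true, [8,10,12,13,10,12,9,2,1,6,9,11,5], [1,8,13,10,11,12,4,10,2], 5, [([], 342, [])], []⟩
def c344 : Clm := ⟨5, 6, true, [1,9,11,5,12,13,2,6,11,5,6,8,11], [1,8,10,12,13,12,9,2,6,11,12,4,3,8], 15, [([], 163, [8,11,12,13,10,12,9,12]), ([111], 189, [5,11,10,12,9,13,12]), ([], 343, [1,8,10,13,10,12,8,13,10])], []⟩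
def c345 : Clm := ⟨6, 5, true, [1,8,10,12,13,12,9,2,1,6,11,12,4,8], [1,9,11,5,12,13,2,6,11,5,6,8,11], 5, [([], 344, [])], []⟩
def c346 : Clm := ⟨5, 6, true, [5,11,5,10,12,11,12,2,7,11,12,4,3,5,11], [3,9,13,5,10,13,12,2,4,7,13,3,6], 15, [([], 163, [11,5,10,12,11,12,13]), ([171,111,102], 189, [3,13,5,12,13,12]), ([], 245, [5,9,13,12,11,12])], []⟩
def c347 : Clm := ⟨6, 5, true, [3,9,13,5,10,13,12,2,1,4,7,13,6], [5,11,5,10,12,11,12,2,7,11,12,4,3,5,11], 5, [([], 346, [])], []⟩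
def c348 : Clm := ⟨6, 5, true, [5,12,9,11,13,10,12,2,4,5,7,12,13,5], [11,12,8,12,13,5,12,11,2,1,13,12,4,5,7], 15, [([], 212, [12,11,10,12,8]), ([100,171,100], 189, [9,10,11,3,5,12]), ([372,370], 331, [3,8,12,13,12,9,13])], []⟩
def c349 : Clm := ⟨5, 6, true, [11,12,8,12,13,5,12,11,2,13,12,4,3,5,7], [5,12,9,11,13,10,12,2,4,5,7,12,13,5], 5, [([], 348, [])], []⟩
def c350 : Clm := ⟨6, 6, true, [8,10,11,3,12,13,10,11,2,4,6,13,3,7], [9,11,12,11,5,2,4,12,6,11,13,2], 15, [([], 243, [1,10,12,8,11,10]), ([110,102], 189, [3,11,13,12,8,11,10,12]), ([], 343, [1,9,12,11,13,12,8,13])], []⟩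
def c351 : Clm := ⟨6, 6, true, [1,8,10,12,13,5,12,9,2,1,13,6,9,12,4], [8,10,11,3,12,13,10,11,2,4,6,13,3,7], 5, [([], 350, [])], []⟩
def c352 : Clm := ⟨6, 6, true, [8,10,11,3,12,13,10,11,2,1,4,6,13,7], [1,8,10,12,13,5,12,9,2,1,13,6,9,12,4], 5, [([], 351, [])], []⟩
def c353 : Clm := ⟨5, 6, true, [11,3,5,12,9,13,2,11,12,13,4,5,12], [5,8,11,10,12,8,11,2,13,7,10,13,12], 15, [([], 163, [12,8,11,5,11,5,12,13]), ([110], 189, [3,13,12,8,13,10,12]), ([372,370], 343, [3,8,12,11,12,9,11])], []⟩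
def c354 : Clm := ⟨6, 5, true, [5,8,11,10,12,8,11,2,1,13,7,10,13,12], [11,3,5,12,9,13,2,11,12,13,4,5,12], 5, [([], 353, [])], []⟩
def c355 : Clm := ⟨6, 6, true, [8,10,11,3,10,12,11,10,2,11,13,2,12,11,10], [3,8,12,8,11,12,13,10,13,2,4,6,13,7,13,2,5], 15, [([], 272, [1,8,10,11,13,12,11,10]), ([110,100,96], 189, [8,10,12,13,3,10,12]), ([], 343, [12,11,3,13,12])], []⟩
def c356 : Clm := ⟨6, 6, true, [1,5,12,8,11,12,9,12,13,4,7,9,10,12,4,5], [8,10,11,3,10,12,11,10,2,11,13,2,12,11,10], 5, [([], 355, [])], []⟩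
def c357 : Clm := ⟨6, 5, true, [1,8,10,12,8,11,5,2,4,5,7,12,13,5], [1,11,12,8,13,12,2,1,13,2,1,6,5,4], 15, [([], 212, [8,13,10,13,12,13]), ([111,98,171,96], 189, [9,10,11,3,10,12]), ([], 331, [3,8,12,13,12,9])], []⟩
def c358 : Clm := ⟨5, 6, true, [8,11,3,12,11,10,13,12,2,7,13,2,12,13,12], [1,8,10,12,8,11,5,2,4,5,7,12,13,5], 5, [([], 357, [])], []⟩
def c359 : Clm := ⟨3, 6, true, [5,12,11,13,10,12,11,2,1,4,5], [3,8,12,11,5,10,12,2,6,6,13,2,11], 13, [([], 189, [13,3,5]), ([], 245, [1,13,12,8,11,12,8,11,12]), ([], 356, [10,11,5,12,9,11])], []⟩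
def c360 : Clm := ⟨6, 3, true, [1,8,10,11,12,13,10,11,2,6,6,13,2,4], [5,12,11,13,10,12,11,2,1,4,5], 5, [([], 359, [])], []⟩
def c361 : Clm := ⟨3, 6, true, [5,12,11,13,10,12,11,2,4,3,5], [1,8,10,11,12,13,10,11,2,6,6,13,2,4], 5, [([], 360, [])], []⟩
def c362 : Clm := ⟨6, 5, true, [8,13,12,13,10,13,2,4,7,7,13,5], [3,5,12,11,2,11,5,4], 17, [([], 361, [5,13,5,11]), ([], 189, [1,5,13]), ([370], 255, [9,13,5,10,13,12,13])], []⟩
def c363 : Clm := ⟨5, 6, true, [1,10,12,13,5,2,1,13,2,1], [8,13,12,13,10,13,2,4,7,7,13,5], 5, [([], 362, [])], []⟩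
def c364 : Clm := ⟨6, 5, true, [1,10,11,12,11,13,10,12,8,2,6,6,13,2,1], [1,10,12,13,5,2,1,13,2,1], 5, [([], 363, [])], []⟩
def c365 : Clm := ⟨6, 6, true, [5,10,12,8,13,2,1,4], [1,13,5,10,13,12,2,1,13,2,5], 11, [([], 229, [1,9,10,13,5,11]), ([], 191, [3,13,5,10,13,12,13]), ([104,96], 189, [5,13,5,10,11,12])], []⟩
def c366 : Clm := ⟨6, 6, true, [3,8,12,9,11,10,12,11,2,4,12,13,2,4], [1,8,10,13,10,12,8,11,13,2,1,13,12,4,6,13], 11, [([], 363, [3,9,11,13,12,9,11]), ([253,228], 171, [10,13,12,8,11,12,9,11]), ([111,171,96], 189, [1,9,13,5,13,12,13])], []⟩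
def c367 : Clm := ⟨6, 6, true, [8,10,12,11,13,5,12,8,11,2,11,5,7,12,13,4], [3,8,12,9,11,10,12,11,2,4,12,13,2,4], 5, [([], 366, [])], []⟩
def c368 : Clm := ⟨6, 6, true, [9,12,8,13,3,5,10,12,13,2,4,3,12,4,5,13], [8,10,12,11,13,5,12,8,11,2,11,5,7,12,13,4], 5, [([], 367, [])], []⟩
def c369 : Clm := ⟨6, 6, true, [8,13,3,12,9,11,13,2,1,4,12,6,11,12,11], [8,11,10,2,1,11,10,12,11,2], 11, [([], 363, [5,10,12,8,13]), ([253,228], 171, [10,12,8,11,12,9,11,13]), ([104,96], 189, [1,8,12])], []⟩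
def c370 : Clm := ⟨6, 6, true, [3,11,2,1,6,13,2,7,8], [8,13,3,12,9,11,13,2,1,4,12,6,11,12,11], 5, [([], 369, [])], []⟩
def c371 : Clm := ⟨5, 6, true, [12,8,12,11,5,12,13,10,2,4,12,9,13,2,7,5], [3,9,10,13,12,8,11,13,2,4,5,7,7,13,12,8], 11, [([], 364, [1,9,10,11,12,11,12,8,13,10]), ([], 361, [3,9,13,12,13,12,8]), ([111,98,171], 189, [5,8,11,5,11,12,13])], []⟩
def c372 : Clm := ⟨6, 5, true, [1,9,12,11,13,10,12,11,2,6,11,12,9,13,4], [12,8,12,11,5,12,13,10,2,4,12,9,13,2,7,5], 5, [([], 371, [])], []⟩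
def c373 : Clm := ⟨5, 6, true, [9,13,3,10,2,1,4,12,11,13,12], [1,8,10,12,13,12,9,2,1,13,6,9,13,4,5], 17, [([], 116, [3,8,11,10,12,11,10]), ([104,96], 189, [8,10,12,13,3,10,12]), ([372,370], 351, [8,12,13,3,5,12,9])], []⟩
def c374 : Clm := ⟨6, 5, true, [1,8,10,12,13,12,8,2,7,13,4,6,6,5], [9,13,3,10,2,1,4,12,11,13,12], 5, [([], 373, [])], []⟩
def c375 : Clm := ⟨5, 6, true, [9,13,3,10,2,4,3,12,11,13,12], [1,8,10,12,13,12,8,2,7,13,4,6,6,5], 5, [([], 374, [])], []⟩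
def c376 : Clm := ⟨6, 6, true, [1,8,10,12,9,13,5,12,2,1,13,4,12,4,5], [1,8,13,10,11,2,1,13,12,4,10,4], 11, [([], 375, [3,11,13,12,9,11,13]), ([226,252,226], 163, [10,13,12,8,12,11,5]), ([111], 189, [5,8,13,3,10,12])], []⟩
def c377 : Clm := ⟨6, 6, true, [8,10,13,10,2,4,13,12,11,10,13,2], [1,8,10,12,9,13,5,12,2,1,13,4,12,4,5], 5, [([], 376, [])], []⟩
def c378 : Clm := ⟨6, 6, true, [10,12,8,11,13,5,12,9,2,4,5,12,13,2], [8,10,13,10,2,4,13,12,11,10,13,2], 5, [([], 377, [])], []⟩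
def c379 : Clm := ⟨5, 6, true, [1,5,10,13,12,9,12,13,12,13,2,6,13,6,8,13,12], [3,10,13,12,9,12,11,5,11,2,1,13,7,12,4], 13, [([], 330, [8,10,13,10,12,13,10]), ([], 188, [13,10,11,12,9,13,12,8]), ([170,110], 189, [1,9,12,11,5,13])], []⟩
def c380 : Clm := ⟨6, 5, true, [3,10,13,12,9,12,11,5,11,2,13,7,12,4,3], [1,5,10,13,12,9,12,13,12,13,2,6,13,6,8,13,12], 5, [([], 379, [])], []⟩
def c381 : Clm := ⟨6, 6, true, [3,9,13,10,12,9,11,10,2,6,9,13,7,5], [3,5,9,12,11,12,8,13,10,2,1,7,9,13,2,7,12], 13, [([], 375, [8,10,11,13,12,8,13,12]), ([226,252,226], 163, [3,9,10,12,9,11]), ([111,171,100], 189, [12,9,11,3,10,13,12])], []⟩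
def c382 : Clm := ⟨6, 6, true, [9,10,11,10,12,8,13,5,2,13,2,13,12,4,9], [3,9,13,10,12,9,11,10,2,6,9,13,7,5], 5, [([], 381, [])], []⟩
def c383 : Clm := ⟨6, 6, true, [3,11,12,9,11,13,12,13,12,2,1,13,4,7,5,4,6], [8,10,11,3,12,11,10,2,1,4,12,13,4], 13, [([], 280, [1,5,10,12,8,13,12,11]), ([252,228], 171, [8,11,10,12,8,11,12]), ([170,110,104], 189, [1,8,11,10,13,12])], []⟩
def c384 : Clm := ⟨6, 6, true, [8,10,11,3,12,11,10,2,4,12,11,13,4], [3,11,12,9,11,13,12,13,12,2,1,13,4,7,5,4,6], 5, [([], 383, [])], []⟩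
def c385 : Clm := ⟨6, 6, true, [3,11,12,9,11,13,12,13,12,2,13,4,7,5,4,3,6], [8,10,11,3,12,11,10,2,4,12,11,13,4], 5, [([], 384, [])], []⟩
def c386 : Clm := ⟨6, 6, true, [1,8,12,9,11,5,11,2,4,3,7,5,8], [1,8,13,10,11,12,8,13,10,4,5,10,2], 11, [([], 361, [10,13,5,11]), ([96], 189, [3,5,10]), ([370], 245, [1,5,8,10,13,12,8])], []⟩
def c387 : Clm := ⟨6, 6, true, [1,8,13,10,11,12,8,13,10,2,4,5], [1,8,12,9,11,5,11,2,4,3,7,5,8], 5, [([], 386, [])], []⟩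
def c388 : Clm := ⟨6, 6, true, [1,8,12,9,11,5,11,2,1,4,7,5,8], [1,8,13,10,11,12,8,13,10,2,4,5], 5, [([], 387, [])], []⟩
def c389 : Clm := ⟨3, 6, true, [9,11,12,9,11,12,8,13,2,11,13,2,7,12,13,4], [3,9,10,11,10,12,11,10,2,4,3,12,13,4], 13, [([], 168, [5,9,11,12,11,13,12,13]), ([228,227], 163, [8,11,12,11,5,11,12]), ([111,171,100], 189, [9,11,3,10,13,12])], []⟩
def c390 : Clm := ⟨6, 3, true, [8,11,5,12,13,12,9,12,11,2,4,6,12,9,13,5], [9,11,12,9,11,12,8,13,2,11,13,2,7,12,13,4], 5, [([], 389, [])], []⟩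
def c391 : Clm := ⟨3, 6, true, [5,11,12,11,10,12,8,13,2,7,13,2,12,8,6,11], [8,11,5,12,13,12,9,12,11,2,4,6,12,9,13,5], 5, [([], 390, [])], []⟩
def c392 : Clm := ⟨5, 6, true, [8,11,12,13,12,9,12,11,2,4,6,12,13,2,12,7], [1,5,12,11,10,12,13,12,2,6,13,6,5,4,8], 13, [([], 330, [12,13,12,8,12,11,12,13]), ([], 188, [8,10,12,11,3,10,12,9,11]), ([111,171], 189, [1,8,11,12])], []⟩
def c393 : Clm := ⟨6, 5, true, [3,9,10,13,12,11,13,10,2,6,13,12,9,13,12,4], [8,11,12,13,12,9,12,11,2,4,6,12,13,2,12,7], 5, [([], 392, [])], []⟩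
def c394 : Clm := ⟨5, 6, true, [12,13,5,10,12,8,11,12,13,2,7,9], [9,10,11,3,12,11,10,2,1,4,5,12,13,4], 13, [([], 152, [3,5,9,10,12,13,10,12,8]), ([], 163, [8,12,11,13,12,13]), ([111,171,100], 189, [1,9,10,13,5,10,12])], []⟩
def c395 : Clm := ⟨6, 5, true, [9,10,11,3,12,11,10,2,4,5,12,11,13,4], [12,13,5,10,12,8,11,12,13,2,7,9], 5, [([], 394, [])], []⟩
def c396 : Clm := ⟨5, 6, true, [5,9,11,12,13,12,9,13,5,2,7,9], [9,10,11,3,12,11,10,2,4,5,12,11,13,4], 5, [([], 395, [])], []⟩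
def c397 : Clm := ⟨5, 6, true, [10,11,12,11,5,12,2,13,12,13,4,10,4], [5,12,13,5,10,12,11,12,2,7,13,7,5,4,9], 13, [([], 278, [9,11,3,10,12,11,12]), ([370], 188, [1,9,13,10,12,11,12,8,13]), ([170,110], 189, [1,9,11,5,12])], []⟩
def c398 : Clm := ⟨6, 5, true, [12,11,5,10,12,9,13,12,2,6,13,7,13,5,4,6], [10,11,12,11,5,12,2,13,12,13,4,10,4], 5, [([], 397, [])], []⟩
def c399 : Clm := ⟨5, 6, true, [12,9,11,10,12,11,13,5,2,4,5,12,11,13,7,8], [12,11,5,10,12,9,13,12,2,6,13,7,13,5,4,6], 5, [([], 398, [])], []⟩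
def c400 : Clm := ⟨6, 6, true, [3,10,13,10,12,8,12,11,13,2,6,9,13,7,10,13], [8,13,10,11,2,13,10,13,12,4], 15, [([], 399, [5,11,5,11,12,13,12,9]), ([226,253,226], 171, [1,9,13,10,12,11,10,12]), ([170,110,104], 189, [8,11,3,10,12])], []⟩
def c401 : Clm := ⟨6, 6, true, [1,5,12,11,13,10,12,8,13,2,11,5,10,12,7], [3,10,13,10,12,8,12,11,13,2,6,9,13,7,10,13], 5, [([], 400, [])], []⟩
def c402 : Clm := ⟨6, 5, true, [1,8,12,11,5,10,12,11,2,6,6,13,2,13], [5,10,13,10,12,11,10,2,4,5], 13, [([], 361, [3,11,13]), ([96], 189, [1,10,13,5]), ([370], 277, [5,8,13,5,10])], []⟩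
def c403 : Clm := ⟨5, 6, true, [5,10,13,10,12,11,10,4,5,10,2], [1,8,12,11,5,10,12,11,2,6,6,13,2,13], 5, [([], 402, [])], []⟩
def c404 : Clm := ⟨6, 5, true, [1,8,10,11,12,13,10,12,2,1,6,6,13,2,5], [5,10,13,10,12,11,10,4,5,10,2], 5, [([], 403, [])], []⟩
def c405 : Clm := ⟨6, 5, true, [1,8,10,11,10,12,9,2,1,6,13,4,7], [3,10,11,12,9,11,5,11,2,4,13,12,4,3], 13, [([], 200, [1,12,8,11,5,12,9,13]), ([96,111,104], 189, [1,8,13,12,13,5]), ([372], 277, [5,13,5,13,12,13,10])], []⟩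
def c406 : Clm := ⟨5, 6, true, [3,10,11,12,9,11,5,11,2,1,4,13,12,4], [1,8,10,11,10,12,9,2,1,6,13,4,7], 5, [([], 405, [])], []⟩
def c407 : Clm := ⟨6, 5, true, [9,12,13,12,13,5,10,13,2,7,11,5,4,6,13], [9,13,12,13,5,13,5,2,1,13,2,6,12,9,11], 13, [([], 200, [3,9,12,13,10,13,12,9,11,10]), ([170,104], 189, [9,13,3,12]), ([], 331, [3])], []⟩
def c408 : Clm := ⟨5, 6, true, [9,13,3,10,12,11,10,2,4,5,11,12,6,9,11], [9,12,13,12,13,5,10,13,2,7,11,5,4,6,13], 5, [([], 407, [])], []⟩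
def c409 : Clm := ⟨6, 5, true, [9,13,10,13,12,13,10,2,1,7,13,2,6,13], [9,13,3,10,12,11,10,2,4,5,11,12,6,9,11], 5, [([], 408, [])], []⟩
def c410 : Clm := ⟨6, 6, true, [1,12,11,5,10,12,9,13,2,4,12,9,13,6,5], [13,12,9,13,12,2,11,12,13,2,3], 13, [([], 200, [3,5,12,11,12,9,12]), ([170,104], 189, [5,12,8,11,3,12]), ([], 343, [3,8,12,11,12,9])], []⟩
def c411 : Clm := ⟨6, 6, true, [13,12,9,13,12,2,11,12,13,2,1], [1,12,11,5,10,12,9,13,2,4,12,9,13,6,5], 5, [([], 410, [])], []⟩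
def c412 : Clm := ⟨6, 6, true, [1,9,12,13,5,10,12,9,13,2,11,12,13,4,6], [13,12,9,13,12,2,11,12,13,2,1], 5, [([], 411, [])], []⟩
def c413 : Clm := ⟨6, 6, true, [1,5,12,11,13,10,12,13,2,1,6,9,13,7,10], [1,10,11,10,2,1,13,10,12,13,4], 15, [([], 411, [3,9,11,10,13,12,13,10]), ([373], 361, [12,11,5,11,5,12]), ([96], 189, [3,13,12,11,10])], []⟩
def c414 : Clm := ⟨6, 6, true, [1,10,12,13,10,12,11,12,13,2,7,7,13,6,5,10], [1,5,12,11,13,10,12,13,2,1,6,9,13,7,10], 5, [([], 413, [])], []⟩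
def c415 : Clm := ⟨6, 6, true, [13,5,10,11,12,11,13,12,2,6,9,13,7,10], [1,10,12,13,10,12,11,12,13,2,7,7,13,6,5,10], 5, [([], 414, [])], []⟩
def c416 : Clm := ⟨5, 6, true, [13,3,12,8,13,12,13,2,13,6,5,4,13,2,1], [5,9,13,12,11,10,12,9,13,2,1,13,5,7,12,4], 13, [([], 171, [1,5,13,12,9,12,13,10,12]), ([170,110,104], 189, [12,8,12,11,3,10,12]), ([], 415, [1,12,13,12,9,12,11,12])], []⟩
def c417 : Clm := ⟨6, 5, true, [8,10,13,10,12,11,13,12,2,13,4,6,12,13,12], [13,3,12,8,13,12,13,2,13,6,5,4,13,2,1], 5, [([], 416, [])], []⟩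
def c418 : Clm := ⟨5, 6, true, [5,10,13,12,11,10,12,8,2,13,7,13,2,12,13], [8,10,13,10,12,11,13,12,2,13,4,6,12,13,12], 5, [([], 417, [])], []⟩
def c419 : Clm := ⟨6, 6, true, [3,8,12,11,10,12,13,10,2,4,13,12,9,11,2], [1,8,12,8,13,5,13,12,9,2,4,13,12,8,13,12], 13, [([], 200, [1,12,8,11,12,9,11,5]), ([96,111,104], 189, [5,8,11,3,12]), ([], 343, [1,5,9,13,5,12,11,12,8])], []⟩
def c420 : Clm := ⟨6, 6, true, [1,8,12,8,13,5,13,12,9,2,4,13,3,12,8,13,12], [3,8,12,11,10,12,13,10,2,4,13,12,9,11,2], 5, [([], 419, [])], []⟩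
def c421 : Clm := ⟨6, 6, true, [1,8,10,11,10,12,9,2,6,11,13,6,5,4], [1,8,12,8,13,5,13,12,9,2,4,13,3,12,8,13,12], 5, [([], 420, [])], []⟩
def c422 : Clm := ⟨6, 6, true, [3,5,10,13,10,12,2,1,7,9,11,12,4,13], [5,8,11,12,13,10,12,8,2,1,13,2,7,12,13], 13, [([], 200, [12,8,11,13,5]), ([104,171,110], 189, [12,8,12,11,3,12]), ([], 343, [1,8,10,13,5,12,9,13,10])], []⟩
def c423 : Clm := ⟨6, 6, true, [8,12,11,3,12,9,2,4,7,13,7,9,12], [3,5,10,13,10,12,2,1,7,9,11,12,4,13], 5, [([], 422, [])], []⟩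
def c424 : Clm := ⟨6, 6, true, [3,5,8,10,13,5,12,9,2,13,7,12,9,13,4], [8,12,11,3,12,9,2,4,7,13,7,9,12], 5, [([], 423, [])], []⟩
def c425 : Clm := ⟨6, 6, true, [1,13,12,9,12,13,10,12,2,4,5,7,13,12,6,13], [3,8,10,12,9,11,13,12,8,2,1,4,12,13,5,6,8,13], 13, [([], 361, [9,12,13,5,13,5,12]), ([96], 189, [3,8,13,12,11,10,13]), ([], 343, [9,11,12,11,12,8,13])], []⟩
def c426 : Clm := ⟨6, 6, true, [3,8,10,12,9,11,13,12,9,2,4,13,12,13,6,5,6], [1,13,12,9,12,13,10,12,2,4,5,7,13,12,6,13], 5, [([], 425, [])], []⟩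
def c427 : Clm := ⟨6, 6, true, [1,8,13,5,12,9,13,2,4,7,9,13,12,4], [3,8,10,12,9,11,13,12,9,2,4,13,12,13,6,5,6], 5, [([], 426, [])], []⟩
def c428 : Clm := ⟨6, 5, true, [13,3,10,12,9,12,11,12,9,2,1,13,4,12,7,9], [9,11,10,12,13,5,12,9,2,13,2,13,12,11,13], 13, [([], 361, [9,12,13,12,9,11]), ([96], 189, [5,9,10,12,13,3,12]), ([], 331, [5,8,10,13,12,9,11,10])], []⟩
def c429 : Clm := ⟨5, 6, true, [1,5,9,11,10,12,13,12,9,2,1,4,13,12,13,5,13], [13,3,10,12,9,12,11,12,9,2,1,13,4,12,7,9], 5, [([], 428, [])], []⟩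
def c430 : Clm := ⟨6, 5, true, [5,10,11,12,8,11,12,11,5,2,4,5,13,7,9,12], [1,5,9,11,10,12,13,12,9,2,1,4,13,12,13,5,13], 5, [([], 429, [])], []⟩
def c431 : Clm := ⟨6, 5, true, [3,11,5,10,13,12,8,2,1,7,11,5,4,6], [11,13,5,12,8,11,12,9,2,13,2,12,7,13], 13, [([], 200, [3,13,5,12,9]), ([104,171,110], 189, [12,11,3]), ([370], 277, [1,8,11,13,5,12,13,10])], []⟩
def c432 : Clm := ⟨5, 6, true, [1,10,11,10,12,13,10,2,4,5,11,12,4], [3,11,5,10,13,12,8,2,1,7,11,5,4,6], 5, [([], 431, [])], []⟩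
def c433 : Clm := ⟨6, 5, true, [12,13,12,8,11,2,1,7,13,2,6], [1,10,11,10,12,13,10,2,4,5,11,12,4], 5, [([], 432, [])], []⟩
def c434 : Clm := ⟨6, 6, true, [9,10,11,13,12,13,5,13,2,13,7,10,13,5,7], [1,8,10,11,5,2,11,10,12,4,13], 15, [([], 432, [8,12,13,12,8,13,10,11]), ([226,253,227], 171, [3,5,9,10,13,12,11,13]), ([170,110,104], 189, [5,8,11,3,10,12])], []⟩
def c435 : Clm := ⟨6, 6, true, [12,13,3,10,12,11,12,2,6,13,6,8,10,13], [9,10,11,13,12,13,5,13,2,13,7,10,13,5,7], 5, [([], 434, [])], []⟩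
def c436 : Clm := ⟨6, 6, true, [5,12,9,11,13,10,12,11,13,2,13,7,5,7,10,13], [12,13,3,10,12,11,12,2,6,13,6,8,10,13], 5, [([], 435, [])], []⟩
def c437 : Clm := ⟨6, 6, true, [3,10,13,12,9,12,11,5,11,2,7,11,10,12,9], [1,9,10,11,10,2,1,13,10,12,13,4], 15, [([], 423, [3,11,13,12,11,12,8]), ([373], 361, [8,12,11,5,11,5,12]), ([96], 189, [3,9,13,12,11,10])], []⟩
def c438 : Clm := ⟨6, 6, true, [1,12,11,5,10,12,13,12,9,2,7,7,13,6,5,10], [3,10,13,12,9,12,11,5,11,2,7,11,10,12,9], 5, [([], 437, [])], []⟩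
def c439 : Clm := ⟨5, 6, true, [5,13,12,8,12,11,10,12,2,11,5,6,10,13,2], [13,5,10,12,11,12,9,13,2,7,11,12,11,2], 13, [([], 163, [1,9,10,13,10,12,11,12]), ([111,171,100], 189, [3,13,10,11,12,8,13,12]), ([], 436, [8,13,10,13,12,9,13,10])], []⟩
def c440 : Clm := ⟨6, 5, true, [13,10,13,10,13,12,2,6,9,13,7,13,4], [5,13,12,8,12,11,10,12,2,11,5,6,10,13,2], 5, [([], 439, [])], []⟩
def c441 : Clm := ⟨5, 6, true, [1,11,12,8,12,13,5,10,12,2,11,13,6,5,11,2], [13,10,13,10,13,12,2,6,9,13,7,13,4], 5, [([], 440, [])], []⟩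
def c442 : Clm := ⟨6, 5, true, [1,10,11,5,12,9,2,6,13,12,4,9], [1,12,9,12,11,12,9,2,4,6,5,12,13,6], 13, [([], 200, [12,13,12,9,11,12]), ([96,111,104], 189, [11,3,12,9,11,12]), ([372,370], 331, [5,12,11,3,5,12])], []⟩
def c443 : Clm := ⟨5, 6, true, [1,12,9,12,11,12,9,2,4,3,6,5,12,13,6], [1,10,11,5,12,9,2,6,13,12,4,9], 5, [([], 442, [])], []⟩
def c444 : Clm := ⟨6, 5, true, [1,10,11,5,12,9,2,1,6,13,12,4,3,9], [1,12,9,12,11,12,9,2,4,3,6,5,12,13,6], 5, [([], 443, [])], []⟩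
def c445 : Clm := ⟨6, 6, true, [1,9,10,11,12,2,6,13,5,10], [10,11,10,2,1,7,11,10], 23, [([], 188, [9,10,13,12,9,13,10,11]), ([111,104,171], 189, [1,3])], []⟩
def c446 : Clm := ⟨6, 6, true, [10,11,2,7,11,10], [1,9,10,11,12,2,6,13,5,10], 5, [([], 445, [])], []⟩
def c447 : Clm := ⟨6, 6, true, [3,9,12,13,12,13,4,7,5,10,4], [10,11,2,7,11,10], 5, [([], 446, [])], []⟩
def c448 : Clm := ⟨6, 6, true, [3,11,12,13,10,12,8,11,2,1,6,11,10], [1,8,10,11,5,2,1,7,11,10], 23, [([], 200, [9,13,3]), ([170,102,96], 189, [3,8,13])], []⟩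
def c449 : Clm := ⟨6, 6, true, [1,8,13,10,11,2,7,11,10], [3,11,12,13,10,12,8,11,2,1,6,11,10], 5, [([], 448, [])], []⟩
def c450 : Clm := ⟨6, 6, true, [3,12,13,10,12,11,12,2,6,6,13,5,7,10], [9,10,11,10,2,1,7,11,10], 23, [([], 200, [9,11,3,12,11,13,12,8,13]), ([98,171,110], 189, [1,3,9])], []⟩
def c451 : Clm := ⟨6, 6, true, [9,10,11,2,7,11,10], [3,12,13,10,12,11,12,2,6,6,13,5,7,10], 5, [([], 450, [])], []⟩
def c452 : Clm := ⟨6, 6, true, [1,11,12,11,13,12,4,5,7,10,12,4], [9,10,11,2,7,11,10], 5, [([], 451, [])], []⟩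
def c453 : Clm := ⟨6, 6, true, [5,8,12,11,10,12,9,13,12,2,13,7,7,10,13,7], [3,8,10,12,11,13,12,13,2,13,7,5,8,10], 47, [([], 414, [5,10,12,13,12,9,13,10]), ([], 200, [1,10,11,10,12,8,13,10]), ([170,96], 189, [1,3,12,9])], []⟩
def c454 : Clm := ⟨6, 6, true, [3,12,11,10,12,11,12,8,2,1,13,7,5,8,10], [5,8,12,11,10,12,9,13,12,2,13,7,7,10,13,7], 5, [([], 453, [])], []⟩
def c455 : Clm := ⟨6, 6, true, [8,12,13,5,10,12,8,13,5,2,6,13,6,10,12], [8,12,13,5,10,12,8,13,5,2,11,5,6,5,10], 45, [([], 200, [3,9,12,8,11,13,12,8]), ([96,111], 189, [1,3,9,12,8]), ([], 454, [8,12,13,12,9,12,11])], []⟩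
def c456 : Clm := ⟨6, 6, true, [10,13,12,9,13,5,13,12,2,13,10,13,6,5], [8,12,13,5,10,12,8,13,5,2,6,13,6,10,12], 5, [([], 455, [])], []⟩
def c457 : Clm := ⟨6, 6, true, [5,10,11,12,9,11,13,5,12,2,1,6,13,6,10,12], [10,13,12,9,13,5,13,12,2,13,10,13,6,5], 5, [([], 456, [])], []⟩
def c458 : Clm := ⟨6, 6, true, [1,8,10,13,10,12,11,13,12,2,6,9,13,7,9,10], [1,5,12,11,10,12,13,2,13,10,12,4,8], 7, [([], 414, [8,12,13,12,9,11]), ([], 188, [5,12]), ([111,170,104], 201, [1,5,13,12,8])], []⟩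
def c459 : Clm := ⟨6, 6, true, [3,5,10,13,12,8,2,7,13,7,10,13], [1,8,10,13,10,12,11,13,12,2,6,9,13,7,9,10], 5, [([], 458, [])], []⟩
def c460 : Clm := ⟨6, 6, true, [9,10,13,10,12,11,13,12,2,11,10,12,4,6], [3,5,10,13,12,8,2,7,13,7,10,13], 5, [([], 459, [])], []⟩
def c461 : Clm := ⟨6, 6, true, [9,10,11,2,11,10,12,4], [10,11,12,13,10,11,12,13,2,13,7,10,13,5,7], 9, [([], 188, [8,12]), ([111,171], 189, [12,9,11,12,8,11,5]), ([], 436, [5,9,12,11,5,12,9])], []⟩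
def c462 : Clm := ⟨6, 6, true, [5,8,11,13,12,9,13,5,13,12,2,13,7,5,7,10,13], [9,10,11,2,11,10,12,4], 5, [([], 461, [])], []⟩
def c463 : Clm := ⟨6, 6, true, [10,12,11,3,13,12,8,13,2,6,13,6,8,10], [5,8,11,13,12,9,13,5,13,12,2,13,7,5,7,10,13], 5, [([], 462, [])], []⟩
def c464 : Clm := ⟨6, 6, true, [3,9,12,13,12,13,10,11,12,2,6,13,6,5,8,10], [1,12,11,13,10,12,9,11,2,6,9,13,6,5,10], 7, [([], 188, [12]), ([111,170,104], 201, [1,5,13,12,8,13]), ([], 454, [1,11,13,12,9,13,12])], []⟩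
def c465 : Clm := ⟨6, 6, true, [1,11,12,11,13,10,12,9,11,2,1,6,9,13,6,5,10], [3,9,12,13,12,13,10,11,12,2,6,13,6,5,8,10], 5, [([], 464, [])], []⟩
def c466 : Clm := ⟨6, 6, true, [10,11,2,11,10,12,4,5], [1,11,12,11,13,10,12,9,11,2,1,6,9,13,6,5,10], 5, [([], 465, [])], []⟩
def c467 : Clm := ⟨6, 4, true, [1,9,10,11,12,2,1,4,12,13,10,12,4], [1,12,9,13,12,11,2,4,12,7,13,12,11,10], 13, [([], 188, [5,12,8,11,10,12]), ([170,110,100], 162, [1,11,12,11,13,10,12,9,11]), ([228,253,226], 137, [3,5,12,8,13,12,8,11,10])], []⟩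
def c468 : Clm := ⟨4, 6, true, [1,8,13,10,13,12,8,2,4,13,12,6,5,13,2], [1,9,10,11,12,2,1,4,12,13,10,12,4], 5, [([], 467, [])], []⟩
def c469 : Clm := ⟨6, 4, true, [3,9,10,11,10,12,11,10,2,4,6,12,4,13,6], [1,8,13,10,13,12,8,2,4,13,12,6,5,13,2], 5, [([], 468, [])], []⟩
def c470 : Clm := ⟨6, 6, true, [9,13,10,11,2,13,12,13,4,10,4], [9,13,12,8,11,12,11,2,13,4,12,4,8,10], 13, [([], 188, [5,8,10,12,13,5]), ([111,111,170], 162, [1,11,13,12,9,11,10,13]), ([228,253,227], 417, [11,3,12,11,13,10,12])], []⟩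
def c471 : Clm := ⟨6, 6, true, [5,10,13,3,12,8,11,10,2,4,6,12,11,5,11,5], [9,13,10,11,2,13,12,13,4,10,4], 5, [([], 470, [])], []⟩
def c472 : Clm := ⟨6, 4, true, [1,5,11,13,12,11,10,2,4,3,6,12,13,10,12], [3,9,12,8,11,10,12,9,11,2,4,6,13,3,12,7], 15, [([], 188, [5,10,12,13,5,12]), ([104,171,96], 390, [3,5,11]), ([], 468, [8,13,10,11,12,9,13,10])], []⟩
def c473 : Clm := ⟨4, 6, true, [3,9,12,8,11,10,12,9,11,2,1,4,6,13,12,7], [1,5,11,13,12,11,10,2,4,3,6,12,13,10,12], 5, [([], 472, [])], []⟩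
def c474 : Clm := ⟨6, 4, true, [1,5,11,13,12,11,10,2,4,6,12,13,10,12], [3,9,12,8,11,10,12,9,11,2,1,4,6,13,12,7], 5, [([], 473, [])], []⟩
def c475 : Clm := ⟨5, 6, true, [9,12,11,12,9,11,5,10,13,2,4,6,5,9,13], [5,8,10,13,10,12,9,2,6,13,2,1,7,5,13], 17, [([], 395, [1,11]), ([], 188, [8,11,10,13,12,13]), ([], 336, [1,9,10,11,12,8,11,10])], []⟩
def c476 : Clm := ⟨6, 5, true, [5,8,10,13,10,12,9,2,6,13,2,7,5,13,3], [9,12,11,12,9,11,5,10,13,2,4,6,5,9,13], 5, [([], 475, [])], []⟩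
def c477 : Clm := ⟨5, 6, true, [1,9,12,11,5,10,12,9,13,2,1,7,9,13,4,5], [5,8,10,13,10,12,9,2,6,13,2,7,5,13,3], 5, [([], 476, [])], []⟩
def c478 : Clm := ⟨6, 6, true, [3,5,10,13,10,12,11,2,1,13,2,5], [10,12,13,10,2,13,4], 15, [([], 188, [5,10,13,5,12,13]), ([100,110,104], 192, [10,11,12,11,13,10]), ([], 233, [11,13])], []⟩
def c479 : Clm := ⟨6, 6, true, [12,11,3,5,10,2,13,4,10], [3,5,10,13,10,12,11,2,1,13,2,5], 5, [([], 478, [])], []⟩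
def c480 : Clm := ⟨6, 6, true, [1,5,10,12,11,5,12,11,2,4,13,6,6,12,13,7], [10,12,9,13,12,8,2,6,13,6,8,12,4,12], 15, [([], 188, [5,11,5,10,12]), ([111,96], 333, [5,13,12,11,10,12]), ([], 479, [11,10,12,8,11,13,12])], []⟩
def c481 : Clm := ⟨6, 6, true, [1,10,12,11,12,8,13,12,2,4,13,12,13,2,6,5], [1,5,10,12,11,5,12,11,2,4,13,6,6,12,13,7], 5, [([], 480, [])], []⟩
def c482 : Clm := ⟨6, 6, true, [1,13,10,11,2,13,12,4,5,10,4], [1,10,12,11,12,8,13,12,2,4,13,12,13,2,6,5], 5, [([], 481, [])], []⟩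
def c483 : Clm := ⟨6, 6, true, [8,10,11,13,12,9,13,5,13,2,13,7,13,7,12,4], [8,11,10,12,9,13,10,13,2,1,6,13,2,1,7,12], 11, [([], 463, [9,12,11,12,8,11,5,10]), ([], 188, [3,5,8,13,5,12]), ([96,170,111,96], 333, [8,13,3,12,13,10,11])], []⟩
def c484 : Clm := ⟨6, 6, true, [1,11,10,12,9,11,13,12,8,2,6,11,5,4,7,12], [8,10,11,13,12,9,13,5,13,2,13,7,13,7,12,4], 5, [([], 483, [])], []⟩
def c485 : Clm := ⟨6, 6, true, [13,10,12,13,10,12,13,2,1,13,7,5,4,13,6], [1,11,10,12,9,11,13,12,8,2,6,11,5,4,7,12], 5, [([], 484, [])], []⟩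
def c486 : Clm := ⟨6, 6, true, [5,13,12,8,12,11,12,13,2,1,4,7,12,13,2,7], [1,11,12,8,11,5,11,12,9,2,4,7,13,12,6,9,13], 11, [([], 466, [12,8,11,12,13,10,12,9,12]), ([], 188, [3,13,12]), ([110,100], 333, [3,11,12,11,10,13])], []⟩
def c487 : Clm := ⟨6, 6, true, [5,13,12,8,13,12,9,11,10,2,6,13,2,6,12,9,13], [5,13,12,8,12,11,12,13,2,1,4,7,12,13,2,7], 5, [([], 486, [])], []⟩
def c488 : Clm := ⟨6, 6, true, [3,10,13,12,8,11,13,10,2,7,13,7,12,4], [5,13,12,8,13,12,9,11,10,2,6,13,2,6,12,9,13], 5, [([], 487, [])], []⟩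
def c489 : Clm := ⟨6, 5, true, [5,12,9,11,13,12,13,5,13,2,11,5,7,13,4,6], [13,3,5,12,8,11,12,9,2,7,13,7,5,6], 11, [([], 435, [1,11,13,5,10]), ([], 188, [3,9,11,12]), ([104,98], 172, [1,5,10,12,9,13,12,8,11])], []⟩
def c490 : Clm := ⟨5, 6, true, [1,9,10,12,8,13,12,13,2,1,7,13,7,5,6], [5,12,9,11,13,12,13,5,13,2,11,5,7,13,4,6], 5, [([], 489, [])], []⟩
def c491 : Clm := ⟨6, 6, true, [5,8,10,12,9,11,3,2,13,10,13,7,9], [1,8,11,13,12,8,11,12,8,2,4,6,9,12,13], 11, [([], 342, [10,11,3,5,12,13]), ([], 188, [9,13,10,13,12]), ([104,102,100,96], 390, [1,8,11,12,9,12,11,13,10])], []⟩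
def c492 : Clm := ⟨6, 6, true, [1,8,11,13,12,8,11,12,8,2,4,3,6,9,12,13], [5,8,10,12,9,11,3,2,13,10,13,7,9], 5, [([], 491, [])], []⟩
def c493 : Clm := ⟨6, 6, true, [8,12,9,13,10,13,2,11,5,7,9,10], [1,8,11,13,12,8,11,12,8,2,4,3,6,9,12,13], 5, [([], 492, [])], []⟩
def c494 : Clm := ⟨6, 3, true, [12,13,10,12,9,11,5,12,2,13,4,6,5,12], [13,10,12,8,11,5,12,2,6,6,13,5,7,13], 13, [([], 396, [13,12,13,5,10,12,11,12]), ([226,252,226], 330, [13,3,10,11,12,13]), ([], 188, [3,8,13,5,10,12])], []⟩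
def c495 : Clm := ⟨3, 6, true, [13,12,8,13,10,11,12,2,6,6,13,5,7,13], [12,13,10,12,9,11,5,12,2,13,4,6,5,12], 5, [([], 494, [])], []⟩
def c496 : Clm := ⟨6, 3, true, [1,10,11,12,9,11,13,5,12,2,13,2,11,12,6,5], [13,12,8,13,10,11,12,2,6,6,13,5,7,13], 5, [([], 495, [])], []⟩
def c497 : Clm := ⟨6, 6, true, [9,11,5,11,12,11,13,12,9,2,13,12,13,4,6,8], [5,8,12,13,5,12,8,13,2,4,13,7,13,12,9,13], 11, [([], 435, [3,10,11,12,13]), ([], 188, [5,9,11,5,12]), ([170,110,96], 360, [3,8,11,12,11,12,9])], []⟩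
def c498 : Clm := ⟨6, 6, true, [5,8,12,13,5,12,13,2,4,6,5,6,13,6,5], [9,11,5,11,12,11,13,12,9,2,13,12,13,4,6,8], 5, [([], 497, [])], []⟩
def c499 : Clm := ⟨6, 6, true, [5,12,9,11,13,12,13,5,13,2,1,4,6,6,12,13,12], [5,8,12,13,5,12,13,2,4,6,5,6,13,6,5], 5, [([], 498, [])], []⟩
def c500 : Clm := ⟨6, 6, true, [1,5,9,12,11,5,12,9,13,2,1,6,9,13,2,1,6], [5,10,11,12,11,12,8,13,12,2,4,6,13,12,13,2,3], 11, [([], 401, [1,11,13,5,10]), ([], 188, [3,5,9,11,12]), ([98,171], 333, [5,9,12,11,12,13,10,13,12])], []⟩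
def c501 : Clm := ⟨6, 6, true, [5,10,11,12,11,12,8,13,12,2,4,6,13,12,13,2,1], [1,5,9,12,11,5,12,9,13,2,1,6,9,13,2,1,6], 5, [([], 500, [])], []⟩
def c502 : Clm := ⟨6, 6, true, [9,13,5,10,11,12,9,11,13,2,7,11,12,4,9], [5,10,11,12,11,12,8,13,12,2,4,6,13,12,13,2,1], 5, [([], 501, [])], []⟩
def c503 : Clm := ⟨6, 5, true, [5,12,11,10,12,9,13,12,2,1,11,12,7,11,13,4], [5,9,11,3,5,12,2,4,7,7,13,5,12], 13, [([], 466, [3,8,10,11,12,8,13,10]), ([], 188, [11,12,8,12,13,12]), ([111,111,170], 162, [9,12,11,5,10,12,11,12])], []⟩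
def c504 : Clm := ⟨5, 6, true, [5,9,11,5,11,12,11,10,2,6,6,13,2,1,12], [5,12,11,10,12,9,13,12,2,1,11,12,7,11,13,4], 5, [([], 503, [])], []⟩
def c505 : Clm := ⟨6, 5, true, [5,12,11,10,12,9,13,12,2,11,12,7,13,4], [5,9,11,5,11,12,11,10,2,6,6,13,2,1,12], 5, [([], 504, [])], []⟩
def c506 : Clm := ⟨6, 5, true, [1,5,12,11,10,12,9,13,2,1,7,11,12,4,8], [1,5,11,5,12,8,13,12,2,4,13,5,6,5], 13, [([], 466, [9,12,11,3,5,12,9]), ([], 188, [12,9,12,13,12]), ([111,104,171], 172, [10,11,12,11,12,8,13,12])], []⟩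
def c507 : Clm := ⟨5, 6, true, [10,12,13,5,12,8,13,12,2,13,2,1,6,5], [1,5,12,11,10,12,9,13,2,1,7,11,12,4,8], 5, [([], 506, [])], []⟩
def c508 : Clm := ⟨6, 5, true, [1,5,12,11,10,12,9,13,2,7,11,12,4,3,8], [10,12,13,5,12,8,13,12,2,13,2,1,6,5], 5, [([], 507, [])], []⟩
def c509 : Clm := ⟨6, 6, true, [3,9,10,12,11,13,12,13,2,7,11,12,4,9], [8,10,11,3,13,2,1,13,4,6,13,2,5], 13, [([], 466, [5,9,11,12,11,12,8,13]), ([], 188, [11,12,13]), ([96], 360, [12,13,5,13,5,12])], []⟩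
def c510 : Clm := ⟨6, 6, true, [12,8,11,3,12,8,13,2,4,5,6,13,12,9], [3,9,10,12,11,13,12,13,2,7,11,12,4,9], 5, [([], 509, [])], []⟩
def c511 : Clm := ⟨6, 3, true, [1,8,12,11,5,10,12,9,11,5,2,4,13,6,6,13,5], [1,10,11,12,9,13,10,11,2,6,13,2,1,12,7,7], 15, [([], 502, [1,10,11,12,8,12,11]), ([], 463, [8,11,13,12,11,12,8]), ([], 188, [5,12,9,11,12])], []⟩
def c512 : Clm := ⟨3, 6, true, [12,11,3,13,12,9,13,2,4,7,13,6,12,4], [1,8,12,11,5,10,12,9,11,5,2,4,13,6,6,13,5], 5, [([], 511, [])], []⟩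
def c513 : Clm := ⟨6, 3, true, [3,8,12,11,12,13,10,13,2,4,7,9,13,3,7,5], [12,11,3,13,12,9,13,2,4,7,13,6,12,4], 5, [([], 512, [])], []⟩
def c514 : Clm := ⟨5, 6, true, [5,10,13,10,12,11,10,12,8,2,4,6,13,5,6,8], [3,5,10,12,13,10,2,1,4,12,13,7,5,10], 13, [([], 278, [9,13,5,10,12,11,12,8]), ([370], 188, [1,9,11,5,10,12,11,12]), ([98,96], 513, [3,8,12,11,12,9])], []⟩
def c515 : Clm := ⟨6, 5, true, [1,12,11,5,11,12,9,2,4,12,4,13,7,8], [5,10,13,10,12,11,10,12,8,2,4,6,13,5,6,8], 5, [([], 514, [])], []⟩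
def c516 : Clm := ⟨6, 6, true, [1,8,10,11,5,2,11,5,4,7,13,6], [12,11,5,11,12,11,10,2,1,7,13,7,13], 13, [([], 245, [3,5,12,11,12,8,13]), ([], 188, [9,12,13,5,12,13]), ([98,96], 513, [3,8,12,11,13,12,9])], []⟩
def c517 : Clm := ⟨6, 6, true, [12,11,5,11,12,11,2,1,7,13,7,13], [1,8,10,11,5,2,11,5,4,7,13,6], 5, [([], 516, [])], []⟩
def c518 : Clm := ⟨6, 6, true, [5,8,11,5,2,1,13,2,7,13,6], [12,11,5,11,12,11,2,1,7,13,7,13], 5, [([], 517, [])], []⟩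
def c519 : Clm := ⟨6, 6, true, [3,5,10,13,5,2,7,13,12,4,9], [1,5,11,12,11,13,12,13,10,2,13,2,4,7,7,13], 13, [([], 438, [8,12,11,3,13,12,8,13]), ([], 188, [1,12,9,11,12]), ([], 513, [3,5,10,13,12,11,10])], []⟩
def c520 : Clm := ⟨6, 6, true, [5,12,11,5,11,12,2,4,5,13,7,7,13], [3,5,10,13,5,2,7,13,12,4,9], 5, [([], 519, [])], []⟩
def c521 : Clm := ⟨6, 6, true, [3,5,10,13,5,2,1,7,13,12,4,3,9], [5,12,11,5,11,12,2,4,5,13,7,7,13], 5, [([], 520, [])], []⟩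
def c522 : Clm := ⟨6, 6, true, [1,5,9,11,5,13,2,6,6,13,6,12,4], [13,5,12,8,11,13,2,4,12,9,11,13,5,6], 13, [([], 435, [9,12,11,12,8,11]), ([], 188, [9,12]), ([98,96], 513, [3,9,12,11,13,12,8])], []⟩
def c523 : Clm := ⟨6, 6, true, [13,5,12,9,11,5,12,11,2,4,6,12,8,13,2,6], [1,5,9,11,5,13,2,6,6,13,6,12,4], 5, [([], 522, [])], []⟩
def c524 : Clm := ⟨6, 6, true, [1,10,11,5,13,2,11,12,7,9,13,4], [13,5,12,9,11,5,12,11,2,4,6,12,8,13,2,6], 5, [([], 523, [])], []⟩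
def c525 : Clm := ⟨6, 6, true, [9,13,10,13,10,13,2,1,6,13,6,6,5,4], [3,12,11,12,9,12,13,10,2,13,2,6,13,6,13,12], 13, [([], 435, [13,3]), ([], 188, [9,11,12,13]), ([96], 360, [8,12,13,5,13,5,12])], []⟩
def c526 : Clm := ⟨6, 6, true, [1,13,12,9,12,13,2,4,6,5,13,6,5,4,7], [9,13,10,13,10,13,2,1,6,13,6,6,5,4], 5, [([], 525, [])], []⟩
def c527 : Clm := ⟨6, 6, true, [10,11,5,12,11,13,2,4,5,7,11,13,5], [1,8,13,10,11,12,8,2,6,11,12,4,8,13], 13, [([], 518, [5,9,11,5,12,11,12,8,11]), ([], 188, [9,12,11,10]), ([110,104,96], 201, [5,11,12,9,11,12,8,11,13])], []⟩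
def c528 : Clm := ⟨6, 6, true, [1,13,10,11,12,9,2,4,12,11,13,12,7,8], [10,11,5,12,11,13,2,4,5,7,11,13,5], 5, [([], 527, [])], []⟩
def c529 : Clm := ⟨6, 6, true, [8,10,11,13,12,13,12,9,12,2,4,5,6,5,13,2], [1,13,10,11,12,9,2,4,12,11,13,12,7,8], 5, [([], 528, [])], []⟩
def c530 : Clm := ⟨6, 6, true, [3,8,10,12,8,11,13,2,1,7,13,7,7], [8,12,13,10,13,10,12,9,2,1,13,2,6,13,6,13,5], 13, [([], 342, [5,10,13,3,12,11,10]), ([], 188, [1,9,10,13,10,12]), ([98,96], 513, [5,9,12,11,5,12,8,11,13])], []⟩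
def c531 : Clm := ⟨6, 6, true, [8,12,11,10,13,12,9,13,2,4,5,6,13,12,6,11], [3,8,10,12,8,11,13,2,1,7,13,7,7], 5, [([], 530, [])], []⟩
def c532 : Clm := ⟨6, 6, true, [9,12,13,12,13,10,13,12,2,4,3,6,12,4,3], [3,12,13,10,12,11,10,2,6,13,6,5,4], 13, [([], 518, [5,12,9,11,12,9,13,12]), ([], 188, [1,8,12,11,10]), ([111,171], 189, [1,5,9,11,12,8,13,12,13])], []⟩
def c533 : Clm := ⟨6, 6, true, [3,12,13,10,12,11,10,2,1,6,13,6,5,4,3], [9,12,13,12,13,10,13,12,2,4,3,6,12,4,3], 5, [([], 532, [])], []⟩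
def c534 : Clm := ⟨6, 6, true, [9,12,13,12,13,10,13,12,4,6,10,2,12,4], [3,12,13,10,12,11,10,2,1,6,13,6,5,4,3], 5, [([], 533, [])], []⟩
def c535 : Clm := ⟨5, 6, true, [3,5,8,10,11,12,11,2,11,12,8,13,2,6], [5,10,13,3,2,7,9,13,12,4], 13, [([], 330, [5,8,11,5,12,11,12,8,11]), ([], 188, [8,13,12,8,11,12,13,10]), ([111,170,104], 201, [3,8,12,8,13,12])], []⟩
def c536 : Clm := ⟨6, 5, true, [5,10,13,3,2,1,7,9,13,12,4,3], [3,5,8,10,11,12,11,2,11,12,8,13,2,6], 5, [([], 535, [])], []⟩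
def c537 : Clm := ⟨6, 5, true, [8,13,10,12,13,10,12,9,13,2,6,13,6,6,5,4], [5,8,11,3,5,12,2,7,13,4,6,5,8], 13, [([], 463, [3,5,10,13,12,11,10]), ([], 188, [8,11,13,12]), ([111,111,170], 162, [8,10,11,13,12,8,11,10])], []⟩
def c538 : Clm := ⟨5, 6, true, [3,8,11,13,10,12,11,12,8,2,6,13,7,13,2,1,5], [8,13,10,12,13,10,12,9,13,2,6,13,6,6,5,4], 5, [([], 537, [])], []⟩
def c539 : Clm := ⟨6, 6, true, [1,8,10,13,10,12,11,13,12,2,7,13,12,4], [1,12,8,11,5,11,12,2,4,12,9,11,3], 13, [([], 414, [9,10,13,12,9,13,10,13]), ([], 188, [8,12,8,11,12]), ([], 513, [5,10,11,12,13,10])], []⟩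
def c540 : Clm := ⟨6, 6, true, [1,12,8,11,5,11,12,2,1,4,12,9,11], [1,8,10,13,10,12,11,13,12,2,7,13,12,4], 5, [([], 539, [])], []⟩
def c541 : Clm := ⟨6, 6, true, [1,8,10,13,10,12,11,13,12,2,1,7,13,12,4,3], [1,12,8,11,5,11,12,2,1,4,12,9,11], 5, [([], 540, [])], []⟩
def c542 : Clm := ⟨6, 6, true, [9,12,13,12,13,10,13,10,12,2,1,7,9,13], [8,12,11,5,12,11,2,1,6,6,13,4,5], 13, [([], 518, [9,10,11,3,12,11,10,13]), ([], 188, [11,10,13]), ([96], 360, [3,11,13])], []⟩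
def c543 : Clm := ⟨6, 6, true, [8,12,11,5,12,9,11,10,2,4,7,5,8,13], [9,12,13,12,13,10,13,10,12,2,1,7,9,13], 5, [([], 542, [])], []⟩
def c544 : Clm := ⟨6, 6, true, [5,11,12,13,10,12,13,12,2,1,13,7,5,4,6], [12,11,5,2,1,4,13,6,12,13,10], 13, [([], 401, [1,5,8,12,11,5,12,9,13]), ([], 188, [5,9,11,13,12]), ([98,96], 513, [3,5,13,5,12,13,12])], []⟩
def c545 : Clm := ⟨6, 6, true, [5,9,12,13,10,12,8,11,10,2,6,13,12,13,2,4], [5,11,12,13,10,12,13,12,2,1,13,7,5,4,6], 5, [([], 544, [])], []⟩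
def c546 : Clm := ⟨6, 5, true, [1,10,12,11,13,12,9,2,4,6,12,4,3,13], [3,13,5,10,12,13,10,2,4,5,7,9,13], 13, [([], 518, [1,5,9,12,11,5,12,9]), ([], 188, [8,12,11,10,13]), ([111,111,170], 162, [5,11,13,12,9,13,5,10])], []⟩
def c547 : Clm := ⟨5, 6, true, [3,13,5,10,12,13,10,2,4,3,5,7,9,13], [1,10,12,11,13,12,9,2,4,6,12,4,3,13], 5, [([], 546, [])], []⟩
def c548 : Clm := ⟨6, 5, true, [1,10,12,11,13,12,9,2,4,6,12,4,13], [3,13,5,10,12,13,10,2,4,3,5,7,9,13], 5, [([], 547, [])], []⟩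
def c549 : Clm := ⟨6, 6, true, [3,13,12,13,10,12,11,2,7,13,12,4,6], [13,5,12,8,11,13,12,9,2,1,13,4,7,13,12,6], 13, [([], 466, [5,8,13,12,11,12]), ([], 188, [11,12,9,12,11,12]), ([98,96], 513, [3,11,12,11,13,12,13])], []⟩
def c550 : Clm := ⟨6, 6, true, [9,10,12,11,10,12,8,2,4,6,13,7,12,11,10], [3,13,12,13,10,12,11,2,7,13,12,4,6], 5, [([], 549, [])], []⟩
def c551 : Clm := ⟨6, 6, true, [3,13,12,13,10,12,11,2,1,7,13,12,4,3,6], [9,10,12,11,10,12,8,2,4,6,13,7,12,11,10], 5, [([], 550, [])], []⟩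
def c552 : Clm := ⟨6, 6, true, [8,10,11,2,6,11,10], [3,9,11,12,13,12,8,4,6,10,12,13,4], 21, [([], 188, [9]), ([111,111,104,96], 201, [5,11,5,12,13,12,11])], []⟩
def c553 : Clm := ⟨6, 6, true, [5,10,13,3,12,11,10,13,4,6,5,10,12,4], [8,10,11,2,6,11,10], 5, [([], 552, [])], []⟩
def c554 : Clm := ⟨6, 6, true, [8,10,11,10,2,1,6,11,10], [5,10,13,3,12,11,10,13,4,6,5,10,12,4], 5, [([], 553, [])], []⟩
def c555 : Clm := ⟨6, 6, true, [5,8,13,5,10,11,2,1,13,7,9,10], [3,8,10,13,12,9,11,13,10,2,13,6,10,13,4], 43, [([], 188, [5]), ([111,171,102], 189, [11,12,8,11,13,5,12,11,13]), ([], 466, [10,13,12,9,12,13,10,12,8])], []⟩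
def c556 : Clm := ⟨6, 6, true, [8,10,13,3,12,9,11,13,2,11,5,6,10,13,4], [5,8,13,5,10,11,2,1,13,7,9,10], 5, [([], 555, [])], []⟩
def c557 : Clm := ⟨6, 6, true, [5,8,10,13,3,5,2,13,7,9,10], [8,10,13,3,12,9,11,13,2,11,5,6,10,13,4], 5, [([], 556, [])], []⟩
def c558 : Clm := ⟨6, 6, true, [3,12,11,10,12,9,11,10,2,13,6,9,10,13], [3,8,10,13,12,11,13,2,1,13,7,7,10,13,5], 45, [([], 459, [11,12,8,12,13]), ([], 188, [5,8]), ([110,104,100], 201, [9,11,13,12,9,11,13])], []⟩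
def c559 : Clm := ⟨6, 6, true, [3,10,13,12,8,11,13,12,2,11,10,12,4,12,6], [3,12,11,10,12,9,11,10,2,13,6,9,10,13], 5, [([], 558, [])], []⟩
def c560 : Clm := ⟨6, 6, true, [3,12,11,10,12,9,11,10,2,1,13,6,9,10,13], [3,10,13,12,8,11,13,12,2,11,10,12,4,12,6], 5, [([], 559, [])], []⟩
def c561 : Clm := ⟨6, 6, true, [1,12,13,5,10,12,13,12,8,2,1,7,9,13,7,10], [1,8,12,11,5,10,12,13,12,2,11,13,6,13,10], 43, [([], 188, [5,12]), ([171,102], 201, [5,8,13,12,9,11,13,12]), ([], 465, [1,9,13,12,8,13,5])], []⟩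
def c562 : Clm := ⟨6, 6, true, [8,12,11,12,11,5,10,13,12,2,1,11,13,6,13,10], [1,12,13,5,10,12,13,12,8,2,1,7,9,13,7,10], 5, [([], 561, [])], []⟩
def c563 : Clm := ⟨6, 6, true, [5,8,11,12,13,10,12,13,12,2,7,9,13,7,10], [8,12,11,12,11,5,10,13,12,2,1,11,13,6,13,10], 5, [([], 562, [])], []⟩
def c564 : Clm := ⟨6, 6, true, [5,10,13,3,5,12,8,2,11,13,6,13,10], [1,12,11,5,10,12,13,12,9,2,6,13,6,10,12,13], 45, [([], 560, [11,5,11,5,12]), ([], 188, [12,9]), ([111,171,96], 189, [1,9,11,5,11,12,13])], []⟩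
def c565 : Clm := ⟨6, 6, true, [1,12,11,5,10,12,13,12,9,2,1,6,13,6,10,12,13], [5,10,13,3,5,12,8,2,11,13,6,13,10], 5, [([], 564, [])], []⟩
def c566 : Clm := ⟨6, 6, true, [5,13,5,10,11,12,8,2,1,11,13,6,13,10], [1,12,11,5,10,12,13,12,9,2,1,6,13,6,10,12,13], 5, [([], 565, [])], []⟩
def c567 : Clm := ⟨6, 6, true, [10,11,2,6,9,11,5,4], [8,12,13,12,11,10,13,12,11,2,4,6,13,12,6,5,11], 43, [([], 188, [10,12,8,12]), ([96,111,170], 333, [9,10,13,12,11,12,9]), ([370], 502, [10,12,11,12,8,12,13,5])], []⟩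
def c568 : Clm := ⟨6, 6, true, [1,11,5,11,12,8,12,11,13,2,4,12,4,13,7,5,7], [10,11,2,6,9,11,5,4], 5, [([], 567, [])], []⟩
def c569 : Clm := ⟨6, 6, true, [9,12,11,3,13,12,8,13,2,1,6,9,13,2,1], [1,11,5,11,12,8,12,11,13,2,4,12,4,13,7,5,7], 5, [([], 568, [])], []⟩
def c570 : Clm := ⟨5, 6, true, [10,12,9,11,5,12,11,10,4,6,9], [13,5,10,13,2,1,11,10,12,4], 9, [([], 289, [3,10,12,8,11,12,11,10]), ([], 269, [13,5,13,12,8,13,12,9,13]), ([110,100], 192, [3,13,5,12])], []⟩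
def c571 : Clm := ⟨6, 5, true, [5,10,13,5,2,1,11,10,12,4,3], [10,12,9,11,5,12,11,10,4,6,9], 5, [([], 570, [])], []⟩
def c572 : Clm := ⟨5, 6, true, [3,11,13,12,9,12,11,12,4,6,9], [5,10,13,5,2,1,11,10,12,4,3], 5, [([], 571, [])], []⟩
def c573 : Clm := ⟨4, 6, true, [1,12,9,13,5,13,12,8,4,6,9], [8,13,5,10,13,2,1,11,10,12,4], 9, [([], 129, [3,12,9,12,11,12,9,11]), ([252], 122, [1,5,12,8,11,5]), ([96,171,111,96], 192, [3,8,13,5,12])], []⟩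
def c574 : Clm := ⟨6, 4, true, [5,8,10,13,5,2,1,11,10,12,4,3], [1,12,9,13,5,13,12,8,4,6,9], 5, [([], 573, [])], []⟩
def c575 : Clm := ⟨4, 6, true, [12,9,11,13,12,8,13,5,4,6,9], [5,8,10,13,5,2,1,11,10,12,4,3], 5, [([], 574, [])], []⟩
def c576 : Clm := ⟨6, 6, true, [13,3,5,12,8,13,12,4,6,9], [1,5,9,10,13,2,1,11,10,12,4], 9, [([], 293, [9,12,9,13,5,13,12]), ([253], 119, [12,9,11,3,5,12,13]), ([110,170,96], 192, [1,3,5,9,12])], []⟩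
def c577 : Clm := ⟨6, 6, true, [9,11,5,10,13,2,1,11,10,12,4,3], [13,3,5,12,8,13,12,4,6,9], 5, [([], 576, [])], []⟩
def c578 : Clm := ⟨6, 6, true, [1,5,8,12,9,13,12,8,4,6,9], [9,11,5,10,13,2,1,11,10,12,4,3], 5, [([], 577, [])], []⟩
def c579 : Clm := ⟨6, 5, true, [1,5,10,13,5,12,8,2,7,13,6,5,6,10], [11,12,11,12,9,12,13,4,6,5,9], 9, [([], 223, [12,9,11,13,12,13,12]), ([110,104,100], 192, [3,13,12]), ([], 572, [13,3])], []⟩
def c580 : Clm := ⟨5, 6, true, [12,11,12,9,11,12,11,13,4,6,5,9], [1,5,10,13,5,12,8,2,7,13,6,5,6,10], 5, [([], 579, [])], []⟩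
def c581 : Clm := ⟨5, 6, true, [5,11,5,12,9,13,12,11,4,12,4], [5,10,13,5,2,11,5,10,12,4], 7, [([], 328, [9,12,11,13,5,12]), ([], 269, [8,11,12,9,11,12,11,13]), ([110,100], 192, [3,13,5,12])], []⟩
def c582 : Clm := ⟨6, 5, true, [8,11,12,11,10,12,11,12,2,7,13,7,9,10], [5,11,5,12,9,13,12,11,4,12,4], 5, [([], 581, [])], []⟩
def c583 : Clm := ⟨5, 6, true, [1,8,13,5,13,12,8,4,12,4], [8,11,12,11,10,12,11,12,2,7,13,7,9,10], 5, [([], 582, [])], []⟩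
def c584 : Clm := ⟨4, 6, true, [12,13,10,12,11,5,2,6,13,6,6,5,10], [5,8,10,13,5,2,11,5,10,12,4], 7, [([], 145, [10,11,10,12,11,10,12]), ([], 122, [5,12,8,11,3]), ([96,171,111,96], 192, [3,8,13,5,12])], []⟩
def c585 : Clm := ⟨6, 4, true, [1,10,12,11,13,12,9,13,2,7,13,7,9,10], [12,13,10,12,11,5,2,6,13,6,6,5,10], 5, [([], 584, [])], []⟩
def c586 : Clm := ⟨4, 6, true, [10,11,3,10,12,2,7,11,10,12,4,5], [1,10,12,11,13,12,9,13,2,7,13,7,9,10], 5, [([], 585, [])], []⟩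
def c587 : Clm := ⟨6, 6, true, [10,13,10,12,11,10,12,8,4,12,4], [9,11,5,10,13,2,11,5,10,12,4], 7, [([], 297, [3,8,12,8,11,12,11]), ([252], 119, [12,9,11,5,12,13,5]), ([110,170,96], 192, [1,3,5,9,12])], []⟩
def c588 : Clm := ⟨6, 6, true, [1,5,12,13,10,12,13,12,2,7,13,7,9,10], [10,13,10,12,11,10,12,8,4,12,4], 5, [([], 587, [])], []⟩
def c589 : Clm := ⟨6, 6, true, [8,12,8,11,12,9,11,4,12,4], [1,5,12,13,10,12,13,12,2,7,13,7,9,10], 5, [([], 588, [])], []⟩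
def c590 : Clm := ⟨6, 4, true, [1,9,12,11,13,12,13,5,10,2,11,12,4,10,13,2], [5,9,13,12,8,11,12,4,6,5,8,10,4], 15, [([], 361, [9,10,12,13,3,10,12,11,12]), ([111,171,102], 192, [1,5,11,12,9,13,12]), ([], 575, [3,13,12,13,12,9])], []⟩
def c591 : Clm := ⟨4, 6, true, [1,8,11,10,12,9,11,10,12,8,2,7,7,13,5,10], [1,9,12,11,13,12,13,5,10,2,11,12,4,10,13,2], 5, [([], 590, [])], []⟩
def c592 : Clm := ⟨6, 4, true, [1,5,8,10,13,12,8,11,10,12,2,4,5,7,11,13,5,7], [1,8,11,10,12,9,11,10,12,8,2,7,7,13,5,10], 5, [([], 591, [])], []⟩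
def c593 : Clm := ⟨6, 5, true, [1,9,11,5,10,12,13,12,9,2,11,12,4,3,12,4], [9,11,3,12,8,11,13,12,2,1,13,4,12,11,10], 15, [([], 337, [5,11,5,10,12,9,11]), ([98,170,111], 192, [9,11,5,10,12]), ([], 280, [5,9,12,11,5,12,9,13])], []⟩
def c594 : Clm := ⟨5, 6, true, [8,10,12,8,13,12,8,2,11,13,12,4,13], [1,9,11,5,10,12,13,12,9,2,11,12,4,3,12,4], 5, [([], 593, [])], []⟩
def c595 : Clm := ⟨3, 6, true, [9,13,12,11,13,5,2,1,13,6,9,13,4,5], [10,12,8,11,5,12,9,11,4,6,9,10,12,4,5], 13, [([], 192, [10,12,9,13,3,12]), ([], 272, [3,5,13,5,12,13,12]), ([170,104,96], 390, [12,9,11,12,8,11,13])], []⟩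
def c596 : Clm := ⟨6, 3, true, [3,13,12,9,12,11,12,13,2,6,13,6,10,12,6], [9,13,12,11,13,5,2,1,13,6,9,13,4,5], 5, [([], 595, [])], []⟩
def c597 : Clm := ⟨3, 6, true, [9,13,12,9,11,13,5,2,7,13,4,6,6,5], [3,13,12,9,12,11,12,13,2,6,13,6,10,12,6], 5, [([], 596, [])], []⟩
def c598 : Clm := ⟨6, 3, true, [3,9,13,12,11,12,9,2,1,7,9,13,2,12,13], [3,11,12,9,12,11,12,11,2,4,12,11,3,2,5], 15, [([], 361, [1,10,12,8,12,13,12]), ([170,110,100], 192, [5,8,11,10,12,13]), ([372,370], 272, [9,13,12,13,12,9])], []⟩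
def c599 : Clm := ⟨3, 6, true, [1,9,10,11,12,11,13,10,2,7,7,13,7,12,7], [3,9,13,12,11,12,9,2,1,7,9,13,2,12,13], 5, [([], 598, [])], []⟩
def c600 : Clm := ⟨6, 3, true, [1,5,11,10,12,8,13,12,13,2,1,11,12,9,13,2,11], [1,9,10,11,12,11,13,10,2,7,7,13,7,12,7], 5, [([], 599, [])], []⟩
def c601 : Clm := ⟨6, 6, true, [10,11,12,8,11,5,10,2,4,13,12,13,4,7,9], [3,10,12,9,11,10,12,9,2,11,13,2,12,11,10], 15, [([], 334, [12,11,12,9,13,10,13,12]), ([96,170,98], 192, [10,12,13,3,5]), ([372,370], 230, [5,9,13,5,12,13,12,9,13])], []⟩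
def c602 : Clm := ⟨6, 6, true, [1,5,10,12,13,5,12,8,2,11,5,11,12,4], [10,11,12,8,11,5,10,2,4,13,12,13,4,7,9], 5, [([], 601, [])], []⟩
def c603 : Clm := ⟨6, 6, true, [12,8,11,5,12,11,13,2,11,12,9,13,2,3,4], [1,5,10,12,13,5,12,8,2,11,5,11,12,4], 5, [([], 602, [])], []⟩
def c604 : Clm := ⟨3, 6, true, [3,8,12,13,10,11,12,9,2,6,11,13,7,5,4], [12,13,12,8,12,2,4,5,13,7,12,11], 13, [([], 192, [10,12,13,3,12]), ([], 277, [5,9,11,5,11,12,13,12,9]), ([252,227,253], 393, [1,8,12,9,11,13,5,12])], []⟩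
def c605 : Clm := ⟨6, 3, true, [1,9,13,12,9,11,12,11,13,2,11,13,6,5,4,10], [3,8,12,13,10,11,12,9,2,6,11,13,7,5,4], 5, [([], 604, [])], []⟩
def c606 : Clm := ⟨3, 6, true, [3,8,10,12,11,10,12,9,2,4,5,6,13,3,7,5], [1,9,13,12,9,11,12,11,13,2,11,13,6,5,4,10], 5, [([], 605, [])], []⟩
def c607 : Clm := ⟨6, 6, true, [8,10,13,5,12,11,13,2,4,5,13,7,5,8,11], [1,12,8,13,5,10,13,12,2,13,4], 15, [([], 361, [11,5,11,12,9,11,13]), ([96,170,110,96], 192, [11,10,13,12]), ([], 230, [8,10,11,10,12,11,10])], []⟩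
def c608 : Clm := ⟨6, 6, true, [3,12,8,13,5,10,13,12,11,2,13,4,10], [8,10,13,5,12,11,13,2,4,5,13,7,5,8,11], 5, [([], 607, [])], []⟩
def c609 : Clm := ⟨6, 4, true, [1,12,13,10,11,12,13,12,2,4,3,12,7,13], [3,8,10,11,12,9,11,13,2,6,11,13,2,6,13], 15, [([], 606, [13,10,12,8,11,13,12,13]), ([171,96], 192, [3,5,10,12,13,12]), ([373,370], 260, [1,9,11,13,5,10,12,13,12,9])], []⟩
def c610 : Clm := ⟨4, 6, true, [3,8,12,11,5,12,9,2,6,13,4,6,13], [1,12,13,10,11,12,13,12,2,4,3,12,7,13], 5, [([], 609, [])], []⟩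
def c611 : Clm := ⟨6, 6, true, [8,10,13,3,12,8,11,2,4,12,13,6,5,6,11], [10,12,8,13,3,12,9,11,10,2,1,13,4,12,11,10], 15, [([], 391, [1,12,13,10,12,13,10]), ([96,170,110,96], 192, [1,11,13,5,10,12]), ([372,370], 233, [3,5,8,12,11,5,12,9])], []⟩
def c612 : Clm := ⟨6, 6, true, [1,10,12,8,13,10,12,9,12,2,11,13,12,4,13], [8,10,13,3,12,8,11,2,4,12,13,6,5,6,11], 5, [([], 611, [])], []⟩
def c613 : Clm := ⟨6, 6, true, [1,11,13,12,8,13,12,13,2,7,11,12,4,12,8], [1,10,12,8,13,10,12,9,12,2,11,13,12,4,13], 5, [([], 612, [])], []⟩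
def c614 : Clm := ⟨6, 5, true, [8,12,9,11,3,10,13,12,2,6,13,6,5,4,10,12], [1,8,10,12,9,13,5,12,2,13,4], 15, [([], 337, [8,11,13,12,9,11,10]), ([100,110,104], 192, [3,9,10,13,12]), ([372,370], 280, [3,8,10,11,10,12,11,10])], []⟩
def c615 : Clm := ⟨5, 6, true, [1,11,12,9,11,10,12,8,2,13,4,10], [8,12,9,11,3,10,13,12,2,6,13,6,5,4,10,12], 5, [([], 614, [])], []⟩
def c616 : Clm := ⟨6, 6, true, [9,12,13,10,13,10,13,2,4,5,12,13,6,8], [1,8,10,13,12,2,13,4], 15, [([], 606, [11,12,11,12,8,12,11]), ([170,110,100], 192, [5,8,10,11,5,12]), ([], 227, [8,10,11,12,11,10,13])], []⟩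
def c617 : Clm := ⟨6, 6, true, [8,10,13,3,12,11,2,13,4,10], [9,12,13,10,13,10,13,2,4,5,12,13,6,8], 5, [([], 616, [])], []⟩
def c618 : Clm := ⟨6, 6, true, [9,12,13,10,13,10,13,2,4,3,5,12,13,6,8], [8,10,13,3,12,11,2,13,4,10], 5, [([], 617, [])], []⟩
def c619 : Clm := ⟨3, 6, true, [12,8,11,13,12,13,10,2,4,12,4,13,5,13], [9,12,13,10,13,12,9,2,6,13,7,9,10,2], 13, [([], 192, [3,9,10,11,5,12]), ([], 274, [5,8,11,3,5]), ([252,226,253], 258, [3,8,10,12,13,12,9])], []⟩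
def c620 : Clm := ⟨6, 3, true, [9,12,13,10,13,12,9,2,6,13,2,7,9], [12,8,11,13,12,13,10,2,4,12,4,13,5,13], 5, [([], 619, [])], []⟩
def c621 : Clm := ⟨3, 6, true, [1,8,13,5,10,13,2,1,13,4,12,4,10], [9,12,13,10,13,12,9,2,6,13,2,7,9], 5, [([], 620, [])], []⟩
def c622 : Clm := ⟨6, 6, true, [12,11,12,8,13,10,13,10,2,4,7,12,8,13,12,9], [1,10,12,8,13,5,10,12,9,2,11,13,12,4,3], 15, [([], 391, [9,11,12,11,12,9,12,13]), ([110,104], 192, [12,13,10,13,10,13]), ([372,370], 233, [9,11,12,11,12,8,13])], []⟩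
def c623 : Clm := ⟨6, 6, true, [1,10,12,8,13,5,10,12,9,2,1,11,13,12,4], [12,11,12,8,13,10,13,10,2,4,7,12,8,13,12,9], 5, [([], 622, [])], []⟩
def c624 : Clm := ⟨6, 6, true, [3,9,10,11,12,13,10,11,2,4,13,10,12,4,7,9], [1,10,12,8,13,5,10,12,9,2,1,11,13,12,4], 5, [([], 623, [])], []⟩
def c625 : Clm := ⟨3, 6, true, [3,11,12,11,12,9,12,13,2,1,6,13,10,12,9], [1,5,8,12,9,13,12,8,2,7,13,12,4,5,7], 13, [([], 192, [9,12,13,3,10]), ([372,370], 277, [1,9,10,13,5,12,13,10]), ([226,252], 330, [10,11,3,13,12,9,13,12])], []⟩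
def c626 : Clm := ⟨6, 3, true, [1,5,12,8,11,12,2,6,13,2,6,13,3,12], [3,11,12,11,12,9,12,13,2,1,6,13,10,12,9], 5, [([], 625, [])], []⟩
def c627 : Clm := ⟨3, 6, true, [3,11,12,11,12,9,12,13,10,2,6,13,10,12,9], [1,5,12,8,11,12,2,6,13,2,6,13,3,12], 5, [([], 626, [])], []⟩
def c628 : Clm := ⟨6, 6, true, [12,11,13,5,12,9,11,12,2,13,2,7,12,8], [1,8,10,13,5,10,2,6,13,5,7,5,4], 15, [([], 599, [3,12,8,11,12,11,12,9,12]), ([104,100], 192, [12,8,13,3,10,12]), ([372,370], 227, [5,9,11,5,11,12,11,12,9])], []⟩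
def c629 : Clm := ⟨6, 6, true, [1,8,10,13,5,10,12,9,2,11,13,12,4,8,13], [12,11,13,5,12,9,11,12,2,13,2,7,12,8], 5, [([], 628, [])], []⟩
def c630 : Clm := ⟨6, 6, true, [3,10,12,13,10,12,13,10,12,2,1,4,13,6,12,4], [1,8,10,13,5,10,12,9,2,11,13,12,4,8,13], 5, [([], 629, [])], []⟩
def c631 : Clm := ⟨6, 6, true, [12,9,13,3,10,12,8,11,12,2,4,5,7,13,12], [5,9,11,12,9,11,12,13,2,1,13,4,12,11,10], 15, [([], 606, [11,12,8,13]), ([171,100], 192, [3,13,5,10,12]), ([], 230, [5,9,12,11,3,5,12,9])], []⟩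
def c632 : Clm := ⟨6, 6, true, [1,5,10,12,13,5,12,8,2,11,13,12,4,13], [12,9,13,3,10,12,8,11,12,2,4,5,7,13,12], 5, [([], 631, [])], []⟩
def c633 : Clm := ⟨6, 4, true, [1,5,9,11,12,8,11,13,12,2,4,5,7,13,5,6,5], [3,8,12,9,11,10,2,13,7,13,5,4,7], 15, [([], 627, [1,9,10,12,11,5,12,9]), ([98,170,110], 192, [13,3,5,10,12,11,12]), ([373], 260, [10,12,11,3,12,8])], []⟩
def c634 : Clm := ⟨4, 6, true, [3,8,12,9,11,2,13,7,5,4,13,7], [1,5,9,11,12,8,11,13,12,2,4,5,7,13,5,6,5], 5, [([], 633, [])], []⟩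
def c635 : Clm := ⟨6, 4, true, [8,13,12,9,12,11,5,11,2,6,11,12,13,4,5,6], [3,8,12,9,11,2,13,7,5,4,13,7], 5, [([], 634, [])], []⟩
def c636 : Clm := ⟨6, 6, true, [8,13,5,12,13,12,9,13,10,2,7,7,13,2,13], [1,8,10,13,5,10,2,11,5,4], 15, [([], 512, [1,9,13,10,13,12,8,13]), ([111,104,96], 192, [3,8,10,11,12]), ([], 227, [5,8,11,5])], []⟩
def c637 : Clm := ⟨6, 6, true, [5,8,2,1,13,2,1], [8,13,5,12,13,12,9,13,10,2,7,7,13,2,13], 5, [([], 636, [])], []⟩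
def c638 : Clm := ⟨6, 6, true, [1,8,10,13,12,13,12,9,2,1,7,7,13,2,5], [5,8,2,1,13,2,1], 5, [([], 637, [])], []⟩
def c639 : Clm := ⟨6, 6, true, [10,11,3,12,8,11,10,2,11,12,13,7,9,10], [5,8,12,11,12,9,11,12,11,2,1,13,4,12,11,10], 15, [([], 334, [12,9,11,13,10,12]), ([110,102,170], 192, [10,11,3,13,12]), ([372,370], 233, [5,8,11,5,11,12,13,12,9])], []⟩
def c640 : Clm := ⟨6, 6, true, [1,10,12,9,13,12,8,2,11,13,12,4,13], [10,11,3,12,8,11,10,2,11,12,13,7,9,10], 5, [([], 639, [])], []⟩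
def c641 : Clm := ⟨6, 6, true, [10,11,3,12,8,11,2,11,12,13,7,9,10], [1,10,12,9,13,12,8,2,11,13,12,4,13], 5, [([], 640, [])], []⟩
def c642 : Clm := ⟨3, 6, true, [12,9,12,11,13,10,2,13,5,12,11,2], [3,8,11,13,10,12,8,11,13,2,7,13,4,6,8,12], 13, [([], 192, [8,13,3,5,10,12]), ([372,370], 272, [5,9,13,5,12,13,12,9]), ([171,110,102], 360, [1,11,12,9,11,12,11,10,13])], []⟩
def c643 : Clm := ⟨6, 3, true, [13,3,12,8,13,12,13,2,1,11,12,9,13,2,3], [12,9,12,11,13,10,2,13,5,12,11,2], 5, [([], 642, [])], []⟩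
def c644 : Clm := ⟨3, 6, true, [12,9,12,11,13,10,2,13,5,12,11,10,2], [13,3,12,8,13,12,13,2,1,11,12,9,13,2,3], 5, [([], 643, [])], []⟩
def c645 : Clm := ⟨6, 4, true, [8,12,8,11,12,9,2,1,13,4,7,12,11,5], [1,8,10,12,11,12,9,11,10,4,6,5,9,10,4], 15, [([], 361, [5,9,10,12,13,12,8]), ([171,98,96], 192, [1,5,8,12,11,5,13]), ([], 575, [8,12,13,3,12,9])], []⟩
def c646 : Clm := ⟨4, 6, true, [1,5,8,11,13,10,12,13,12,9,2,7,9,13,5,10], [8,12,8,11,12,9,2,1,13,4,7,12,11,5], 5, [([], 645, [])], []⟩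
def c647 : Clm := ⟨6, 4, true, [3,10,11,10,12,8,13,12,2,6,13,2,12,13,4,6], [1,5,8,11,13,10,12,13,12,9,2,7,9,13,5,10], 5, [([], 646, [])], []⟩
def c648 : Clm := ⟨3, 6, true, [8,12,9,13,12,2,1,4,6,13,6,6,12,13], [3,8,12,11,10,12,8,2,4,6,12,13,7,13,5], 13, [([], 192, [10,12,11,3,5,12]), ([373,370], 260, [5,9,10,12,11,5,12,9,13]), ([333,200], 474, [9,12,8,11,10,12,9,13])], []⟩
def c649 : Clm := ⟨6, 3, true, [3,8,12,11,10,12,9,12,2,1,11,13,12,4,9,12], [8,12,9,13,12,2,1,4,6,13,6,6,12,13], 5, [([], 648, [])], []⟩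
def c650 : Clm := ⟨3, 6, true, [8,10,12,13,12,9,13,2,1,4,12,13,2,13,7,12], [3,8,12,11,10,12,9,12,2,1,11,13,12,4,9,12], 5, [([], 649, [])], []⟩
def c651 : Clm := ⟨6, 6, true, [12,9,13,12,11,4,5,6,6,10,13,2], [12,11,5,10,13,12,8,12,2,11,13,12,4,3], 15, [([], 606, [5,11,12,9,13,10,13,12]), ([110,170,104], 192, [3,10,11,13,5,12]), ([372,370], 230, [11,12,11,12,8,13])], []⟩
def c652 : Clm := ⟨6, 6, true, [12,11,5,10,13,12,8,12,2,1,11,13,12,4], [12,9,13,12,11,4,5,6,6,10,13,2], 5, [([], 651, [])], []⟩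
def c653 : Clm := ⟨6, 6, true, [5,11,5,12,9,13,12,11,4,5,6,6,10,13,2], [12,11,5,10,13,12,8,12,2,1,11,13,12,4], 5, [([], 652, [])], []⟩
def c654 : Clm := ⟨3, 6, true, [8,12,9,13,2,4,3,12,11,5,4], [1,5,10,12,8,11,12,13,10,2,6,13,12,8,13,2], 13, [([], 192, [3,11,12,13,10]), ([373,370], 260, [8,13,10,12,13,10,13]), ([210,204,211], 635, [1,5,10,11,12,9,12,11,12,11])], []⟩
def c655 : Clm := ⟨6, 3, true, [5,11,12,9,11,13,5,12,11,2,1,6,13,6,13,2,5], [8,12,9,13,2,4,3,12,11,5,4], 5, [([], 654, [])], []⟩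
def c656 : Clm := ⟨3, 6, true, [5,8,11,5,12,9,11,2,4,3,12,13,2], [5,11,12,9,11,13,5,12,11,2,1,6,13,6,13,2,5], 5, [([], 655, [])], []⟩
def c657 : Clm := ⟨6, 5, true, [9,13,12,11,10,12,8,12,2,1,6,13,12,4,5,10], [1,8,10,12,9,13,5,10,2,11,5,4], 15, [([], 621, [10,11,3,10]), ([98], 192, [9,13,3,10,11,12]), ([], 280, [5,8,11,3,5])], []⟩
def c658 : Clm := ⟨5, 6, true, [5,8,12,9,2,1,13,2,1], [9,13,12,11,10,12,8,12,2,1,6,13,12,4,5,10], 5, [([], 657, [])], []⟩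
def c659 : Clm := ⟨5, 6, true, [10,13,10,12,8,13,10,2,7,7,11,12,13,4,12], [1,5,8,11,12,8,11,13,4,6,10,12,4,9], 15, [([], 169, [9,13,12,11,10,12]), ([170,111], 192, [5,9,11,12,11]), ([], 589, [1,5,9,12,13,5,12,8])], []⟩
def c660 : Clm := ⟨6, 5, true, [12,9,12,13,5,12,9,11,4,12,4,10,13,4], [10,13,10,12,8,13,10,2,7,7,11,12,13,4,12], 5, [([], 659, [])], []⟩
def c661 : Clm := ⟨6, 5, true, [12,8,11,12,9,11,2,11,12,7,11,13,2], [9,12,8,11,12,11,12,9,2,11,13,2,12,11,10], 15, [([], 337, [1,9,13,12,11,10,13,12,8]), ([170,111,96], 192, [3,8,10,12,13,10]), ([372,370], 277, [10,13,10,12,13,10,13])], []⟩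
def c662 : Clm := ⟨5, 6, true, [3,5,10,13,12,9,13,2,11,5,11,12,4], [12,8,11,12,9,11,2,11,12,7,11,13,2], 5, [([], 661, [])], []⟩
def c663 : Clm := ⟨6, 5, true, [10,11,10,12,8,13,12,9,12,4,6,10,2,12,4,12], [3,5,10,13,12,9,13,2,11,5,11,12,4], 5, [([], 662, [])], []⟩
def c664 : Clm := ⟨6, 5, true, [1,9,13,12,8,11,13,10,2,4,3,6,12,8,11], [8,12,13,3,10,12,8,12,13,2,1,13,4,12,11,10], 15, [([], 650, [10,13,3,12,8,12,13]), ([110,170,96], 192, [3,5,8,11,12,13,10]), ([], 277, [3,10,13,10,12,13,10])], []⟩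
def c665 : Clm := ⟨5, 6, true, [10,11,12,9,11,5,10,2,11,13,12,4,13], [1,9,13,12,8,11,13,10,2,4,3,6,12,8,11], 5, [([], 664, [])], []⟩
def c666 : Clm := ⟨6, 5, true, [1,9,13,12,8,11,13,10,2,4,6,12,8,11], [10,11,12,9,11,5,10,2,11,13,12,4,13], 5, [([], 665, [])], []⟩
def c667 : Clm := ⟨6, 6, true, [1,5,8,10,13,12,8,11,10,2,4,6,12,9,11,12], [9,13,12,9,4,6,5,9,10,4], 15, [([], 597, [9,13,3,12,9,13,12,13,10]), ([98,171,111,96], 192, [1,9,11,12]), ([], 578, [12,9,12,13,12,8,11,12])], []⟩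
def c668 : Clm := ⟨6, 6, true, [3,11,10,12,8,12,13,2,7,9,13,5,10], [1,5,8,10,13,12,8,11,10,2,4,6,12,9,11,12], 5, [([], 667, [])], []⟩
def c669 : Clm := ⟨6, 6, true, [9,10,12,8,13,10,12,11,2,6,13,2,1,7,5,13], [3,9,10,13,12,9,11,10,2,1,13,4,12,11,10], 15, [([], 361, [11,3,10,12,8,12,13,12]), ([111,170,102], 192, [3,8,10,11,13,12]), ([], 227, [5,12,9,11,12,9,13,12])], []⟩
def c670 : Clm := ⟨6, 6, true, [10,13,5,10,12,8,2,11,13,12,4,13], [9,10,12,8,13,10,12,11,2,6,13,2,1,7,5,13], 5, [([], 669, [])], []⟩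
def c671 : Clm := ⟨6, 6, true, [9,10,12,8,13,10,12,11,2,6,13,2,7,5,13,3], [10,13,5,10,12,8,2,11,13,12,4,13], 5, [([], 670, [])], []⟩
def c672 : Clm := ⟨6, 5, true, [3,9,11,10,12,8,13,12,2,6,13,2,12,13,4], [1,8,12,8,13,5,13,12,13,4,6,5,9,10,4], 15, [([], 606, [11,12,8,13,12]), ([171,110,100], 192, [11,3,13,12]), ([], 572, [3,5,9,12,13,5,12,8])], []⟩
def c673 : Clm := ⟨5, 6, true, [1,11,10,12,11,12,9,2,7,9,13,5,10], [3,9,11,10,12,8,13,12,2,6,13,2,12,13,4], 5, [([], 672, [])], []⟩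
def c674 : Clm := ⟨6, 5, true, [10,12,8,11,3,10,12,9,2,1,4,12,13,7,7,13], [1,11,10,12,11,12,9,2,7,9,13,5,10], 5, [([], 673, [])], []⟩
def c675 : Clm := ⟨6, 5, true, [3,5,9,13,5,2,4,12,11,13,4,5], [9,12,8,11,12,11,10,2,11,13,2,12,11,10], 15, [([], 391, [1,13,10,11]), ([110,102,170], 192, [1,12,13,10,13,10,12]), ([], 277, [5,9,12,11,3,5,12,9])], []⟩
def c676 : Clm := ⟨5, 6, true, [11,12,8,13,12,9,11,13,2,11,5,11,12,4], [3,5,9,13,5,2,4,12,11,13,4,5], 5, [([], 675, [])], []⟩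
def c677 : Clm := ⟨6, 5, true, [3,5,9,13,5,2,1,4,12,13,4,5], [11,12,8,13,12,9,11,13,2,11,5,11,12,4], 5, [([], 676, [])], []⟩
def c678 : Clm := ⟨6, 4, true, [1,12,9,13,12,11,13,5,10,2,13,6,13,5,4,10], [3,8,12,9,11,10,2,13,5,10,12,4,3], 15, [([], 644, [1,10,11,12,8,11,12,11,10]), ([104,96], 192, [1,11,5,11,12,13,10]), ([373], 260, [1,8,13,5,12,13,10])], []⟩
def c679 : Clm := ⟨4, 6, true, [3,8,12,9,11,2,13,5,10,12,4], [1,12,9,13,12,11,13,5,10,2,13,6,13,5,4,10], 5, [([], 678, [])], []⟩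
def c680 : Clm := ⟨3, 6, true, [9,10,11,3,5,12,2,4,6,13,6,12,11], [9,13,3,10,12,9,11,12,8,2,4,7,13,7,8], 13, [([], 192, [8,12,11,3,5]), ([], 586, [9,12,11,12,8,13]), ([211,332,332,204], 592, [9,12,9,13,5,10,12,11])], []⟩
def c681 : Clm := ⟨6, 3, true, [9,13,3,10,12,9,11,12,8,2,4,3,7,13,7,8], [9,10,11,3,5,12,2,4,6,13,6,12,11], 5, [([], 680, [])], []⟩
def c682 : Clm := ⟨3, 6, true, [1,11,12,9,11,12,13,10,11,2,7,13,2,12,6,11], [9,13,3,10,12,9,11,12,8,2,4,3,7,13,7,8], 5, [([], 681, [])], []⟩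
def c683 : Clm := ⟨6, 6, true, [1,8,10,12,11,12,8,11,2,1,7,13,6,5,4], [8,11,5,11,12,8,11,13,4,6,10,12,4], 15, [([], 243, [5,10,11,12,11,12,13]), ([111,102,170], 192, [12,8,11,3,12]), ([], 589, [3,5,12,13,5,12,8,13])], []⟩
def c684 : Clm := ⟨6, 6, true, [8,11,5,11,12,8,13,4,6,10,12,4,3], [1,8,10,12,11,12,8,11,2,1,7,13,6,5,4], 5, [([], 683, [])], []⟩
def c685 : Clm := ⟨6, 6, true, [1,8,10,12,11,12,8,11,2,7,13,6,5,4,3], [8,11,5,11,12,8,13,4,6,10,12,4,3], 5, [([], 684, [])], []⟩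
def c686 : Clm := ⟨3, 6, true, [3,8,10,12,9,11,13,5,2,1,13,2,12,11,2], [9,12,9,13,10,11,12,11,2,13,2,7,13,4,12], 13, [([], 192, [1,3,5,12]), ([], 583, [5,9,11,13,12,13,5,12,8]), ([252,228,253,226], 330, [8,11,13,12,8,11,13,12])], []⟩
def c687 : Clm := ⟨6, 3, true, [1,8,10,13,12,11,10,12,2,1,13,7,5,4,10,11], [3,8,10,12,9,11,13,5,2,1,13,2,12,11,2], 5, [([], 686, [])], []⟩
def c688 : Clm := ⟨3, 6, true, [3,8,10,12,9,11,13,5,2,1,13,2,12,11,10,2], [1,8,10,13,12,11,10,12,2,1,13,7,5,4,10,11], 5, [([], 687, [])], []⟩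
def c689 : Clm := ⟨6, 6, true, [9,11,13,12,11,12,9,4,10,13,2,6], [3,10,12,8,13,12,9,11,10,2,1,13,4,12,11,10], 15, [([], 337, [1,10,12,9,11,5,12,11]), ([110,104,98,96], 192, [3,10,11,13,12]), ([372,370], 233, [12,8,12,11,12,9,13,12])], []⟩
def c690 : Clm := ⟨6, 6, true, [10,12,8,13,10,12,9,12,2,11,13,12,4,13], [9,11,13,12,11,12,9,4,10,13,2,6], 5, [([], 689, [])], []⟩
def c691 : Clm := ⟨6, 6, true, [5,9,12,11,10,12,8,2,4,3,13,6,12,4,8], [5,10,12,9,13,10,12,9,2,11,13,12,4,3], 15, [([], 334, [1,5,12,9,13,12,9,11,10,12]), ([104,171,110,96], 192, [5,13,3,5,10,12]), ([], 230, [11,12,11,12,8])], []⟩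
def c692 : Clm := ⟨6, 6, true, [5,10,12,9,13,10,12,9,2,1,11,13,12,4], [5,9,12,11,10,12,8,2,4,3,13,6,12,4,8], 5, [([], 691, [])], []⟩
def c693 : Clm := ⟨6, 6, true, [12,11,12,8,13,2,4,5,12,13,2,7,5], [5,10,12,9,13,10,12,9,2,1,11,13,12,4], 5, [([], 692, [])], []⟩
def c694 : Clm := ⟨6, 5, true, [1,9,10,12,9,11,2,1,7,7,13,12,8,7], [5,11,12,9,11,12,11,12,2,11,13,12,4,3], 15, [([], 621, [1,8,12,8,13,10,11,12,9]), ([170,110,170], 192, [5,9,10,11,13,12]), ([], 274, [3,12,11,12,8,11])], []⟩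
def c695 : Clm := ⟨5, 6, true, [5,11,12,9,11,12,11,12,2,1,11,13,12,4], [1,9,10,12,9,11,2,1,7,7,13,12,8,7], 5, [([], 694, [])], []⟩
def c696 : Clm := ⟨3, 6, true, [1,12,8,11,12,9,11,12,8,4,10,12,13,2], [8,13,10,12,11,12,9,12,2,1,6,13,6,13,2,3], 13, [([], 192, [3,9,11,10,12]), ([372,370], 274, [12,11,3,12,8]), ([228], 663, [11,10,12,13,10,12,13])], []⟩
def c697 : Clm := ⟨6, 3, true, [8,13,10,12,11,12,9,12,2,1,6,13,6,13,2,1], [1,12,8,11,12,9,11,12,8,4,10,12,13,2], 5, [([], 696, [])], []⟩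
def c698 : Clm := ⟨3, 6, true, [12,11,12,8,12,4,10,12,13,2], [8,13,10,12,11,12,9,12,2,1,6,13,6,13,2,1], 5, [([], 697, [])], []⟩
def c699 : Clm := ⟨3, 6, true, [13,12,9,13,5,12,13,12,13,2,1,6,13,12,4,5,8,10], [9,11,12,11,5,11,5,12,2,4,13,12,9,11], 13, [([], 192, [11,3,10,12,11,12]), ([373], 260, [5,10,13,5,12,11,12,8]), ([210,205,211,202], 647, [8,10,11,5,12,9,13,5])], []⟩
def c700 : Clm := ⟨6, 3, true, [9,11,12,11,5,11,5,12,2,4,13,3,12,9,11], [13,12,9,13,5,12,13,12,13,2,1,6,13,12,4,5,8,10], 5, [([], 699, [])], []⟩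
def c701 : Clm := ⟨3, 6, true, [3,8,10,11,12,9,11,13,10,2,6,13,2,6,13,4,13], [9,11,12,11,5,11,5,12,2,4,13,3,12,9,11], 5, [([], 700, [])], []⟩
def c702 : Clm := ⟨3, 6, true, [3,13,12,9,2,1,11,5,6], [1,8,10,13,5,12,2,13,4], 15, [([], 159, [3,9,10,13,12,9,13,5]), ([111,104], 192, [3,8,10,13,12]), ([], 227, [1,8,10,11,10,12,11,10])], []⟩
def c703 : Clm := ⟨6, 3, true, [8,10,13,3,5,12,11,2,13,4,10], [3,13,12,9,2,1,11,5,6], 5, [([], 702, [])], []⟩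
def c704 : Clm := ⟨3, 6, true, [3,13,10,12,9,2,11,5,6], [8,10,13,3,5,12,11,2,13,4,10], 5, [([], 703, [])], []⟩
def c705 : Clm := ⟨6, 6, true, [1,9,12,13,10,13,12,13,2,13,4,6,5,6,10,11], [8,10,13,5,12,2,13,4], 15, [([], 334, [3,11,12,9,11,12,8]), ([171,110,100], 192, [1,8,10,13,10,12]), ([372,370], 227, [1,8,10,11,12,11,10])], []⟩
def c706 : Clm := ⟨6, 6, true, [3,8,10,13,5,12,11,2,13,4,10], [1,9,12,13,10,13,12,13,2,13,4,6,5,6,10,11], 5, [([], 705, [])], []⟩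
def c707 : Clm := ⟨6, 6, true, [9,11,13,10,12,11,10,12,2,1,13,4,6,5,6,11], [3,8,10,13,5,12,11,2,13,4,10], 5, [([], 706, [])], []⟩
def c708 : Clm := ⟨6, 5, true, [3,9,13,12,9,11,12,11,2,7,7,11,5,11,12], [9,13,3,12,8,13,12,13,2,1,4,12,13,5,10], 15, [([], 698, [3,8,13,10,12,8,11,12]), ([102,170,96], 192, [5,9,11,5,10,12,11]), ([], 280, [11,12,11,12,8,13])], []⟩
def c709 : Clm := ⟨5, 6, true, [1,8,10,12,13,5,10,12,9,2,11,13,12,4], [3,9,13,12,9,11,12,11,2,7,7,11,5,11,12], 5, [([], 708, [])], []⟩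
def c710 : Clm := ⟨3, 6, true, [11,3,10,13,12,2,13,6,5,4,12,7], [9,11,12,8,13,2,4,6,9,12,13,6,10], 13, [([], 192, [5,12,13,3,5]), ([], 572, [8,12,13,12,9]), ([253,228,252,227], 330, [3,8,12,9,13,5,10,13,12])], []⟩
def c711 : Clm := ⟨6, 3, true, [1,12,8,11,10,12,8,13,5,2,4,13,12,13,4,6,5], [11,3,10,13,12,2,13,6,5,4,12,7], 5, [([], 710, [])], []⟩
def c712 : Clm := ⟨3, 6, true, [1,8,13,10,13,10,12,9,2,4,12,4,3,11,12,4], [1,12,8,11,10,12,8,13,5,2,4,13,12,13,4,6,5], 5, [([], 711, [])], []⟩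
def c713 : Clm := ⟨6, 6, true, [9,12,11,13,12,9,12,2,1,11,13,7,12,4,5,9], [1,9,10,13,10,12,9,2,11,13,12,4,3], 15, [([], 650, [10,13,12,9,12,11,12,11]), ([100], 192, [1,3,8,10,12]), ([], 227, [12,11,12,8])], []⟩
def c714 : Clm := ⟨6, 6, true, [1,9,10,13,10,12,9,2,1,11,13,12,4], [9,12,11,13,12,9,12,2,1,11,13,7,12,4,5,9], 5, [([], 713, [])], []⟩
def c715 : Clm := ⟨6, 6, true, [9,12,11,13,5,12,9,2,1,7,13,12,9,12,4,5], [1,9,10,13,10,12,9,2,1,11,13,12,4], 5, [([], 714, [])], []⟩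
def c716 : Clm := ⟨5, 6, true, [3,12,9,13,12,9,13,12,2,1,4,12,7,13,4,6], [10,12,13,10,12,2,13,4], 15, [([], 156, [1,12,9,13,12,8]), ([111,170,104], 192, [10,13,3,12]), ([372,370], 233, [1,10,11,5,12,11,10])], []⟩
def c717 : Clm := ⟨6, 5, true, [10,12,13,3,10,12,11,2,13,4,10], [3,12,9,13,12,9,13,12,2,1,4,12,7,13,4,6], 5, [([], 716, [])], []⟩
def c718 : Clm := ⟨6, 6, true, [1,5,12,8,13,12,9,11,2,4,13,12,13,2,11,10], [1,5,13,12,8,13,12,11,13,4,6,5,9,10,4], 15, [([], 391, [8,11,3,13,12,8,11,12]), ([96], 192, [5,9,12,13,3,5]), ([], 578, [11,13])], []⟩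
def c719 : Clm := ⟨6, 6, true, [1,10,13,12,13,12,8,12,13,2,7,9,13,5,10], [1,5,12,8,13,12,9,11,2,4,13,12,13,2,11,10], 5, [([], 718, [])], []⟩
def c720 : Clm := ⟨6, 5, true, [8,10,12,8,11,3,5,2,4,5,7,12,13,5], [1,8,10,12,9,13,10,2,11,5,4], 15, [([], 212, [1,8,10,13,12,13]), ([171,110,104], 192, [3,5,9,10,13,10,12]), ([], 280, [5,8,13,5])], []⟩
def c721 : Clm := ⟨5, 6, true, [1,5,8,12,9,11,13,2,1,13,2,1], [8,10,12,8,11,3,5,2,4,5,7,12,13,5], 5, [([], 720, [])], []⟩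
def c722 : Clm := ⟨6, 5, true, [8,10,12,11,3,5,12,8,2,4,3,5,12,13,4], [1,5,8,12,9,11,13,2,1,13,2,1], 5, [([], 721, [])], []⟩
def c723 : Clm := ⟨6, 5, true, [10,11,12,9,11,13,12,2,4,5,7,12,13,5], [3,9,10,11,12,13,10,13,2,11,5,4], 15, [([], 212, [11,13,12,11,10,12,8]), ([111,171], 192, [3,5,9,10,13,12]), ([], 274, [5,8,13,5])], []⟩
def c724 : Clm := ⟨5, 6, true, [5,9,10,13,12,11,13,2,1,13,2,1], [10,11,12,9,11,13,12,2,4,5,7,12,13,5], 5, [([], 723, [])], []⟩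
def c725 : Clm := ⟨6, 5, true, [12,11,13,10,12,9,13,2,4,3,5,12,13,4], [5,9,10,13,12,11,13,2,1,13,2,1], 5, [([], 724, [])], []⟩
def c726 : Clm := ⟨6, 6, true, [9,11,13,12,8,11,2,6,13,2,6,13,3], [1,10,12,13,12,2,13,4], 15, [([], 656, [1,9,12,11,10,12,11]), ([98,170,111,96], 192, [5,10,11,5,12]), ([372,370], 233, [10,11,12,11,10,13])], []⟩
def c727 : Clm := ⟨6, 6, true, [1,10,11,12,13,12,2,13,4,10], [9,11,13,12,8,11,2,6,13,2,6,13,3], 5, [([], 726, [])], []⟩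
def c728 : Clm := ⟨6, 6, true, [9,11,13,12,8,11,2,6,13,2,1,6,13], [1,10,11,12,13,12,2,13,4,10], 5, [([], 727, [])], []⟩
def c729 : Clm := ⟨6, 6, true, [10,13,5,12,11,5,10,2,11,12,7,11,13,7], [10,12,13,5,12,2,13,4], 15, [([], 621, [9,10,13,3,12,8,11,13]), ([104,171,110], 192, [1,10,13,10,12]), ([], 233, [1,10,11,12,11,10])], []⟩
def c730 : Clm := ⟨6, 6, true, [3,10,12,13,5,12,11,2,13,4,10], [10,13,5,12,11,5,10,2,11,12,7,11,13,7], 5, [([], 729, [])], []⟩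
def c731 : Clm := ⟨5, 6, true, [10,11,3,5,12,9,11,2,4,7,12,7,13,4], [12,9,11,12,9,11,12,11,2,1,13,4,12,11,10], 15, [([], 156, [1,13,12,13,10,11,12,9]), ([111,170], 192, [8,10,11,3,13,12]), ([], 227, [5,9,11,5,11,12,13,12,9])], []⟩
def c732 : Clm := ⟨6, 5, true, [1,10,13,12,8,2,11,13,12,4,13], [10,11,3,5,12,9,11,2,4,7,12,7,13,4], 5, [([], 731, [])], []⟩
def c733 : Clm := ⟨5, 6, true, [3,9,10,12,8,13,12,9,11,2,4,12,13,4,12], [1,10,13,12,8,2,11,13,12,4,13], 5, [([], 732, [])], []⟩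
def c734 : Clm := ⟨6, 3, true, [11,3,10,12,8,12,13,2,6,13,6,5,4,8,12], [3,9,10,12,13,10,2,6,6,13,2,1,12,11], 15, [([], 334, [9,13,10,12,8,13,12]), ([111,171,102], 192, [9,12,9,11,3,10,12]), ([372,370], 272, [3,5,8,12,13,5,12,13])], []⟩
def c735 : Clm := ⟨3, 6, true, [3,9,10,12,13,10,2,6,6,13,2,12,11,3], [11,3,10,12,8,12,13,2,6,13,6,5,4,8,12], 5, [([], 734, [])], []⟩
def c736 : Clm := ⟨6, 3, true, [5,8,13,3,10,12,9,12,11,2,13,6,9,12,4,12,11], [3,9,10,12,13,10,2,6,6,13,2,12,11,3], 5, [([], 735, [])], []⟩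
def c737 : Clm := ⟨6, 6, true, [1,12,9,12,13,10,12,13,2,11,5,6,13,2,3], [1,5,9,11,12,9,11,12,13,2,1,4,12,13,5,10], 15, [([], 682, [1,11,12,8,11,5,11]), ([111,98], 192, [5,11,10,12,13]), ([], 230, [3,9,11,12,13,12,9])], []⟩
def c738 : Clm := ⟨6, 6, true, [12,13,5,10,13,12,8,2,11,13,12,4], [1,12,9,12,13,10,12,13,2,11,5,6,13,2,3], 5, [([], 737, [])], []⟩
def c739 : Clm := ⟨6, 6, true, [1,12,9,12,13,10,12,13,2,11,5,6,13,2,1], [12,13,5,10,13,12,8,2,11,13,12,4], 5, [([], 738, [])], []⟩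
def c740 : Clm := ⟨6, 5, true, [1,5,12,8,13,5,12,11,10,2,1,7,7,13,12,8,7], [8,11,5,12,9,13,5,12,11,4,6,10,12,4,9], 15, [([], 735, [3,9,12,8,11,13,12,11]), ([170,104,96], 192, [1,11,5,11,12]), ([], 583, [3,8,12,13,12,9,11])], []⟩
def c741 : Clm := ⟨5, 6, true, [1,8,11,5,11,12,8,11,13,4,12,4,10,13,4], [1,5,12,8,13,5,12,11,10,2,1,7,7,13,12,8,7], 5, [([], 740, [])], []⟩
def c742 : Clm := ⟨5, 6, true, [11,10,12,13,5,2,4,7,12,13,5,12,9], [5,10,12,8,13,10,12,2,13,4], 15, [([], 169, [1,8,13,10,12,13,10]), ([110,102,170], 192, [3,11,10,13,12]), ([], 230, [1,8,10,11,5,12,11,10])], []⟩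
def c743 : Clm := ⟨6, 5, true, [3,10,12,8,11,10,12,13,5,2,13,4,10], [11,10,12,13,5,2,4,7,12,13,5,12,9], 5, [([], 742, [])], []⟩
def c744 : Clm := ⟨3, 6, true, [3,8,12,9,13,10,11,2,1,11,12,13,4], [8,12,9,11,12,11,5,11,2,1,11,12,4,12,6,11], 13, [([], 192, [5,11,3,12,13,10]), ([], 277, [5,8,10,11,5,12,13,10]), ([252,227], 433, [8,12,8,11,13,12,13,5])], []⟩
def c745 : Clm := ⟨6, 3, true, [1,8,10,11,10,12,13,12,9,2,4,5,7,13,6,6,12], [3,8,12,9,13,10,11,2,1,11,12,13,4], 5, [([], 744, [])], []⟩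
def c746 : Clm := ⟨3, 6, true, [3,8,12,9,13,10,11,2,11,12,11,13,4], [1,8,10,11,10,12,13,12,9,2,4,5,7,13,6,6,12], 5, [([], 745, [])], []⟩
def c747 : Clm := ⟨6, 5, true, [8,11,12,11,10,13,2,1,13,7,5,4,10,2], [3,5,10,13,12,13,10,2,11,13,12,4,3], 15, [([], 698, [13,10,13,12,9,12,11,12]), ([104], 192, [12,13,3,10]), ([372,370], 277, [1,8,10,13,5,12,13,10])], []⟩
def c748 : Clm := ⟨5, 6, true, [3,5,10,13,12,13,10,2,1,11,13,12,4], [8,11,12,11,10,13,2,1,13,7,5,4,10,2], 5, [([], 747, [])], []⟩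
def c749 : Clm := ⟨5, 6, true, [5,11,12,11,10,2,1,4,12,6,13,12,6,5], [1,13,12,9,11,13,12,11,13,4,6,10,12,4,9], 15, [([], 156, [3,12,11,13,12,8]), ([110,170,96], 192, [3,5,9,13,12]), ([], 589, [3,8,11,12,13,12,9])], []⟩
def c750 : Clm := ⟨6, 5, true, [5,11,12,8,12,11,12,4,12,4,10,13,4], [5,11,12,11,10,2,1,4,12,6,13,12,6,5], 5, [([], 749, [])], []⟩
def c751 : Clm := ⟨6, 5, true, [12,11,10,12,9,11,13,12,2,13,7,12,7,11,2], [8,10,12,9,13,5,12,2,13,4], 15, [([], 597, [8,10,11,3,12,9,12,13]), ([100,96], 192, [1,9,13,10,13,10,12]), ([372,370], 280, [3,8,10,11,12,11,10])], []⟩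
def c752 : Clm := ⟨5, 6, true, [11,12,9,11,10,12,8,2,13,4,10], [12,11,10,12,9,11,13,12,2,13,7,12,7,11,2], 5, [([], 751, [])], []⟩
def c753 : Clm := ⟨3, 6, true, [9,10,13,12,9,13,12,9,2,7,13,2,7,5,4], [3,8,12,13,10,12,9,13,12,2,6,11,13,12,11,2], 13, [([], 192, [5,10,12,13,3,12]), ([373,370], 260, [5,9,10,12,11,5,12,9,11]), ([200,332,204], 592, [8,10,11,5,12,13])], []⟩
def c754 : Clm := ⟨6, 3, true, [9,12,13,5,12,8,13,4,7,10,2,12,4,5], [9,10,13,12,9,13,12,9,2,7,13,2,7,5,4], 5, [([], 753, [])], []⟩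
def c755 : Clm := ⟨3, 6, true, [1,8,12,9,11,13,12,9,2,4,13,7,5,13,7,8], [9,12,13,5,12,8,13,4,7,10,2,12,4,5], 5, [([], 754, [])], []⟩
def c756 : Clm := ⟨6, 5, true, [9,11,5,11,12,13,10,13,2,4,5,6,11,12,11], [1,8,10,11,12,13,10,12,9,2,1,13,4,12,11,10], 15, [([], 650, [1,9,11,5,11,12,8,11,13,12]), ([96,170,110], 192, [1,9,11,13,5,10,12]), ([372,370], 280, [1,5,9,12,11,5,12,9])], []⟩
def c757 : Clm := ⟨5, 6, true, [1,8,10,12,13,10,12,9,12,2,11,13,12,4,13], [9,11,5,11,12,13,10,13,2,4,5,6,11,12,11], 5, [([], 756, [])], []⟩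
def c758 : Clm := ⟨6, 5, true, [9,11,13,12,2,1,13,2,12,6,11], [1,8,10,12,13,10,12,9,12,2,11,13,12,4,13], 5, [([], 757, [])], []⟩
def c759 : Clm := ⟨3, 6, true, [10,12,9,12,13,3,10,2,4,13,3,12,11,2], [5,11,12,9,13,12,13,12,2,1,13,2,6,13,12,8], 13, [([], 192, [3,8,11,10,13,12]), ([372,370], 272, [8,10,11,3,12,11,10]), ([171,111,104,96], 605, [3,5,10,13,12,9,11,10,12])], []⟩
def c760 : Clm := ⟨6, 3, true, [11,12,8,11,5,10,12,13,2,4,12,9,13,2,7], [10,12,9,12,13,3,10,2,4,13,3,12,11,2], 5, [([], 759, [])], []⟩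
def c761 : Clm := ⟨3, 6, true, [8,11,12,9,11,5,10,2,4,7,13,5,12,9,13], [11,12,8,11,5,10,12,13,2,4,12,9,13,2,7], 5, [([], 760, [])], []⟩
def c762 : Clm := ⟨5, 6, true, [3,12,13,12,9,12,11,2,1,11,13,7,12,8], [5,11,12,9,11,13,5,12,13,4,6,10,12,4,9], 15, [([], 171, [10,13,12,13,10,12]), ([98,171,96], 192, [5,9,11,3,12]), ([], 589, [12,9,11,12,13,12,8,12])], []⟩
def c763 : Clm := ⟨6, 5, true, [1,10,11,10,12,13,10,12,8,4,12,4,10,13,4], [3,12,13,12,9,12,11,2,1,11,13,7,12,8], 5, [([], 762, [])], []⟩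
def c764 : Clm := ⟨6, 4, true, [1,12,8,11,12,11,13,12,13,2,13,2,4,6,9,13], [3,8,12,11,12,9,12,2,6,13,7,13,12,4], 15, [([], 391, [5,12,8,13,12,8,11,10,12]), ([98,171,96], 192, [3,11,10,12,13,12]), ([373], 260, [9,10,12,13,3,12,9])], []⟩
def c765 : Clm := ⟨4, 6, true, [3,8,12,11,5,12,9,2,6,13,7,5,4], [1,12,8,11,12,11,13,12,13,2,13,2,4,6,9,13], 5, [([], 764, [])], []⟩
def c766 : Clm := ⟨3, 6, true, [12,9,12,11,13,10,2,13,10,12,11,2], [1,12,13,5,10,12,11,2,7,13,2,6,5,8,11], 13, [([], 192, [1,8,13,5,12]), ([], 586, [3]), ([332,332,210,204], 469, [5,12,9,13,12])], []⟩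
def c767 : Clm := ⟨6, 3, true, [9,10,11,12,11,13,12,9,2,4,5,7,7,13,2,12], [12,9,12,11,13,10,2,13,10,12,11,2], 5, [([], 766, [])], []⟩
def c768 : Clm := ⟨3, 6, true, [12,9,12,11,13,10,2,13,10,12,11,10,2], [9,10,11,12,11,13,12,9,2,4,5,7,7,13,2,12], 5, [([], 767, [])], []⟩
def c769 : Clm := ⟨6, 6, true, [10,12,8,11,3,10,12,13,2,1,7,7,13,4], [10,13,12,8,12,2,11,13,12,4,3], 15, [([], 391, [1,13,12,8,12,11,13]), ([171,104,96], 192, [8,13,3,10,12]), ([372,370], 227, [13,12,11,12,8])], []⟩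
def c770 : Clm := ⟨6, 6, true, [10,13,12,8,12,2,1,11,13,12,4], [10,12,8,11,3,10,12,13,2,1,7,7,13,4], 5, [([], 769, [])], []⟩
def c771 : Clm := ⟨6, 6, true, [3,10,12,8,13,5,12,11,2,7,7,11,13,2], [10,13,12,8,12,2,1,11,13,12,4], 5, [([], 770, [])], []⟩
def c772 : Clm := ⟨6, 5, true, [8,10,11,3,12,13,2,1,13,4,7,12,11], [8,10,13,12,9,13,12,9,2,1,13,4,12,11,10], 15, [([], 761, [9,11,13,10,12,11,10]), ([104,102], 192, [9,10,12,11,5,13]), ([], 274, [5,9,12,11,5,12,9,11,13])], []⟩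
def c773 : Clm := ⟨5, 6, true, [8,11,10,12,8,13,12,11,2,11,13,12,4,13], [8,10,11,3,12,13,2,1,13,4,7,12,11], 5, [([], 772, [])], []⟩
def c774 : Clm := ⟨6, 5, true, [1,8,10,11,12,11,13,2,13,4,7,10,12,11], [8,11,10,12,8,13,12,11,2,11,13,12,4,13], 5, [([], 773, [])], []⟩
def c775 : Clm := ⟨3, 6, true, [1,8,12,9,13,2,1,4,12,13,2,5], [9,13,10,12,8,11,5,12,2,1,13,5,7,7], 13, [([], 192, [5,13,3,5,12]), ([], 572, [3,10,11,10,12,13,5,10]), ([253,226], 409, [3,8,11,10,13,12])], []⟩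
def c776 : Clm := ⟨6, 3, true, [8,11,12,9,11,10,12,13,2,13,5,7,7], [1,8,12,9,13,2,1,4,12,13,2,5], 5, [([], 775, [])], []⟩
def c777 : Clm := ⟨3, 6, true, [5,11,12,9,11,12,8,11,13,2,1,4,12,4,13,10], [8,11,12,9,11,10,12,13,2,13,5,7,7], 5, [([], 776, [])], []⟩
def c778 : Clm := ⟨6, 5, true, [1,9,12,13,12,2,4,12,11,13,4], [9,13,3,10,11,12,11,2,11,5,4], 15, [([], 203, [5,9,13,5,12,13,10,12,9]), ([170,100], 192, [3,9,13,5,10,13,12]), ([372,370], 274, [5,8,13,5,13])], []⟩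
def c779 : Clm := ⟨5, 6, true, [3,5,9,10,13,12,11,2,1,13,2,1], [1,9,12,13,12,2,4,12,11,13,4], 5, [([], 778, [])], []⟩
def c780 : Clm := ⟨6, 5, true, [1,9,12,13,12,2,1,4,12,13,4], [3,5,9,10,13,12,11,2,1,13,2,1], 5, [([], 779, [])], []⟩
def c781 : Clm := ⟨6, 6, true, [1,9,10,12,8,13,12,11,13,2,13,2,7,5,8,13], [1,10,12,8,13,10,12,9,2,11,13,12,4,3], 15, [([], 701, [1,13,12,13,10,13,12]), ([104,102], 192, [1,3,10,12]), ([372,370], 233, [9,12,11,12,8])], []⟩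
def c782 : Clm := ⟨6, 6, true, [1,10,12,8,13,10,12,9,2,1,11,13,12,4], [1,9,10,12,8,13,12,11,13,2,13,2,7,5,8,13], 5, [([], 781, [])], []⟩
def c783 : Clm := ⟨6, 6, true, [3,13,12,8,13,10,12,11,10,2,4,13,7,12,7,13], [1,10,12,8,13,10,12,9,2,1,11,13,12,4], 5, [([], 782, [])], []⟩
def c784 : Clm := ⟨6, 6, true, [1,13,10,12,8,13,10,12,9,2,13,2,6,11,12,6], [12,8,13,5,10,13,12,2,13,4], 15, [([], 621, [9,10,11,3,13,12,8,13]), ([98,171], 192, [5,10,11,3,12]), ([372,370], 230, [8,10,11,12,11,10])], []⟩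
def c785 : Clm := ⟨6, 6, true, [5,12,8,13,5,10,11,12,11,2,13,4,10], [1,13,10,12,8,13,10,12,9,2,13,2,6,11,12,6], 5, [([], 784, [])], []⟩
def c786 : Clm := ⟨3, 6, true, [3,12,9,12,13,10,2,13,2,13,12,11,2], [8,12,13,10,12,11,10,2,7,7,13,4,12], 13, [([], 192, [1,3,5,8,10,12]), ([], 272, [5,9,12,11,5,12,9,11,13]), ([100,96], 745, [12,9,11,3,12,9,13,10])], []⟩
def c787 : Clm := ⟨6, 3, true, [1,10,12,11,13,12,8,13,2,4,5,7,5,13,4], [3,12,9,12,13,10,2,13,2,13,12,11,2], 5, [([], 786, [])], []⟩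
def c788 : Clm := ⟨3, 6, true, [5,8,10,12,13,12,8,13,12,2,4,3,6,13,6,12,11], [1,10,12,11,13,12,8,13,2,4,5,7,5,13,4], 5, [([], 787, [])], []⟩
def c789 : Clm := ⟨3, 6, true, [1,8,10,13,10,12,9,11,10,2,6,13,2,1,12,9], [1,12,9,11,12,9,11,12,13,2,11,5,4,7,12,9], 13, [([], 192, [8,12,13,3,5]), ([], 586, [1,5,9,12,13,5,12,8]), ([202,205,211,204], 647, [1,12,9,11,12,13,10,13])], []⟩
def c790 : Clm := ⟨6, 3, true, [5,10,11,12,8,12,2,1,13,2,1,7,12,9], [1,8,10,13,10,12,9,11,10,2,6,13,2,1,12,9], 5, [([], 789, [])], []⟩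
def c791 : Clm := ⟨3, 6, true, [8,11,5,10,12,9,2,4,7,13,5,12,9], [5,10,11,12,8,12,2,1,13,2,1,7,12,9], 5, [([], 790, [])], []⟩
def c792 : Clm := ⟨6, 5, true, [8,12,11,5,10,12,11,5,2,13,5,6,5,6], [1,9,13,10,11,12,11,12,2,13,4], 15, [([], 682, [1,5,10,12,9,13,5,12]), ([111,102], 192, [9,11,3,10,13,12]), ([372,370], 274, [3,8,10,11,10,12,11,10])], []⟩
def c793 : Clm := ⟨5, 6, true, [1,9,13,10,12,11,12,2,13,4,10], [8,12,11,5,10,12,11,5,2,13,5,6,5,6], 5, [([], 792, [])], []⟩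
def c794 : Clm := ⟨6, 5, true, [3,8,13,12,11,10,12,13,2,1,13,5,6,5,6], [1,9,13,10,12,11,12,2,13,4,10], 5, [([], 793, [])], []⟩
def c795 : Clm := ⟨6, 6, true, [3,12,11,10,12,9,12,2,1,4,6,13,12,4,6,13], [8,10,13,10,12,2,13,4], 15, [([], 735, [5,8,10,13,10,12,9,11,10]), ([104,100], 192, [3,8,13,10,13,12]), ([372,370], 227, [1,8,10,11,5,12,11,10])], []⟩
def c796 : Clm := ⟨6, 6, true, [8,10,13,3,10,12,11,2,13,4,10], [3,12,11,10,12,9,12,2,1,4,6,13,12,4,6,13], 5, [([], 795, [])], []⟩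
def c797 : Clm := ⟨6, 6, true, [3,12,8,11,5,10,2,4,12,8,11,13,7,12], [8,10,13,3,10,12,11,2,13,4,10], 5, [([], 796, [])], []⟩
def c798 : Clm := ⟨6, 5, true, [8,13,12,8,11,12,9,11,10,2,11,12,4,7,9,10], [8,11,12,9,13,12,11,4,6,10,12,4,9], 15, [([], 761, [3,5,8,12,9,11]), ([170,111], 192, [12,13,3,5]), ([], 583, [1,5,9,12,13,5,12,8])], []⟩
def c799 : Clm := ⟨5, 6, true, [11,3,13,12,9,12,4,12,4,10,13,4], [8,13,12,8,11,12,9,11,10,2,11,12,4,7,9,10], 5, [([], 798, [])], []⟩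
def c800 : Clm := ⟨6, 4, true, [3,8,11,13,12,13,12,9,2,4,13,12,6,11,12,9], [5,11,13,12,9,11,12,8,11,4,6,5,8,10,4], 15, [([], 656, [12,13,3,10,12,11]), ([110,170,100], 192, [3,5,11,12,9,13,12]), ([], 575, [12,13,3,12,9])], []⟩
def c801 : Clm := ⟨4, 6, true, [1,10,11,12,8,13,12,13,12,2,7,7,13,5,10], [3,8,11,13,12,13,12,9,2,4,13,12,6,11,12,9], 5, [([], 800, [])], []⟩
def c802 : Clm := ⟨6, 4, true, [3,5,8,12,11,5,10,12,9,2,13,2,6,12,11,12,9], [1,10,11,12,8,13,12,13,12,2,7,7,13,5,10], 5, [([], 801, [])], []⟩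
def c803 : Clm := ⟨6, 5, true, [1,8,2,6,11,5,12,13,2], [8,10,12,9,13,12,8,2,7,13,5,6,5,4], 15, [([], 203, [3,5,10,12,13,5,12,9]), ([170,110,102], 192, [5,11,10,12,8,13,12]), ([], 280, [12,11,3,13,12,9])], []⟩
def c804 : Clm := ⟨5, 6, true, [8,10,12,8,13,12,2,11,13,12,4,9], [1,8,2,6,11,5,12,13,2], 5, [([], 803, [])], []⟩
def c805 : Clm := ⟨6, 5, true, [3,10,12,8,2,13,5,12,13,2,6], [8,10,12,8,13,12,2,11,13,12,4,9], 5, [([], 804, [])], []⟩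
def c806 : Clm := ⟨6, 5, true, [11,10,12,9,13,5,12,13,2,4,3,12,7,13], [8,10,12,13,12,9,2,11,13,12,4,3], 15, [([], 621, [3,5,12,8,13,5,12]), ([171,100,96], 192, [5,9,10,11,5,13,12]), ([372,370], 280, [3,11,12,11,12,8])], []⟩
def c807 : Clm := ⟨5, 6, true, [8,10,12,13,12,9,2,1,11,13,12,4], [11,10,12,9,13,5,12,13,2,4,3,12,7,13], 5, [([], 806, [])], []⟩
def c808 : Clm := ⟨6, 6, true, [12,8,11,3,12,9,11,12,2,4,6,12,13,12,7], [12,9,11,12,13,4,6,10,12,4,9], 15, [([], 272, [8,10,12,11,13,12,8,13]), ([96,170,96], 192, [3,5,9,12]), ([], 589, [3,13])], []⟩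
def c809 : Clm := ⟨6, 6, true, [1,9,11,12,9,11,13,12,4,12,4,10,13,4], [12,8,11,3,12,9,11,12,2,4,6,12,13,12,7], 5, [([], 808, [])], []⟩
def c810 : Clm := ⟨6, 6, true, [3,12,8,12,11,12,11,2,13,12,9,11,12,4], [1,9,11,12,9,11,13,12,4,12,4,10,13,4], 5, [([], 809, [])], []⟩
def c811 : Clm := ⟨6, 6, true, [3,9,13,12,9,13,12,13,10,2,1,7,11,12,4,6], [3,12,9,13,12,13,4,6,10,12,4,9], 15, [([], 746, [10,11,10,12,9,13,5,10,12]), ([171,110,104,96], 192, [1,5,9,12]), ([], 589, [3])], []⟩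
def c812 : Clm := ⟨6, 6, true, [10,13,12,11,10,12,8,11,4,12,4,10,13,4], [3,9,13,12,9,13,12,13,10,2,1,7,11,12,4,6], 5, [([], 811, [])], []⟩
def c813 : Clm := ⟨6, 6, true, [8,13,12,9,12,11,5,10,2,1,4,12,9,13,2,3], [3,8,12,13,10,11,12,8,13,10,4,6,10,12,4], 15, [([], 644, [8,13,5,10,13,12,13,12]), ([171,102], 192, [1,13,12,8,11,12]), ([], 589, [8,11,13,12,11,12])], []⟩
def c814 : Clm := ⟨6, 6, true, [5,13,5,12,9,11,13,12,13,4,6,10,12,4,3], [8,13,12,9,12,11,5,10,2,1,4,12,9,13,2,3], 5, [([], 813, [])], []⟩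
def c815 : Clm := ⟨6, 3, true, [1,13,5,12,8,13,12,8,4,10,12,4,7,5,9], [3,5,10,13,12,8,13,12,2,13,2,6,11,5,13], 15, [([], 768, [5,11,13,12,8,13,12,9,13]), ([171,110,100,96], 192, [3,10,12,9,13,12]), ([], 272, [5,11,5,11,12,13,12])], []⟩
def c816 : Clm := ⟨3, 6, true, [3,5,10,13,12,8,13,12,2,13,2,6,13,5,11], [1,13,5,12,8,13,12,8,4,10,12,4,7,5,9], 5, [([], 815, [])], []⟩
def c817 : Clm := ⟨6, 3, true, [3,10,11,12,8,11,5,12,13,2,4,13,7,7,13,2,5], [3,5,10,13,12,8,13,12,2,13,2,6,13,5,11], 5, [([], 816, [])], []⟩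
def c818 : Clm := ⟨6, 4, true, [1,13,10,13,12,8,13,12,13,2,7,9,13,4,7,5], [3,8,12,9,11,5,10,2,1,11,12,4,3], 15, [([], 788, [1,10,11,12,8,11,12,11,10]), ([104,96], 192, [11,5,11,12,13,10]), ([373], 260, [8,13,12,13,10,11])], []⟩
def c819 : Clm := ⟨4, 6, true, [3,8,12,9,11,5,10,2,11,12,4], [1,13,10,13,12,8,13,12,13,2,7,9,13,4,7,5], 5, [([], 818, [])], []⟩
def c820 : Clm := ⟨6, 5, true, [5,13,12,8,11,10,12,13,10,2,1,7,7,13,5,7], [1,8,10,12,9,13,12,2,13,4], 15, [([], 768, [9,10,13,5,13,12,8,13,12]), ([171,110], 192, [9,10,13,3,10,12]), ([], 280, [8,10,11,3,12,11,10,13])], []⟩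
def c821 : Clm := ⟨5, 6, true, [8,10,12,9,13,3,12,11,2,13,4,10], [5,13,12,8,11,10,12,13,10,2,1,7,7,13,5,7], 5, [([], 820, [])], []⟩
def c822 : Clm := ⟨6, 6, true, [3,9,11,10,12,9,13,12,2,11,12,13,7,9], [3,8,13,12,8,13,12,8,11,2,1,13,4,12,11,10], 15, [([], 755, [3,12,11,10,12,11]), ([110], 192, [11,13,5,10,12]), ([372,370], 233, [1,5,8,11,5,12,13,12,9])], []⟩
def c823 : Clm := ⟨6, 6, true, [10,12,9,13,12,8,2,11,13,12,4,13], [3,9,11,10,12,9,13,12,2,11,12,13,7,9], 5, [([], 822, [])], []⟩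
def c824 : Clm := ⟨6, 6, true, [10,13,12,9,13,12,9,13,2,11,12,13,7,9], [10,12,9,13,12,8,2,11,13,12,4,13], 5, [([], 823, [])], []⟩
def c825 : Clm := ⟨6, 3, true, [8,12,13,10,13,10,12,8,13,2,13,4,6,5,11,2], [1,9,10,11,12,11,13,5,10,2,4,7,13,12,4,13,12], 15, [([], 606, [8,10,13,3,12,8,11,12,11]), ([100], 192, [8,11,3,10,12]), ([372,370], 272, [3,11,12,11,12,8])], []⟩
def c826 : Clm := ⟨3, 6, true, [11,3,13,12,11,10,2,6,11,12,4,9,13,10], [8,12,13,10,13,10,12,8,13,2,13,4,6,5,11,2], 5, [([], 825, [])], []⟩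
def c827 : Clm := ⟨6, 3, true, [9,10,12,11,12,2,1,13,4,7,12,4], [11,3,13,12,11,10,2,6,11,12,4,9,13,10], 5, [([], 826, [])], []⟩
def c828 : Clm := ⟨6, 6, true, [5,9,11,12,11,10,12,9,13,2,7,11,12,4,9,13], [1,12,11,5,12,9,13,4,5,10,4], 15, [([], 599, [12,8,11,13,12,13,12,9]), ([170,100,96], 192, [1,5,12,13,12]), ([], 238, [1,8,12,11,5,12,9])], []⟩
def c829 : Clm := ⟨6, 6, true, [3,12,11,10,12,9,13,10,2,13,5,10], [5,9,11,12,11,10,12,9,13,2,7,11,12,4,9,13], 5, [([], 828, [])], []⟩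
def c830 : Clm := ⟨6, 6, true, [9,10,13,10,12,9,13,10,2,1,6,9,13,2,6,13], [3,12,11,10,12,9,13,10,2,13,5,10], 5, [([], 829, [])], []⟩
def c831 : Clm := ⟨6, 5, true, [1,5,9,13,12,13,10,13,12,2,4,3,7,7,13], [11,10,13,12,8,12,13,12,2,1,13,4,12,11,10], 15, [([], 755, [3,9,11,12,9,11,10,13]), ([110,100,96], 192, [3,9,12,11,5,10]), ([372,370], 277, [5,9,10,11,5,12,13,10])], []⟩
def c832 : Clm := ⟨5, 6, true, [10,11,3,12,8,11,2,11,13,12,4,13], [1,5,9,13,12,13,10,13,12,2,4,3,7,7,13], 5, [([], 831, [])], []⟩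
def c833 : Clm := ⟨5, 6, true, [1,5,9,11,13,2,1,13,4,5], [8,10,13,5,2,11,5,4], 15, [([], 116, [8,10,13,10,13]), ([111], 192, [3,5,8,10,13,5,12]), ([], 227, [5,8,11,5,11])], []⟩
def c834 : Clm := ⟨6, 5, true, [5,8,11,2,1,13,2,1], [1,5,9,11,13,2,1,13,4,5], 5, [([], 833, [])], []⟩
def c835 : Clm := ⟨6, 6, true, [3,5,10,12,9,13,5,12,11,2,4,13,12,9,13], [10,12,8,13,12,9,2,11,13,12,4,3], 15, [([], 334, [3,10,12,8,11,13,12]), ([104,171,111], 192, [5,10,11,5,13,12]), ([372,370], 233, [9,12,11,12,8,11])], []⟩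
def c836 : Clm := ⟨6, 6, true, [10,12,8,13,12,9,2,1,11,13,12,4], [3,5,10,12,9,13,5,12,11,2,4,13,12,9,13], 5, [([], 835, [])], []⟩
def c837 : Clm := ⟨6, 6, true, [3,5,10,12,9,13,5,12,11,2,4,13,3,12,9,13], [10,12,8,13,12,9,2,1,11,13,12,4], 5, [([], 836, [])], []⟩
def c838 : Clm := ⟨6, 5, true, [9,12,11,5,12,9,13,2,1,13,4,7,13,12,9], [1,12,11,5,11,12,9,12,13,2,1,13,4,6,13,7], 15, [([], 826, [10,12,13,10,12,9,13]), ([104,96], 192, [3,12,9,11,10,12]), ([372,370], 274, [5,8,11,13,12,13,5,12])], []⟩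
def c839 : Clm := ⟨5, 6, true, [11,3,10,12,9,13,12,11,2,7,13,5,6,13,4], [9,12,11,5,12,9,13,2,1,13,4,7,13,12,9], 5, [([], 838, [])], []⟩
def c840 : Clm := ⟨6, 5, true, [12,8,11,12,11,12,2,7,9,13,2,7,13], [11,3,10,12,9,13,12,11,2,7,13,5,6,13,4], 5, [([], 839, [])], []⟩
def c841 : Clm := ⟨6, 6, true, [1,5,9,10,12,13,12,9,2,4,3,12,9,13,10], [8,12,9,13,12,8,13,5,4,6,5,10,4], 15, [([], 606, [3,8,11,10,12,13,10,12,11]), ([170,111,102], 192, [5,11,12,8,11,12]), ([], 578, [9,10,13,10,12,9,13,10])], []⟩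
def c842 : Clm := ⟨6, 6, true, [5,11,12,8,11,10,12,11,2,7,13,5,10], [1,5,9,10,12,13,12,9,2,4,3,12,9,13,10], 5, [([], 841, [])], []⟩
def c843 : Clm := ⟨6, 6, true, [1,5,9,10,12,13,12,9,2,4,12,9,13,10], [5,11,12,8,11,10,12,11,2,7,13,5,10], 5, [([], 842, [])], []⟩
def c844 : Clm := ⟨5, 6, true, [1,5,13,10,12,13,12,9,2,1,7,13,12,4,9], [9,10,11,5,12,13,10,2,13,2,1,12,13,4], 11, [([], 674, [12,8,11,12,9,13,10,11]), ([372,370], 826, [13,10,13,12,9,13,12,11,12]), ([104,96], 192, [9,12,11,3,10,13,12])], []⟩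
def c845 : Clm := ⟨6, 5, true, [9,10,11,5,12,13,10,2,13,2,12,11,13,4], [1,5,13,10,12,13,12,9,2,1,7,13,12,4,9], 5, [([], 844, [])], []⟩
def c846 : Clm := ⟨5, 6, true, [1,5,13,10,12,13,12,9,2,7,13,12,4,3,9], [9,10,11,5,12,13,10,2,13,2,12,11,13,4], 5, [([], 845, [])], []⟩
def c847 : Clm := ⟨6, 6, true, [3,13,12,9,12,13,12,2,4,13,12,7], [5,10,13,10,12,11,2,1,11,12,11,2,1,13], 11, [([], 533, [10,11,10,12]), ([373], 627, [5,9,10,11,12,13,12,9,13]), ([98,170,110], 192, [5,11,3,10,12,11,12])], []⟩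
def c848 : Clm := ⟨6, 6, true, [5,10,13,10,12,11,2,1,11,12,11,2,13,3], [3,13,12,9,12,13,12,2,4,13,12,7], 5, [([], 847, [])], []⟩
def c849 : Clm := ⟨6, 6, true, [3,13,12,9,12,13,12,2,4,3,13,12,7], [5,10,13,10,12,11,2,1,11,12,11,2,13,3], 5, [([], 848, [])], []⟩
def c850 : Clm := ⟨6, 6, true, [5,12,8,11,13,10,12,11,2,1,7,11,12,4,9], [9,10,12,13,10,13,12,9,11,2,1,6,13,12,4,9], 11, [([], 382, [8,12,11,13,5,12,9,11]), ([], 712, [5,13,5,11]), ([], 192, [1,12,13])], []⟩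
def c851 : Clm := ⟨6, 6, true, [9,10,12,13,10,13,12,9,11,2,6,13,12,4,3,9], [5,12,8,11,13,10,12,11,2,1,7,11,12,4,9], 5, [([], 850, [])], []⟩
def c852 : Clm := ⟨6, 6, true, [3,9,11,13,12,9,11,2,1,6,9,13,2,6], [9,10,12,13,10,13,12,9,11,2,6,13,12,4,3,9], 5, [([], 851, [])], []⟩
def c853 : Clm := ⟨6, 6, true, [1,10,11,12,13,12,9,12,2,7,13,2,1,12,9], [5,9,10,13,2,1,13,12,13,4,10,4], 11, [([], 739, [5,8,11,5,10,12,11,12,9]), ([370], 682, [3,10,11,12,8,13]), ([96,170], 192, [1,5,9,11,10,12,13])], []⟩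
def c854 : Clm := ⟨6, 6, true, [12,8,11,12,13,12,13,2,1,4,5,12,13,7,8], [1,10,11,12,13,12,9,12,2,7,13,2,1,12,9], 5, [([], 853, [])], []⟩
def c855 : Clm := ⟨6, 6, true, [10,12,9,12,13,12,11,10,2,4,6,13,5,12,9], [12,8,11,12,13,12,13,2,1,4,5,12,13,7,8], 5, [([], 854, [])], []⟩
def c856 : Clm := ⟨6, 5, true, [5,8,10,13,5,12,11,10,2,1,4,12,4,7,13,10], [13,12,9,13,10,12,8,2,6,13,6,5,10,13], 17, [([], 768, [1,8,12,9,13,5,12,13,10]), ([171,110], 192, [3,9,13,10,13,12]), ([372,370], 339, [12,11,13,12,9,13,5])], []⟩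
def c857 : Clm := ⟨5, 6, true, [3,12,13,12,9,13,10,12,2,6,13,5,10,12,8], [5,8,10,13,5,12,11,10,2,1,4,12,4,7,13,10], 5, [([], 856, [])], []⟩
def c858 : Clm := ⟨6, 5, true, [3,5,12,13,12,8,11,10,13,2,13,12,13,7,10], [5,8,12,9,11,12,4,10,11], 17, [([], 599, [11,5,11,5,12,9,13]), ([170,100,96], 192, [8,12,13,5,12,11]), ([], 253, [3,10,11,5,12,8,11,10])], []⟩
def c859 : Clm := ⟨5, 6, true, [1,5,8,12,9,11,12,4,10,11], [3,5,12,13,12,8,11,10,13,2,13,12,13,7,10], 5, [([], 858, [])], []⟩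
def c860 : Clm := ⟨6, 6, true, [8,13,12,9,13,5,13,5,12,2,11,12,13,2,13,4], [5,12,13,3,5,10,12,11,12,2,7,13,12,4,6,6], 11, [([], 524, [3,13,12,9,13,10,12,8,11]), ([372,370], 391, [3,11,5,12,11,10]), ([96,170,96], 192, [1,5,12,13,5])], []⟩
def c861 : Clm := ⟨6, 6, true, [3,5,2,4,5,11,12,11,2,3], [8,13,12,9,13,5,13,5,12,2,11,12,13,2,13,4], 5, [([], 860, [])], []⟩
def c862 : Clm := ⟨6, 6, true, [10,12,9,12,11,12,8,13,12,2,11,12,4,5,13,2], [3,5,2,4,5,11,12,11,2,3], 5, [([], 861, [])], []⟩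
def c863 : Clm := ⟨6, 5, true, [3,9,11,5,10,12,13,2,6,6,11,13], [10,11,13,12,8,13,5,12,2,4,13,5,12,13,2,4], 17, [([], 755, [5,9,13,10,12,9,11,10]), ([110,100,96], 192, [3,9,12,13,10]), ([372,370], 477, [5,13,3,12,8,11,10,13])], []⟩
def c864 : Clm := ⟨5, 6, true, [12,8,12,13,12,11,10,2,13,5,12,13,2,11], [3,9,11,5,10,12,13,2,6,6,11,13], 5, [([], 863, [])], []⟩
def c865 : Clm := ⟨6, 5, true, [1,5,9,13,12,13,10,13,2,6,6,11,13], [12,8,12,13,12,11,10,2,13,5,12,13,2,11], 5, [([], 864, [])], []⟩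
def c866 : Clm := ⟨6, 6, true, [1,10,12,8,12,13,10,2,6,11,5,11,12,11,2], [1,8,12,9,13,10,13,12,2,13,4,7,9,13,6], 17, [([], 682, [5,8,10,13,3,12,8]), ([111,102], 192, [12,9,11,3,10,12]), ([], 493, [3,8,10,12,13,10,13,12,9])], []⟩
def c867 : Clm := ⟨6, 6, true, [1,8,12,13,10,13,12,9,2,1,11,13,7,5,4,9], [1,10,12,8,12,13,10,2,6,11,5,11,12,11,2], 5, [([], 866, [])], []⟩
def c868 : Clm := ⟨6, 6, true, [1,10,11,5,12,9,11,13,2,4,6,9,13,6,13,5], [1,8,12,13,10,13,12,9,2,1,11,13,7,5,4,9], 5, [([], 867, [])], []⟩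
def c869 : Clm := ⟨6, 6, true, [1,11,12,11,13,10,12,11,2,13,2,12,11,5,6,6], [1,13,12,8,11,10,12,8,2,4,12,6,13,10,12,11], 11, [([], 334, [13,12,9,11,10,12,11,12]), ([100,111], 159, [1,5,13,12,8,11,13]), ([171,98,96], 192, [3,10,12,9,13,5,12])], []⟩
def c870 : Clm := ⟨6, 6, true, [9,10,11,3,5,12,13,10,2,4,5,6,13,2,7,13], [1,11,12,11,13,10,12,11,2,13,2,12,11,5,6,6], 5, [([], 869, [])], []⟩
def c871 : Clm := ⟨6, 6, true, [8,12,11,10,12,9,13,10,12,2,13,7,5,4,6,5], [9,10,11,3,5,12,13,10,2,4,5,6,13,2,7,13], 5, [([], 870, [])], []⟩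
def c872 : Clm := ⟨6, 6, true, [3,10,12,13,5,12,8,4,6,6,10,13,2], [3,10,11,12,9,11,13,12,2,4,3,5,7,5,13,7], 17, [([], 391, [1,5,9,11,12,9,11]), ([171,104,96], 192, [8,13,12,13,10,13,10]), ([373], 868, [8,11,12,9,11,13,12,8])], []⟩
def c873 : Clm := ⟨6, 6, true, [3,10,11,12,9,11,13,12,2,4,5,7,5,13,7], [3,10,12,13,5,12,8,4,6,6,10,13,2], 5, [([], 872, [])], []⟩
def c874 : Clm := ⟨6, 6, true, [1,9,12,8,13,10,12,13,12,4,6,6,10,2], [3,8,12,11,5,10,12,9,2,1,6,9,11,5,11], 17, [([], 512, [9,10,13,12,8,13,5]), ([111,104,98,96], 192, [3,8,13,5,10,13,12]), ([], 351, [5,8,12,11,10,12,9,11,12])], []⟩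
def c875 : Clm := ⟨6, 6, true, [3,8,12,11,5,12,9,2,1,6,9,11,5,11], [1,9,12,8,13,10,12,13,12,4,6,6,10,2], 5, [([], 874, [])], []⟩
def c876 : Clm := ⟨6, 6, true, [3,8,10,11,12,11,13,10,2,1,6,6], [1,8,11,13,10,12,8,2,1,7,9,13,4,5], 17, [([], 361, [1,11,10]), ([100,111], 192, [5,13,3,5,10]), ([], 638, [8,10,11,3,5])], []⟩
def c877 : Clm := ⟨6, 6, true, [1,8,11,13,12,8,2,4,6,5,9,13], [3,8,10,11,12,11,13,10,2,1,6,6], 5, [([], 876, [])], []⟩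
def c878 : Clm := ⟨6, 6, true, [3,8,10,11,12,11,13,2,1,6,6], [1,8,11,13,12,8,2,4,6,5,9,13], 5, [([], 877, [])], []⟩
def c879 : Clm := ⟨6, 6, true, [12,11,3,10,12,11,12,2,4,3,13,6,12,9,12,13], [1,5,9,12,13,5,12,2,4,3,5,12,13,2,7], 17, [([], 361, [11,13,5,12,9]), ([96,170,110,96], 192, [1,10,13,5,10,12]), ([372,370], 367, [1,9,10,11,13,12,11,12,8])], []⟩
def c880 : Clm := ⟨6, 6, true, [3,5,12,13,5,12,9,2,1,13,4,12,13,4,7], [12,11,3,10,12,11,12,2,4,3,13,6,12,9,12,13], 5, [([], 879, [])], []⟩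
def c881 : Clm := ⟨6, 6, true, [3,9,10,13,10,12,11,2,13,12,4,10,13,2,6], [3,5,12,13,5,12,9,2,1,13,4,12,13,4,7], 5, [([], 880, [])], []⟩
def c882 : Clm := ⟨6, 6, true, [9,13,12,13,5,12,13,2,1,13,2,7,13,12], [8,12,11,10,12,9,11,12,2,1,13,12,4,6], 11, [([], 528, [3,5,8,11,12,13]), ([], 688, [1,5,13,5,11]), ([], 192, [1,12,13,5])], []⟩
def c883 : Clm := ⟨6, 6, true, [8,12,11,10,12,9,11,12,2,13,12,4,3,6], [9,13,12,13,5,12,13,2,1,13,2,7,13,12], 5, [([], 882, [])], []⟩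
def c884 : Clm := ⟨6, 6, true, [9,12,13,12,13,10,13,2,11,5,4,7,13,12], [8,12,11,10,12,9,11,12,2,13,12,4,3,6], 5, [([], 883, [])], []⟩
def c885 : Clm := ⟨6, 6, true, [5,11,12,11,2,7,13,6,6,10], [10,12,13,3,12,8,12,2,4,6,6,12,13,5,12], 17, [([], 735, [1,10,13,5,12,9,13,12,13]), ([98], 192, [9,11,5,10,12]), ([373], 545, [1,5,8,12,11,10,12])], []⟩
def c886 : Clm := ⟨6, 6, true, [10,12,13,3,12,2,7,11,12,8,13,4,5], [5,11,12,11,2,7,13,6,6,10], 5, [([], 885, [])], []⟩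
def c887 : Clm := ⟨6, 6, true, [5,11,12,11,10,2,1,7,13,6,6,10], [10,12,13,3,12,2,7,11,12,8,13,4,5], 5, [([], 886, [])], []⟩
def c888 : Clm := ⟨6, 6, true, [8,11,5,12,11,12,11,2,1,13,6,13,4,12,7], [3,8,12,8,11,5,10,2,4,5,13,12,6,9], 17, [([], 656, [11,10,12,8,11,13,5]), ([110,170,100], 192, [8,11,3,12,13]), ([370], 534, [10,11,12,9,12,11,13])], []⟩
def c889 : Clm := ⟨6, 6, true, [3,8,12,8,11,5,2,1,13,4,6,12,9], [8,11,5,12,11,12,11,2,1,13,6,13,4,12,7], 5, [([], 888, [])], []⟩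
def c890 : Clm := ⟨6, 6, true, [1,8,11,5,11,12,8,11,12,2,4,12,13,4,7,9], [3,8,12,8,11,5,2,1,13,4,6,12,9], 5, [([], 889, [])], []⟩
def c891 : Clm := ⟨6, 6, true, [5,9,11,12,13,10,12,9,11,2,1,4,13,7,5,11], [1,8,13,12,9,11,12,8,2,13,12,13,4,10,2], 17, [([], 337, [5,10,12,9,13,12,11,13]), ([110,104,98,96], 192, [1,11,13,5,10,12,13]), ([373,370], 481, [10,13])], []⟩
def c892 : Clm := ⟨6, 6, true, [1,8,13,12,9,11,12,8,2,13,12,13,2,4], [5,9,11,12,13,10,12,9,11,2,1,4,13,7,5,11], 5, [([], 891, [])], []⟩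
def c893 : Clm := ⟨6, 6, true, [1,10,11,12,13,10,13,12,8,2,6,6,13,4,6,12,9], [8,10,13,3,10,12,8,11,13,2,4,5,7,7,13,12,8], 11, [([], 529, [10,13,12,8,13,12,9,11]), ([373,370], 606, [8,12,9,13,12,8,13]), ([171,110,100], 192, [5,11,5,11,12,13])], []⟩
def c894 : Clm := ⟨6, 6, true, [8,11,12,11,13,5,10,12,13,2,6,11,12,9,13,4], [1,10,11,12,13,10,13,12,8,2,6,6,13,4,6,12,9], 5, [([], 893, [])], []⟩
def c895 : Clm := ⟨6, 6, true, [10,12,13,3,10,12,2,7,7,11,12,13,2,3], [8,11,12,11,13,5,10,12,13,2,6,11,12,9,13,4], 5, [([], 894, [])], []⟩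
def c896 : Clm := ⟨6, 6, true, [1,5,8,11,12,9,13,12,2,4,7,13,6,8,12,13], [1,5,8,10,13,5,12,2,4,12,11,10,12,4,13], 11, [([], 334, [1,8,12,11,10,13,12,11]), ([170,96], 160, [3,12,9,13,5,10,13,12,13]), ([104,100,96], 192, [13,3,5,12,8,11,10,12])], []⟩
def c897 : Clm := ⟨6, 6, true, [3,5,10,13,12,8,11,10,2,4,7,12,4,13,2,7], [1,5,8,11,12,9,13,12,2,4,7,13,6,8,12,13], 5, [([], 896, [])], []⟩
def c898 : Clm := ⟨6, 6, true, [10,12,8,11,13,12,9,2,6,13,2,6,12,8,13], [3,5,10,13,12,8,11,10,2,4,7,12,4,13,2,7], 5, [([], 897, [])], []⟩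
def c899 : Clm := ⟨6, 5, true, [3,5,9,13,5,2,4,6,12,13,4,6,9], [8,10,12,13,10,13,12,9,2,6,13,7,12,7], 17, [([], 391, [1,11,5,11,12,8,12,11,10]), ([110,102,170], 192, [3,9,13,12,13,10,13]), ([370], 443, [12,9,11,13,12,11,12])], []⟩
def c900 : Clm := ⟨5, 6, true, [1,5,8,12,11,5,12,9,2,1,6,13,7,12,7], [3,5,9,13,5,2,4,6,12,13,4,6,9], 5, [([], 899, [])], []⟩
def c901 : Clm := ⟨6, 5, true, [3,5,9,13,12,2,13,6,5,4,9,12,11], [1,5,8,12,11,5,12,9,2,1,6,13,7,12,7], 5, [([], 900, [])], []⟩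
def c902 : Clm := ⟨6, 6, true, [9,13,12,9,13,5,12,11,2,6,13,2,12,8,11,3], [3,5,10,13,10,12,11,10,2,4,12,4,13,3], 11, [([], 881, [1,10,11,12,11,10,12]), ([], 361, [13,5,12,9,11]), ([96,170,111], 192, [1,13,10,13,10,12])], []⟩
def c903 : Clm := ⟨6, 6, true, [3,5,10,13,10,12,11,10,2,1,4,12,4,13], [9,13,12,9,13,5,12,11,2,6,13,2,12,8,11,3], 5, [([], 902, [])], []⟩
def c904 : Clm := ⟨6, 6, true, [12,13,10,12,8,12,13,5,2,7,9,13,2,4], [3,8,13,12,8,11,13,10,2,1,13,7,12,4,5,10], 11, [([], 688, [1,9,10,11,13,12,9,13]), ([96,111,104], 159, [13,3,12,9,11,12,11]), ([110,170,100], 192, [1,9,11,13,5,10,12,13])], []⟩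
def c905 : Clm := ⟨6, 6, true, [1,9,10,12,13,12,9,11,2,4,5,6,13,12,8,7], [12,13,10,12,8,12,13,5,2,7,9,13,2,4], 5, [([], 904, [])], []⟩
def c906 : Clm := ⟨6, 6, true, [1,12,11,12,8,12,13,10,13,2,7,9,13,2,11], [1,9,10,12,13,12,9,11,2,4,5,6,13,12,8,7], 5, [([], 905, [])], []⟩
def c907 : Clm := ⟨6, 6, true, [5,12,9,11,5,11,12,8,11,2,6,9,13,10], [8,10,11,3,5,12,13,2,1,4,5], 13, [([], 352, [3,5,8,10,13,10,12,9,13]), ([372,370], 272, [1,5,8,11,10]), ([104,100], 192, [8,13,3,10,11,12])], []⟩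
def c908 : Clm := ⟨6, 6, true, [8,10,11,3,5,12,13,2,4,3,5], [5,12,9,11,5,11,12,8,11,2,6,9,13,10], 5, [([], 907, [])], []⟩
def c909 : Clm := ⟨6, 6, true, [8,11,10,12,11,12,9,11,5,2,1,6,9,13,10], [8,10,11,3,5,12,13,2,4,3,5], 5, [([], 908, [])], []⟩
def c910 : Clm := ⟨6, 5, true, [3,13,12,8,13,12,9,13,2,4,7,12,11,13,7,9], [13,3,12,8,13,10,12,9,2,6,13,6,13,12,4,3], 11, [([], 599, [1,8,12,8,13,12,9,11,10]), ([170,100], 192, [5,9,10,11,5,12]), ([], 339, [1,5,12,11,13,12,9])], []⟩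
def c911 : Clm := ⟨5, 6, true, [13,3,12,9,13,10,12,8,2,6,11,5,6,13,4], [3,13,12,8,13,12,9,13,2,4,7,12,11,13,7,9], 5, [([], 910, [])], []⟩
def c912 : Clm := ⟨6, 5, true, [5,8,10,12,9,11,12,9,13,2,1,13,6,5,4,10,12], [13,3,12,9,13,10,12,8,2,6,11,5,6,13,4], 5, [([], 911, [])], []⟩
def c913 : Clm := ⟨6, 6, true, [1,8,10,11,10,12,11,10,4,10,2,12,4], [1,5,8,12,9,13,12,8,2,1,4,12,11], 11, [([], 243, [8,10,11,10,12,13]), ([104,100,96], 192, [1,8,10,13,5,12]), ([], 898, [12,8,11,12,13,12,9,13,12])], []⟩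
def c914 : Clm := ⟨6, 6, true, [1,5,8,12,9,13,12,8,2,4,12,11,3], [1,8,10,11,10,12,11,10,4,10,2,12,4], 5, [([], 913, [])], []⟩
def c915 : Clm := ⟨6, 6, true, [1,8,10,11,10,12,11,10,2,4,3,12,4,3], [1,5,8,12,9,13,12,8,2,4,12,11,3], 5, [([], 914, [])], []⟩
def c916 : Clm := ⟨6, 6, true, [11,13,10,12,8,12,11,2,1,6,9,13,4,7], [3,9,10,11,5,12,13,5,10,2,4,3,12,13,4], 13, [([], 823, [3,12,8,13,10,13,12,9]), ([372,370], 788, [3,12,8,13,10,13,12,11]), ([98,170,111], 192, [9,10,13,5,12])], []⟩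
def c917 : Clm := ⟨6, 6, true, [8,12,8,11,12,8,11,2,4,6,12,9,13,5], [11,13,10,12,8,12,11,2,1,6,9,13,4,7], 5, [([], 916, [])], []⟩
def c918 : Clm := ⟨6, 6, true, [8,11,13,10,12,9,12,11,2,13,7,13,4,6], [8,12,8,11,12,8,11,2,4,6,12,9,13,5], 5, [([], 917, [])], []⟩
def c919 : Clm := ⟨6, 6, true, [12,11,5,10,12,8,11,13,2,7,13,4,7,10], [8,10,12,9,13,12,11,2,6,13,6,5,12], 11, [([], 223, [10,11,13,12,9,11,10,13]), ([110,104,100], 192, [3,11,12]), ([372,370], 895, [5,11,3,5])], []⟩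
def c920 : Clm := ⟨6, 6, true, [8,10,12,9,13,12,11,10,2,1,6,13,6,5,12], [12,11,5,10,12,8,11,13,2,7,13,4,7,10], 5, [([], 919, [])], []⟩
def c921 : Clm := ⟨6, 6, true, [1,12,9,11,13,12,8,13,2,4,12,6,13,7,9], [1,8,10,13,12,11,10,2,11,12,13,7,5,9], 11, [([], 599, [9,12,9,11,12,11,10]), ([170,100], 192, [3,9,13,12,13,10,12]), ([], 906, [5,10,13,3,12,11,10,13])], []⟩
def c922 : Clm := ⟨6, 6, true, [1,8,10,13,12,11,2,11,12,13,7,5,9], [1,12,9,11,13,12,8,13,2,4,12,6,13,7,9], 5, [([], 921, [])], []⟩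
def c923 : Clm := ⟨6, 6, true, [1,12,9,11,13,12,8,13,12,2,1,13,12,13,4,12,9], [1,8,10,13,12,11,2,11,12,13,7,5,9], 5, [([], 922, [])], []⟩
def c924 : Clm := ⟨6, 6, true, [10,12,8,11,12,9,11,5,2,6,11,5,6,13,4], [12,11,10,12,9,11,12,2,13,7,12,4], 13, [([], 724, [12,8,11,3,10,12,8,11]), ([253,227,252], 119, [3,5,12,9,13,5,10,12]), ([110,170,96], 192, [9,12,13,3,5])], []⟩
def c925 : Clm := ⟨6, 6, true, [12,11,10,12,9,11,12,2,1,13,7,12,4,3], [10,12,8,11,12,9,11,5,2,6,11,5,6,13,4], 5, [([], 924, [])], []⟩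
def c926 : Clm := ⟨6, 6, true, [10,12,8,11,12,9,11,12,2,6,13,6,13,12,4,3], [12,11,10,12,9,11,12,2,1,13,7,12,4,3], 5, [([], 925, [])], []⟩
def c927 : Clm := ⟨6, 5, true, [8,12,9,13,3,5,10,12,2,4,12,7,13,7,12], [1,10,12,11,12,9,11,10,13,2,1,6,9,13,2,6], 11, [([], 788, [3,12,8,11,10,13,12,11]), ([98,170,111], 192, [3,5,9,10,11,12]), ([372,370], 846, [5,10,13,3,12,11,10])], []⟩
def c928 : Clm := ⟨5, 6, true, [11,12,9,13,10,11,2,1,7,11,12,4,9], [8,12,9,13,3,5,10,12,2,4,12,7,13,7,12], 5, [([], 927, [])], []⟩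
def c929 : Clm := ⟨6, 6, true, [8,10,12,8,11,5,2,11,12,4,3,7,9], [1,12,11,10,12,9,11,12,2,1,13,7,12,4], 13, [([], 358, [8,10,13,12,13,10,12,13]), ([226,253,227], 119, [13,12,9,12,11,13,10]), ([110,170,96], 192, [3,5,9,13,12])], []⟩
def c930 : Clm := ⟨6, 6, true, [1,12,11,10,12,9,11,12,2,13,7,12,4,3], [8,10,12,8,11,5,2,11,12,4,3,7,9], 5, [([], 929, [])], []⟩
def c931 : Clm := ⟨6, 6, true, [8,10,12,8,11,5,2,1,11,12,4,7,9], [1,12,11,10,12,9,11,12,2,13,7,12,4,3], 5, [([], 930, [])], []⟩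
def c932 : Clm := ⟨6, 6, true, [5,8,11,12,11,13,5,12,8,2,4,12,4,7,13,2,7], [3,5,13,5,12,13,10,12,8,2,1,7,13,12,4,3,5,10], 11, [([], 599, [12,8,12,11,3,5,10,12]), ([170,100], 192, [9,10,11,3,13,12]), ([373,370], 545, [3,8,12,13,10,12,11,13,5])], []⟩
def c933 : Clm := ⟨6, 6, true, [3,5,13,5,12,13,10,12,8,2,7,13,12,4,5,10], [5,8,11,12,11,13,5,12,8,2,4,12,4,7,13,2,7], 5, [([], 932, [])], []⟩
def c934 : Clm := ⟨6, 6, true, [1,8,10,13,5,12,11,10,2,13,2,12,13,4,7,8], [3,5,13,5,12,13,10,12,8,2,7,13,12,4,5,10], 5, [([], 933, [])], []⟩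
def c935 : Clm := ⟨6, 6, true, [1,9,10,11,10,12,11,10,2,4,12,11,3,5,6], [10,13,12,8,11,13,12,2,4,12,11,12,6], 13, [([], 748, [1,10,13,5,12,9,11]), ([227], 122, [3,5,12,8,11,10]), ([96,171,111,96], 192, [8,13,3,5,12])], []⟩
def c936 : Clm := ⟨6, 6, true, [10,13,12,8,11,13,12,2,4,3,12,11,12,6], [1,9,10,11,10,12,11,10,2,4,12,11,3,5,6], 5, [([], 935, [])], []⟩
def c937 : Clm := ⟨6, 6, true, [1,9,10,11,10,12,11,10,2,1,4,12,11,5,6], [10,13,12,8,11,13,12,2,4,3,12,11,12,6], 5, [([], 936, [])], []⟩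
def c938 : Clm := ⟨6, 6, true, [1,12,9,13,5,13,12,13,2,4,6,12,9,13,7,13], [1,8,13,10,12,13,10,12,9,13,2,6,13,2,6,13,6], 11, [([], 272, [1,11,10,13,12,8,11]), ([104,100], 192, [5,12,8,13,3,10,12]), ([373,370], 424, [1,11,12,8,11,13,12,11])], []⟩
def c939 : Clm := ⟨6, 6, true, [12,8,11,3,12,9,11,12,2,4,7,13,5,6,13,6], [1,12,9,13,5,13,12,13,2,4,6,12,9,13,7,13], 5, [([], 938, [])], []⟩
def c940 : Clm := ⟨6, 6, true, [1,8,10,11,10,12,8,13,10,2,13,2,1,12,9,13,4], [12,8,11,3,12,9,11,12,2,4,7,13,5,6,13,6], 5, [([], 939, [])], []⟩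
def c941 : Clm := ⟨6, 6, true, [3,5,8,12,11,12,9,13,2,1,4,5,7], [8,11,12,13,12,13,5,2,13,7,13,4,5,6], 11, [([], 788, [10,12,9,11,3,12,9,13]), ([98,170,111], 192, [3,5,9,10,12]), ([372,370], 855, [1,5,13,5,11])], []⟩
def c942 : Clm := ⟨6, 6, true, [8,11,12,13,12,13,5,10,2,13,4,6,5,13,6], [3,5,8,12,11,12,9,13,2,1,4,5,7], 5, [([], 941, [])], []⟩
def c943 : Clm := ⟨6, 6, true, [3,5,8,12,11,12,9,13,2,4,3,5,7], [8,11,12,13,12,13,5,10,2,13,4,6,5,13,6], 5, [([], 942, [])], []⟩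
def c944 : Clm := ⟨6, 6, true, [5,10,11,13,12,11,12,9,12,2,1,6,6,11,10], [12,13,5,10,13,12,9,2,4,12,13,6,10,12], 11, [([], 269, [3,9,10,12,9,13,12,9,11]), ([110,100], 192, [3,13,5,12]), ([372,370], 884, [5,13,5])], []⟩
def c945 : Clm := ⟨6, 6, true, [12,13,5,10,13,12,9,2,4,3,12,13,6,10,12], [5,10,11,13,12,11,12,9,12,2,1,6,6,11,10], 5, [([], 944, [])], []⟩
def c946 : Clm := ⟨6, 6, true, [1,12,8,13,5,12,9,13,10,2,4,12,7,13,7,12], [3,5,10,13,12,11,10,2,4,3,12,8,13,7,8], 11, [([], 788, [10,12,8,13,5,12,11]), ([98,170,111], 192, [9,10,13,3,5,12]), ([372,370], 493, [1,5,8,13,10,12,9])], []⟩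
def c947 : Clm := ⟨6, 6, true, [3,5,10,13,12,11,10,2,4,12,8,13,7,8], [1,12,8,13,5,12,9,13,10,2,4,12,7,13,7,12], 5, [([], 946, [])], []⟩
def c948 : Clm := ⟨6, 6, true, [12,8,13,5,10,11,12,2,4,12,8,13,2,3], [8,10,13,3,10,12,11,13,2,1,13,12,4,7,9], 13, [([], 730, [11,5,11,12,8,13,10]), ([370], 223, [5,13,5,13,12,9,13,10]), ([110,104,100], 192, [5,13,3,5,12])], []⟩
def c949 : Clm := ⟨6, 6, true, [8,10,13,3,10,12,11,13,2,13,12,4,3,7,9], [12,8,13,5,10,11,12,2,4,12,8,13,2,3], 5, [([], 948, [])], []⟩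
def c950 : Clm := ⟨6, 6, true, [8,12,9,11,3,10,12,9,11,2,1,7,13,4,12,4], [8,10,13,3,10,12,11,13,2,13,12,4,3,7,9], 5, [([], 949, [])], []⟩
def c951 : Clm := ⟨6, 6, true, [3,5,8,13,5,10,2,1,11,12,11,2,13,3], [8,11,5,11,12,9,13,2,4,3,6,13,6,9,12], 11, [([], 272, [11,5,12,13,10,12,8]), ([104,100], 192, [8,13,3,10,12]), ([373], 868, [1,10,12,13,10,12,8,13,10,12])], []⟩
def c952 : Clm := ⟨6, 6, true, [8,11,5,11,12,9,13,2,4,6,13,6,9,12], [3,5,8,13,5,10,2,1,11,12,11,2,13,3], 5, [([], 951, [])], []⟩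
def c953 : Clm := ⟨6, 6, true, [3,5,8,13,5,10,2,1,11,12,11,2,1,13], [8,11,5,11,12,9,13,2,4,6,13,6,9,12], 5, [([], 952, [])], []⟩
def c954 : Clm := ⟨6, 6, true, [1,10,12,9,11,12,8,11,12,11,2,13,12,4,3,8], [1,5,9,11,10,12,9,13,2,6,9,13,7,13,12,4], 11, [([], 223, [12,9,12,13,12,13,10]), ([110,104,100], 192, [3,5,11,5,12,11]), ([372,370], 852, [5,13,5,11])], []⟩
def c955 : Clm := ⟨6, 6, true, [9,13,3,10,12,11,12,9,2,6,9,13,7,5,4], [1,10,12,9,11,12,8,11,12,11,2,13,12,4,3,8], 5, [([], 954, [])], []⟩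
def c956 : Clm := ⟨6, 6, true, [3,5,9,12,11,5,10,12,9,2,7,13,4,7,10], [12,9,11,12,11,10,12,8,13,2,4,12,8,13,7,9], 11, [([], 223, [12,9,11,13,12,13,10,12]), ([110,104,100], 192, [3,13,12]), ([372,370], 862, [5,13,5])], []⟩
def c957 : Clm := ⟨6, 6, true, [1,9,12,13,10,13,12,8,11,2,11,12,13,2,4,3], [3,5,9,12,11,5,10,12,9,2,7,13,4,7,10], 5, [([], 956, [])], []⟩
def c958 : Clm := ⟨6, 6, true, [5,8,13,3,12,11,10,13,12,2,13,2,12,4,10], [8,12,13,10,12,11,5,12,2,6,13,7,5,4,6], 13, [([], 429, [1,5,12,9,11,5,12,11,10]), ([226,253], 122, [11,5,12,8,13,10]), ([96,171,111,96], 192, [1,8,11,5,13,12])], []⟩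
def c959 : Clm := ⟨6, 6, true, [10,13,12,8,11,13,5,2,13,12,7,13,10,4], [5,8,13,3,12,11,10,13,12,2,13,2,12,4,10], 5, [([], 958, [])], []⟩
def c960 : Clm := ⟨6, 6, true, [1,5,12,9,11,13,12,13,2,1,4,5,12,11,13,7], [1,5,8,12,13,5,10,12,8,2,4,3,12,9,13,6,10], 11, [([], 243, [11,13,12,13,5,10,12]), ([104,100,96], 192, [10,12,9,13,3,12]), ([], 952, [3,5,9,10,13,10,12,11,10])], []⟩
def c961 : Clm := ⟨6, 6, true, [1,5,8,12,13,5,10,12,8,2,4,12,9,13,6,10], [1,5,12,9,11,13,12,13,2,1,4,5,12,11,13,7], 5, [([], 960, [])], []⟩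
def c962 : Clm := ⟨6, 6, true, [1,5,12,9,11,13,12,13,2,4,12,11,13,5,7], [1,5,8,12,13,5,10,12,8,2,4,12,9,13,6,10], 5, [([], 961, [])], []⟩
def c963 : Clm := ⟨6, 6, true, [1,12,8,11,5,12,13,12,2,4,7,12,8,13,7], [1,8,13,10,11,12,9,13,12,2,4,7,9,13,3,7,5], 11, [([], 243, [12,13,12,13,5,10]), ([104,100,96], 192, [3,10,12,9,13,12]), ([], 939, [3,5,10,13,10,12,9,11,10])], []⟩
def c964 : Clm := ⟨6, 6, true, [9,11,12,9,13,12,8,13,2,4,13,6,6,13,5], [1,12,8,11,5,12,13,12,2,4,7,12,8,13,7], 5, [([], 963, [])], []⟩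
def c965 : Clm := ⟨6, 6, true, [1,12,8,11,5,12,13,12,2,4,3,7,12,8,13,7], [9,11,12,9,13,12,8,13,2,4,13,6,6,13,5], 5, [([], 964, [])], []⟩
def c966 : Clm := ⟨5, 6, true, [13,5,10,11,12,8,13,10,2,1,6,13,2,6], [3,10,13,12,8,11,12,13,10,2,7,7,11,12,13,4,6], 11, [([], 119, [8,10,12,9,13,12,9,11]), ([110,170,96], 192, [1,9,13,5,12]), ([373,370], 953, [8,12,9,13,10,12,11])], []⟩
def c967 : Clm := ⟨6, 5, true, [1,10,12,9,12,13,10,2,7,9,13,6,5,4], [13,5,10,11,12,8,13,10,2,1,6,13,2,6], 5, [([], 966, [])], []⟩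
def c968 : Clm := ⟨6, 5, true, [10,13,12,11,13,10,2,11,12,13,7,5,4], [5,8,10,12,11,12,8,11,10,4,5,10,12,4,8], 13, [([], 788, [3,12,8,11,13,12,11,12]), ([98,170,111], 192, [10,12,8,13,12,8,13]), ([], 583, [3,9,12,13,12,9,13])], []⟩
def c969 : Clm := ⟨5, 6, true, [8,13,12,9,13,5,10,11,2,6,13,5,7,10], [10,13,12,11,13,10,2,11,12,13,7,5,4], 5, [([], 968, [])], []⟩
def c970 : Clm := ⟨6, 5, true, [11,12,13,10,12,9,11,2,6,13,10,12,9,13], [13,12,9,11,13,10,4,12,4], 13, [([], 243, [9,13,12,13,12,9]), ([104,100,96], 192, [5,8,10,12,11,3]), ([372,370], 277, [5,10,11,12,13,10,13])], []⟩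
def c971 : Clm := ⟨5, 6, true, [10,11,12,9,11,13,5,10,4,12,4], [11,12,13,10,12,9,11,2,6,13,10,12,9,13], 5, [([], 970, [])], []⟩
def c972 : Clm := ⟨6, 6, true, [9,10,12,13,10,13,12,11,12,2,13,12,7,13,4,6], [1,10,12,13,10,12,9,11,13,12,2,7,13,5,6,10], 13, [([], 599, [1,11,13,12,8,12,11,12]), ([170,100], 192, [3,13,12,9,13,10,12,13]), ([], 230, [3,9,11,13,12,11,12])], []⟩
def c973 : Clm := ⟨6, 6, true, [11,12,9,11,12,13,12,8,4,10,12,4,9], [9,10,12,13,10,13,12,11,12,2,13,12,7,13,4,6], 5, [([], 972, [])], []⟩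
def c974 : Clm := ⟨6, 6, true, [1,11,12,9,11,13,12,8,2,1,4,12,9,13,2,3], [11,12,9,11,12,13,12,8,4,10,12,4,9], 5, [([], 973, [])], []⟩
def c975 : Clm := ⟨6, 5, true, [8,13,10,13,12,11,13,2,11,10,12,7,9,13], [3,9,10,11,12,11,13,4,5], 13, [([], 788, [12,8,12,11,3,13,12]), ([98,170,111], 192, [3,9,10,11,5,12]), ([372,370], 274, [5,8,13,5,11])], []⟩
def c976 : Clm := ⟨5, 6, true, [9,10,11,12,13,4,5], [8,13,10,13,12,11,13,2,11,10,12,7,9,13], 5, [([], 975, [])], []⟩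
def c977 : Clm := ⟨6, 5, true, [10,13,12,11,13,5,2,7,13,5,10,12,4], [9,10,11,12,13,4,5], 5, [([], 976, [])], []⟩
def c978 : Clm := ⟨6, 6, true, [5,8,12,13,10,12,9,13,2,11,10,12,7,13,7], [3,9,10,13,10,12,8,13,4], 13, [([], 788, [5,13,5,12,8,11]), ([98,170,111], 192, [3,9,13,12,11,10,12]), ([], 238, [9,11,5,12,13,12,9])], []⟩
def c979 : Clm := ⟨6, 6, true, [1,9,10,13,10,12,8,11,13,4], [5,8,12,13,10,12,9,13,2,11,10,12,7,13,7], 5, [([], 978, [])], []⟩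
def c980 : Clm := ⟨6, 6, true, [5,8,10,11,5,12,11,13,2,13,7,12,4,3,8], [11,10,12,8,11,12,13,10,4,5,10,12,4], 13, [([], 599, [1,8,12,8,11,5,11,12,9]), ([170,100], 192, [3,9,10,12]), ([], 589, [3,13])], []⟩
def c981 : Clm := ⟨6, 6, true, [9,11,12,9,11,13,12,11,4,10,12,13,4], [5,8,10,11,5,12,11,13,2,13,7,12,4,3,8], 5, [([], 980, [])], []⟩
def c982 : Clm := ⟨6, 6, true, [5,8,10,11,5,12,11,13,2,1,13,7,12,4,8], [9,11,12,9,11,13,12,11,4,10,12,13,4], 5, [([], 981, [])], []⟩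
def c983 : Clm := ⟨6, 5, true, [5,12,13,3,5,10,12,9,11,2,1,7,11,13,12,4,6], [3,13,5,10,13,12,8,13,4,10,12,4,3], 13, [([], 599, [1,13,10,12,11,12,8,11,10]), ([170,100], 192, [9,10,12,11,3]), ([372,370], 277, [3,9,10,13,5,12,13,10])], []⟩
def c984 : Clm := ⟨5, 6, true, [10,11,12,8,11,13,5,10,4,10,12,4], [5,12,13,3,5,10,12,9,11,2,1,7,11,13,12,4,6], 5, [([], 983, [])], []⟩
def c985 : Clm := ⟨6, 5, true, [9,12,13,3,5,10,12,9,13,2,13,7,10,13,4], [9,11,13,12,8,11,10,4,6,6], 13, [([], 599, [1,11,12,9,12,13,12]), ([170,100], 192, [3,10,12,8,13,12,13,5]), ([], 572, [3,5,12,13,5,12,9,13])], []⟩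
def c986 : Clm := ⟨5, 6, true, [12,8,13,10,12,13,12,9,4,6,6], [9,12,13,3,5,10,12,9,13,2,13,7,10,13,4], 5, [([], 985, [])], []⟩
def c987 : Clm := ⟨6, 6, true, [5,8,13,12,13,10,12,8,13,2,11,10,12,7,11], [8,10,11,3,12,9,12,11,4], 13, [([], 599, [10,13,12,13,10,12,8]), ([170,100], 192, [9,10,11,3,12,11]), ([], 238, [5,8,10,13,12,13,10])], []⟩
def c988 : Clm := ⟨6, 6, true, [1,8,10,11,12,9,12,4], [5,8,13,12,13,10,12,8,13,2,11,10,12,7,11], 5, [([], 987, [])], []⟩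
def c989 : Clm := ⟨6, 6, true, [5,8,13,12,13,10,12,8,13,2,1,11,10,12,7,11], [1,8,10,11,12,9,12,4], 5, [([], 988, [])], []⟩
def c990 : Clm := ⟨6, 6, true, [8,12,13,12,9,4,10,13,6], [1,8,10,11,10,12,11,12,4,6,9], 13, [([], 788, [1,5,9,11,12,9,11,12,11]), ([98,170,111], 192, [1,9,10,12,11,5,13]), ([], 578, [3,11,13])], []⟩
def c991 : Clm := ⟨6, 6, true, [1,8,11,10,12,11,12,4,6,9], [8,12,13,12,9,4,10,13,6], 5, [([], 990, [])], []⟩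
def c992 : Clm := ⟨6, 5, true, [9,10,13,3,10,12,8,11,13,2,4,13,4,7,13,10], [1,11,12,8,11,5,12,11,10,4,12,4], 13, [([], 788, [3,13,12,8,12,11,12,13]), ([98,170,111], 192, [5,9,10,12,11,3]), ([372,370], 277, [5,9,10,11,12,13,10,13])], []⟩
def c993 : Clm := ⟨5, 6, true, [10,11,12,8,11,13,5,10,4,12,4], [9,10,13,3,10,12,8,11,13,2,4,13,4,7,13,10], 5, [([], 992, [])], []⟩
def c994 : Clm := ⟨6, 5, true, [5,8,12,11,5,10,12,9,11,2,7,11,10,12,9,13], [5,8,12,9,11,5,11,4,5], 13, [([], 599, [1,5,9,11,12,9,11,13,12]), ([170,100], 192, [3,9,10,11,12]), ([], 280, [5,8,13,5,11])], []⟩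
def c995 : Clm := ⟨5, 6, true, [1,5,8,12,9,11,5,4,5], [5,8,12,11,5,10,12,9,11,2,7,11,10,12,9,13], 5, [([], 994, [])], []⟩
def c996 : Clm := ⟨6, 5, true, [9,12,11,12,8,13,4,5,6,10,4,12,9], [1,5,8,12,9,11,5,4,5], 5, [([], 995, [])], []⟩
def c997 : Clm := ⟨6, 6, true, [5,9,12,13,10,12,8,13,2,6,13,10,12,11], [12,11,5,12,8,11,4,6,5,6], 13, [([], 243, [8,11,12,13,12,8,13]), ([104,100,96], 192, [9,10,12,8,13,3,12]), ([], 230, [5,9,10,11,3,12,9,13,10])], []⟩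
def c998 : Clm := ⟨6, 6, true, [1,12,11,5,12,8,4,6,5,6], [5,9,12,13,10,12,8,13,2,6,13,10,12,11], 5, [([], 997, [])], []⟩
def c999 : Clm := ⟨6, 6, true, [5,9,12,13,10,12,8,13,2,1,6,13,10,12,11], [1,12,11,5,12,8,4,6,5,6], 5, [([], 998, [])], []⟩
def c1000 : Clm := ⟨6, 6, true, [10,13,12,8,11,13,5,2,7,13,4,6], [10,12,8,13,3,12,9,11,10,4,10,12,13,4], 13, [([], 223, [11,13,5,12,9,13]), ([110,104,100], 192, [3,11,12]), ([], 233, [5,8,12,11,3,5,12,9])], []⟩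
def c1001 : Clm := ⟨6, 6, true, [5,13,12,8,12,11,12,9,11,4,5,10,12,4], [10,13,12,8,11,13,5,2,7,13,4,6], 5, [([], 1000, [])], []⟩
def c1002 : Clm := ⟨6, 6, true, [1,10,13,5,12,8,13,2,7,13,4,6,10], [5,13,12,8,12,11,12,9,11,4,5,10,12,4], 5, [([], 1001, [])], []⟩
def c1003 : Clm := ⟨6, 6, true, [8,11,13,12,13,12,9,4,10,12,4,6,8,12], [12,8,12,11,12,13,4,6,5,6], 13, [([], 599, [5,8,13,12,8,13,12]), ([170,100], 192, [5,10,12,8,11,3,12]), ([372,370], 227, [9,12,11,13,5,12,9,11,5])], []⟩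
def c1004 : Clm := ⟨6, 6, true, [12,8,11,12,11,12,13,4,6,5,6], [8,11,13,12,13,12,9,4,10,12,4,6,8,12], 5, [([], 1003, [])], []⟩
def c1005 : Clm := ⟨6, 5, true, [11,10,13,12,8,11,13,2,7,11,5,4,6], [1,10,11,10,12,11,4,10,12,13,4], 13, [([], 223, [13,3,5,12,9,13]), ([110,104,100], 192, [3,11,13,12,13]), ([372,370], 277, [8,12,11,13,5,12,11,5])], []⟩
def c1006 : Clm := ⟨5, 6, true, [5,12,13,5,10,11,12,4,5,10,12,4], [11,10,13,12,8,11,13,2,7,11,5,4,6], 5, [([], 1005, [])], []⟩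
def c1007 : Clm := ⟨6, 4, true, [8,10,11,3,10,2,13,10,13,12,4], [12,8,12,13,12,9,13,10,4,6,9], 13, [([], 243, [1,5,9,11,5,12,13,12,9]), ([104,100,96], 192, [1,3,5,8,10,12]), ([], 575, [3,8,11,13,12,13,12,9])], []⟩
def c1008 : Clm := ⟨4, 6, true, [9,12,9,11,10,12,9,13,10,4,6,9], [8,10,11,3,10,2,13,10,13,12,4], 5, [([], 1007, [])], []⟩
def c1009 : Clm := ⟨6, 6, true, [3,10,11,12,9,2,11,5,10,12,4], [13,12,13,12,8,12,11,10,4,6,9], 13, [([], 243, [5,8,12,11,3,5,12,9]), ([104,100,96], 192, [10,11,3,12,9,13,12]), ([], 578, [3,8,10,13,12,9,12,13,10])], []⟩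
def c1010 : Clm := ⟨6, 6, true, [10,13,12,8,11,12,13,10,4,6,9], [3,10,11,12,9,2,11,5,10,12,4], 5, [([], 1009, [])], []⟩
def c1011 : Clm := ⟨6, 6, true, [3,5,11,12,13,10,12,13,2,7,13,7,9,10], [10,13,12,8,11,12,13,10,4,6,9], 5, [([], 1010, [])], []⟩
def c1012 : Clm := ⟨6, 6, true, [10,12,11,13,12,13,10,2,4,3,6,12,13,12], [5,9,4,10,12,4,3,8], 13, [([], 788, [5,9,13,12,9,13,12,13]), ([98,170,111], 192, [3,13,10,12,9,11,10,12]), ([372,370], 227, [3,9,10,13,12,8,13,10])], []⟩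
def c1013 : Clm := ⟨6, 6, true, [5,9,11,4,10,12,4,8], [10,12,11,13,12,13,10,2,4,3,6,12,13,12], 5, [([], 1012, [])], []⟩
def c1014 : Clm := ⟨6, 6, true, [10,12,11,13,12,13,10,2,4,6,12,13,12], [5,9,11,4,10,12,4,8], 5, [([], 1013, [])], []⟩
def c1015 : Clm := ⟨6, 4, true, [8,10,13,10,12,13,10,2,1,4,6,12,11,10], [8,11,10,13,12,9,11,13,2,7,13,12,4,6,13], 13, [([], 599, [5,8,11,12,8,11,12,11,13]), ([170,100], 192, [5,10,11,3,12,8,13,12]), ([], 586, [1,5,12,11,5,12,13])], []⟩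
def c1016 : Clm := ⟨4, 6, true, [9,12,13,12,13,10,11,2,1,11,12,7,8,13,4], [8,10,13,10,12,13,10,2,1,4,6,12,11,10], 5, [([], 1015, [])], []⟩
def c1017 : Clm := ⟨6, 4, true, [8,10,13,10,12,13,10,2,4,6,12,11,3,10], [9,12,13,12,13,10,11,2,1,11,12,7,8,13,4], 5, [([], 1016, [])], []⟩
def c1018 : Clm := ⟨6, 4, true, [9,10,11,3,5,2,1,13,10,12,6,13], [1,8,10,12,2,1,4,12,13,4,13], 13, [([], 599, [1,8,12,8,11,13,12,9,13,5]), ([170,100], 192, [9,10,12,13,3]), ([373], 260, [1,9,11,12,11,13,12,13,10])], []⟩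
def c1019 : Clm := ⟨4, 6, true, [10,12,11,3,12,8,12,2,4,12,13,4,10,13], [9,10,11,3,5,2,1,13,10,12,6,13], 5, [([], 1018, [])], []⟩
def c1020 : Clm := ⟨6, 4, true, [9,10,11,3,5,2,13,10,12,6,13], [10,12,11,3,12,8,12,2,4,12,13,4,10,13], 5, [([], 1019, [])], []⟩
def c1021 : Clm := ⟨6, 5, true, [1,8,10,13,5,10,12,11,13,2,13,7,5,4,3,8], [1,9,12,8,13,12,9,11,4,5,10,12,4,8], 13, [([], 599, [5,12,8,13,5]), ([170,100], 192, [3,13,12,9,12,13,10,12]), ([], 583, [5,11,12,13,12,8,13,5])], []⟩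
def c1022 : Clm := ⟨5, 6, true, [8,12,9,13,10,13,10,12,2,6,13,5,7,10], [1,8,10,13,5,10,12,11,13,2,13,7,5,4,3,8], 5, [([], 1021, [])], []⟩
def c1023 : Clm := ⟨6, 5, true, [1,8,10,13,5,10,12,11,13,2,1,13,7,5,4,8], [8,12,9,13,10,13,10,12,2,6,13,5,7,10], 5, [([], 1022, [])], []⟩
def c1024 : Clm := ⟨6, 6, true, [5,10,12,9,11,5,12,13,4,7,7], [5,10,12,13,12,13,10,4,5,12,4], 13, [([], 269, [8,12,9,11,3,5,12]), ([110,100], 192, [1,11,5,13,12]), ([372,370], 233, [9,11,12,11,12,8,13])], []⟩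
def c1025 : Clm := ⟨6, 6, true, [5,11,12,9,12,13,12,8,13,4,5,12,4], [5,10,12,9,11,5,12,13,4,7,7], 5, [([], 1024, [])], []⟩
def c1026 : Clm := ⟨6, 6, true, [5,11,12,13,10,13,12,9,12,4,7,7], [5,11,12,9,12,13,12,8,13,4,5,12,4], 5, [([], 1025, [])], []⟩
def c1027 : Clm := ⟨6, 5, true, [3,5,11,12,13,10,12,13,2,6,9,13,6,13,4], [1,9,13,10,12,11,12,11,2,13,5,10], 13, [([], 599, [12,9,12,11,12,9,11]), ([170,100], 192, [9,10,13,3,12]), ([372,370], 274, [3,8,10,11,12,11,10,13])], []⟩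
def c1028 : Clm := ⟨5, 6, true, [1,9,13,12,13,5,10,13,12,4,5,10,4], [3,5,11,12,13,10,12,13,2,6,9,13,6,13,4], 5, [([], 1027, [])], []⟩
def c1029 : Clm := ⟨6, 5, true, [5,12,11,5,12,9,11,13,2,11,12,7,11,2], [1,9,13,12,13,5,10,13,12,4,5,10,4], 5, [([], 1028, [])], []⟩
def c1030 : Clm := ⟨6, 6, true, [1,10,13,12,8,11,13,12,2,7,13,4,6], [1,5,9,11,12,9,11,12,11,13,4,10,12,13,4], 13, [([], 223, [12,9,11,13,12,13,5,12]), ([110,104,100], 192, [3,13,12]), ([], 230, [5,9,12,11,3,5,12,9])], []⟩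
def c1031 : Clm := ⟨6, 6, true, [1,10,12,11,10,12,8,11,10,4,5,10,12,4], [1,10,13,12,8,11,13,12,2,7,13,4,6], 5, [([], 1030, [])], []⟩
def c1032 : Clm := ⟨6, 6, true, [11,12,13,12,4,10,12,13,4,6], [1,5,9,10,13,2,1,7,11,10], 23, [([], 223, [9,11,13,12,11,12,8]), ([110,104,98], 192, [1,3,9])], []⟩
def c1033 : Clm := ⟨6, 6, true, [9,11,5,10,13,2,7,11,10], [11,12,13,12,4,10,12,13,4,6], 5, [([], 1032, [])], []⟩
def c1034 : Clm := ⟨6, 6, true, [9,11,5,12,13,5,13,12,8,4,5,10,12,4,6], [9,11,5,10,13,2,7,11,10], 5, [([], 1033, [])], []⟩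
def c1035 : Clm := ⟨6, 6, true, [1,8,12,13,10,12,8,11,2,13,7,5,10,13,5], [8,12,13,10,12,11,5,12,2,7,11,10,12,4,12], 47, [([], 578, [8,11,12,9,11,5,11]), ([], 269, [9,12,8,13,5,12,9]), ([110,104], 192, [1,3,5,8])], []⟩
def c1036 : Clm := ⟨6, 6, true, [3,8,10,11,10,2,6,13,6,6,10,12], [1,8,12,13,10,12,8,11,2,13,7,5,10,13,5], 5, [([], 1035, [])], []⟩
def c1037 : Clm := ⟨6, 6, true, [8,13,3,10,11,12,9,2,13,6,5,10,12,11], [11,3,5,10,12,9,11,4,6,5,9], 45, [([], 223, [1,10,11,12,8,13,10,12,9]), ([100,110], 192, [1,3,5,12,9]), ([], 979, [1,11,12,8,11,13])], []⟩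
def c1038 : Clm := ⟨6, 6, true, [11,5,10,12,9,4,6,5,9], [8,13,3,10,11,12,9,2,13,6,5,10,12,11], 5, [([], 1037, [])], []⟩
def c1039 : Clm := ⟨6, 6, true, [8,11,10,13,12,9,13,10,4,6,6,10,12,4,5], [3,12,13,5,10,12,13,12,9,2,7,13,7,10,12,7], 47, [([], 1038, [1,12,8,12,11,13,12,9]), ([372], 269, [11,12,9,13,12,9,13]), ([110,98,96], 192, [3,8,13,12,8])], []⟩
def c1040 : Clm := ⟨6, 6, true, [1,13,12,9,12,11,13,4,7,12,4,10,4,5], [8,11,10,13,12,9,13,10,4,6,6,10,12,4,5], 5, [([], 1039, [])], []⟩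
def c1041 : Clm := ⟨6, 6, true, [12,9,11,10,13,12,8,2,4,13,7,13,2,5], [1,13,12,9,12,11,13,4,7,12,4,10,4,5], 5, [([], 1040, [])], []⟩
def c1042 : Clm := ⟨6, 6, true, [1,12,13,10,12,8,11,12,2,6,11,5,6,10,13], [8,10,13,12,9,11,13,10,2,1,7,13,6,6,10], 47, [([], 589, [9,11,3,13,12,9,11]), ([], 269, [1,13,12,8,11,12,9,13]), ([110,98], 192, [1,3,5,9,12,8])], []⟩
def c1043 : Clm := ⟨6, 6, true, [8,10,13,12,9,11,13,2,7,13,6,6,10], [1,12,13,10,12,8,11,12,2,6,11,5,6,10,13], 5, [([], 1042, [])], []⟩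
def c1044 : Clm := ⟨6, 6, true, [1,8,12,11,10,12,11,12,2,6,13,10,13,6,13], [8,10,13,12,9,11,13,2,7,13,6,6,10], 5, [([], 1043, [])], []⟩
def c1045 : Clm := ⟨6, 6, true, [12,9,13,5,10,13,12,11,2,6,13,2,1,6,13], [1,5,10,11,12,8,13,10,2,1,6,9,13,2], 47, [([], 926, [3,9,13,10,12,8,11,12,11]), ([], 777, [5,10,11,12,13,10,13,12,11,12]), ([102], 192, [3,8,13,10,12,9])], []⟩
def c1046 : Clm := ⟨6, 6, true, [5,10,13,10,12,8,2,1,6,9,11,5,4], [12,9,13,5,10,13,12,11,2,6,13,2,1,6,13], 5, [([], 1045, [])], []⟩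
def c1047 : Clm := ⟨6, 6, true, [8,12,13,5,12,13,10,2,4,12,13,6,12,11], [3,9,12,11,10,12,9,12,13,2,11,12,13,2,11,5], 45, [([], 656, [10,13,10,13,12,8,13]), ([96,170,110], 192, [1,3,9,10,12,9]), ([373,370], 692, [3,9,11,12,9,13,10,12,9])], []⟩
def c1048 : Clm := ⟨6, 6, true, [8,13,3,10,12,11,13,2,1,4,13,12,13,6,5], [8,12,13,5,12,13,10,2,4,12,13,6,12,11], 5, [([], 1047, [])], []⟩
def c1049 : Clm := ⟨6, 6, true, [8,12,13,3,10,12,2,1,13,2,12,13,6,12], [8,13,3,10,12,11,13,2,1,4,13,12,13,6,5], 5, [([], 1048, [])], []⟩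
def c1050 : Clm := ⟨6, 6, true, [5,12,8,11,3,12,13,2,4,3,12,13,7], [8,11,5,10,13,12,8,2,1,11,12,4,3,7,9], 47, [([], 1048, [10,11,10,12,13,5,10,12,13]), ([370], 361, [9,13,3,10,12,13,12,8]), ([96,171,111], 192, [3,11,13,10,12,8])], []⟩
def c1051 : Clm := ⟨6, 6, true, [8,11,5,10,13,12,8,2,11,12,4,7,9], [5,12,8,11,3,12,13,2,4,3,12,13,7], 5, [([], 1050, [])], []⟩
def c1052 : Clm := ⟨5, 6, true, [1,5,8,13,12,8,11,4,5,12], [1,10,13,12,8,11,13,12,2,7,13,7,10], 7, [([], 582, [5,8,11,5,12,13,12,9]), ([], 191, [5,12]), ([110,110,104], 224, [12,8,12,11,5,12,11,13])], []⟩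
def c1053 : Clm := ⟨6, 5, true, [11,10,13,12,8,11,13,12,2,1,7,13,7,10], [1,5,8,13,12,8,11,4,5,12], 5, [([], 1052, [])], []⟩
def c1054 : Clm := ⟨6, 6, true, [1,10,13,12,8,11,13,5,2,13,12,4,6], [5,13,3,12,11,10,13,12,8,2,11,12,4,5,7,11], 13, [([], 191, [3,5,9,11,12]), ([98,170,110,96], 123, [11,12,9,12,11,12,11]), ([228,253,227], 967, [1,9,12,8,13,10,12,13,12])], []⟩
def c1055 : Clm := ⟨6, 6, true, [10,12,8,13,3,10,12,11,13,2,1,4,12,6,13,12,4], [1,10,13,12,8,11,13,5,2,13,12,4,6], 5, [([], 1054, [])], []⟩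
def c1056 : Clm := ⟨6, 6, true, [1,8,12,9,11,12,9,11,2,1,4,12,13,12,6,5], [9,13,10,12,11,5,12,8,2,1,13,7,12,4,6,13], 17, [([], 949, []), ([], 191, [13,5,12,11,5]), ([], 776, [11,13])], []⟩
def c1057 : Clm := ⟨6, 6, true, [9,13,10,12,8,11,5,12,2,13,5,7,7,13,4], [1,8,12,9,11,12,9,11,2,1,4,12,13,12,6,5], 5, [([], 1056, [])], []⟩
def c1058 : Clm := ⟨6, 6, true, [8,12,9,11,3,10,12,9,11,2,4,6,5,12,13,10], [9,13,10,12,8,11,5,12,2,13,5,7,7,13,4], 5, [([], 1057, [])], []⟩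
def c1059 : Clm := ⟨6, 6, true, [8,10,13,10,12,13,12,11,2,1,11,12,13,10,2], [5,12,11,4,6,5,6,10,13,2], 17, [([], 959, []), ([], 191, [9,12,11,5]), ([], 681, [1,11,13])], []⟩
def c1060 : Clm := ⟨6, 6, true, [9,12,9,11,12,9,11,4,6,5,6,10,13,2], [8,10,13,10,12,13,12,11,2,1,11,12,13,10,2], 5, [([], 1059, [])], []⟩
def c1061 : Clm := ⟨6, 6, true, [1,8,10,12,8,13,10,12,9,2,13,2,6,9,13,7,5], [1,5,8,11,13,10,12,9,11,2,1,11,12,4,12,4,10], 17, [([], 931, [9,11,12,13,10,11]), ([], 191, [1,10,12,13]), ([170,102,98], 605, [13,3,12,9])], []⟩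
def c1062 : Clm := ⟨6, 6, true, [8,13,10,12,13,12,11,2,6,9,13,2,12,6,5], [1,8,10,12,8,13,10,12,9,2,13,2,6,9,13,7,5], 5, [([], 1061, [])], []⟩
def c1063 : Clm := ⟨6, 6, true, [1,10,11,12,8,11,12,9,11,2,13,4,12,13,4,7], [8,13,10,12,13,12,11,2,6,9,13,2,12,6,5], 5, [([], 1062, [])], []⟩
def c1064 : Clm := ⟨6, 6, true, [1,8,13,10,11,12,13,2,1,11,5,4,6,9], [3,9,11,10,12,11,12,8,12,2,7,13,5,7], 17, [([], 940, [1,5,9,10,13,12,8,11,10]), ([], 191, [1,9,10,11,13,12]), ([111,98,170,100], 767, [1,8,11,12,8])], []⟩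
def c1065 : Clm := ⟨6, 6, true, [3,9,10,12,8,13,12,11,13,2,1,7,13,5,7], [1,8,13,10,11,12,13,2,1,11,5,4,6,9], 5, [([], 1064, [])], []⟩
def c1066 : Clm := ⟨6, 6, true, [8,10,11,3,12,13,2,1,13,2,6,9], [3,9,10,12,8,13,12,11,13,2,1,7,13,5,7], 5, [([], 1065, [])], []⟩
def c1067 : Clm := ⟨6, 5, true, [5,8,13,5,12,9,11,2,13,6,6,12,11], [8,10,12,8,13,3,12,9,13,2,4,5,13,7,13,12,13], 17, [([], 925, []), ([], 191, [1,8,11,5,13,12]), ([171,110,98,96], 168, [5,8,12,11,5,12,13,10])], []⟩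
def c1068 : Clm := ⟨5, 6, true, [10,13,10,12,8,13,10,2,11,12,4,5,7,11,10], [5,8,13,5,12,9,11,2,13,6,6,12,11], 5, [([], 1067, [])], []⟩
def c1069 : Clm := ⟨6, 6, true, [12,8,11,12,11,12,2,4,5,7,12,13,5], [9,13,12,8,13,10,13,10,12,2,4,3,7,13,12,6,13], 15, [([], 191, [1,9,10,13,12,13]), ([110,170,104,96], 333, [8,12,13,10,12,9,12,11]), ([], 897, [1,8,12,11,13,12,8,13])], []⟩
def c1070 : Clm := ⟨6, 6, true, [9,13,12,8,13,10,13,10,12,2,1,4,7,13,12,6,13], [12,8,11,12,11,12,2,4,5,7,12,13,5], 5, [([], 1069, [])], []⟩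
def c1071 : Clm := ⟨6, 6, true, [1,5,13,12,8,11,10,2,13,6,5,4,8], [1,9,13,10,12,8,11,12,9,2,11,12,4,6], 17, [([], 936, [11]), ([], 191, [3,9,11,5,12]), ([104,171], 776, [1,9,12,13,10,12,11])], []⟩
def c1072 : Clm := ⟨6, 6, true, [1,9,13,10,12,8,11,12,9,2,1,11,12,4,3,6], [1,5,13,12,8,11,10,2,13,6,5,4,8], 5, [([], 1071, [])], []⟩
def c1073 : Clm := ⟨6, 6, true, [1,5,13,12,8,11,10,2,1,13,6,5,4,3,8], [1,9,13,10,12,8,11,12,9,2,1,11,12,4,3,6], 5, [([], 1072, [])], []⟩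
def c1074 : Clm := ⟨6, 6, true, [3,8,10,11,10,12,13,5,2,4,13,10,12,4], [13,5,10,12,8,11,12,13,2,1,4,7,9,12,11,5], 15, [([], 191, [9,12,11,10,13,12]), ([111,100], 390, [3,5,8,10,11,13,12,9,11]), ([373,370], 915, [8,10,12,13,10,13,12,8])], []⟩
def c1075 : Clm := ⟨6, 6, true, [8,10,13,12,9,13,5,12,2,4,6,13,4,6,13,2], [3,8,10,11,10,12,13,5,2,4,13,10,12,4], 5, [([], 1074, [])], []⟩
def c1076 : Clm := ⟨6, 6, true, [11,12,8,11,12,8,11,2,4,6,12,9,13,5], [11,12,8,11,5,12,9,2,1,7,7,13,12,11], 15, [([], 191, [9,10,13,10,12,13]), ([104,100], 736, [12,8,11,12,13,12,9,13,12]), ([], 897, [3,9,12,13,5,10,12,13,12])], []⟩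
def c1077 : Clm := ⟨6, 6, true, [11,12,8,11,5,10,12,9,2,1,7,7,13,12,11], [11,12,8,11,12,8,11,2,4,6,12,9,13,5], 5, [([], 1076, [])], []⟩
def c1078 : Clm := ⟨6, 6, true, [1,10,12,9,12,13,10,2,7,9,13,6,13], [1,8,10,11,10,12,13,2,11,12,7,13,7], 17, [([], 952, [1,13,12,9,11,12,8,11,10]), ([372], 191, [5,8,12,13]), ([96,111,170,102], 745, [5,9,10,11,12,9,13,10,12])], []⟩
def c1079 : Clm := ⟨6, 6, true, [1,8,10,11,10,12,13,10,2,11,12,7,13,7], [1,10,12,9,12,13,10,2,7,9,13,6,13], 5, [([], 1078, [])], []⟩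
def c1080 : Clm := ⟨6, 6, true, [1,10,12,9,12,13,2,7,9,13,6,13], [1,8,10,11,10,12,13,10,2,11,12,7,13,7], 5, [([], 1079, [])], []⟩
def c1081 : Clm := ⟨5, 6, true, [9,13,3,12,8,13,12,11,2,1,4,12,11,10], [5,8,12,9,13,12,13,10,2,1,4,6,12,8,11], 11, [([], 281, [11,5,11,12,11,10,12,9]), ([], 191, [5,8,13,10,12]), ([104,102,100,98], 655, [3,10,13,12,9,12,11,12])], []⟩
def c1082 : Clm := ⟨6, 5, true, [5,8,12,9,13,12,13,10,2,4,6,12,8,11,3], [9,13,3,12,8,13,12,11,2,1,4,12,11,10], 5, [([], 1081, [])], []⟩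
def c1083 : Clm := ⟨6, 6, true, [3,10,13,5,12,8,11,10,2,1,4,12,11,10], [9,10,13,3,12,9,11,10,2,1,4,12,9,13,2,3], 11, [([], 226, [3,5,12,11,12,9,13,10]), ([], 191, [5,9,10,12]), ([104,102,98], 817, [3,10,11,5,12,9,11,10])], []⟩
def c1084 : Clm := ⟨6, 6, true, [8,11,12,9,12,13,10,13,2,13,12,7,13,4,6], [3,10,13,5,12,8,11,10,2,1,4,12,11,10], 5, [([], 1083, [])], []⟩
def c1085 : Clm := ⟨6, 6, true, [3,10,13,5,12,8,11,10,2,4,12,11,3,10], [8,11,12,9,12,13,10,13,2,13,12,7,13,4,6], 5, [([], 1084, [])], []⟩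
def c1086 : Clm := ⟨5, 6, true, [12,11,13,12,9,12,11,2,4,7,13,6,13], [1,12,8,11,5,12,11,10,2,6,13,2,4,6,6], 11, [([], 275, [3,5,9,12,13,12,11,10]), ([], 191, [1,9,11,12,9,11,10,12]), ([104,96], 817, [9,10,12,8,11,3,13,12,11])], []⟩
def c1087 : Clm := ⟨6, 5, true, [10,12,8,12,13,12,11,10,2,6,13,2,6,6,11], [12,11,13,12,9,12,11,2,4,7,13,6,13], 5, [([], 1086, [])], []⟩
def c1088 : Clm := ⟨6, 6, true, [3,10,13,10,12,8,11,10,2,1,4,12,11,10], [8,12,11,10,13,12,8,13,2,1,11,5,6,11,5], 11, [([], 226, [12,13,3,5,10,12,9]), ([], 191, [1,5,9,10,12]), ([104,102,98], 827, [11,3])], []⟩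
def c1089 : Clm := ⟨6, 6, true, [13,5,12,9,11,13,12,2,1,11,5,6,11,5], [3,10,13,10,12,8,11,10,2,1,4,12,11,10], 5, [([], 1088, [])], []⟩
def c1090 : Clm := ⟨6, 3, true, [3,12,11,5,10,12,2,1,7,9,13,2,12], [8,12,9,11,5,11,5,12,11,2,4,5,13,6,13,10,12], 13, [([], 819, [1,13,12,8,11,13]), ([333,333,200], 261, [5,12,13,5,10,11,12,9]), ([372], 191, [1,11,10,12,13,12])], []⟩
def c1091 : Clm := ⟨3, 6, true, [5,8,10,12,9,11,13,12,2,1,4,6,6,12,13,7], [3,12,11,5,10,12,2,1,7,9,13,2,12], 5, [([], 1090, [])], []⟩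
def c1092 : Clm := ⟨6, 3, true, [3,5,10,13,5,12,13,2,1,7,9,11,5,4,12], [5,8,10,12,9,11,13,12,2,1,4,6,6,12,13,7], 5, [([], 1091, [])], []⟩
def c1093 : Clm := ⟨6, 3, true, [12,8,11,10,12,11,2,7,7,11,13,12,11], [5,8,11,10,12,9,2,4,13,12,13,6,5], 13, [([], 752, [1,9,10,12,11,10,12,9,11]), ([253,227,252], 571, [5,9,12,13,12,8,11,10]), ([], 191, [12])], []⟩
def c1094 : Clm := ⟨3, 6, true, [5,8,11,10,12,9,2,4,13,3,12,13,6,5], [12,8,11,10,12,11,2,7,7,11,13,12,11], 5, [([], 1093, [])], []⟩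
def c1095 : Clm := ⟨6, 3, true, [1,9,11,13,5,10,12,11,12,2,7,9,13,6,12,6], [5,8,11,10,12,9,2,4,13,3,12,13,6,5], 5, [([], 1094, [])], []⟩
def c1096 : Clm := ⟨6, 6, true, [1,5,9,13,12,9,11,13,12,2,1,4,12,11,10], [8,12,9,11,13,10,12,8,2,11,12,7,13,7], 11, [([], 229, [5,11,12,11,10,12,9]), ([], 191, [1,5,11,10,12]), ([110,104], 687, [1,5,11,12,11,13])], []⟩
def c1097 : Clm := ⟨6, 6, true, [8,12,9,11,13,12,8,2,11,12,7,13,7], [1,5,9,13,12,9,11,13,12,2,1,4,12,11,10], 5, [([], 1096, [])], []⟩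
def c1098 : Clm := ⟨6, 6, true, [1,5,9,13,12,9,11,13,12,2,4,12,11,3,10], [8,12,9,11,13,12,8,2,11,12,7,13,7], 5, [([], 1097, [])], []⟩
def c1099 : Clm := ⟨5, 6, true, [11,10,12,9,13,10,12,13,2,1,4,5,12,11,10], [1,12,8,13,12,8,13,5,13,2,1,6,6,13,5], 11, [([], 275, [1,12,8,11,12,8,13,10,12]), ([], 191, [5,8,10,12,11,5]), ([171,98], 681, [3,5,10,13,12,9,13])], []⟩
def c1100 : Clm := ⟨6, 5, true, [5,13,5,10,11,12,9,11,12,2,6,6,13,5], [11,10,12,9,13,10,12,13,2,1,4,5,12,11,10], 5, [([], 1099, [])], []⟩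
def c1101 : Clm := ⟨5, 6, true, [10,11,12,9,11,12,8,2,4,7,13,6,9], [1,8,13,5,12,11,10,12,2,6,6,13,7,5,8], 11, [([], 278, [1,13,10,13,12,11]), ([], 191, [1,9,11,12,13,10]), ([111,111,96], 687, [12,8,13,3,5,12,13,10])], []⟩
def c1102 : Clm := ⟨6, 5, true, [9,10,12,9,11,12,8,11,2,11,5,6,11,13,6], [10,11,12,9,11,12,8,2,4,7,13,6,9], 5, [([], 1101, [])], []⟩
def c1103 : Clm := ⟨6, 6, true, [9,10,13,5,10,12,2,4,7,13,6,9], [1,13,12,8,11,13,5,12,2,1,4,13,7,5,13], 11, [([], 226, [8,13,5,12,13,10,12,8]), ([], 191, [5,9,10,11,13,12]), ([170,96,171,102], 745, [12,11,12,8,12,13,10])], []⟩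
def c1104 : Clm := ⟨6, 6, true, [1,13,12,8,11,13,5,12,2,4,3,13,7,5,13], [9,10,13,5,10,12,2,4,7,13,6,9], 5, [([], 1103, [])], []⟩
def c1105 : Clm := ⟨4, 6, true, [3,11,13,12,9,11,12,8,2,1,4,12,6,13,2,6], [1,10,11,12,9,11,12,13,2,1,4,13,7,12,11,10], 11, [([], 585, [8,12,13,3,5,10,12,9]), ([], 191, [9,12,13,5]), ([171,104,96], 776, [9,10,12,13,10,13,12,13])], []⟩
def c1106 : Clm := ⟨6, 4, true, [12,13,5,12,9,13,12,2,4,5,6,13,7,7], [3,11,13,12,9,11,12,8,2,1,4,12,6,13,2,6], 5, [([], 1105, [])], []⟩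
def c1107 : Clm := ⟨4, 6, true, [12,13,10,12,11,12,8,2,1,11,12,7,9,13,4], [1,8,12,13,10,12,9,11,2,4,3,6,13,12,11,2], 11, [([], 585, [5,9,11,12,13,10,12,8]), ([], 191, [9,13,5,13,12]), ([171,110], 1095, [5,9,12,11,10,12,11])], []⟩
def c1108 : Clm := ⟨6, 4, true, [8,12,8,11,12,13,10,2,13,2,7,13,7,5,8], [12,13,10,12,11,12,8,2,1,11,12,7,9,13,4], 5, [([], 1107, [])], []⟩
def c1109 : Clm := ⟨6, 6, true, [11,3,12,8,11,12,13,10,13,2,1,7,9,11,10], [8,10,12,11,12,11,5,2,1,4,5,12,11,13,7,13], 11, [([], 577, [11,5,10]), ([], 191, [8,12]), ([96,110,170], 754, [10,13,5,12,8,11,13])], []⟩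
def c1110 : Clm := ⟨6, 6, true, [8,10,12,11,12,11,5,2,1,4,12,11,13,5,7,13], [11,3,12,8,11,12,13,10,13,2,1,7,9,11,10], 5, [([], 1109, [])], []⟩
def c1111 : Clm := ⟨6, 6, true, [3,5,9,10,12,8,13,12,8,2,7,9,11,10], [8,10,12,11,12,11,5,2,1,4,12,11,13,5,7,13], 5, [([], 1110, [])], []⟩
def c1112 : Clm := ⟨6, 6, true, [1,10,12,13,5,10,12,2,4,13], [8,10,13,3,12,8,11,13,2,1,11,12,4,12], 11, [([], 232, [3,11,5,10,13,12,13]), ([], 191, [13,10,13,12]), ([171,110,98], 360, [1,11,5,12,8])], []⟩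
def c1113 : Clm := ⟨6, 6, true, [8,10,13,3,12,8,11,13,2,11,12,4,3,12], [1,10,12,13,5,10,12,2,4,13], 5, [([], 1112, [])], []⟩
def c1114 : Clm := ⟨6, 6, true, [1,10,12,13,5,10,12,2,4,3,13], [8,10,13,3,12,8,11,13,2,11,12,4,3,12], 5, [([], 1113, [])], []⟩
def c1115 : Clm := ⟨5, 6, true, [12,9,13,3,12,13,4,12,4,10,4,3], [8,12,11,10,12,8,13,10,2,7,9,13,4,12,7], 11, [([], 582, [1,9,12,11,5,10,12,8]), ([], 191, [11,13,5,12]), ([98,170,100], 1092, [3,5,11,12,9])], []⟩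
def c1116 : Clm := ⟨6, 5, true, [5,10,13,5,12,8,11,13,2,4,12,6,5,13,4,7], [12,9,13,3,12,13,4,12,4,10,4,3], 5, [([], 1115, [])], []⟩
def c1117 : Clm := ⟨5, 6, true, [1,11,12,9,12,11,13,4,12,4,10,4], [5,10,13,5,12,8,11,13,2,4,12,6,5,13,4,7], 5, [([], 1116, [])], []⟩
def c1118 : Clm := ⟨6, 6, true, [10,12,13,12,8,13,12,13,2,1,7,9,11,10], [1,12,8,11,13,5,12,9,2,7,13,4,7,5,11,2], 11, [([], 577, [3,13,5,10]), ([], 191, [5,8,12,11,5]), ([110,98,170,96], 817, [5,13,10,12,9,11,12])], []⟩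
def c1119 : Clm := ⟨6, 6, true, [5,9,11,12,8,13,12,13,12,2,4,5,7,13,2,7,11], [10,12,13,12,8,13,12,13,2,1,7,9,11,10], 5, [([], 1118, [])], []⟩
def c1120 : Clm := ⟨5, 6, true, [1,8,10,12,13,5,10,12,2,4,7,13,6,9], [1,13,12,8,13,12,9,2,1,13,6,10,12,4,3], 11, [([], 281, [5,8,12,13,10,12,8]), ([], 191, [1,8,13,10,12]), ([98], 736, [8,11,12,8,13,10,13,12,9])], []⟩
def c1121 : Clm := ⟨6, 5, true, [1,13,12,8,13,10,12,9,2,1,13,6,10,12,4], [1,8,10,12,13,5,10,12,2,4,7,13,6,9], 5, [([], 1120, [])], []⟩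
def c1122 : Clm := ⟨6, 6, true, [9,13,10,12,9,11,2,1,7,9,11,10], [1,9,11,10,12,9,11,2,13,7,10,13,10,2], 11, [([], 577, [8,11,5,12,11,10,12,9]), ([], 191, [8,13,12]), ([170,102,96], 754, [5,13,12,8,11,13,5])], []⟩
def c1123 : Clm := ⟨6, 6, true, [1,9,11,10,12,9,11,2,13,7,10,13,2], [9,13,10,12,9,11,2,1,7,9,11,10], 5, [([], 1122, [])], []⟩
def c1124 : Clm := ⟨6, 6, true, [9,13,10,12,9,11,10,2,7,9,11,10], [1,9,11,10,12,9,11,2,13,7,10,13,2], 5, [([], 1123, [])], []⟩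
def c1125 : Clm := ⟨4, 6, true, [1,8,10,13,10,12,9,11,12,2,6,11,5,10,12], [5,12,11,12,11,10,2,13,2,4,6,13,6,5], 11, [([], 261, [10,11,12,11,10,12,9]), ([372], 191, [1,11,5,10,12,11,5,12]), ([96,171], 681, [1,12,9,13,12,8,13,12])], []⟩
def c1126 : Clm := ⟨6, 4, true, [3,5,12,11,5,12,11,2,4,5,13,6,13,6,5], [1,8,10,13,10,12,9,11,12,2,6,11,5,10,12], 5, [([], 1125, [])], []⟩
def c1127 : Clm := ⟨4, 6, true, [12,13,12,9,11,12,8,11,2,6,13,10,13,12], [3,5,12,11,5,12,11,2,4,5,13,6,13,6,5], 5, [([], 1126, [])], []⟩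
def c1128 : Clm := ⟨5, 6, true, [5,8,12,9,11,5,12,13,2,4,7,13,6,9], [5,11,5,12,9,13,2,13,4,12,4,7,5], 11, [([], 278, [10,13,3,5,12,11]), ([], 191, [9,11,12,13,10]), ([110,100,96], 700, [3,9,11,13,12,9,11,10,13])], []⟩
def c1129 : Clm := ⟨6, 5, true, [3,13,5,12,9,11,10,12,2,4,7,12,4,13,12], [5,8,12,9,11,5,12,13,2,4,7,13,6,9], 5, [([], 1128, [])], []⟩
def c1130 : Clm := ⟨5, 6, true, [8,12,13,10,12,8,12,13,2,4,5,12,11,10], [3,13,5,12,9,11,10,12,2,4,7,12,4,13,12], 5, [([], 1129, [])], []⟩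
def c1131 : Clm := ⟨4, 6, true, [5,11,5,12,8,13,12,9,13,2,4,7,12,11,13,2,6], [5,9,10,11,12,9,11,2,1,6,9,11,13,12,4], 11, [([], 585, [3,10,11,12,13]), ([], 191, [3,9,13,5,12]), ([110,102], 790, [9,10,12,11,3,10,12,8,13])], []⟩
def c1132 : Clm := ⟨6, 4, true, [5,9,10,11,12,9,11,2,6,9,11,13,12,4,3], [5,11,5,12,8,13,12,9,13,2,4,7,12,11,13,2,6], 5, [([], 1131, [])], []⟩
def c1133 : Clm := ⟨4, 6, true, [1,5,10,13,12,8,11,12,9,2,13,12,4,3,2,12], [5,9,10,11,12,9,11,2,6,9,11,13,12,4,3], 5, [([], 1132, [])], []⟩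
def c1134 : Clm := ⟨6, 6, true, [12,8,11,5,10,13,12,2,4,13], [1,13,10,12,9,11,5,2,11,5,6,11,13,12], 11, [([], 229, [3,9,13,5,10,13,12,13]), ([], 191, [10,13,5,10,12]), ([98,171], 697, [3,13,12,9,13,10,13])], []⟩
def c1135 : Clm := ⟨6, 6, true, [1,13,10,12,9,11,12,8,2,6,13,6,12,9,12], [12,8,11,5,10,13,12,2,4,13], 5, [([], 1134, [])], []⟩
def c1136 : Clm := ⟨6, 6, true, [1,9,11,12,9,11,12,9,13,2,4,3,12,11,10], [9,12,8,13,3,10,13,12,11,2,1,4,5,6,9], 11, [([], 232, [8,13,12,13,5,10,12,9]), ([], 191, [1,5,13,10,12,13]), ([104,102], 1092, [3,12,13,5,10,13,12,11])], []⟩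
def c1137 : Clm := ⟨6, 6, true, [9,12,8,13,3,10,13,12,11,2,4,3,5,6,9], [1,9,11,12,9,11,12,9,13,2,4,3,12,11,10], 5, [([], 1136, [])], []⟩
def c1138 : Clm := ⟨6, 6, true, [1,9,11,12,9,11,12,9,13,2,4,12,11,10], [9,12,8,13,3,10,13,12,11,2,4,3,5,6,9], 5, [([], 1137, [])], []⟩
def c1139 : Clm := ⟨6, 6, true, [3,11,13,12,9,11,12,8,4,7,5,7], [10,13,5,10,12,8,11,12,4,7], 13, [([], 226, [8,10,13,10,12,9,13,10]), ([], 191, [10,12,8,11,12,11]), ([110,110], 270, [1,8,12,8,13])], []⟩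
def c1140 : Clm := ⟨6, 6, true, [8,12,8,13,10,13,12,9,4,7], [3,11,13,12,9,11,12,8,4,7,5,7], 5, [([], 1139, [])], []⟩
def c1141 : Clm := ⟨6, 6, true, [11,3,13,12,9,11,12,8,11,4,7,5,7], [8,12,8,13,10,13,12,9,4,7], 5, [([], 1140, [])], []⟩
def c1142 : Clm := ⟨6, 5, true, [9,11,5,10,13,2,6,11,10], [1,5,10,13,5,12,8,2,7,11,10], 21, [([], 191, [8]), ([171,111,102], 120, [3,10,11,5,12,8,11,10])], []⟩
def c1143 : Clm := ⟨5, 6, true, [1,13,5,10,13,12,8,2,1,7,11,10], [9,11,5,10,13,2,6,11,10], 5, [([], 1142, [])], []⟩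
def c1144 : Clm := ⟨6, 6, true, [9,12,8,13,12,9,13,4,5,6,6,10,4], [3,8,11,12,11,10,12,9,4,5,10,2,12,4], 9, [([], 195, [1,3,10,12]), ([372], 701, [3,9,12,9,11,13]), ([170,102,100], 649, [5,10,12,8,13,10])], []⟩
def c1145 : Clm := ⟨6, 6, true, [8,10,13,10,12,11,12,9,2,1,11,13,12,13,2], [9,12,8,13,12,9,13,4,5,6,6,10,4], 5, [([], 1144, [])], []⟩
def c1146 : Clm := ⟨6, 6, true, [8,13,12,8,13,10,13,12,2,13,5,7,7,10], [8,10,13,10,12,11,12,9,2,1,11,13,12,13,2], 5, [([], 1145, [])], []⟩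
def c1147 : Clm := ⟨6, 6, true, [3,10,13,12,8,11,10,12,4,6,10,12,4,8], [13,12,8,11,12,11,13,5,2,1,13,2,12,13,2,3], 9, [([], 195, [11,3,10]), ([372], 653, [5,10,13,12,8,11,13,5]), ([372], 940, [5,10,12,13,5])], []⟩
def c1148 : Clm := ⟨6, 6, true, [12,8,11,10,12,11,12,2,1,13,2,12,4,6,5], [3,10,13,12,8,11,10,12,4,6,10,12,4,8], 5, [([], 1147, [])], []⟩
def c1149 : Clm := ⟨6, 6, true, [11,3,12,9,11,13,12,4,6,5,6,10,13,4], [12,8,11,10,12,11,12,2,1,13,2,12,4,6,5], 5, [([], 1148, [])], []⟩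
def c1150 : Clm := ⟨6, 6, true, [12,8,11,10,12,11,12,2,1,13,2,12,7], [5,13,12,13,10,12,2,7,7,13,4,7,10], 9, [([], 1149, [5]), ([], 195, [11,3,10]), ([370], 653, [1,10,11,12,8,13])], []⟩
def c1151 : Clm := ⟨6, 6, true, [1,12,11,10,12,13,10,2,7,7,13,4,7], [12,8,11,10,12,11,12,2,1,13,2,12,7], 5, [([], 1150, [])], []⟩
def c1152 : Clm := ⟨6, 6, true, [5,9,10,13,12,9,11,13,2,6,13,2,7,13,10], [9,10,13,12,8,11,13,5,2,4,13,12,13,12,8], 17, [([], 688, [1,5,8,10,13,5,12,9]), ([], 697, [1,9,10,11,12,9,11]), ([372], 195, [12,8,13,3,10,12])], []⟩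
def c1153 : Clm := ⟨6, 6, true, [9,10,12,11,13,12,13,5,2,11,12,9,13,4,13], [5,9,10,13,12,9,11,13,2,6,13,2,7,13,10], 5, [([], 1152, [])], []⟩
def c1154 : Clm := ⟨6, 6, true, [3,9,10,11,10,12,9,13,10,2,6,13,2,7,5,11], [9,10,12,11,13,12,13,5,2,11,12,9,13,4,13], 5, [([], 1153, [])], []⟩
def c1155 : Clm := ⟨6, 6, true, [3,8,11,12,9,11,12,8,11,4,6,5,10,4], [1,5,11,13,10,12,9,11,12,2,1,13,2,1,6,6], 13, [([], 195, [8,13,3,12]), ([], 1019, [1,8,11,12,11,5,11,12]), ([332,202,333], 1017, [5,12,13,12,8,12,11,10])], []⟩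
def c1156 : Clm := ⟨6, 6, true, [12,9,11,5,12,11,12,11,2,7,7,11,12,4], [3,8,11,12,9,11,12,8,11,4,6,5,10,4], 5, [([], 1155, [])], []⟩
def c1157 : Clm := ⟨6, 6, true, [1,12,8,11,10,12,11,2,7,13,5,10], [12,9,11,5,12,11,12,11,2,7,7,11,12,4], 5, [([], 1156, [])], []⟩
def c1158 : Clm := ⟨6, 6, true, [8,11,3,5,10,12,9,2,6,13,6,5,8,10], [3,9,11,12,9,11,12,9,2,4,6,5,8,13,6,12], 15, [([], 1049, [5,9,13,3,12,8]), ([372], 195, [3,8,13,10,13,12]), ([], 1154, [9,10,13,3,10,12,8,13,10])], []⟩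
def c1159 : Clm := ⟨6, 6, true, [10,12,13,12,8,12,11,2,1,7,7,13,4,12,6], [8,11,3,5,10,12,9,2,6,13,6,5,8,10], 5, [([], 1158, [])], []⟩
def c1160 : Clm := ⟨6, 6, true, [3,5,8,10,12,13,10,12,13,2,11,10,12,4,5], [10,12,13,12,8,12,11,2,1,7,7,13,4,12,6], 5, [([], 1159, [])], []⟩
def c1161 : Clm := ⟨6, 6, true, [5,11,5,12,11,12,2,4,12,4,12,11,10], [8,10,12,13,10,12,9,12,2,4,3,12,4,12], 13, [([], 195, [9,10,11,3,13,12]), ([], 650, [1,11,12,8,13,10,12,9]), ([110,100,98], 703, [1,8,11,5,12,13,10,12,8])], []⟩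
def c1162 : Clm := ⟨6, 6, true, [8,10,12,13,10,12,9,12,2,4,12,4,3,11,12], [5,11,5,12,11,12,2,4,12,4,12,11,10], 5, [([], 1161, [])], []⟩
def c1163 : Clm := ⟨6, 6, true, [3,10,11,12,8,11,12,13,10,2,4,6,6,13,7,9], [8,10,12,13,10,12,9,12,2,4,12,4,3,11,12], 5, [([], 1162, [])], []⟩
def c1164 : Clm := ⟨6, 6, true, [1,9,11,12,8,11,13,4,5,7,10,12,4,9], [8,11,3,12,11,13,12,9,2,4,3,12,13,2,1], 13, [([], 195, [1,12,11,13,5,12]), ([], 217, [3,10,13,12,11,10]), ([111,104,100,96], 827, [3,8,12,11,10,13,12])], []⟩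
def c1165 : Clm := ⟨6, 6, true, [8,11,3,12,11,13,12,9,2,4,3,12,13,2,3], [1,9,11,12,8,11,13,4,5,7,10,12,4,9], 5, [([], 1164, [])], []⟩
def c1166 : Clm := ⟨6, 6, true, [5,12,8,13,5,12,11,13,4,6,5,10,4], [3,10,12,8,13,5,12,9,2,7,7,13,4,7,10], 13, [([], 195, [8,11,3,13,12]), ([], 1019, [10,13,5,12,8,11,10]), ([210,333,333], 802, [3,9,10,11,13,12,9,13])], []⟩
def c1167 : Clm := ⟨6, 6, true, [10,12,8,13,5,12,9,11,2,7,7,13,4,7], [5,12,8,13,5,12,11,13,4,6,5,10,4], 5, [([], 1166, [])], []⟩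
def c1168 : Clm := ⟨6, 6, true, [12,8,12,13,10,11,12,2,7,13,5,10], [10,12,8,13,5,12,9,11,2,7,7,13,4,7], 5, [([], 1167, [])], []⟩
def c1169 : Clm := ⟨6, 6, true, [8,13,3,10,12,8,13,12,2,4,3,6,13,6], [11,5,10,12,8,2,4,7,13,3,12,8,11], 13, [([], 195, [3,13,5,10]), ([370], 653, [5,10,13,12,8,11,13,5]), ([373], 241, [5,10,12,11,5,12,11,10])], []⟩
def c1170 : Clm := ⟨6, 6, true, [11,5,10,12,8,2,4,7,13,12,8,11], [8,13,3,10,12,8,13,12,2,4,3,6,13,6], 5, [([], 1169, [])], []⟩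
def c1171 : Clm := ⟨6, 6, true, [1,8,12,13,10,13,10,12,9,2,4,7,9,13,3,7], [5,10,12,9,11,13,12,2,4,12,13,2,1], 13, [([], 195, [10,12,11,3,5]), ([372], 701, [12,8,12,11,5]), ([171,110,98,96], 649, [9,10,13,12,8,11,12,11])], []⟩
def c1172 : Clm := ⟨6, 6, true, [5,10,12,9,11,13,12,2,4,12,13,2,3], [1,8,12,13,10,13,10,12,9,2,4,7,9,13,3,7], 5, [([], 1171, [])], []⟩
def c1173 : Clm := ⟨6, 6, true, [1,8,12,13,10,13,12,8,2,4,13,6,6,13], [5,10,12,9,11,13,12,2,4,12,13,2,3], 5, [([], 1172, [])], []⟩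
def c1174 : Clm := ⟨6, 6, true, [9,11,13,12,8,13,12,13,12,4,5,7,10,12,4,9], [1,5,12,8,13,12,11,10,13,2,13,12,11,13,10,2], 13, [([], 195, [11,3,5]), ([], 217, [13,3,5]), ([110,104,96], 711, [11,10,12,9,13,12])], []⟩
def c1175 : Clm := ⟨6, 6, true, [1,5,12,8,13,12,11,10,13,2,13,12,11,13,2], [9,11,13,12,8,13,12,13,12,4,5,7,10,12,4,9], 5, [([], 1174, [])], []⟩
def c1176 : Clm := ⟨6, 6, true, [10,13,12,8,11,12,8,11,2,4,6,13,6,13,2], [1,5,12,8,13,12,11,10,13,2,13,12,11,13,2], 5, [([], 1175, [])], []⟩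
def c1177 : Clm := ⟨6, 6, true, [3,11,12,9,13,10,12,11,2,4,3,13,6,6], [5,10,12,8,11,12,2,11,13,2,6,13,12,9], 13, [([], 195, [3,10,12]), ([370], 701, [1,10,12,8,11,12,13,10,12]), ([111,111,170], 333, [1,10,12,9,11,12,9,13])], []⟩
def c1178 : Clm := ⟨6, 6, true, [10,12,8,13,12,11,10,13,2,13,4,6,13,12,9], [3,11,12,9,13,10,12,11,2,4,3,13,6,6], 5, [([], 1177, [])], []⟩
def c1179 : Clm := ⟨6, 6, true, [3,11,12,9,13,10,12,11,2,4,13,6,6], [10,12,8,13,12,11,10,13,2,13,4,6,13,12,9], 5, [([], 1178, [])], []⟩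
def c1180 : Clm := ⟨6, 6, true, [1,8,11,12,9,11,13,5,12,4,5,7,10,12,4], [9,11,12,8,11,12,11,10,13,2,4,6,13,6,13,12], 13, [([], 195, [9,12,13,3,5,12]), ([], 217, [1,13,5,12,11,12,8]), ([170,98], 767, [3,11,12,11,10,12,9,13])], []⟩
def c1181 : Clm := ⟨6, 6, true, [9,11,12,8,11,12,11,10,13,2,4,6,13,3,6,13,12], [1,8,11,12,9,11,13,5,12,4,5,7,10,12,4], 5, [([], 1180, [])], []⟩
def c1182 : Clm := ⟨6, 6, true, [3,12,9,12,13,12,8,13,12,2,4,3,12,4,3,10], [12,13,3,10,12,11,2,4,7,12,7,11,13,7], 13, [([], 195, [3,9,10,11,12]), ([], 650, [10,12,9,11,12,8,13]), ([98,171,96], 513, [10,11,12,11,13,12,13])], []⟩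
def c1183 : Clm := ⟨6, 6, true, [3,8,12,11,10,12,9,11,12,2,4,13,12,13,4,12,11], [3,12,9,12,13,12,8,13,12,2,4,3,12,4,3,10], 5, [([], 1182, [])], []⟩
def c1184 : Clm := ⟨6, 6, true, [1,12,9,11,13,10,12,11,12,2,4,13,3,6,6], [5,8,13,12,9,11,13,12,8,2,4,6,13,6,8,12], 13, [([], 195, [3,13,5,10,12,11,12]), ([370], 653, [1,10,12,8,11,13]), ([373,370], 812, [5,13,12,8,12,13,10,12])], []⟩
def c1185 : Clm := ⟨6, 6, true, [1,10,12,8,12,13,12,8,2,4,3,12,4,10,12], [1,12,9,11,13,10,12,11,12,2,4,13,3,6,6], 5, [([], 1184, [])], []⟩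
def c1186 : Clm := ⟨6, 6, true, [1,12,9,11,13,10,12,11,12,2,1,4,13,6,6], [1,10,12,8,12,13,12,8,2,4,3,12,4,10,12], 5, [([], 1185, [])], []⟩
def c1187 : Clm := ⟨6, 6, true, [3,8,10,12,9,13,10,12,8,2,4,3,7,9,13,6], [9,12,8,11,12,11,5,10,2,6,13,4,10,12,7,7], 13, [([], 195, [9,12,13,3,10]), ([372], 653, [1,5,8,10,11,12,8,13,12,13]), ([370], 518, [8,13,10,13,12,8,13,12,13])], []⟩
def c1188 : Clm := ⟨6, 6, true, [1,13,12,9,11,10,12,8,13,2,6,13,4,12,7,7], [3,8,10,12,9,13,10,12,8,2,4,3,7,9,13,6], 5, [([], 1187, [])], []⟩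
def c1189 : Clm := ⟨6, 6, true, [3,8,10,12,9,13,10,12,8,2,4,7,9,13,6], [1,13,12,9,11,10,12,8,13,2,6,13,4,12,7,7], 5, [([], 1188, [])], []⟩
def c1190 : Clm := ⟨6, 6, true, [8,12,11,12,9,12,13,4,6,10,12,4,7], [1,10,12,8,11,13,12,9,13,2,4,5,7,5,13,2,12], 13, [([], 195, [1,9,13,5,12]), ([], 1040, [5,12,8,11,5,11,12,13]), ([372], 1149, [3,10,12,8,12,11,5])], []⟩
def c1191 : Clm := ⟨6, 6, true, [3,9,10,13,12,8,11,2,4,5,6,11,13,5,12], [8,12,11,12,9,12,13,4,6,10,12,4,7], 5, [([], 1190, [])], []⟩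
def c1192 : Clm := ⟨6, 6, true, [5,11,12,8,11,10,13,12,2,6,9,13,5,6,10], [3,9,10,13,12,8,11,2,4,5,6,11,13,5,12], 5, [([], 1191, [])], []⟩
def c1193 : Clm := ⟨6, 6, true, [3,12,9,13,12,13,12,8,12,2,4,3,12,4,3,10], [10,12,8,11,5,12,9,13,2,1,4,12,4,12,11], 13, [([], 195, [9,10,11,3,12]), ([], 650, [10,12,9,11,12,8]), ([102,98], 496, [10,13,3,12,8,11,10,13,12])], []⟩
def c1194 : Clm := ⟨6, 6, true, [10,12,8,11,5,12,9,13,2,4,12,4,12,11,3], [3,12,9,13,12,13,12,8,12,2,4,3,12,4,3,10], 5, [([], 1193, [])], []⟩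
def c1195 : Clm := ⟨6, 6, true, [5,12,8,11,5,11,12,13,4,6,5,10,4], [5,12,8,11,10,12,8,11,2,6,11,13,2,6,13], 13, [([], 195, [1,8,11,12]), ([], 1019, [8,10,11,3,5,12,13,10]), ([202,201], 635, [3,9,12,11,10,12,11,13])], []⟩
def c1196 : Clm := ⟨6, 6, true, [1,12,8,11,12,8,11,5,2,6,13,4,6,13], [5,12,8,11,5,11,12,13,4,6,5,10,4], 5, [([], 1195, [])], []⟩
def c1197 : Clm := ⟨6, 6, true, [5,12,8,11,10,12,13,12,2,7,13,5,10], [1,12,8,11,12,8,11,5,2,6,13,4,6,13], 5, [([], 1196, [])], []⟩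
def c1198 : Clm := ⟨6, 6, true, [1,8,11,12,9,11,10,13,12,8,2,4,7,9,13,3,6], [10,11,10,12,13,5,10,2,7,11,12,13,2,7], 13, [([], 195, [9,10,12,13,3,5]), ([372,370], 650, [3,11,12,8,13,10,12,9,13]), ([96,111,171,96], 333, [10,13,5,12,11,10,12,8])], []⟩
def c1199 : Clm := ⟨6, 6, true, [8,11,5,12,9,13,12,2,4,6,13,12,11,13], [1,8,11,12,9,11,10,13,12,8,2,4,7,9,13,3,6], 5, [([], 1198, [])], []⟩
def c1200 : Clm := ⟨6, 6, true, [1,8,11,12,9,11,10,13,12,8,2,1,4,7,9,13,6], [8,11,5,12,9,13,12,2,4,6,13,12,11,13], 5, [([], 1199, [])], []⟩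
def c1201 : Clm := ⟨6, 6, true, [13,12,8,13,5,12,9,11,4,5,7,10,12,4,9], [5,12,11,5,12,9,13,10,2,1,11,12,8,11,2], 13, [([], 195, [12,11,3,5,12]), ([], 217, [5,8,12,13,3,12,9]), ([96,111,170,96], 626, [1,10,11,5,12,9,11,12,11])], []⟩
def c1202 : Clm := ⟨6, 6, true, [1,5,11,5,12,13,12,2,1,7,13,6,13,2], [13,12,8,13,5,12,9,11,4,5,7,10,12,4,9], 5, [([], 1201, [])], []⟩
def c1203 : Clm := ⟨6, 6, true, [1,8,11,13,5,10,12,9,11,2,4,7,7,13,3,7], [9,10,12,13,3,10,12,9,2,1,13,7,12,4,9,10], 13, [([], 195, [3,9,10,13,12]), ([], 650, [8,10,11,3,5,12,9,11]), ([96,170], 605, [8,13,3,10,11,12,8])], []⟩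
def c1204 : Clm := ⟨6, 6, true, [9,10,12,13,3,10,12,9,2,13,7,12,4,3,9,10], [1,8,11,13,5,10,12,9,11,2,4,7,7,13,3,7], 5, [([], 1203, [])], []⟩
def c1205 : Clm := ⟨6, 6, true, [1,8,11,13,5,10,12,9,11,2,1,4,7,7,13,7], [9,10,12,13,3,10,12,9,2,13,7,12,4,3,9,10], 5, [([], 1204, [])], []⟩
def c1206 : Clm := ⟨6, 6, true, [10,13,12,8,13,12,8,13,2,4,3,13,6,6], [3,5,11,12,8,12,11,2,1,4,12,13,2,6], 13, [([], 195, [11,3,13,12,13,10]), ([370], 653, [5,12,9,13,12,9,11,10]), ([372,370], 943, [3,12,13,5,10,12,13,12,8])], []⟩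
def c1207 : Clm := ⟨6, 6, true, [3,5,11,12,8,12,11,2,1,4,12,13,6,10,2], [10,13,12,8,13,12,8,13,2,4,3,13,6,6], 5, [([], 1206, [])], []⟩
def c1208 : Clm := ⟨6, 6, true, [10,13,12,8,13,12,8,13,2,4,13,6,6], [3,5,11,12,8,12,11,2,1,4,12,13,6,10,2], 5, [([], 1207, [])], []⟩
def c1209 : Clm := ⟨6, 6, true, [11,12,9,13,12,8,13,12,11,2,6,13,12,4,8,7,10], [10,12,13,10,13,12,11,12,2,13,6,5,12,4], 15, [([], 1077, [5,10,12,13,10,12]), ([372], 195, [9,11,3,5,12]), ([], 1040, [10,11,12,9,13,10,13,12,9])], []⟩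
def c1210 : Clm := ⟨6, 6, true, [5,8,12,13,3,5,10,12,9,11,2,11,12,6,13,4], [11,12,9,13,12,8,13,12,11,2,6,13,12,4,8,7,10], 5, [([], 1209, [])], []⟩
def c1211 : Clm := ⟨6, 6, true, [1,9,10,11,12,13,10,11,12,13,2,7,11,12,9,13,4,10], [5,8,12,13,3,5,10,12,9,11,2,11,12,6,13,4], 5, [([], 1210, [])], []⟩
def c1212 : Clm := ⟨6, 6, true, [8,11,12,9,13,12,13,5,2,4,13,6,10,13,12,8], [1,12,11,5,12,13,2,1,13,2,1,6], 15, [([], 961, [3,9,12,11,13,10,12,9]), ([370], 195, [10,12,13,3,10]), ([372], 653, [1,12,9,11,12,9,11,10])], []⟩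
def c1213 : Clm := ⟨6, 6, true, [12,11,10,12,13,2,11,5,4,6], [8,11,12,9,13,12,13,5,2,4,13,6,10,13,12,8], 5, [([], 1212, [])], []⟩
def c1214 : Clm := ⟨6, 6, true, [5,10,12,11,2,6,13,2,12,4,8,7], [12,11,10,12,13,2,11,5,4,6], 5, [([], 1213, [])], []⟩
def c1215 : Clm := ⟨6, 6, true, [1,8,11,12,9,11,10,13,2,4,7,7,13,3,7], [3,8,10,12,13,5,2,1,13,12,4,8,12,4], 13, [([], 195, [9,10,13,3,5,12]), ([372,370], 650, [1,8,10,11,5,12,9,11,13]), ([110,104,98], 711, [5,9,10,12,13,10,12,8])], []⟩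
def c1216 : Clm := ⟨6, 6, true, [9,13,12,8,13,12,11,2,4,5,6,13,10,12,9], [1,8,11,12,9,11,10,13,2,4,7,7,13,3,7], 5, [([], 1215, [])], []⟩
def c1217 : Clm := ⟨6, 6, true, [1,8,11,12,9,11,10,13,2,1,4,7,7,13,7], [9,13,12,8,13,12,11,2,4,5,6,13,10,12,9], 5, [([], 1216, [])], []⟩
def c1218 : Clm := ⟨6, 6, true, [11,10,12,9,12,11,12,2,4,6,13,3,6], [1,12,13,10,12,11,2,11,13,12,4], 17, [([], 735, [9,12,13,12,8,12,13,10]), ([170,110,104], 600, [9,12,8,11,10,13,12,9]), ([372], 195, [3,11,10,13,12])], []⟩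
def c1219 : Clm := ⟨6, 6, true, [9,11,12,11,13,12,8,2,1,4,12,13,5,10], [11,10,12,9,12,11,12,2,4,6,13,3,6], 5, [([], 1218, [])], []⟩
def c1220 : Clm := ⟨6, 6, true, [11,10,12,9,12,11,12,2,1,4,6,13,6], [9,11,12,11,13,12,8,2,1,4,12,13,5,10], 5, [([], 1219, [])], []⟩
def c1221 : Clm := ⟨6, 6, true, [1,8,11,13,5,10,12,11,12,2,4,3,7,9,13,6], [1,12,9,12,11,5,10,12,13,2,4,6,12,13,2,12,4], 13, [([], 195, [1,3,9,10,12]), ([], 650, [8,10,12,9,11,5,13]), ([110,102], 600, [10,13,12,9,12,13])], []⟩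
def c1222 : Clm := ⟨6, 6, true, [1,8,13,10,12,8,13,2,4,13,6,13,5,6], [1,8,11,13,5,10,12,11,12,2,4,3,7,9,13,6], 5, [([], 1221, [])], []⟩
def c1223 : Clm := ⟨6, 6, true, [1,8,10,12,11,10,12,11,13,2,4,13,3,6,13], [9,13,3,10,12,8,13,10,2,13,5,7,9,10], 13, [([], 195, [10,12,8,11,3,5,12]), ([], 650, [5,10,12,11,3,12,8,12]), ([96,111,170], 1095, [8,11,12,13,10,12,13,12])], []⟩
def c1224 : Clm := ⟨6, 6, true, [8,13,12,9,12,13,4,5,6,9,10,4], [1,8,10,12,11,10,12,11,13,2,4,13,3,6,13], 5, [([], 1223, [])], []⟩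
def c1225 : Clm := ⟨6, 6, true, [1,8,10,12,11,10,12,11,13,2,4,13,6,13], [8,13,12,9,12,13,4,5,6,9,10,4], 5, [([], 1224, [])], []⟩
def c1226 : Clm := ⟨6, 6, true, [5,13,12,8,11,12,9,4,5,7,10,12,4,9], [3,12,11,12,8,11,10,2,6,13,2,4,7,9], 13, [([], 195, [1,5,12,13,12]), ([], 217, [3,5,8,11,12,13,12,9]), ([170,96], 649, [1,10,11,12,8,11,12,13])], []⟩
def c1227 : Clm := ⟨6, 6, true, [3,13,12,13,12,8,2,6,13,2,7,9,11], [5,13,12,8,11,12,9,4,5,7,10,12,4,9], 5, [([], 1226, [])], []⟩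
def c1228 : Clm := ⟨6, 6, true, [3,10,11,10,12,8,11,12,13,2,4,12,13,12,4,7], [8,13,12,11,10,12,11,2,6,13,6,8,12,4], 15, [([], 920, [8,10,13,5,12,9,11]), ([372], 195, [1,9,11,13,12]), ([], 1044, [9,12,8,13,12,8,11])], []⟩
def c1229 : Clm := ⟨6, 6, true, [12,13,12,13,10,11,2,1,13,12,13,4,7,9], [3,10,11,10,12,8,11,12,13,2,4,12,13,12,4,7], 5, [([], 1228, [])], []⟩
def c1230 : Clm := ⟨6, 6, true, [8,13,12,9,11,10,13,2,11,12,8,11,13,7], [12,13,12,13,10,11,2,1,13,12,13,4,7,9], 5, [([], 1229, [])], []⟩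
def c1231 : Clm := ⟨6, 6, true, [1,8,12,13,10,13,12,8,12,2,4,6,13,3,6,13], [3,5,10,12,11,12,8,12,2,11,12,13,4,5,7], 13, [([], 195, [3,5,10,11,12]), ([372], 701, [5,13,12,8,11,12,11,13]), ([111,171,110], 620, [5,9,10,11,3,12,9,13])], []⟩
def c1232 : Clm := ⟨6, 6, true, [12,9,13,10,13,12,9,2,11,12,4,5,13,7], [1,8,12,13,10,13,12,8,12,2,4,6,13,3,6,13], 5, [([], 1231, [])], []⟩
def c1233 : Clm := ⟨6, 6, true, [1,8,12,13,10,13,12,8,12,2,4,6,13,6,13], [12,9,13,10,13,12,9,2,11,12,4,5,13,7], 5, [([], 1232, [])], []⟩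
def c1234 : Clm := ⟨6, 6, true, [8,13,5,10,11,12,9,11,13,2,4,5,12,11,10,12], [1,9,10,13,12,11,13,5,2,6,13,7,5,13,4], 17, [([], 215, [8,11,5,10,12,9,13]), ([373,370], 1222, [5,13,5,12,8,11,13,12]), ([], 195, [10,12,9,11,3,5,12])], []⟩
def c1235 : Clm := ⟨6, 6, true, [9,13,3,10,13,12,2,13,2,6,13,7,5], [8,13,5,10,11,12,9,11,13,2,4,5,12,11,10,12], 5, [([], 1234, [])], []⟩
def c1236 : Clm := ⟨6, 6, true, [5,8,10,11,5,12,13,10,2,4,7,13,6,9,12], [9,13,3,10,13,12,2,13,2,6,13,7,5], 5, [([], 1235, [])], []⟩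
def c1237 : Clm := ⟨6, 6, true, [8,12,8,11,3,10,13,12,2,4,3,13,6,6], [10,12,9,13,10,13,12,2,13,7,12,7,13,6], 13, [([], 195, [3,11,13,10,12]), ([372], 701, [5,8,11,12,9,11,12,8,11]), ([96,111,98], 703, [3,10,12,8,11,13])], []⟩
def c1238 : Clm := ⟨6, 6, true, [1,5,12,9,11,5,12,2,13,7,12,7,13,6], [8,12,8,11,3,10,13,12,2,4,3,13,6,6], 5, [([], 1237, [])], []⟩
def c1239 : Clm := ⟨6, 6, true, [8,12,8,11,3,10,13,12,2,4,13,6,6], [1,5,12,9,11,5,12,2,13,7,12,7,13,6], 5, [([], 1238, [])], []⟩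
def c1240 : Clm := ⟨6, 5, true, [3,12,8,11,10,12,9,12,13,2,4,7,7,13,3,7], [11,12,11,5,10,12,9,13,2,11,12,13,4,6,9], 13, [([], 195, [3,5,9,10,11,12]), ([372,370], 650, [1,8,10,11,5,12,9]), ([110,96], 168, [5,8,13,5,12,13,12,13])], []⟩
def c1241 : Clm := ⟨5, 6, true, [5,8,10,11,12,9,11,13,5,2,4,12,9,13,6,5,9], [3,12,8,11,10,12,9,12,13,2,4,7,7,13,3,7], 5, [([], 1240, [])], []⟩
def c1242 : Clm := ⟨6, 6, true, [9,10,11,3,12,13,10,2,4,3,6,13,6,5,12], [1,10,12,8,11,13,12,11,2,13,2,12,4,5,7], 15, [([], 1205, [8,13,3,12,13,10,13,12]), ([370], 195, [8,13,3,10,11,12]), ([], 1154, [3,8,11,12,11,12,9])], []⟩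
def c1243 : Clm := ⟨6, 6, true, [9,11,10,12,9,13,12,9,2,4,12,7,13,12,8], [9,10,11,3,12,13,10,2,4,3,6,13,6,5,12], 5, [([], 1242, [])], []⟩
def c1244 : Clm := ⟨6, 6, true, [11,10,13,12,8,12,11,12,11,4,6,10,2], [3,12,11,10,12,8,11,10,2,4,5,12,4,13,6,10], 13, [([], 195, [8,10,12,13,3,5]), ([372,370], 1236, [5,12,11,5,11,12,8]), ([372,370], 1235, [1,9,10,12,11,5,12,11])], []⟩
def c1245 : Clm := ⟨6, 6, true, [1,5,12,9,13,12,9,11,10,2,1,13,4,12,6,11,2,3], [11,10,13,12,8,12,11,12,11,4,6,10,2], 5, [([], 1244, [])], []⟩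
def c1246 : Clm := ⟨6, 6, true, [11,10,13,12,8,12,11,12,11,2,4,6], [1,5,12,9,13,12,9,11,10,2,1,13,4,12,6,11,2,3], 5, [([], 1245, [])], []⟩
def c1247 : Clm := ⟨6, 6, true, [3,12,9,13,10,12,11,2,4,3,13,6,6], [3,9,11,13,12,9,11,2,4,6,13,6,10,12], 13, [([], 195, [13,3,10,12]), ([372,370], 1220, [3,8,11,12,13,12,9,13]), ([373], 412, [10,11,3,12,11])], []⟩
def c1248 : Clm := ⟨6, 6, true, [13,3,12,8,11,10,12,8,13,2,4,3,12,4,9,12], [3,12,9,13,10,12,11,2,4,3,13,6,6], 5, [([], 1247, [])], []⟩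
def c1249 : Clm := ⟨6, 6, true, [3,12,9,13,10,12,11,2,4,13,6,6], [13,3,12,8,11,10,12,8,13,2,4,3,12,4,9,12], 5, [([], 1248, [])], []⟩
def c1250 : Clm := ⟨6, 6, true, [10,11,12,8,11,12,11,10,2,4,6,12,4,13,12,13], [3,5,8,12,13,5,10,12,9,11,2,1,7,13,4,7,7], 15, [([], 1238, [3,9,11,10,12,13,12,9]), ([370], 195, [5,9,13,12]), ([], 1040, [3,11,13,12,8,13,12,13])], []⟩
def c1251 : Clm := ⟨6, 6, true, [3,8,12,13,12,13,2,13,6,9,13,2], [10,11,12,8,11,12,11,10,2,4,6,12,4,13,12,13], 5, [([], 1250, [])], []⟩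
def c1252 : Clm := ⟨6, 6, true, [8,12,8,13,5,12,9,11,12,2,1,11,10,12,13,2,11,5], [3,8,12,13,12,13,2,13,6,9,13,2], 5, [([], 1251, [])], []⟩
def c1253 : Clm := ⟨6, 5, true, [5,8,10,12,11,3,12,9,12,2,4,3,7,9,13,7], [1,12,13,10,11,12,8,11,13,2,1,11,12,4,10,13], 13, [([], 195, [1,3,5,10,12]), ([372], 701, [3,9,12,9,11,13]), ([111,96], 172, [3,10,12,11,12,8])], []⟩
def c1254 : Clm := ⟨5, 6, true, [1,12,13,10,11,12,8,11,13,2,11,12,4,10,13], [5,8,10,12,11,3,12,9,12,2,4,3,7,9,13,7], 5, [([], 1253, [])], []⟩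
def c1255 : Clm := ⟨6, 6, true, [5,9,12,8,11,13,12,13,5,13,2,4,6,12,4,7,13,7], [3,9,12,13,5,10,12,11,13,2,6,13,6,12,4,12], 15, [([], 903, [9,10,13,5,13]), ([], 195, [10,11,3,10,12]), ([], 1220, [3,5,10,13,12,11,10,13])], []⟩
def c1256 : Clm := ⟨6, 6, true, [13,3,5,12,9,11,12,13,2,4,7,12,7,13,5], [5,9,12,8,11,13,12,13,5,13,2,4,6,12,4,7,13,7], 5, [([], 1255, [])], []⟩
def c1257 : Clm := ⟨6, 6, true, [8,12,13,10,13,12,8,12,2,4,6,13,3,6,13], [1,9,10,12,11,2,1,6,13,12,4,8,6], 13, [([], 195, [5,10,11,3,12]), ([372], 701, [5,13,12,8,11,12,11]), ([104,102,96], 267, [1,9,12,11,10,12,9,13,10])], []⟩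
def c1258 : Clm := ⟨6, 6, true, [3,9,10,13,12,8,13,10,2,4,5,12,11,13,2], [8,12,13,10,13,12,8,12,2,4,6,13,3,6,13], 5, [([], 1257, [])], []⟩
def c1259 : Clm := ⟨6, 6, true, [8,12,13,10,13,12,8,12,2,4,6,13,6,13], [3,9,10,13,12,8,13,10,2,4,5,12,11,13,2], 5, [([], 1258, [])], []⟩
def c1260 : Clm := ⟨6, 6, true, [1,10,11,12,8,11,12,8,13,10,2,4,6,13,3,6,13], [13,12,9,11,12,9,11,2,4,5,6,13,12,11,10], 13, [([], 195, [10,13,3,10,12]), ([372,370], 1220, [3,11,13]), ([372], 653, [13,5,13,12,9,13,12])], []⟩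
def c1261 : Clm := ⟨6, 6, true, [1,13,12,9,11,12,9,2,4,13,12,6,13,5,12], [1,10,11,12,8,11,12,8,13,10,2,4,6,13,3,6,13], 5, [([], 1260, [])], []⟩
def c1262 : Clm := ⟨6, 6, true, [1,10,11,12,8,11,12,8,13,10,2,4,6,13,6,13], [1,13,12,9,11,12,9,2,4,13,12,6,13,5,12], 5, [([], 1261, [])], []⟩
def c1263 : Clm := ⟨6, 6, true, [9,11,12,11,13,5,2,11,12,4,6,5,9,11], [1,8,13,5,10,11,12,9,13,2,13,12,13,10,13], 15, [([], 378, [8,12,9,11,12,11,12]), ([], 195, [3,10,11,13,12,9,11,12]), ([372,370], 1236, [5,10,13,3,12,11,10,13])], []⟩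
def c1264 : Clm := ⟨6, 6, true, [8,13,10,12,11,12,9,13,2,7,13,12,6,5], [9,11,12,11,13,5,2,11,12,4,6,5,9,11], 5, [([], 1263, [])], []⟩
def c1265 : Clm := ⟨6, 6, true, [12,11,3,5,12,2,13,4,12,4,3,7,9], [5,9,13,12,9,13,10,2,4,7,13,4,6], 15, [([], 1261, [1,9,11,13,12,8,11,10,12]), ([], 195, [8,12,13,3,10,12]), ([], 1154, [9,12,11,3,13,12,8,13])], []⟩
def c1266 : Clm := ⟨6, 6, true, [5,9,13,12,9,13,2,4,7,13,4,6], [12,11,3,5,12,2,13,4,12,4,3,7,9], 5, [([], 1265, [])], []⟩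
def c1267 : Clm := ⟨6, 6, true, [8,10,12,8,13,10,12,9,2,4,3,6], [13,3,12,8,11,13,12,9,2,1,13,4,12,7,13,12], 13, [([], 195, [3,8,11,13,10,12]), ([372,370], 1236, [8,12,13,3,12]), ([], 887, [8,10,11,13,12,9,11,13,12])], []⟩
def c1268 : Clm := ⟨6, 6, true, [1,13,12,8,13,10,11,12,9,2,6,13,2,12,11,3,10], [8,10,12,8,13,10,12,9,2,4,3,6], 5, [([], 1267, [])], []⟩
def c1269 : Clm := ⟨6, 6, true, [3,8,13,10,12,9,13,2,4,7,9,13,3,7], [8,10,12,11,10,12,11,12,2,11,13,7,5,13,2], 13, [([], 195, [3,11,10,12,11,12]), ([370], 653, [1,5,10,12,8,11,5]), ([], 999, [1,5,11,10,12,8,12])], []⟩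
def c1270 : Clm := ⟨6, 6, true, [3,8,11,13,12,13,10,12,2,1,4,7,7,13,12,4], [3,8,13,10,12,9,13,2,4,7,9,13,3,7], 5, [([], 1269, [])], []⟩
def c1271 : Clm := ⟨6, 6, true, [3,8,13,10,12,8,13,10,2,4,13,6,6,13], [3,8,11,13,12,13,10,12,2,1,4,7,7,13,12,4], 5, [([], 1270, [])], []⟩
def c1272 : Clm := ⟨6, 6, true, [1,5,8,10,13,12,8,11,12,2,7,13,7,13,4,5], [12,13,12,13,10,11,12,2,13,12,13,4,13], 17, [([], 382, [3,5,8,11,5,12,11,12]), ([370], 1217, [3,9,12,8,13,10,12,9,12]), ([372], 195, [5,10,12,13,3,12])], []⟩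
def c1273 : Clm := ⟨6, 6, true, [12,13,10,12,11,12,2,11,5,12,11,13,4], [1,5,8,10,13,12,8,11,12,2,7,13,7,13,4,5], 5, [([], 1272, [])], []⟩
def c1274 : Clm := ⟨6, 6, true, [11,13,12,9,13,5,12,2,11,12,13,2,6], [12,13,10,12,11,12,2,11,5,12,11,13,4], 5, [([], 1273, [])], []⟩
def c1275 : Clm := ⟨6, 6, true, [8,11,13,10,12,13,10,12,2,4,3,7,13,6,6], [11,5,10,12,11,12,9,12,2,7,11,13,2,6,13], 13, [([], 195, [5,12,8,13,3,10,12]), ([], 1154, [3,5,10,13,12,11,10,13]), ([372,370], 1249, [8,12,8,11,10,12,8,13,10])], []⟩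
def c1276 : Clm := ⟨6, 6, true, [3,8,12,8,13,12,11,2,7,13,4,6,13], [8,11,13,10,12,13,10,12,2,4,3,7,13,6,6], 5, [([], 1275, [])], []⟩
def c1277 : Clm := ⟨6, 6, true, [8,11,13,10,12,13,10,12,2,4,7,13,6,6], [3,8,12,8,13,12,11,2,7,13,4,6,13], 5, [([], 1276, [])], []⟩
def c1278 : Clm := ⟨6, 6, true, [12,9,11,12,13,10,11,2,4,13,3,6,6], [1,9,10,13,10,12,9,13,10,2,4,7,12,13,2,5], 13, [([], 195, [10,12,13,3,12]), ([372,370], 1274, [5,13,5,13]), ([], 851, [9,11,5,12,11,12,9,11])], []⟩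
def c1279 : Clm := ⟨6, 6, true, [5,8,10,11,12,13,10,13,2,4,3,12,4,6,13], [12,9,11,12,13,10,11,2,4,13,3,6,6], 5, [([], 1278, [])], []⟩
def c1280 : Clm := ⟨6, 6, true, [12,9,11,12,13,10,11,2,1,4,13,6,6], [5,8,10,11,12,13,10,13,2,4,3,12,4,6,13], 5, [([], 1279, [])], []⟩
def c1281 : Clm := ⟨6, 3, true, [9,12,11,5,10,12,11,5,2,7,13,2,12,6,11], [1,9,12,9,11,12,13,10,2,1,11,12,11,2,13,10], 15, [([], 964, [11,3,10,13,12,11,10]), ([370], 195, [10,11,3,12]), ([370], 701, [3,9,13,12,9,11])], []⟩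
def c1282 : Clm := ⟨3, 6, true, [9,12,9,11,3,10,12,2,4,3,13,12,13,2,4], [9,12,11,5,10,12,11,5,2,7,13,2,12,6,11], 5, [([], 1281, [])], []⟩
def c1283 : Clm := ⟨6, 3, true, [8,10,12,9,11,12,9,2,4,6,13,6,12,11], [9,12,9,11,3,10,12,2,4,3,13,12,13,2,4], 5, [([], 1282, [])], []⟩
def c1284 : Clm := ⟨6, 6, true, [11,3,12,8,11,13,12,4,6,5,10,4], [3,5,10,11,12,8,12,2,1,13,4,12,6,11,5], 13, [([], 195, [5,8,11,3,5,12]), ([], 1019, [1,8,12,11,13,5,12,11]), ([210,204,332,202], 474, [3,8,13,12,9,12,11,12,8])], []⟩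
def c1285 : Clm := ⟨6, 6, true, [1,5,12,8,13,12,11,10,2,6,13,2,12,6,13,2], [11,3,12,8,11,13,12,4,6,5,10,4], 5, [([], 1284, [])], []⟩
def c1286 : Clm := ⟨6, 6, true, [9,11,13,12,13,10,13,12,9,2,7,13,5,10], [1,5,12,8,13,12,11,10,2,6,13,2,12,6,13,2], 5, [([], 1285, [])], []⟩
def c1287 : Clm := ⟨6, 6, true, [5,8,10,12,13,5,12,13,10,2,13,7,12,4,3,10], [13,3,5,12,9,13,10,2,13,2,12,7,13,12], 15, [([], 1062, [3,8,13,12,11,10,12,8,11]), ([], 195, [3,13,10,12]), ([372,370], 1220, [3,8,12,13,12,9,11])], []⟩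
def c1288 : Clm := ⟨6, 6, true, [3,13,12,13,10,12,9,12,2,4,5,11,12,4,12], [5,8,10,12,13,5,12,13,10,2,13,7,12,4,3,10], 5, [([], 1287, [])], []⟩
def c1289 : Clm := ⟨6, 6, true, [5,8,10,12,13,5,12,13,10,2,1,13,7,12,4,10], [3,13,12,13,10,12,9,12,2,4,5,11,12,4,12], 5, [([], 1288, [])], []⟩
def c1290 : Clm := ⟨6, 6, true, [8,10,11,12,11,5,12,8,11,2,4,3,6,13,6,13], [3,13,12,13,10,12,8,2,1,7,13,12,4,12,6], 13, [([], 195, [12,13,3,10,12]), ([372,370], 1220, [11,12,9,13,12,13,12,8,12]), ([373], 823, [3,10,13,12,8,13,12,13])], []⟩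
def c1291 : Clm := ⟨6, 6, true, [5,11,12,8,11,10,12,2,1,7,13,4,12,6,13], [8,10,11,12,11,5,12,8,11,2,4,3,6,13,6,13], 5, [([], 1290, [])], []⟩
def c1292 : Clm := ⟨6, 6, true, [8,10,11,12,11,5,12,8,11,2,1,4,6,13,6,13], [5,11,12,8,11,10,12,2,1,7,13,4,12,6,13], 5, [([], 1291, [])], []⟩
def c1293 : Clm := ⟨6, 6, true, [10,13,5,12,8,11,12,11,2,4,3,6], [5,13,12,8,13,12,13,2,11,12,4,12,13,6], 13, [([], 195, [3,8,10,12]), ([], 1236, [3,8,12,13,12,13]), ([], 368, [5,12,8,11])], []⟩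
def c1294 : Clm := ⟨6, 6, true, [3,13,10,12,8,13,12,11,2,4,12,6,5,11,5], [10,13,5,12,8,11,12,11,2,4,3,6], 5, [([], 1293, [])], []⟩
def c1295 : Clm := ⟨6, 3, true, [8,10,12,13,12,8,11,12,2,6,6,13,7,12,9], [10,11,3,13,12,8,12,13,2,4,6,13,5,12,13,4], 15, [([], 1266, [5,12,8,13,3,5,10]), ([372], 195, [11,13,12,13,5,12]), ([], 217, [9,12,13,12,8,13,5])], []⟩
def c1296 : Clm := ⟨3, 6, true, [3,5,12,8,13,10,12,8,13,2,1,4,7,12,13,6,9], [8,10,12,13,12,8,11,12,2,6,6,13,7,12,9], 5, [([], 1295, [])], []⟩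
def c1297 : Clm := ⟨6, 3, true, [3,13,12,9,11,13,12,11,12,2,1,6,6,13,7,12,9], [3,5,12,8,13,10,12,8,13,2,1,4,7,12,13,6,9], 5, [([], 1296, [])], []⟩
def c1298 : Clm := ⟨6, 6, true, [1,12,9,11,13,12,9,13,2,4,6,12,11,3,10], [1,8,13,10,12,11,12,9,11,2,4,7,12,7,13,10], 13, [([], 195, [3,8,10,13,12]), ([], 1236, [1,12,13,12,8]), ([372,370], 618, [1,9,12,13,10,13,10,12,8])], []⟩
def c1299 : Clm := ⟨6, 6, true, [1,8,13,10,12,11,12,9,11,2,4,3,7,12,7,13,10], [1,12,9,11,13,12,9,13,2,4,6,12,11,3,10], 5, [([], 1298, [])], []⟩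
def c1300 : Clm := ⟨6, 6, true, [1,12,9,11,13,12,9,13,2,1,4,6,12,11,10], [1,8,13,10,12,11,12,9,11,2,4,3,7,12,7,13,10], 5, [([], 1299, [])], []⟩
def c1301 : Clm := ⟨6, 6, true, [5,8,13,12,9,11,13,12,11,2,1,7,13,5,12,9], [5,9,12,11,13,10,12,9,11,2,11,5,7,13,4,6], 15, [([], 1294, [1,9,12,8,11,5,11,12,9,13]), ([370], 195, [9,11,3,13,12,13,10]), ([370], 653, [5,8,10,11,3,12,8,13,12])], []⟩
def c1302 : Clm := ⟨6, 6, true, [8,13,12,13,5,10,12,9,11,2,7,13,12,4,8], [5,8,13,12,9,11,13,12,11,2,1,7,13,5,12,9], 5, [([], 1301, [])], []⟩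
def c1303 : Clm := ⟨6, 6, true, [1,8,10,11,12,11,12,9,13,2,4,3,7,9,13,7], [3,10,11,12,8,12,11,13,2,1,6,13,6,12,4,13], 13, [([], 195, [11,12,11,5,10]), ([], 1274, [11,12,9,13,12,13,12,8,12]), ([372,370], 653, [3,13,5,10,12,13,12,9,12])], []⟩
def c1304 : Clm := ⟨6, 6, true, [1,8,12,13,5,10,12,11,2,6,11,12,6,11,5,4], [1,8,10,11,12,11,12,9,13,2,4,3,7,9,13,7], 5, [([], 1303, [])], []⟩
def c1305 : Clm := ⟨6, 6, true, [1,8,10,11,12,11,12,9,13,2,4,7,9,13,7], [1,8,12,13,5,10,12,11,2,6,11,12,6,11,5,4], 5, [([], 1304, [])], []⟩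
def c1306 : Clm := ⟨6, 6, true, [13,5,13,12,8,13,12,9,13,4,5,7,10,12,4,9], [1,5,8,11,13,10,12,9,13,10,2,4,13,7,13,5,12,8], 13, [([], 195, [5,12,11,3,12]), ([], 217, [9,12,13,3,5,12,8]), ([110,104,100,98], 1297, [10,12,13,3,10,12,13])], []⟩
def c1307 : Clm := ⟨6, 6, true, [11,12,8,13,12,11,10,13,2,7,13,2,12,7,7,7], [13,5,13,12,8,13,12,9,13,4,5,7,10,12,4,9], 5, [([], 1306, [])], []⟩
def c1308 : Clm := ⟨6, 6, true, [1,5,12,8,13,10,2,1,13,12,4,5,8,7], [12,13,10,12,8,11,2,13,12,4,10,4], 11, [([], 385, [1,10,12,9,13,5,12,11]), ([373,370], 1222, [5,12,11,12,9,11,12,11,13]), ([], 195, [8,10,11,3,13,12])], []⟩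
def c1309 : Clm := ⟨6, 6, true, [5,11,12,11,12,9,2,4,5,7,13,2,6,9], [1,5,12,8,13,10,2,1,13,12,4,5,8,7], 5, [([], 1308, [])], []⟩
def c1310 : Clm := ⟨6, 6, true, [1,5,12,13,10,12,9,12,2,4,3,12,13,6,12,4], [5,11,12,11,12,9,2,4,5,7,13,2,6,9], 5, [([], 1309, [])], []⟩
def c1311 : Clm := ⟨6, 3, true, [1,9,11,13,12,9,13,10,11,2,1,4,12,13,5,12,7], [9,10,11,3,12,9,13,10,2,4,7,13,12,4], 17, [([], 961, [5,8,12,13,12,13,10,13,12]), ([370], 195, [3,5,12,13,10]), ([], 735, [11,3,12,9,13,10,12])], []⟩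
def c1312 : Clm := ⟨3, 6, true, [9,10,11,3,12,9,13,10,2,1,4,7,13,12,4,3], [1,9,11,13,12,9,13,10,11,2,1,4,12,13,5,12,7], 5, [([], 1311, [])], []⟩
def c1313 : Clm := ⟨6, 3, true, [1,9,11,13,12,9,13,10,11,2,4,12,13,3,5,12,7], [9,10,11,3,12,9,13,10,2,1,4,7,13,12,4,3], 5, [([], 1312, [])], []⟩
def c1314 : Clm := ⟨6, 6, true, [1,5,12,11,12,8,12,13,2,7,11,13,2], [1,12,8,13,5,13,12,13,2,1,4,5,12,13,7,7], 15, [([], 195, [3,8,13,5,10,12]), ([], 1258, [1,5,8,13,5,12,11,10]), ([372,370], 1246, [10,13,3,10,12,11,13])], []⟩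
def c1315 : Clm := ⟨6, 6, true, [8,10,12,8,11,13,12,9,12,2,1,7,13,2,12,13,4], [1,5,12,11,12,8,12,13,2,7,11,13,2], 5, [([], 1314, [])], []⟩
def c1316 : Clm := ⟨6, 6, true, [1,5,12,13,10,12,8,11,12,2,6,13,6,12,13,5], [8,10,12,13,3,12,8,2,7,7,13,12,4,10], 17, [([], 1208, [1,5,13,5]), ([], 195, [13,5,13,12,13,10]), ([372,370], 1219, [5,9,11,10,12,11,10])], []⟩
def c1317 : Clm := ⟨6, 6, true, [8,10,12,13,3,12,8,2,1,7,7,13,12,4,3,10], [1,5,12,13,10,12,8,11,12,2,6,13,6,12,13,5], 5, [([], 1316, [])], []⟩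
def c1318 : Clm := ⟨6, 6, true, [5,9,10,13,12,9,11,13,2,6,13,6,12,13,5], [8,10,12,13,3,12,8,2,1,7,7,13,12,4,3,10], 5, [([], 1317, [])], []⟩
def c1319 : Clm := ⟨6, 6, true, [3,12,9,11,13,12,11,2,1,13,7,7,13,2,1], [12,13,5,12,2,13,2,12,13,4], 11, [([], 1207, [13,5,10,11,12,11]), ([], 1317, [13,10,12,13,10]), ([], 195, [5,12,13,10])], []⟩
def c1320 : Clm := ⟨6, 6, true, [8,13,12,9,13,5,12,13,2,4,13,5,7,12,13,5], [3,12,9,11,13,12,11,2,1,13,7,7,13,2,1], 5, [([], 1319, [])], []⟩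
def c1321 : Clm := ⟨6, 6, true, [1,8,10,12,8,11,12,8,2,11,12,4,5,13,2,6], [1,9,13,12,8,11,13,2,4,3,5,12,7], 11, [([], 715, [1,8,10,11,5,12,11,10,12]), ([373], 1233, [3,5,11,5]), ([], 195, [3,10,13,5,12,13])], []⟩
def c1322 : Clm := ⟨6, 6, true, [1,9,12,11,13,12,8,13,2,1,4,5,12,4], [1,8,10,12,8,11,12,8,2,11,12,4,5,13,2,6], 5, [([], 1321, [])], []⟩
def c1323 : Clm := ⟨6, 6, true, [1,8,10,13,12,9,2,4,5,13,7,12,4,5], [1,9,12,11,13,12,8,13,2,1,4,5,12,4], 5, [([], 1322, [])], []⟩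
def c1324 : Clm := ⟨6, 6, true, [8,10,12,8,13,10,12,9,2,4,3,5,6,13,4], [5,9,12,13,3,10,2,4,12,6,13,10,12,8], 11, [([], 1268, [5,8,12,9,11,13]), ([370], 1179, [3,5,11,5]), ([], 195, [12,13,10,13,10])], []⟩
def c1325 : Clm := ⟨6, 6, true, [3,12,8,12,11,13,2,4,12,9,13,6,13,6], [8,10,12,8,13,10,12,9,2,4,3,5,6,13,4], 5, [([], 1324, [])], []⟩
def c1326 : Clm := ⟨6, 6, true, [3,13,10,13,12,8,13,12,13,2,4,5,7,5,13,5], [3,12,8,12,11,13,2,4,12,9,13,6,13,6], 5, [([], 1325, [])], []⟩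
def c1327 : Clm := ⟨6, 6, true, [3,9,11,12,11,12,8,13,2,1,4,12,13,2,13], [1,12,8,13,12,9,13,5,2,13,6,12,11,10,4,12], 15, [([], 195, [9,10,13,3,10,12]), ([373,370], 1138, [5,8,12,9,11,13]), ([373], 861, [8,11,3,5,12,9,13,12])], []⟩
def c1328 : Clm := ⟨6, 6, true, [3,12,8,13,12,13,12,9,2,7,13,6,6,5,4,12], [3,9,11,12,11,12,8,13,2,1,4,12,13,2,13], 5, [([], 1327, [])], []⟩
def c1329 : Clm := ⟨6, 6, true, [1,12,11,10,12,13,10,12,8,2,1,6,13,2,7,13,12], [5,13,5,12,13,12,9,2,11,5,4,12,11,2], 11, [([], 1186, [9,11,12,11,5,11,12,9]), ([], 1192, [5,11,3,5]), ([], 195, [5,9,11,12])], []⟩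
def c1330 : Clm := ⟨6, 6, true, [3,5,9,11,12,13,10,12,13,2,13,7,12,13,12,4], [1,12,11,10,12,13,10,12,8,2,1,6,13,2,7,13,12], 5, [([], 1329, [])], []⟩
def c1331 : Clm := ⟨6, 6, true, [3,8,11,10,12,9,11,13,2,1,6,13,12,4,8,12], [3,5,9,11,12,13,10,12,13,2,13,7,12,13,12,4], 5, [([], 1330, [])], []⟩
def c1332 : Clm := ⟨6, 6, true, [11,12,9,11,13,12,8,2,1,4,13,7,12,11,10], [5,8,10,11,12,9,12,11,13,2,13,4,7,13,6], 11, [([], 940, [13,10,12,11,12,13,10]), ([372,370], 1266, [10,12,8,11,10]), ([372], 195, [5,12,11,3,12])], []⟩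
def c1333 : Clm := ⟨6, 6, true, [9,11,12,11,13,5,10,12,13,2,11,13,12,4,8], [11,12,9,11,13,12,8,2,1,4,13,7,12,11,10], 5, [([], 1332, [])], []⟩
def c1334 : Clm := ⟨6, 6, true, [5,8,11,13,12,11,2,1,4,7,13,7,8], [1,10,12,13,10,12,13,12,9,2,1,13,4,7,12,13,5], 17, [([], 1162, [5,12,8,13,3,12,11]), ([], 195, [1,3,5,8,10,12]), ([372,370], 1232, [1,5,8,13,5,12,11,10])], []⟩
def c1335 : Clm := ⟨6, 6, true, [3,8,10,12,11,13,5,12,8,2,4,12,11,10,12,7], [5,8,11,13,12,11,2,1,4,7,13,7,8], 5, [([], 1334, [])], []⟩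
def c1336 : Clm := ⟨6, 6, true, [5,8,11,13,12,11,2,4,7,13,3,7,8], [3,8,10,12,11,13,5,12,8,2,4,12,11,10,12,7], 5, [([], 1335, [])], []⟩
def c1337 : Clm := ⟨6, 6, true, [8,11,10,12,9,13,10,13,2,7,13,12,9,13], [13,12,13,10,12,8,11,2,1,13,12,13,4,10,4], 11, [([], 656, [1,9,11,10,12,13,12,8]), ([100,170,111], 643, [1,10,11,13,12,8,11,13]), ([], 195, [5,8,13,3,10,12,13])], []⟩
def c1338 : Clm := ⟨6, 6, true, [5,8,12,9,11,13,12,11,2,1,4,5,12,13,7,8], [8,11,10,12,9,13,10,13,2,7,13,12,9,13], 5, [([], 1337, [])], []⟩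
def c1339 : Clm := ⟨6, 6, true, [1,5,8,13,5,12,9,13,2,7,13,12,9,13], [5,8,12,9,11,13,12,11,2,1,4,5,12,13,7,8], 5, [([], 1338, [])], []⟩
def c1340 : Clm := ⟨6, 6, true, [1,12,8,13,12,13,10,2,4,6,13,12,13,10], [13,12,13,5,12,9,2,13,2,12,13,3,4], 11, [([], 1196, [1,10,12,13,5,10,12]), ([370], 613, [5,9,12,8,13,10,12,8]), ([370], 195, [3,9,13,5,12,13,10])], []⟩
def c1341 : Clm := ⟨6, 6, true, [3,12,13,12,8,11,12,2,4,6,9,12,13,6,9], [1,12,8,13,12,13,10,2,4,6,13,12,13,10], 5, [([], 1340, [])], []⟩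
def c1342 : Clm := ⟨6, 6, true, [5,12,8,11,10,12,13,2,13,12,13,7,10,4], [3,12,13,12,8,11,12,2,4,6,9,12,13,6,9], 5, [([], 1341, [])], []⟩
def c1343 : Clm := ⟨6, 6, true, [5,9,11,10,12,13,12,2,4,6,5,13,7,8], [13,12,13,10,12,9,2,1,11,12,11,2], 11, [([], 1273, [3,5,8,10,11,12,8,13]), ([372,370], 1274, [12,13,3,5,12,8]), ([372], 195, [3,9,13,10,12])], []⟩
def c1344 : Clm := ⟨6, 6, true, [13,12,13,10,12,9,2,1,11,12,11,10,2], [5,9,11,10,12,13,12,2,4,6,5,13,7,8], 5, [([], 1343, [])], []⟩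
def c1345 : Clm := ⟨6, 6, true, [1,12,8,11,13,5,12,9,13,2,1,4,12,11,10,12,11], [13,12,13,10,12,9,2,1,11,12,11,10,2], 5, [([], 1344, [])], []⟩
def c1346 : Clm := ⟨6, 6, true, [10,12,8,13,5,12,2,4,12,13,4,12,11,12], [13,12,13,10,12,8,11,2,11,12,13,4,10,4], 11, [([], 824, [5,9,13,5,13,12]), ([373,370], 1277, [12,8,11,12,11,12,9,12]), ([], 195, [3,8,13,10,12,13])], []⟩
def c1347 : Clm := ⟨6, 6, true, [3,11,12,13,12,13,2,6,13,2,7,8,13], [10,12,8,13,5,12,2,4,12,13,4,12,11,12], 5, [([], 1346, [])], []⟩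
def c1348 : Clm := ⟨6, 6, true, [8,11,5,12,9,13,5,10,2,13,12,4,7,12,7], [3,8,11,13,12,9,11,10,12,2,4,6,13,5,6,9,13], 11, [([], 962, [5,11,3,5,12,8]), ([373,370], 1200, [5,13,5,11]), ([], 195, [3,5,9,10,12,13])], []⟩
def c1349 : Clm := ⟨6, 6, true, [3,12,13,12,2,7,13,2,6,9,13], [8,11,5,12,9,13,5,10,2,13,12,4,7,12,7], 5, [([], 1348, [])], []⟩
def c1350 : Clm := ⟨6, 6, true, [8,11,5,12,13,12,9,12,2,4,3,12,4,12,6,11], [3,12,13,12,2,7,13,2,6,9,13], 5, [([], 1349, [])], []⟩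
def c1351 : Clm := ⟨6, 6, true, [11,12,13,12,8,12,11,5,2,1,13,2,6,5,8,13], [3,12,13,5,10,12,13,2,11,5,4], 11, [([], 498, [9,10,11,12,9,13,12,9,13]), ([370], 1176, [13,5,13,5]), ([], 195, [5,13,3])], []⟩
def c1352 : Clm := ⟨6, 6, true, [3,13,12,13,12,2,1,13,2,1], [11,12,13,12,8,12,11,5,2,1,13,2,6,5,8,13], 5, [([], 1351, [])], []⟩
def c1353 : Clm := ⟨6, 6, true, [1,11,12,9,13,10,12,11,2,4,5,6,11,12,6,13], [3,13,12,13,12,2,1,13,2,1], 5, [([], 1352, [])], []⟩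
def c1354 : Clm := ⟨6, 4, true, [3,8,11,12,8,2,4,3,6,9,13,12,7], [1,13,5,12,9,13,10,12,8,2,1,13,2,12,9,13,4], 17, [([], 1189, [3,5,8,10,13,12,8,11,10]), ([], 195, [10,13,10,12,13,12,11]), ([370], 473, [13,10,13,12,13,5,12])], []⟩
def c1355 : Clm := ⟨4, 6, true, [1,9,12,8,11,12,9,2,1,4,7,12,4,13,7], [3,8,11,12,8,2,4,3,6,9,13,12,7], 5, [([], 1354, [])], []⟩
def c1356 : Clm := ⟨6, 4, true, [3,8,11,12,8,2,4,6,9,13,12,7], [1,9,12,8,11,12,9,2,1,4,7,12,4,13,7], 5, [([], 1355, [])], []⟩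
def c1357 : Clm := ⟨6, 6, true, [5,13,12,9,12,11,12,8,11,2,4,7,12,7,11,13,2], [3,5,8,12,13,12,8,2,1,4,12,8,11,12], 15, [([], 195, [3,9,12,13,10]), ([372,370], 468, [3,11,10,12,9,11,12,8,13]), ([202,333,210,201], 1108, [8,12,11,10,12,9,13,12])], []⟩
def c1358 : Clm := ⟨6, 6, true, [3,5,8,12,13,12,8,2,4,12,8,11,3,12], [5,13,12,9,12,11,12,8,11,2,4,7,12,7,11,13,2], 5, [([], 1357, [])], []⟩
def c1359 : Clm := ⟨6, 6, true, [8,10,12,13,3,5,2,4,13,12,13,12,6,9], [3,5,8,12,13,12,8,2,4,12,8,11,3,12], 5, [([], 1358, [])], []⟩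
def c1360 : Clm := ⟨6, 6, true, [10,13,5,10,12,8,11,13,2,7,11,12,4,9], [12,13,10,12,9,11,5,2,13,12,13,4,10,4], 11, [([], 1008, [11,10,12,8,12,11,5,12]), ([333,211,205], 1017, [1,9,12,8,11,10,12,9]), ([372], 195, [9,10,12,11,5])], []⟩
def c1361 : Clm := ⟨6, 6, true, [1,9,12,9,11,5,12,11,2,4,5,12,11,13,7,8], [10,13,5,10,12,8,11,13,2,7,11,12,4,9], 5, [([], 1360, [])], []⟩
def c1362 : Clm := ⟨6, 6, true, [3,10,11,5,12,8,13,5,10,2,1,6,9,13,2,1,6], [1,9,12,9,11,5,12,11,2,4,5,12,11,13,7,8], 5, [([], 1361, [])], []⟩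
def c1363 : Clm := ⟨6, 6, true, [8,13,10,13,12,9,13,10,2,4,12,11,3,13], [1,5,8,13,10,12,9,13,2,13,4,7,12,4,5,11], 17, [([], 1222, [3,13,10,11,12,11]), ([372], 195, [3,5,10,11,12,13]), ([372], 962, [3,9,12,11,10,13,12,9,13])], []⟩
def c1364 : Clm := ⟨6, 6, true, [1,13,10,12,13,10,12,2,4,7,12,13,2,7,7], [8,13,10,13,12,9,13,10,2,4,12,11,3,13], 5, [([], 1363, [])], []⟩
def c1365 : Clm := ⟨6, 6, true, [5,13,12,9,11,12,11,2,1,4,5,7,7,13,2], [3,5,13,12,11,10,12,9,13,2,6,13,4,6,5,8], 15, [([], 195, [10,12,13,3,10]), ([373,370], 1273, [12,8,13,10,12,8,13]), ([372,370], 1352, [1,5,10,11,12,13])], []⟩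
def c1366 : Clm := ⟨6, 6, true, [12,13,3,5,10,12,13,2,1,11,12,11,10,4,5], [5,13,12,9,11,12,11,2,1,4,5,7,7,13,2], 5, [([], 1365, [])], []⟩
def c1367 : Clm := ⟨6, 6, true, [3,8,10,12,13,10,12,8,2,13,7,12,4,6], [12,13,3,5,10,12,13,2,1,11,12,11,10,4,5], 5, [([], 1366, [])], []⟩
def c1368 : Clm := ⟨6, 6, true, [5,8,11,13,12,11,12,9,2,1,13,6,10,13,2,13], [1,9,11,12,11,13,12,8,13,2,4,5,12,4,13,3], 11, [([], 1213, [3,10,11,12,8,13,10]), ([], 1262, [5,11,3,5]), ([], 195, [3,13,10,13,12])], []⟩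
def c1369 : Clm := ⟨6, 6, true, [1,9,11,12,11,13,12,8,13,2,1,4,5,12,4,13], [5,8,11,13,12,11,12,9,2,1,13,6,10,13,2,13], 5, [([], 1368, [])], []⟩
def c1370 : Clm := ⟨6, 6, true, [9,12,11,12,8,13,10,13,2,6,6,13,12,11,13,2], [1,9,11,12,11,13,12,8,13,2,1,4,5,12,4,13], 5, [([], 1369, [])], []⟩
def c1371 : Clm := ⟨6, 6, true, [1,10,11,12,8,13,12,11,2,13,2,7,13,4,6], [9,11,13,12,9,13,5,10,13,2,11,5,6,10,13], 17, [([], 1077, [1,11,13,12,11,10,13,12]), ([372], 195, [1,5,9,13,12]), ([373,370], 719, [1,5,11,13,12,8,11,13,12])], []⟩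
def c1372 : Clm := ⟨6, 6, true, [1,11,13,10,12,8,12,13,10,2,13,10,13,6,13], [1,10,11,12,8,13,12,11,2,13,2,7,13,4,6], 5, [([], 1371, [])], []⟩
def c1373 : Clm := ⟨6, 6, true, [3,5,12,9,11,12,13,10,13,2,1,13,5,7,7,13,4], [1,13,12,8,12,11,13,10,2,1,7,13,2,12,7,11], 15, [([], 195, [11,12,11,5,10]), ([373], 688, [1,8,11,12]), ([104,98,96], 711, [12,8,12,13,12,8,13,12])], []⟩
def c1374 : Clm := ⟨6, 6, true, [1,5,9,13,12,9,13,2,13,2,12,4,13,6], [3,5,12,9,11,12,13,10,13,2,1,13,5,7,7,13,4], 5, [([], 1373, [])], []⟩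
def c1375 : Clm := ⟨6, 6, true, [1,13,12,9,11,10,12,11,12,2,13,7,12,4,6,13], [1,5,9,13,12,9,13,2,13,2,12,4,13,6], 5, [([], 1374, [])], []⟩
def c1376 : Clm := ⟨6, 6, true, [3,11,13,10,12,9,11,13,2,1,6,13,7,13,2], [1,5,9,10,12,11,5,12,11,10,2,1,13,7,7,13,4,12], 17, [([], 1173, [1,12,8,11,10,12,9]), ([372], 195, [3,5,13,5,10]), ([373], 421, [12,11,10,12,9,12,13])], []⟩
def c1377 : Clm := ⟨6, 6, true, [5,8,11,12,9,11,13,5,12,11,2,6,6,13,4,7,9,12], [3,11,13,10,12,9,11,13,2,1,6,13,7,13,2], 5, [([], 1376, [])], []⟩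
def c1378 : Clm := ⟨6, 6, true, [3,9,12,8,11,13,12,13,2,13,2,1,12,13,7,12], [11,12,13,12,9,2,11,5,12,11,2], 11, [([], 1073, [13,3,10,12,9,11,13]), ([372,370], 1238, [1,9,13,5,10,12,13,12,9]), ([370], 195, [3,9,11,5,12])], []⟩
def c1379 : Clm := ⟨6, 6, true, [3,12,13,12,8,11,2,6,13,7,8,13,2], [3,9,12,8,11,13,12,13,2,13,2,1,12,13,7,12], 5, [([], 1378, [])], []⟩
def c1380 : Clm := ⟨6, 6, true, [3,9,12,8,11,13,12,13,2,13,2,12,13,3,7,12], [3,12,13,12,8,11,2,6,13,7,8,13,2], 5, [([], 1379, [])], []⟩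
def c1381 : Clm := ⟨6, 6, true, [3,9,13,12,8,13,12,2,7,11,12,13,2,3,13], [3,8,12,9,11,10,12,2,4,6,13,5,6,9,13], 11, [([], 498, [11,10,12,11,12,9,13]), ([372], 1163, [5,13,5,13]), ([], 195, [5,9,11,13,10,12,13])], []⟩
def c1382 : Clm := ⟨6, 6, true, [3,11,13,12,13,12,2,7,13,2,6,9,13], [3,9,13,12,8,13,12,2,7,11,12,13,2,3,13], 5, [([], 1381, [])], []⟩
def c1383 : Clm := ⟨6, 6, true, [3,9,13,12,8,13,12,2,7,11,12,13,2,13], [3,11,13,12,13,12,2,7,13,2,6,9,13], 5, [([], 1382, [])], []⟩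
def c1384 : Clm := ⟨6, 6, true, [12,8,12,13,12,9,13,12,2,4,12,13,2,11], [1,12,8,11,5,12,9,11,2,4,3,7,9,12,11], 11, [([], 1366, [5,10,13,5,12,9,13]), ([], 1353, [3,10,11,12,8,13,10]), ([], 195, [3,9,11,13,12,11,10,12])], []⟩
def c1385 : Clm := ⟨6, 6, true, [1,12,8,11,5,12,9,11,2,4,7,9,12,11], [12,8,12,13,12,9,13,12,2,4,12,13,2,11], 5, [([], 1384, [])], []⟩
def c1386 : Clm := ⟨6, 6, true, [5,11,12,9,11,10,12,13,2,1,13,5,7,7,13,4], [11,5,12,11,12,2,13,2,12,11,13,4], 15, [([], 195, [3,5,11,12,13,10]), ([], 1352, [1,8,10,13,12,8,11,12,13]), ([372,370], 1366, [10,13,5,10,12])], []⟩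
def c1387 : Clm := ⟨6, 6, true, [11,5,12,11,12,2,13,2,1,12,13,4], [5,11,12,9,11,10,12,13,2,1,13,5,7,7,13,4], 5, [([], 1386, [])], []⟩
def c1388 : Clm := ⟨6, 6, true, [5,8,12,11,3,5,12,9,2,1,4,12,13,2,13], [13,12,8,12,11,10,12,2,11,12,9,13,2,11], 15, [([], 195, [3,9,13,10,13,12]), ([372], 615, [8,10,11,3,12]), ([227,253], 476, [9,10,12,8,13,5,13])], []⟩
def c1389 : Clm := ⟨6, 6, true, [12,9,11,12,9,13,10,13,2,1,4,13,12,13,6,9], [5,8,12,11,3,5,12,9,2,1,4,12,13,2,13], 5, [([], 1388, [])], []⟩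
def c1390 : Clm := ⟨6, 6, true, [9,10,12,13,3,12,9,2,7,13,2,12,13,12,9], [10,13,3,10,12,9,11,13,2,1,4,7,5,7,13,5], 17, [([], 920, [13,5,12,8,11,10,12,11]), ([372], 195, [5,11,3,12,8,13,12]), ([372], 1330, [13,3,12,8,12,11,12,9])], []⟩
def c1391 : Clm := ⟨6, 6, true, [5,9,12,13,3,5,10,12,11,2,4,6,12,13,3,4], [9,10,12,13,3,12,9,2,7,13,2,12,13,12,9], 5, [([], 1390, [])], []⟩
def c1392 : Clm := ⟨6, 6, true, [3,8,13,5,12,13,2,4,13,6,9,10,12,4], [5,9,12,13,3,5,10,12,11,2,4,6,12,13,3,4], 5, [([], 1391, [])], []⟩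
def c1393 : Clm := ⟨6, 6, true, [3,8,11,5,12,2,11,12,4,12,9,13,4], [13,12,13,10,12,8,2,1,11,10,12,11,2], 11, [([], 638, [13,12,13,12,8,12,13,10]), ([373], 1286, [5,11,3,5]), ([], 195, [8,13,12])], []⟩
def c1394 : Clm := ⟨6, 6, true, [3,12,13,12,13,2,1,6,13,2,7,8], [3,8,11,5,12,2,11,12,4,12,9,13,4], 5, [([], 1393, [])], []⟩
def c1395 : Clm := ⟨6, 6, true, [3,8,11,5,2,4,12,4,12,13,12,9], [3,12,13,12,13,2,1,6,13,2,7,8], 5, [([], 1394, [])], []⟩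
def c1396 : Clm := ⟨6, 6, true, [11,3,10,12,9,12,11,12,2,1,13,5,7,7,13,4], [9,12,8,11,3,5,10,12,13,2,4,3,12,11], 15, [([], 195, [5,11,3,10,12]), ([373], 952, [9,10,12,9,11,3,5,12]), ([], 1375, [5,11,3,12,8,13,10,12])], []⟩
def c1397 : Clm := ⟨6, 6, true, [9,12,8,11,3,5,10,12,13,2,4,12,11], [11,3,10,12,9,12,11,12,2,1,13,5,7,7,13,4], 5, [([], 1396, [])], []⟩
def c1398 : Clm := ⟨6, 6, true, [1,5,12,13,10,12,8,2,4,12,6,11,13], [10,13,3,12,9,13,10,2,4,12,7,13,2,5,7], 11, [([], 1309, [11,5,12,11,12,8]), ([], 1246, [3,5,9,10,13,10,12,11,10]), ([], 195, [10,11,13,12,9,13,12])], []⟩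
def c1399 : Clm := ⟨6, 6, true, [3,9,10,13,12,13,10,13,2,1,6,13,4,12,4,7], [1,5,12,13,10,12,8,2,4,12,6,11,13], 5, [([], 1398, [])], []⟩
def c1400 : Clm := ⟨6, 6, true, [1,5,12,13,10,12,8,2,4,12,6,11,3,13], [3,9,10,13,12,13,10,13,2,1,6,13,4,12,4,7], 5, [([], 1399, [])], []⟩
def c1401 : Clm := ⟨5, 6, true, [5,8,12,11,5,12,9,2,1,7,9,11,10], [3,8,13,12,11,12,8,2,1,4,5,12,13,4], 13, [([], 901, [10,12,13,12,8,13]), ([373], 922, [11,12,9,11,12,8,11,5]), ([372], 195, [5,9,10,11,3,12])], []⟩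
def c1402 : Clm := ⟨6, 5, true, [3,8,13,12,11,12,8,2,4,5,12,11,13,4], [5,8,12,11,5,12,9,2,1,7,9,11,10], 5, [([], 1401, [])], []⟩
def c1403 : Clm := ⟨6, 6, true, [8,10,13,12,9,13,10,2,4,12,6,13,7,9], [9,10,13,10,12,13,10,2,4,12,8,11,10], 13, [([], 701, [12,8,11,5,12,13,12,8]), ([111,104,102], 267, [10,12,13,3,10,12,13,12]), ([], 195, [1,5,12,11,12])], []⟩
def c1404 : Clm := ⟨6, 6, true, [3,9,10,13,12,9,13,5,13,2,4,6,13,7,9], [8,10,13,12,9,13,10,2,4,12,6,13,7,9], 5, [([], 1403, [])], []⟩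
def c1405 : Clm := ⟨6, 6, true, [3,9,12,11,12,8,12,13,2,1,13,12,13,4,12,9], [3,9,10,13,12,9,13,5,13,2,4,6,13,7,9], 5, [([], 1404, [])], []⟩
def c1406 : Clm := ⟨6, 6, true, [3,11,10,12,9,11,13,12,13,2,6,6,13,12,8,7], [1,5,9,13,12,13,10,13,12,2,1,6,13,6,5,4,8], 17, [([], 195, [9,11,3,12,13,10]), ([372,370], 676, [11,3,10,12,11,10]), ([228,227], 865, [1,9,10,13,10,12,9,13,10])], []⟩
def c1407 : Clm := ⟨6, 6, true, [1,5,9,13,12,13,10,13,12,2,6,13,6,5,4,3,8], [3,11,10,12,9,11,13,12,13,2,6,6,13,12,8,7], 5, [([], 1406, [])], []⟩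
def c1408 : Clm := ⟨6, 6, true, [8,10,11,12,11,12,8,13,2,1,6,6,13,12,8,7], [1,5,9,13,12,13,10,13,12,2,6,13,6,5,4,3,8], 5, [([], 1407, [])], []⟩
def c1409 : Clm := ⟨6, 6, true, [10,11,12,8,11,12,8,13,10,2,4,6,13,4,7,13], [3,8,11,12,11,13,12,9,13,2,4,12,13,2,3], 17, [([], 195, [13,3,10,13,12]), ([372,370], 1318, [5,11,5,11,12,11,13,12,9]), ([372], 1399, [1,8,10,11,12,11,13,5])], []⟩
def c1410 : Clm := ⟨6, 6, true, [3,8,11,12,11,13,12,9,13,2,4,12,13,2,1], [10,11,12,8,11,12,8,13,10,2,4,6,13,4,7,13], 5, [([], 1409, [])], []⟩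
def c1411 : Clm := ⟨6, 6, true, [3,9,12,8,11,10,12,11,2,6,6,13,6,9,12], [3,8,11,12,11,13,12,9,13,2,4,12,13,2,1], 5, [([], 1410, [])], []⟩
def c1412 : Clm := ⟨6, 6, true, [3,9,11,12,11,12,8,13,10,2,7,9,13,4,7,10], [5,13,12,8,13,12,11,13,2,13,7,10,2], 11, [([], 998, [9,10,11,10,12,9,13,5,12]), ([], 195, [1,12]), ([370], 1111, [1,3,9,10,12,9])], []⟩
def c1413 : Clm := ⟨6, 6, true, [5,13,12,8,13,12,11,13,2,13,2,7], [3,9,11,12,11,12,8,13,10,2,7,9,13,4,7,10], 5, [([], 1412, [])], []⟩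
def c1414 : Clm := ⟨6, 6, true, [5,9,12,13,10,12,8,13,2,7,9,13,4,7], [5,13,12,8,13,12,11,13,2,13,2,7], 5, [([], 1413, [])], []⟩
def c1415 : Clm := ⟨6, 6, true, [3,9,12,13,10,12,8,2,1,13,2,12,4,6,5], [1,9,13,12,9,13,5,10,11,2,11,12,7,13,4], 11, [([], 1408, [3,10,11,10]), ([], 195, [5,9,13,12,13,10]), ([372,370], 1342, [1,5,13,5])], []⟩
def c1416 : Clm := ⟨6, 6, true, [1,9,13,12,9,13,5,10,11,2,1,11,12,7,11,13,4], [3,9,12,13,10,12,8,2,1,13,2,12,4,6,5], 5, [([], 1415, [])], []⟩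
def c1417 : Clm := ⟨6, 6, true, [3,5,8,13,10,12,9,13,2,1,13,4,7,12,11], [1,9,11,12,11,13,12,8,2,1,4,5,12,13,4], 13, [([], 1331, [9,11,12,13,10,13,12]), ([372], 1146, [3,8,12,13,10,12,9,11,13]), ([], 195, [5,10,11,5,12])], []⟩
def c1418 : Clm := ⟨6, 6, true, [1,9,11,12,11,13,12,8,2,4,5,12,11,13,4], [3,5,8,13,10,12,9,13,2,1,13,4,7,12,11], 5, [([], 1417, [])], []⟩
def c1419 : Clm := ⟨6, 5, true, [3,12,9,12,11,13,12,2,13,2,6,12,8,11], [11,12,11,5,11,12,8,12,2,1,4,12,6,13,7], 11, [([], 1230, [3,8,10,12,11,10,12,8]), ([], 195, [3,11,13,12,9,11,10,12]), ([372], 615, [1,10,12,11,12,8,13,12])], []⟩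
def c1420 : Clm := ⟨5, 6, true, [11,12,11,5,11,12,8,2,13,12,13,4,12], [3,12,9,12,11,13,12,2,13,2,6,12,8,11], 5, [([], 1419, [])], []⟩
def c1421 : Clm := ⟨6, 6, true, [12,11,5,10,12,11,12,2,4,3,6,12,8,13,12], [11,3,13,12,9,11,12,2,7,7,13,10,2,12,4], 11, [([], 1149, [1,11,5,10]), ([], 195, [3,11,10]), ([373], 421, [5,12,8,13,10,12,8,11])], []⟩
def c1422 : Clm := ⟨6, 6, true, [3,13,10,11,12,9,11,5,2,7,7,13,2,12,7], [12,11,5,10,12,11,12,2,4,3,6,12,8,13,12], 5, [([], 1421, [])], []⟩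
def c1423 : Clm := ⟨6, 6, true, [3,12,8,13,10,12,13,2,4,5,7,9,11,12,11], [5,11,12,11,13,12,9,2,4,13,10,12,11,2,13], 11, [([], 1411, [3,11,5,10,12,11]), ([], 195, [10,12,13,3,10,12]), ([372], 221, [11,3,12,8,13,10,12,8])], []⟩
def c1424 : Clm := ⟨6, 6, true, [1,9,10,12,13,5,12,8,13,2,7,13,4,7,12,4,9], [3,12,8,13,10,12,13,2,4,5,7,9,11,12,11], 5, [([], 1423, [])], []⟩
def c1425 : Clm := ⟨6, 6, true, [3,12,8,13,5,12,11,2,1,13,2,12,7,9,11], [1,9,10,12,13,5,12,8,13,2,7,13,4,7,12,4,9], 5, [([], 1424, [])], []⟩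
def c1426 : Clm := ⟨6, 6, true, [1,9,10,12,9,13,12,8,2,1,13,7,9,10,13], [12,11,12,13,10,11,2,6,11,12,4,9], 13, [([], 679, [1,12,8,12,13,10,12]), ([204,333,201], 314, [9,10,12,9,11,3,12,8,11]), ([], 195, [9,11,3,12])], []⟩
def c1427 : Clm := ⟨6, 6, true, [12,11,12,13,10,11,2,1,6,11,12,4,3,9], [1,9,10,12,9,13,12,8,2,1,13,7,9,10,13], 5, [([], 1426, [])], []⟩
def c1428 : Clm := ⟨6, 6, true, [1,9,10,12,9,13,12,8,2,13,7,9,10,13], [12,11,12,13,10,11,2,1,6,11,12,4,3,9], 5, [([], 1427, [])], []⟩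
def c1429 : Clm := ⟨6, 6, true, [8,11,5,11,12,9,11,2,1,13,2,5,12,9,13], [12,11,10,12,11,10,12,2,1,6,11,12,4,8,13], 13, [([], 646, [12,9,11,5,10,13]), ([210,333,201], 314, [9,12,8,13,10]), ([], 195, [11,13,12,8,13,5,12])], []⟩
def c1430 : Clm := ⟨6, 6, true, [12,11,10,12,11,10,12,2,6,11,12,4,8,13,3], [8,11,5,11,12,9,11,2,1,13,2,5,12,9,13], 5, [([], 1429, [])], []⟩
def c1431 : Clm := ⟨6, 6, true, [11,12,11,12,13,2,1,4,12,11,13,5], [13,10,13,12,13,5,12,8,2,4,5,7,13,5,12,9], 11, [([], 1146, [8,13,5,12,11,10,12,9]), ([], 195, [1,13,10,13,10,12]), ([372,370], 1323, [5,11,3,5])], []⟩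
def c1432 : Clm := ⟨6, 6, true, [8,11,13,5,10,12,11,12,9,2,13,4,6,13,2,5], [11,12,11,12,13,2,1,4,12,11,13,5], 5, [([], 1431, [])], []⟩
def c1433 : Clm := ⟨6, 6, true, [11,5,10,13,12,9,13,12,2,1,4,5,6,13,12,4], [3,5,8,12,13,12,8,11,10,2,1,4,5], 13, [([], 1235, [3,5,8,12,11]), ([], 1230, [3,13,12,9,13]), ([], 195, [9,13,3,10,11,12])], []⟩
def c1434 : Clm := ⟨6, 6, true, [3,5,8,12,13,12,8,11,10,2,4,3,5], [11,5,10,13,12,9,13,12,2,1,4,5,6,13,12,4], 5, [([], 1433, [])], []⟩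
def c1435 : Clm := ⟨6, 6, true, [11,5,10,13,12,9,13,12,2,4,5,6,13,12,4,3], [3,5,8,12,13,12,8,11,10,2,4,3,5], 5, [([], 1434, [])], []⟩
def c1436 : Clm := ⟨6, 6, true, [8,12,9,13,3,12,13,10,13,2,4,3,12,4,5], [11,13,12,13,10,12,8,12,2,13,2,13,7], 11, [([], 1146, [1,11,5,10]), ([], 195, [3,10,12]), ([], 1326, [1,5,13,5,11])], []⟩
def c1437 : Clm := ⟨6, 6, true, [9,10,11,3,12,9,13,12,2,1,13,2,5,7], [8,12,9,13,3,12,13,10,13,2,4,3,12,4,5], 5, [([], 1436, [])], []⟩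
def c1438 : Clm := ⟨6, 6, true, [3,12,11,12,9,11,12,13,2,6,6,13,7,9,10], [3,12,13,5,10,12,13,12,2,4,6,13,3,7,9], 13, [([], 1091, [11,10,12,11,10,12,8]), ([98], 267, [3,8,11,12,11,12,13,10]), ([], 195, [9,11,5,12,11,12,11])], []⟩
def c1439 : Clm := ⟨6, 6, true, [9,12,11,13,5,10,12,13,2,4,7,13,6,13], [3,12,11,12,9,11,12,13,2,6,6,13,7,9,10], 5, [([], 1438, [])], []⟩
def c1440 : Clm := ⟨6, 6, true, [1,5,11,12,8,11,12,13,2,7,11,10,12,4,6], [9,12,11,13,5,10,12,13,2,4,7,13,6,13], 5, [([], 1439, [])], []⟩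
def c1441 : Clm := ⟨6, 6, true, [1,12,13,10,12,8,12,13,2,1,7,11,13,12,11], [1,8,13,10,12,8,13,2,11,12,4,7,5,10], 17, [([], 195, [8,12,13,3,10,12]), ([], 1261, [1,3,8,10]), ([372,370], 714, [1,9,12,13,10,13,12,9,11])], []⟩
def c1442 : Clm := ⟨6, 6, true, [3,9,12,8,13,12,9,13,2,4,7,7,13,5,6,5], [1,12,13,10,12,8,12,13,2,1,7,11,13,12,11], 5, [([], 1441, [])], []⟩
def c1443 : Clm := ⟨6, 6, true, [1,12,13,10,12,8,12,13,10,2,7,11,13,12,11], [3,9,12,8,13,12,9,13,2,4,7,7,13,5,6,5], 5, [([], 1442, [])], []⟩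
def c1444 : Clm := ⟨6, 6, true, [1,8,10,11,12,9,11,12,11,2,13,10,13,12,13,2], [10,11,10,12,8,13,12,9,12,2,13,2,12,7,13], 13, [([], 632, [9,13,10,12,11,12,8,11]), ([370], 1408, [3,11,10,12,9,12,11]), ([], 195, [5,13,12,13,10])], []⟩
def c1445 : Clm := ⟨6, 6, true, [3,11,12,13,12,13,10,2,4,5,11,12,4], [1,8,10,11,12,9,11,12,11,2,13,10,13,12,13,2], 5, [([], 1444, [])], []⟩
def c1446 : Clm := ⟨6, 4, true, [12,13,10,12,11,10,2,7,7,13,4,12,11], [3,8,12,13,12,13,10,2,11,12,7,13,2,5], 11, [([], 1230, [1,5,8,11,12,8,13]), ([], 195, [3,9,10,13,10,12]), ([372,370], 1355, [3,8,12,11,10,12,8,11,13,5])], []⟩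
def c1447 : Clm := ⟨4, 6, true, [8,13,12,13,5,2,13,5,12,7,13,2], [12,13,10,12,11,10,2,7,7,13,4,12,11], 5, [([], 1446, [])], []⟩
def c1448 : Clm := ⟨6, 4, true, [12,13,12,13,10,11,12,2,4,3,5,7,5,13,4], [8,13,12,13,5,2,13,5,12,7,13,2], 5, [([], 1447, [])], []⟩
def c1449 : Clm := ⟨6, 6, true, [9,10,13,12,13,5,12,8,2,4,5,6,13,2,1], [9,12,11,10,12,9,11,10,2,1,13,12,4,7,9], 13, [([], 1380, [1,9,10,12,11,10,12,11]), ([372], 998, [8,11,10,12,11,12,11]), ([], 195, [3,5,13,5,12])], []⟩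
def c1450 : Clm := ⟨6, 6, true, [9,12,11,10,12,9,11,10,2,13,12,4,3,7,9], [9,10,13,12,13,5,12,8,2,4,5,6,13,2,1], 5, [([], 1449, [])], []⟩
def c1451 : Clm := ⟨6, 6, true, [9,10,13,12,13,5,12,8,2,4,5,6,13,2,3], [9,12,11,10,12,9,11,10,2,13,12,4,3,7,9], 5, [([], 1450, [])], []⟩
def c1452 : Clm := ⟨6, 6, true, [5,10,11,12,13,10,12,8,2,4,3,6,12,13,6,9], [3,11,12,13,10,12,8,2,4,3,13,12,4,3], 13, [([], 1040, [11,12,11,5,10,13,12,13]), ([370], 1149, [1,9,10,13,12,11]), ([], 195, [3,8,11,13,12,13,10])], []⟩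
def c1453 : Clm := ⟨6, 6, true, [3,11,12,13,10,12,8,2,4,13,3,12,4], [5,10,11,12,13,10,12,8,2,4,3,6,12,13,6,9], 5, [([], 1452, [])], []⟩
def c1454 : Clm := ⟨6, 6, true, [3,8,10,11,13,2,6,13,2,12,13,7], [5,9,11,10,12,13,12,9,2,13,2,13,12,8,13], 11, [([], 1408, [9,12,11,5,10,12,11,12]), ([], 195, [10,12,11,3,5,12]), ([372,370], 523, [3,10,13,12,9,12,11])], []⟩
def c1455 : Clm := ⟨6, 6, true, [1,12,8,11,13,12,2,4,13,10,12,8,13], [3,8,10,11,13,2,6,13,2,12,13,7], 5, [([], 1454, [])], []⟩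
def c1456 : Clm := ⟨6, 6, true, [12,11,3,10,12,8,2,11,13,6,6], [9,12,11,12,8,11,12,11,2,4,6,9,13,12,6], 13, [([], 1044, [1,13,12,9,13,10,13,12]), ([], 1230, [9,11,5,11,5,12,11,13,12]), ([], 195, [9,11,3,5,10,12])], []⟩
def c1457 : Clm := ⟨6, 6, true, [9,12,11,12,8,11,12,11,2,4,3,6,9,13,12,6], [12,11,3,10,12,8,2,11,13,6,6], 5, [([], 1456, [])], []⟩
def c1458 : Clm := ⟨6, 6, true, [8,13,12,9,11,13,12,9,2,7,13,2,11,12], [3,5,8,12,13,12,11,10,13,2,1,4,12,4,13,7,9], 11, [([], 922, [1,5,11,12,11,13]), ([372], 195, [9,10,12,13,3,5]), ([], 1350, [5,13,5,11])], []⟩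
def c1459 : Clm := ⟨6, 6, true, [3,5,13,12,11,10,12,13,2,1,13,4,7,13,12,7], [8,13,12,9,11,13,12,9,2,7,13,2,11,12], 5, [([], 1458, [])], []⟩
def c1460 : Clm := ⟨6, 6, true, [1,8,11,10,13,12,11,12,2,4,12,8,13,4], [3,5,13,12,11,10,12,13,2,1,13,4,7,13,12,7], 5, [([], 1459, [])], []⟩
def c1461 : Clm := ⟨6, 6, true, [3,5,11,5,12,11,12,2,7,11,12,4,6,12], [13,5,12,9,11,5,12,13,2,4,5,6,6,11], 11, [([], 1411, [3,5,11,12,13]), ([], 195, [13,3,10,11,12]), ([373], 1220, [10,11,5,12])], []⟩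
def c1462 : Clm := ⟨6, 6, true, [8,11,10,12,8,13,10,12,2,4,13,6,6,10], [3,5,11,5,12,11,12,2,7,11,12,4,6,12], 5, [([], 1461, [])], []⟩
def c1463 : Clm := ⟨6, 6, true, [3,13,5,12,9,13,12,2,1,13,4,12,13,6,8], [8,11,10,12,8,13,10,12,2,4,13,6,6,10], 5, [([], 1462, [])], []⟩
def c1464 : Clm := ⟨6, 6, true, [3,9,11,5,10,13,12,13,2,4,7,13,6,5,12,13], [8,10,13,3,12,11,13,2,11,12,4,5], 11, [([], 1443, [11,12,11,13,10,12,13]), ([], 195, [5,8,13,10,12]), ([372,370], 1258, [1,8,11,10,12,11,10])], []⟩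
def c1465 : Clm := ⟨6, 6, true, [8,10,13,3,12,11,13,2,1,11,12,4,3,5], [3,9,11,5,10,13,12,13,2,4,7,13,6,5,12,13], 5, [([], 1464, [])], []⟩
def c1466 : Clm := ⟨6, 6, true, [3,9,10,11,12,11,10,13,2,13,2,6,13,7,12], [8,10,13,3,12,11,13,2,1,11,12,4,3,5], 5, [([], 1465, [])], []⟩
def c1467 : Clm := ⟨6, 6, true, [8,12,13,10,12,9,13,12,2,4,5,6,13,6,5,6], [9,13,12,8,11,13,5,2,1,4,13,6,13,5,6], 13, [([], 1370, [8,12,9,11,12,11]), ([], 1411, [8,10,12,11,3,10,12,9]), ([], 195, [13,3,10,12])], []⟩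
def c1468 : Clm := ⟨6, 6, true, [9,13,12,8,11,13,5,2,4,3,13,6,13,5,6], [8,12,13,10,12,9,13,12,2,4,5,6,13,6,5,6], 5, [([], 1467, [])], []⟩
def c1469 : Clm := ⟨6, 6, true, [5,8,12,11,10,12,11,10,2,6,13,12,9,12,4,5], [9,13,12,8,11,13,5,2,4,3,13,6,13,5,6], 5, [([], 1468, [])], []⟩
def c1470 : Clm := ⟨6, 6, true, [1,10,12,11,13,2,4,13,7,5,8,10], [13,12,13,5,12,2,13,12,13,2,11,3,5], 13, [([], 880, [1,11,12,8,11,5,11,12]), ([372,370], 1411, [12,8,11,12,9,11,12]), ([], 195, [10,13,10,13,12])], []⟩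
def c1471 : Clm := ⟨6, 6, true, [9,12,11,13,12,13,2,4,12,8,11,13,12,4], [1,10,12,11,13,2,4,13,7,5,8,10], 5, [([], 1470, [])], []⟩
def c1472 : Clm := ⟨5, 6, true, [10,12,9,13,12,11,12,2,1,4,12,11,13,5,7,13], [5,13,5,12,8,11,12,11,2,4,13,12,13,2,6,5], 13, [([], 1029, [10,12,8,12,11,12,9]), ([370], 1443, [5,13,5,12,11]), ([], 195, [3,8,10,13,10,13,12])], []⟩
def c1473 : Clm := ⟨6, 5, true, [13,5,12,8,11,13,12,9,13,2,6,13,6,8,12,4,12], [10,12,9,13,12,11,12,2,1,4,12,11,13,5,7,13], 5, [([], 1472, [])], []⟩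
def c1474 : Clm := ⟨6, 6, true, [13,12,13,5,10,12,11,12,2,4,12,11,10,12,7], [1,5,9,12,11,13,12,8,2,13,12,13,2,13,5], 13, [([], 1251, [5,12,11,12,8,12,13,12]), ([370], 1149, [1,9,12,11,5,12,8,13,10]), ([], 195, [3,13,5,10,12,11,12])], []⟩
def c1475 : Clm := ⟨6, 6, true, [11,12,13,10,12,11,12,2,1,11,12,4,10,13,4], [13,12,13,5,10,12,11,12,2,4,12,11,10,12,7], 5, [([], 1474, [])], []⟩
def c1476 : Clm := ⟨6, 6, true, [9,10,11,3,10,12,8,11,12,2,1,4,12,11,5,6,9,11], [10,13,10,12,8,11,13,12,2,4,6,12,8,13,3,7], 11, [([], 1443, [11,12,11,13,5,10,12,13]), ([], 195, [8,11,3,5,10,12]), ([], 1339, [1,5,13,5,11])], []⟩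
def c1477 : Clm := ⟨6, 6, true, [5,11,10,12,9,13,12,2,6,13,2,6,6,13], [9,10,11,3,10,12,8,11,12,2,1,4,12,11,5,6,9,11], 5, [([], 1476, [])], []⟩
def c1478 : Clm := ⟨6, 6, true, [8,10,12,9,13,10,2,11,12,8,11,13,7], [8,10,12,13,3,5,12,8,2,6,13,5,10,12,13], 17, [([], 195, [8,10,11,3,5,12]), ([372,370], 630, [3,8,10,11,10,12,9,13,5]), ([373,370], 1411, [8,10,11,3,12,9])], []⟩
def c1479 : Clm := ⟨6, 6, true, [3,8,10,12,8,13,10,12,8,2,6,13,6,5,9,10], [8,10,12,9,13,10,2,11,12,8,11,13,7], 5, [([], 1478, [])], []⟩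
def c1480 : Clm := ⟨6, 6, true, [8,10,12,9,13,12,8,2,4,12,13,12,4,7], [3,8,10,12,8,13,10,12,8,2,6,13,6,5,9,10], 5, [([], 1479, [])], []⟩
def c1481 : Clm := ⟨6, 6, true, [1,9,11,13,10,12,8,11,2,13,5,6,13,12], [10,12,9,11,10,12,8,13,2,13,6,13,5,12,4], 11, [([], 1411, [1,13,10,13]), ([], 195, [3,13,10,13,12]), ([], 1304, [10,11,5,12,9,13])], []⟩
def c1482 : Clm := ⟨6, 6, true, [8,11,3,13,12,9,13,2,1,4,12,11,12,7,13], [1,9,11,13,10,12,8,11,2,13,5,6,13,12], 5, [([], 1481, [])], []⟩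
def c1483 : Clm := ⟨6, 6, true, [3,9,11,13,12,11,12,2,1,13,2,6,13,10,4], [9,12,11,12,8,12,11,2,4,6,9,13,12,6], 13, [([], 1040, [1,10,11,12,11,12,8,13]), ([373], 1230, [1,12,11,5,10,12,11,12,9]), ([], 195, [3,9,11,5,10,12])], []⟩
def c1484 : Clm := ⟨6, 6, true, [9,12,11,12,8,12,11,2,4,3,6,9,13,12,6], [3,9,11,13,12,11,12,2,1,13,2,6,13,10,4], 5, [([], 1483, [])], []⟩
def c1485 : Clm := ⟨6, 6, true, [8,11,12,9,12,13,5,2,1,4,7,9,12,13,7], [9,12,11,12,8,12,11,2,4,3,6,9,13,12,6], 5, [([], 1484, [])], []⟩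
def c1486 : Clm := ⟨6, 6, true, [5,8,10,11,12,8,11,10,2,4,12,13,2,4], [9,12,13,10,11,12,9,2,4,7,12,7,11,12], 11, [([], 1443, [1,9,12,13,5,13,12,8]), ([], 195, [12,8,13,3,10,12]), ([], 1259, [1,8,12,8,13,5,10,13])], []⟩
def c1487 : Clm := ⟨6, 6, true, [9,12,13,10,11,12,9,2,4,3,7,12,7,11,12], [5,8,10,11,12,8,11,10,2,4,12,13,2,4], 5, [([], 1486, [])], []⟩
def c1488 : Clm := ⟨6, 6, true, [8,10,12,13,3,5,12,8,2,1,11,10,12,4,7], [1,8,12,8,11,13,12,11,2,13,2,7,11,13,10], 11, [([], 1480, [5,8,10,12,13,5,12,9,13,10]), ([], 195, [8,10,12,11,3,5]), ([372,370], 1232, [1,8,11,12,11,10])], []⟩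
def c1489 : Clm := ⟨6, 6, true, [12,9,12,13,5,13,12,2,1,11,5,4,7,5,11], [8,10,12,13,3,5,12,8,2,1,11,10,12,4,7], 5, [([], 1488, [])], []⟩
def c1490 : Clm := ⟨6, 6, true, [5,13,10,12,9,12,13,2,6,6,11,5,6,10], [12,9,12,13,5,13,12,2,1,11,5,4,7,5,11], 5, [([], 1489, [])], []⟩
def c1491 : Clm := ⟨6, 6, true, [10,11,12,9,13,12,9,13,2,7,7,11,13,12,4,12], [9,12,13,12,8,2,1,4,12,7,13,6,9], 11, [([], 1408, [11,3,12,9,12,11]), ([], 195, [11,3,12,13,10]), ([372,370], 1352, [9,10,12,9,11,12,8,13])], []⟩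
def c1492 : Clm := ⟨6, 6, true, [9,12,13,10,12,8,12,2,1,11,12,4,13,12,9], [10,11,12,9,13,12,9,13,2,7,7,11,13,12,4,12], 5, [([], 1491, [])], []⟩
def c1493 : Clm := ⟨6, 6, true, [3,11,10,12,8,12,13,10,2,4,12,13,5,7,12,4], [9,12,13,10,12,8,12,2,1,11,12,4,13,12,9], 5, [([], 1492, [])], []⟩
def c1494 : Clm := ⟨5, 6, true, [12,11,10,2,1,6,6,11,12], [1,10,13,10,12,8,12,11,2,1,4,5], 13, [([], 444, [13,12,8,13,12,13,10,11]), ([373,370], 1480, [1,13,10,13]), ([], 195, [3,8,10,11,5,12])], []⟩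
def c1495 : Clm := ⟨6, 5, true, [1,10,13,10,12,8,12,11,2,4,3,5], [12,11,10,2,1,6,6,11,12], 5, [([], 1494, [])], []⟩
def c1496 : Clm := ⟨5, 6, true, [12,11,2,6,6,11,12], [1,10,13,10,12,8,12,11,2,4,3,5], 5, [([], 1495, [])], []⟩
def c1497 : Clm := ⟨6, 6, true, [1,9,11,12,11,13,12,8,2,4,12,11,13,6,12,11], [9,11,5,12,13,10,12,9,2,7,13,2,7,8,13], 11, [([], 1149, [1,8,10,13,5,12,11]), ([], 195, [3,9,11,13,10,12,13,10]), ([372], 602, [1,10,13,10,12,8,13,10,12])], []⟩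
def c1498 : Clm := ⟨6, 6, true, [8,11,12,11,5,10,12,8,2,1,7,13,4,7,13,12], [1,9,11,12,11,13,12,8,2,4,12,11,13,6,12,11], 5, [([], 1497, [])], []⟩
def c1499 : Clm := ⟨6, 6, true, [9,12,8,11,13,5,10,12,2,7,13,12,4,10,11,3], [8,11,12,11,5,10,12,8,2,1,7,13,4,7,13,12], 5, [([], 1498, [])], []⟩
def c1500 : Clm := ⟨6, 6, true, [5,8,13,10,12,13,12,8,2,13,2,4,6,13,7], [9,10,11,12,8,11,13,2,4,3,12,4,6,12,8], 11, [([], 922, [9,10,12,8,11,3,5,12]), ([372], 195, [9,10,11,3,5,12]), ([], 1359, [12,8,13,5,10,12,13,5])], []⟩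
def c1501 : Clm := ⟨6, 6, true, [1,8,12,13,5,10,12,13,5,2,13,2,6,6,12,13,4], [5,8,13,10,12,13,12,8,2,13,2,4,6,13,7], 5, [([], 1500, [])], []⟩
def c1502 : Clm := ⟨6, 6, true, [9,12,13,12,11,10,2,7,11,13,12,11,2], [3,5,8,12,11,12,13,10,13,2,6,9,13,7,13,12,4], 11, [([], 922, [1,5,11,5,12]), ([372], 195, [5,9,10,12]), ([], 1362, [1,5,13,5,11])], []⟩
def c1503 : Clm := ⟨6, 6, true, [5,10,11,5,12,8,11,13,2,6,9,13,7,5,4], [9,12,13,12,11,10,2,7,11,13,12,11,2], 5, [([], 1502, [])], []⟩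
def c1504 : Clm := ⟨6, 6, true, [3,9,10,11,12,9,11,13,10,2,1,13,4,7,12,4,5], [3,8,12,13,10,12,8,11,2,13,2,6,13,3,4,12], 11, [([], 1149, [5,9,12,13,3,10,12,8]), ([], 195, [13,3,5,10,12,11,12]), ([370], 1392, [3,9,10,11,13,5,12])], []⟩
def c1505 : Clm := ⟨6, 6, true, [8,10,12,8,13,3,2,4,7,13,12,11,12], [12,9,11,5,12,13,5,10,2,6,13,2,12,11,12], 11, [([], 1480, [3,8,12,13,5,10,13,12,9]), ([], 195, [8,10,12,13,3,5]), ([], 1400, [3,5,10,13,12,8,11,10,13])], []⟩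
def c1506 : Clm := ⟨6, 6, true, [8,13,12,8,11,13,5,10,2,13,4,12,7,13,10], [8,10,12,8,13,3,2,4,7,13,12,11,12], 5, [([], 1505, [])], []⟩
def c1507 : Clm := ⟨6, 6, true, [5,8,12,13,12,9,11,2,1,13,12,11,2,13,3], [3,12,11,13,12,13,10,2,7,11,12,4,13,3], 11, [([], 1146, [9,12,11,12,8,11,5,10]), ([], 195, [3,5,10,13,5,12]), ([373,370], 1014, [12,11,5,10,12,11])], []⟩
def c1508 : Clm := ⟨6, 6, true, [3,12,11,13,12,13,10,2,1,7,11,12,4,13], [5,8,12,13,12,9,11,2,1,13,12,11,2,13,3], 5, [([], 1507, [])], []⟩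
def c1509 : Clm := ⟨6, 6, true, [12,13,10,12,9,11,5,12,2,4,3,12,13,7,5,8], [3,9,11,10,13,12,8,13,12,2,6,13,2,7,13,2,5], 11, [([], 1230, [9,11,3,5,12,11]), ([], 195, [3,5,9,11,5,10,12]), ([], 1345, [5,13,5,13])], []⟩
def c1510 : Clm := ⟨6, 6, true, [10,12,11,13,12,2,6,13,2,12,4,5,7], [12,13,10,12,9,11,5,12,2,4,3,12,13,7,5,8], 5, [([], 1509, [])], []⟩
def c1511 : Clm := ⟨6, 6, true, [12,13,10,12,9,11,5,12,2,4,12,13,7,5,8], [10,12,11,13,12,2,6,13,2,12,4,5,7], 5, [([], 1510, [])], []⟩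
def c1512 : Clm := ⟨6, 6, true, [12,8,12,11,3,10,12,9,2,1,4,5,12,13,12,4], [8,12,11,5,12,8,11,13,10,2,1,4,5], 13, [([], 1333, [9,10,13,12,8,11,10,12,11]), ([373,370], 1230, [13,10,12,9,13]), ([], 195, [3,9,13,10,11,12])], []⟩
def c1513 : Clm := ⟨6, 6, true, [8,12,11,5,12,8,11,13,10,2,4,3,5], [12,8,12,11,3,10,12,9,2,1,4,5,12,13,12,4], 5, [([], 1512, [])], []⟩
def c1514 : Clm := ⟨6, 6, true, [13,10,13,10,12,13,12,9,2,13,12,4,7,10,4], [1,9,11,13,12,8,13,10,12,2,4,12,4,12,13,6], 11, [([], 1443, [1,8,13,10,12,9,11,5]), ([], 195, [8,13,3,10,11,12]), ([372,370], 671, [3,10,11,10,12,13,5])], []⟩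
def c1515 : Clm := ⟨6, 6, true, [9,11,12,13,12,9,13,10,2,4,3,12,6,9,13,6], [13,10,13,10,12,13,12,9,2,13,12,4,7,10,4], 5, [([], 1514, [])], []⟩
def c1516 : Clm := ⟨6, 6, true, [5,8,12,13,5,12,9,13,10,2,1,13,12,11,10,2], [3,8,13,5,10,2,1,4,6,9,12,11], 11, [([], 1146, [13,3,10,11,12,13]), ([], 195, [1,11,13,5,10,12]), ([370], 499, [1,9,10,13,12,9,13])], []⟩
def c1517 : Clm := ⟨6, 6, true, [3,8,13,5,10,2,4,6,9,12,11,3], [5,8,12,13,5,12,9,13,10,2,1,13,12,11,10,2], 5, [([], 1516, [])], []⟩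
def c1518 : Clm := ⟨6, 6, true, [5,8,12,13,5,12,9,13,10,2,1,13,12,11,2], [3,8,13,5,10,2,4,6,9,12,11,3], 5, [([], 1517, [])], []⟩
def c1519 : Clm := ⟨6, 6, true, [8,11,10,12,9,13,2,1,6,9,11,10,12], [1,8,10,12,11,12,9,11,2,4,6,9,13,12,11], 11, [([], 1480, [12,8,11,12,9,11,12]), ([], 195, [1,3,5,8,10,12]), ([372,370], 1310, [1,5,13,5])], []⟩
def c1520 : Clm := ⟨6, 6, true, [9,12,8,11,3,12,11,13,10,2,13,2,12,9,13,2], [8,11,10,12,9,13,2,1,6,9,11,10,12], 5, [([], 1519, [])], []⟩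
def c1521 : Clm := ⟨6, 6, true, [8,11,10,12,9,13,10,2,6,9,11,10,12], [9,12,8,11,3,12,11,13,10,2,13,2,12,9,13,2], 5, [([], 1520, [])], []⟩
def c1522 : Clm := ⟨6, 6, true, [5,8,11,12,13,12,9,13,2,1,13,12,11,2,13,3], [5,10,12,8,11,5,12,9,2,13,12,4,12,9], 11, [([], 1411, [5,11,5,12,13]), ([], 195, [3,11,5,10,13,12]), ([370], 830, [1,9,10,11,12,11,13,10])], []⟩
def c1523 : Clm := ⟨6, 6, true, [5,10,12,8,11,5,12,9,2,1,13,12,4,3,12,9], [5,8,11,12,13,12,9,13,2,1,13,12,11,2,13,3], 5, [([], 1522, [])], []⟩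
def c1524 : Clm := ⟨6, 6, true, [3,8,12,11,5,10,12,9,13,2,1,7,13,4,6,13,6], [1,9,11,12,8,11,13,5,12,2,4,12,8,13,7,5,13], 13, [([], 998, [5,8,11,12,9,11,12,11,13,12]), ([], 195, [11,3,12,8,12,13,12]), ([], 1236, [5,10,13,10,12,8,11,10])], []⟩
def c1525 : Clm := ⟨6, 6, true, [1,13,5,12,8,11,12,11,10,2,1,4,5,12,8,13,7], [3,8,10,12,13,10,12,13,2,13,4,6,13,5,4], 13, [([], 1443, [3,5,13,5,12,13,10]), ([], 195, [8,13,3,10,12,11]), ([372,370], 1274, [12,11,12,9,11])], []⟩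
def c1526 : Clm := ⟨6, 6, true, [10,11,12,9,13,12,9,13,2,13,12,4,10,12,6], [1,13,5,12,8,11,12,11,10,2,1,4,5,12,8,13,7], 5, [([], 1525, [])], []⟩
def c1527 : Clm := ⟨6, 6, true, [9,11,10,12,9,13,12,13,2,13,12,13,4,13,2], [1,9,10,12,11,12,11,10,2,1,13,12,13,2,11,12], 13, [([], 1149, [3,13]), ([], 195, [1,10,13,5,10]), ([372,370], 1274, [1,8,12,13,12,9])], []⟩
def c1528 : Clm := ⟨6, 6, true, [3,8,10,12,13,10,12,13,2,13,4,6,12,4,8], [9,11,10,12,9,13,12,13,2,13,12,13,4,13,2], 5, [([], 1527, [])], []⟩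
def c1529 : Clm := ⟨6, 6, true, [5,8,10,11,13,12,11,12,8,2,6,13,12,13,10,11], [10,13,12,8,13,12,11,10,2,7,11,13,12,13], 13, [([], 1408, [3,8,10,12,13,5,12,11]), ([], 195, [5,8,10,12,13,3,12]), ([372,370], 1154, [3,5,8,10,11,12,9,13,10])], []⟩
def c1530 : Clm := ⟨6, 6, true, [10,13,12,8,13,12,11,2,1,7,11,13,12,13], [5,8,10,11,13,12,11,12,8,2,6,13,12,13,10,11], 5, [([], 1529, [])], []⟩
def c1531 : Clm := ⟨6, 6, true, [8,11,13,12,13,12,8,2,6,6,13,6,5,4,9], [1,12,13,10,12,9,11,5,2,1,11,13,12,4], 15, [([], 1271, [5,12,8,11,5,12,9,13]), ([370], 922, [11,12,9,11,12,8,11,10]), ([372], 195, [5,9,10,11,3,12])], []⟩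
def c1532 : Clm := ⟨6, 6, true, [1,12,13,10,12,9,11,5,2,11,13,12,4,3], [8,11,13,12,13,12,8,2,6,6,13,6,5,4,9], 5, [([], 1531, [])], []⟩
def c1533 : Clm := ⟨6, 6, true, [1,13,12,8,13,10,12,13,2,1,13,2,6,13,6,13], [1,12,13,10,12,9,11,5,2,11,13,12,4,3], 5, [([], 1532, [])], []⟩
def c1534 : Clm := ⟨6, 6, true, [12,9,11,5,11,12,8,11,2,1,13,2,12,4,3,9], [5,10,12,9,13,10,12,9,11,2,13,7,10,13,4,6], 13, [([], 922, [8,10,11,10,12,11,12,9,12]), ([372], 195, [5,9,10,13,3,12]), ([372,370], 1533, [3,10,11,5,12,13,5,10])], []⟩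
def c1535 : Clm := ⟨6, 6, true, [3,13,12,8,13,12,8,11,10,2,7,9,13,7,5,10], [12,9,11,5,11,12,8,11,2,1,13,2,12,4,3,9], 5, [([], 1534, [])], []⟩
def c1536 : Clm := ⟨6, 6, true, [1,8,11,12,8,13,10,11,2,4,13,6,5,6,13], [3,13,12,8,13,12,8,11,10,2,7,9,13,7,5,10], 5, [([], 1535, [])], []⟩
def c1537 : Clm := ⟨6, 6, true, [5,9,12,8,13,10,12,11,2,7,13,4,6,12,13,7], [12,9,13,12,8,4,5,6,10,4,12,9], 13, [([], 922, [3,13,5,10,13,12,9,11]), ([372], 195, [8,10,12,9,13,3,12]), ([], 1220, [1,5,8,12,13,5,12,9])], []⟩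
def c1538 : Clm := ⟨6, 6, true, [1,8,10,11,12,11,12,9,13,2,7,11,10,12,9,13], [5,9,12,8,13,10,12,11,2,7,13,4,6,12,13,7], 5, [([], 1537, [])], []⟩
def c1539 : Clm := ⟨6, 6, true, [3,8,12,11,10,12,8,2,4,12,4,12,11,12,13], [3,8,11,13,12,13,12,9,2,7,11,12,4,3,8], 13, [([], 1146, [5,9,12,11,5,12,9]), ([], 195, [10,12,9,12,13,3,12]), ([372,370], 1533, [8,11,10,13,12,9,13,10])], []⟩
def c1540 : Clm := ⟨6, 6, true, [3,8,11,13,12,13,12,9,2,1,7,11,12,4,8], [3,8,12,11,10,12,8,2,4,12,4,12,11,12,13], 5, [([], 1539, [])], []⟩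
def c1541 : Clm := ⟨6, 6, true, [3,8,12,11,2,13,12,8,13,4,12,4], [3,8,11,13,12,13,12,9,2,1,7,11,12,4,8], 5, [([], 1540, [])], []⟩
def c1542 : Clm := ⟨5, 6, true, [10,11,5,12,8,11,12,11,2,6,11,10], [3,9,11,12,9,13,10,2,1,13,7,13,2,13], 13, [([], 294, [8,13,12,9,11,13,5,12,13]), ([], 195, [1,8,11,13,5,12]), ([372,370], 1236, [3,8,13,12,13,12])], []⟩
def c1543 : Clm := ⟨6, 5, true, [5,8,13,12,13,10,12,13,12,2,4,12,13,2,5,7], [10,11,5,12,8,11,12,11,2,6,11,10], 5, [([], 1542, [])], []⟩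
def c1544 : Clm := ⟨5, 6, true, [9,11,10,13,12,9,13,12,11,2,1,6,11,10], [5,8,13,12,13,10,12,13,12,2,4,12,13,2,5,7], 5, [([], 1543, [])], []⟩
def c1545 : Clm := ⟨6, 6, true, [12,13,3,12,9,12,11,4,10,12,4,7], [1,8,12,9,13,5,10,11,12,2,4,13,7,12,7], 13, [([], 1026, [5,11,3,5,12,8,11]), ([370], 195, [8,12,8,11,3,12,13]), ([], 1236, [1,8,10,11,5,12,9,11,10])], []⟩
def c1546 : Clm := ⟨6, 6, true, [1,8,12,9,13,5,10,11,12,2,4,3,13,7,12,7], [12,13,3,12,9,12,11,4,10,12,4,7], 5, [([], 1545, [])], []⟩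
def c1547 : Clm := ⟨6, 6, true, [3,9,10,13,12,9,13,5,13,2,13,6,5,4,8], [1,8,13,10,12,9,11,5,2,4,6,5,6,13,6,10], 13, [([], 998, [3,10,13,12,8,11,10,12]), ([], 195, [12,11,3]), ([372], 653, [10,13,12,8,12,11,12])], []⟩
def c1548 : Clm := ⟨6, 6, true, [8,13,3,12,13,10,2,4,7,12,9,11,12,13], [3,9,10,13,12,9,13,5,13,2,13,6,5,4,8], 5, [([], 1547, [])], []⟩
def c1549 : Clm := ⟨6, 6, true, [3,5,12,11,12,13,10,13,12,2,1,13,6,13,4,5,7], [11,12,9,11,10,12,11,10,2,6,6,11,5,4,12], 13, [([], 1411, [3,12,11,12,13,10,11,12]), ([], 195, [1,9,13,10,12,13,12,8,12]), ([], 1236, [1,5,9,11,5,12,13,12])], []⟩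
def c1550 : Clm := ⟨6, 6, true, [1,13,12,9,13,12,2,1,6,6,13,2,1,12], [3,5,12,11,12,13,10,13,12,2,1,13,6,13,4,5,7], 5, [([], 1549, [])], []⟩
def c1551 : Clm := ⟨6, 6, true, [12,13,3,5,10,12,13,12,2,1,13,4,7,5,13,7], [1,13,12,9,13,12,2,1,6,6,13,2,1,12], 5, [([], 1550, [])], []⟩
def c1552 : Clm := ⟨6, 6, true, [1,8,10,13,5,12,9,11,2,4,7,13,5,6,13], [3,10,13,10,12,8,11,13,2,13,4,7,9,13,6], 13, [([], 1480, [5,9,10,11,12,11,13,12]), ([], 195, [5,10,11,5,12,9,13,12]), ([], 1040, [12,8,13,12,13,5,13,5])], []⟩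
def c1553 : Clm := ⟨6, 6, true, [3,8,12,13,5,10,12,13,12,2,1,11,13,7,5,4,9], [1,8,10,13,5,12,9,11,2,4,7,13,5,6,13], 5, [([], 1552, [])], []⟩
def c1554 : Clm := ⟨6, 6, true, [1,8,12,9,11,5,13,2,6,13,2,6,13], [3,8,12,13,5,10,12,13,12,2,1,11,13,7,5,4,9], 5, [([], 1553, [])], []⟩
def c1555 : Clm := ⟨5, 6, true, [5,8,10,12,13,2,6,11,10], [8,10,12,13,10,13,12,9,2,6,9,13,5,12,7], 13, [([], 294, [1,5,8,13,12,9,11,12]), ([], 195, [5,8,12,13,3]), ([370], 653, [5,10,11,5,12,13])], []⟩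
def c1556 : Clm := ⟨6, 5, true, [1,5,8,12,11,5,12,9,2,1,6,9,13,5,12,7], [5,8,10,12,13,2,6,11,10], 5, [([], 1555, [])], []⟩
def c1557 : Clm := ⟨5, 6, true, [5,8,10,12,13,10,2,1,6,11,10], [1,5,8,12,11,5,12,9,2,1,6,9,13,5,12,7], 5, [([], 1556, [])], []⟩
def c1558 : Clm := ⟨6, 6, true, [1,12,11,12,8,12,13,12,2,4,12,6,5,13,6,10], [3,8,12,13,5,10,12,13,12,2,1,13,4,7,9], 13, [([], 1146, [5,8,11,5,12,11,12,8,11]), ([], 195, [1,10,12,8,11,12,11,12]), ([], 1044, [1,3,12,9,12])], []⟩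
def c1559 : Clm := ⟨6, 6, true, [1,11,12,11,13,12,8,13,2,11,13,2,7,9], [1,12,11,12,8,12,13,12,2,4,12,6,5,13,6,10], 5, [([], 1558, [])], []⟩
def c1560 : Clm := ⟨6, 6, true, [12,11,13,12,9,13,12,4,10,12,4,7], [8,13,10,12,13,12,11,10,2,1,6,11,10,12], 13, [([], 1026, [5,11,5,12,8,11]), ([370], 195, [8,12,8,11,3,12]), ([], 1533, [3,8,12,11,12,9])], []⟩
def c1561 : Clm := ⟨6, 6, true, [8,13,10,12,13,12,11,2,6,11,10,12], [12,11,13,12,9,13,12,4,10,12,4,7], 5, [([], 1560, [])], []⟩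
def c1562 : Clm := ⟨6, 5, true, [1,13,12,8,11,10,12,13,2,4,5,11,12,11,2,12,13], [8,11,5,12,9,13,5,13,4,6,10,12,4], 13, [([], 922, [12,13,10,11,12,8,11,5]), ([372], 195, [5,10,11,5,12,8,13,12]), ([], 859, [1,13,10,11,12,8,11,12,9])], []⟩
def c1563 : Clm := ⟨5, 6, true, [12,8,13,12,9,11,12,4,6,10,12,4,3], [1,13,12,8,11,10,12,13,2,4,5,11,12,11,2,12,13], 5, [([], 1562, [])], []⟩
def c1564 : Clm := ⟨6, 5, true, [1,8,10,11,10,12,8,11,2,1,13,4,6,9,13,7,12], [12,8,13,12,9,11,12,4,6,10,12,4,3], 5, [([], 1563, [])], []⟩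
def c1565 : Clm := ⟨6, 6, true, [9,10,11,13,12,8,11,13,2,4,6,9,12,13,6,6], [1,5,8,13,12,2,4,13,5,12,13,2], 13, [([], 1443, [3,11,12,13,10]), ([], 195, [8,13,3,10,12,13]), ([], 1274, [5,12,8,11,12,8,11,12,11])], []⟩
def c1566 : Clm := ⟨6, 6, true, [1,9,13,10,12,11,12,9,12,2,7,13,2,7,13,6], [9,10,11,13,12,8,11,13,2,4,6,9,12,13,6,6], 5, [([], 1565, [])], []⟩
def c1567 : Clm := ⟨6, 6, true, [1,8,12,9,11,10,2,4,7,5,11,12,11,10], [11,12,9,11,12,13,10,11,2,4,5,13,6,5,8], 13, [([], 1230, [1,5,9,10,12,13,12,11]), ([], 195, [12,9,12,13,3,10,12,13]), ([], 1236, [12,8,12,11,12,9,11,12,13])], []⟩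
def c1568 : Clm := ⟨6, 6, true, [3,8,10,12,9,13,12,2,1,13,4,6,12,6], [1,8,12,9,11,10,2,4,7,5,11,12,11,10], 5, [([], 1567, [])], []⟩
def c1569 : Clm := ⟨6, 6, true, [8,10,12,11,3,10,12,9,2,6,11,12,13,10,4,5], [3,8,10,12,9,13,12,2,1,13,4,6,12,6], 5, [([], 1568, [])], []⟩
def c1570 : Clm := ⟨6, 6, true, [5,8,13,12,9,11,13,12,11,4,6,6,10,12,4], [1,12,9,11,12,13,10,11,12,2,13,6,6,10], 13, [([], 1026, [5,10,12,9,13,12,8,11,10]), ([370], 195, [5,11,3,12]), ([372,370], 1220, [3,8,13,12,13,12,9])], []⟩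
def c1571 : Clm := ⟨6, 6, true, [5,8,13,10,12,11,12,8,2,1,13,6,6,10], [5,8,13,12,9,11,13,12,11,4,6,6,10,12,4], 5, [([], 1570, [])], []⟩
def c1572 : Clm := ⟨6, 6, true, [8,10,12,11,3,12,9,12,2,4,13,7,13,2], [5,8,13,10,12,11,12,8,2,1,13,6,6,10], 5, [([], 1571, [])], []⟩
def c1573 : Clm := ⟨6, 6, true, [1,8,10,11,12,13,12,9,2,1,4,12,6,11,12,6], [5,8,12,13,5,10,12,2,7,7,11,5,10], 13, [([], 1408, [8,13,12,9,13,5,10]), ([], 195, [5,9,10,12,11,3,12]), ([], 1533, [5,10,11,12,13,10])], []⟩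
def c1574 : Clm := ⟨6, 6, true, [1,13,12,8,11,12,13,2,7,7,13,10,13], [1,8,10,11,12,13,12,9,2,1,4,12,6,11,12,6], 5, [([], 1573, [])], []⟩
def c1575 : Clm := ⟨6, 6, true, [8,11,12,11,10,12,9,11,4,5,10,2,12,4], [1,12,9,12,11,5,10,2,4,12,7,13,5,7,8], 13, [([], 1146, [1,3]), ([], 195, [10,12,13,3]), ([370], 653, [3,11,12,11,10,12,8])], []⟩
def c1576 : Clm := ⟨6, 6, true, [13,5,13,2,11,5,12,13,2,11], [8,11,12,11,10,12,9,11,4,5,10,2,12,4], 5, [([], 1575, [])], []⟩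
def c1577 : Clm := ⟨6, 6, true, [5,9,12,8,11,13,12,13,5,2,1,11,13,12,13,2], [13,5,13,2,11,5,12,13,2,11], 5, [([], 1576, [])], []⟩
def c1578 : Clm := ⟨6, 6, true, [1,9,12,8,13,12,11,10,13,2,4,5,11,12,6,11,13], [1,9,12,8,11,10,13,12,8,2,7,7,13,4,10], 13, [([], 1408, [1,8,13,12,9,12,11,10]), ([], 195, [5,9,10,12,13,3,12]), ([372,370], 1533, [10,13,12,13,10,13])], []⟩
def c1579 : Clm := ⟨6, 6, true, [9,12,13,10,13,12,9,12,11,2,7,7,13,4], [1,9,12,8,13,12,11,10,13,2,4,5,11,12,6,11,13], 5, [([], 1578, [])], []⟩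
def c1580 : Clm := ⟨6, 6, true, [9,13,10,12,11,13,2,4,6,12,13,3,2], [9,10,12,13,10,12,13,12,11,2,11,5,4,7,7], 13, [([], 922, [1,5,11,10,12,11]), ([372], 195, [1,3,5,9,10,12]), ([], 1044, [9,11,12,8,11,12,8,11])], []⟩
def c1581 : Clm := ⟨6, 6, true, [12,11,13,12,9,2,1,13,2,1,7,7], [9,13,10,12,11,13,2,4,6,12,13,3,2], 5, [([], 1580, [])], []⟩
def c1582 : Clm := ⟨6, 6, true, [1,8,11,10,12,9,11,12,9,2,1,4,6,12,4,13,5], [12,11,13,12,9,2,1,13,2,1,7,7], 5, [([], 1581, [])], []⟩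
def c1583 : Clm := ⟨6, 6, true, [11,12,9,11,5,12,11,12,2,1,4,12,13,6,10,2], [1,13,12,9,13,10,12,11,2,7,11,12,7,13,4], 13, [([], 998, [1,8,13,12,13,5,13]), ([], 195, [13,3,12]), ([], 1220, [5,9,13,5,12,11,12,8])], []⟩
def c1584 : Clm := ⟨6, 6, true, [1,8,11,5,10,12,11,5,12,8,2,13,4,6,13,6,13], [11,12,9,11,5,12,11,12,2,1,4,12,13,6,10,2], 5, [([], 1583, [])], []⟩
def c1585 : Clm := ⟨6, 6, true, [11,12,9,11,5,12,11,12,2,1,4,12,13,2,6], [1,8,11,5,10,12,11,5,12,8,2,13,4,6,13,6,13], 5, [([], 1584, [])], []⟩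
def c1586 : Clm := ⟨6, 6, true, [5,8,12,13,3,5,10,12,9,11,4,5,10,2,12,4], [8,10,11,13,5,12,9,11,10,4,6,10,2,12,9,12], 13, [([], 1411, [8,10,13,5,12,13,12,9]), ([], 195, [3,13,10,12,13]), ([], 1274, [5,8,10,13,3,12,9,11,10])], []⟩
def c1587 : Clm := ⟨6, 6, true, [13,3,12,9,11,13,10,12,13,2,4,6,12,4,7], [5,8,12,13,3,5,10,12,9,11,4,5,10,2,12,4], 5, [([], 1586, [])], []⟩
def c1588 : Clm := ⟨6, 6, true, [5,12,8,11,12,9,11,12,2,1,11,13,12,13,2], [13,3,12,9,11,13,10,12,13,2,4,6,12,4,7], 5, [([], 1587, [])], []⟩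
def c1589 : Clm := ⟨6, 6, true, [3,8,10,12,9,11,5,12,2,1,13,4,6,12,13,7], [5,9,11,12,8,13,10,12,11,2,1,13,4,12,4,12,6], 13, [([], 1230, [1,9,11,12,11,5,10]), ([], 195, [3,9,13,10,12,13]), ([], 1274, [5,8,12,13,5,12,13])], []⟩
def c1590 : Clm := ⟨6, 6, true, [8,13,5,12,9,13,10,12,2,4,5,12,13,2,6,12], [3,8,10,12,9,11,5,12,2,1,13,4,6,12,13,7], 5, [([], 1589, [])], []⟩
def c1591 : Clm := ⟨6, 6, true, [3,8,10,12,8,11,10,12,9,2,11,12,4,9,13,5,12], [8,13,5,12,9,13,10,12,2,4,5,12,13,2,6,12], 5, [([], 1590, [])], []⟩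
def c1592 : Clm := ⟨6, 6, true, [8,13,10,12,13,12,13,2,4,13,10,12,11,10], [11,10,12,9,11,12,13,10,11,2,4,6,9,13,3,12], 13, [([], 922, [9,13,10,12,9,11,13,12]), ([372], 195, [5,11,13,10,12,8,11,12]), ([372,370], 1154, [3,8,12,13,12,9,11])], []⟩
def c1593 : Clm := ⟨6, 6, true, [11,10,12,9,11,12,13,10,11,2,1,4,6,9,13,12], [8,13,10,12,13,12,13,2,4,13,10,12,11,10], 5, [([], 1592, [])], []⟩
def c1594 : Clm := ⟨5, 6, true, [1,8,12,13,10,13,12,11,13,2,6,11,10], [1,11,5,11,12,8,13,10,2,4,3,12,4,12,4,10], 13, [([], 294, [5,13,12,8,11,12,9,11]), ([], 195, [5,8,11,3,12]), ([], 1154, [5,11,5,12,11,12])], []⟩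
def c1595 : Clm := ⟨6, 5, true, [3,8,10,11,12,8,13,12,2,4,6,9,13,12,6,5], [1,8,12,13,10,13,12,11,13,2,6,11,10], 5, [([], 1594, [])], []⟩
def c1596 : Clm := ⟨6, 6, true, [9,10,12,11,12,8,13,10,2,6,6,13,2,6,5,4], [5,10,12,13,10,12,9,11,10,2,4,12,7,13,12,8,12], 13, [([], 1230, [1,9,11,5,12,13,10]), ([], 195, [3,9,13,10,12,11]), ([372,370], 1274, [3,9,12,11,13,12,9,13])], []⟩
def c1597 : Clm := ⟨6, 6, true, [3,8,10,12,13,10,12,13,2,13,4,12,4,7,9], [9,10,12,11,12,8,13,10,2,6,6,13,2,6,5,4], 5, [([], 1596, [])], []⟩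
def c1598 : Clm := ⟨6, 6, true, [1,12,8,12,11,5,12,13,10,2,4,5,6,13,7,9,12], [3,8,10,12,13,10,12,13,2,13,4,12,4,7,9], 5, [([], 1597, [])], []⟩
def c1599 : Clm := ⟨6, 6, true, [8,11,12,9,13,12,13,5,4,6,6,10,12,4], [13,3,10,12,9,11,13,12,11,2,4,5,7,7,13,3], 13, [([], 1026, [8,10,13,12,9,12,13,10,12]), ([370], 195, [5,11,3,12,13]), ([], 1274, [1,8,10,11,12,9,11,10])], []⟩
def c1600 : Clm := ⟨6, 6, true, [13,3,10,12,9,11,13,12,11,2,1,4,5,7,7,13], [8,11,12,9,13,12,13,5,4,6,6,10,12,4], 5, [([], 1599, [])], []⟩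
def c1601 : Clm := ⟨6, 6, true, [3,5,12,11,12,13,10,13,12,2,1,7,13,4,6,13,6], [8,11,13,12,13,5,10,13,2,13,4,6,13,6,5,12], 13, [([], 998, [5,8,11,12,9,13,12,13,12]), ([], 195, [12,8,12,13,3,12]), ([372,370], 1154, [9,12,11,12,8,11])], []⟩
def c1602 : Clm := ⟨6, 6, true, [5,8,10,12,11,12,13,2,4,13,12,6,13,10,4], [3,5,12,11,12,13,10,13,12,2,1,7,13,4,6,13,6], 5, [([], 1601, [])], []⟩
def c1603 : Clm := ⟨6, 6, true, [8,12,13,3,10,13,12,9,13,2,4,13,5,6,6,13], [9,12,8,13,5,13,12,13,2,13,10,12,8], 13, [([], 1480, [5,9,10,11,13,12,13,12]), ([], 195, [10,12,9,13,3,12]), ([372,370], 1533, [5,8,12,13,5,12,9,13])], []⟩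
def c1604 : Clm := ⟨6, 6, true, [8,13,5,10,11,12,13,12,9,2,1,13,10,12,8], [8,12,13,3,10,13,12,9,13,2,4,13,5,6,6,13], 5, [([], 1603, [])], []⟩
def c1605 : Clm := ⟨6, 6, true, [3,13,12,9,11,13,12,8,2,13,2,6,6,13], [8,13,5,10,11,12,13,12,9,2,1,13,10,12,8], 5, [([], 1604, [])], []⟩
def c1606 : Clm := ⟨6, 6, true, [9,10,11,3,12,13,10,13,2,4,12,13,3,2], [9,12,11,3,5,10,12,9,13,2,13,4,7,9], 13, [([], 1443, [12,11,10,12,13,10,12,13]), ([], 195, [12,8,13,3,10,12]), ([], 1044, [1,5,13,5,12,9,11,12,13])], []⟩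
def c1607 : Clm := ⟨6, 6, true, [9,12,11,5,10,12,9,11,13,2,13,4,7,9,10], [9,10,11,3,12,13,10,13,2,4,12,13,3,2], 5, [([], 1606, [])], []⟩
def c1608 : Clm := ⟨6, 6, true, [1,9,11,12,11,5,11,12,11,2,1,4,12,4,13,5], [9,12,11,5,10,12,9,11,13,2,13,4,7,9,10], 5, [([], 1607, [])], []⟩
def c1609 : Clm := ⟨6, 6, true, [12,9,12,11,12,8,11,12,2,4,5,6,13,10,12], [1,12,11,13,5,10,12,8,13,2,11,13,6,12,4,3], 13, [([], 1411, [9,10,11,12,11,5,12,8]), ([], 195, [8,12,9,13,3,10,12]), ([], 1044, [5,8,11,13,12,9,13])], []⟩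
def c1610 : Clm := ⟨6, 6, true, [8,10,12,13,10,13,12,11,12,2,11,13,12,4,7], [12,9,12,11,12,8,11,12,2,4,5,6,13,10,12], 5, [([], 1609, [])], []⟩
def c1611 : Clm := ⟨6, 6, true, [5,8,10,11,12,9,12,11,13,2,1,4,13,6,5,11,12], [8,10,12,13,10,13,12,11,12,2,11,13,12,4,7], 5, [([], 1610, [])], []⟩
def c1612 : Clm := ⟨6, 6, true, [8,10,12,8,13,3,12,2,13,2,12,13,6,5], [1,9,11,13,12,8,11,12,8,2,7,13,6,5,6,10,2], 13, [([], 922, [1,12,13,5,10,12,11]), ([372], 195, [3,9,11,13,10,12,13]), ([372], 653, [3,12,13,12,9,13,10])], []⟩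
def c1613 : Clm := ⟨6, 6, true, [1,9,11,13,12,8,11,12,8,2,7,13,2,6,5,6], [8,10,12,8,13,3,12,2,13,2,12,13,6,5], 5, [([], 1612, [])], []⟩
def c1614 : Clm := ⟨6, 6, true, [1,8,11,10,12,9,11,12,9,2,4,13,5,12,13,6,5], [1,9,11,13,12,8,11,12,8,2,7,13,2,6,5,6], 5, [([], 1613, [])], []⟩
def c1615 : Clm := ⟨6, 3, true, [1,8,11,10,12,11,12,2,4,3,12,8,13,6,10], [3,12,13,12,8,13,10,13,2,1,13,6,13], 13, [([], 1443, [3,8,12,11,13,10,12,9]), ([], 195, [3,9,12,9,13,10,12,11]), ([], 650, [5,8,11,5,12,11,10,12])], []⟩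
def c1616 : Clm := ⟨3, 6, true, [10,12,13,10,13,12,8,13,2,1,13,6,13], [1,8,11,10,12,11,12,2,4,3,12,8,13,6,10], 5, [([], 1615, [])], []⟩
def c1617 : Clm := ⟨6, 6, true, [12,13,5,13,12,8,12,11,2,4,5,7,13,6,13], [11,10,12,13,5,10,12,8,2,11,10,12,13,2,6], 13, [([], 922, [3,11,10,13,12,8,13]), ([372], 195, [10,12,8,11,3,12]), ([], 1154, [5,9,12,13,3,5,12,8])], []⟩
def c1618 : Clm := ⟨6, 6, true, [5,13,12,9,11,10,12,11,12,2,4,7,7,13,3,12,9], [12,13,5,13,12,8,12,11,2,4,5,7,13,6,13], 5, [([], 1617, [])], []⟩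
def c1619 : Clm := ⟨6, 6, true, [1,9,11,12,8,11,13,12,9,2,13,4,7,13,5,4], [9,13,10,12,9,11,12,11,2,4,12,9,13,6,9,13], 13, [([], 1480, [5,9,10,13,12,11,12,8]), ([], 195, [3,8,11,13,10,12,13]), ([372], 653, [3,10,13,12,13])], []⟩
def c1620 : Clm := ⟨6, 6, true, [12,13,12,9,11,12,8,11,10,2,13,2,6,9,11,13,12], [1,9,11,12,8,11,13,12,9,2,13,4,7,13,5,4], 5, [([], 1619, [])], []⟩
def c1621 : Clm := ⟨6, 6, true, [1,9,11,12,8,11,13,12,9,2,1,13,6,13,4,5,4], [12,13,12,9,11,12,8,11,10,2,13,2,6,9,11,13,12], 5, [([], 1620, [])], []⟩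
def c1622 : Clm := ⟨6, 6, true, [1,12,8,11,5,12,11,13,2,1,13,12,13,2,11,13], [13,10,13,10,12,13,2,13,2,12,13,2,4], 13, [([], 1408, [11,3,10,12,9,13,10]), ([], 195, [5,10,13,3]), ([370], 653, [10,11,12,8,11])], []⟩
def c1623 : Clm := ⟨6, 6, true, [11,13,12,11,13,10,2,13,2,12,13,2,3,6], [1,12,8,11,5,12,11,13,2,1,13,12,13,2,11,13], 5, [([], 1622, [])], []⟩
def c1624 : Clm := ⟨6, 6, true, [9,12,8,11,10,13,12,9,2,1,13,12,4,7,9,10], [11,13,12,11,13,10,2,13,2,12,13,2,3,6], 5, [([], 1623, [])], []⟩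
def c1625 : Clm := ⟨6, 6, true, [3,12,11,13,12,9,12,13,4,10,12,4,7,9], [3,5,8,10,13,12,9,11,12,2,4,7,13,12,7,8,11], 13, [([], 1026, [1,8,13,12,8,13,5,12,11,13]), ([370], 195, [9,12,9,11,3,12]), ([], 1154, [1,10,13,10,12,13,10])], []⟩
def c1626 : Clm := ⟨6, 6, true, [5,11,13,12,8,13,12,9,13,2,4,3,12,13,4,6,8,12], [3,12,11,13,12,9,12,13,4,10,12,4,7,9], 5, [([], 1625, [])], []⟩
def c1627 : Clm := ⟨6, 6, true, [9,11,10,13,12,9,13,12,11,2,4,13,7,7,13,2], [5,11,13,12,8,13,12,9,13,2,4,3,12,13,4,6,8,12], 5, [([], 1626, [])], []⟩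
def c1628 : Clm := ⟨6, 5, true, [1,11,10,12,9,12,13,2,1,11,12,6,5], [8,13,12,9,11,12,11,12,4,6,10,12,4], 13, [([], 1149, [1,5,9,10,11,12,13,10]), ([], 195, [3,8,11,13,12,13,10]), ([], 859, [3,9,12,11,10,12,8,13])], []⟩
def c1629 : Clm := ⟨5, 6, true, [1,8,13,12,9,12,11,12,4,6,10,12,4,3], [1,11,10,12,9,12,13,2,1,11,12,6,5], 5, [([], 1628, [])], []⟩
def c1630 : Clm := ⟨6, 5, true, [1,11,10,12,9,12,13,10,2,11,12,6,5], [1,8,13,12,9,12,11,12,4,6,10,12,4,3], 5, [([], 1629, [])], []⟩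
def c1631 : Clm := ⟨6, 5, true, [1,5,12,9,13,12,11,2,1,13,2,7,5,13], [8,13,12,9,12,13,12,4,6,10,12,4], 13, [([], 1408, [5,13,3,12,8,12,13,10]), ([], 195, [8,11,3,12,13,10]), ([], 859, [8,11,12,9,11,13,10,12,11])], []⟩
def c1632 : Clm := ⟨5, 6, true, [5,12,9,13,3,12,8,4,6,10,12,4,3], [1,5,12,9,13,12,11,2,1,13,2,7,5,13], 5, [([], 1631, [])], []⟩
def c1633 : Clm := ⟨5, 6, true, [1,5,8,13,10,12,13,2,6,11,10], [8,10,11,13,5,12,11,12,2,13,7], 13, [([], 294, [8,12,9,13,12,13,5,13]), ([], 195, [1,8,13,12,13,5]), ([372,370], 1274, [3,12,11,12,9,11])], []⟩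
def c1634 : Clm := ⟨6, 5, true, [1,8,10,12,13,10,12,11,13,2,1,13,7], [1,5,8,13,10,12,13,2,6,11,10], 5, [([], 1633, [])], []⟩
def c1635 : Clm := ⟨5, 6, true, [1,8,11,12,13,10,11,2,1,6,11,10], [1,8,10,12,13,10,12,11,13,2,1,13,7], 5, [([], 1634, [])], []⟩
def c1636 : Clm := ⟨6, 6, true, [10,12,11,12,11,10,13,2,4,6,12,11,3], [8,12,13,3,5,10,12,13,2,6,9,13,12,4,9], 13, [([], 1480, [10,12,11,3,5,12,9]), ([], 195, [10,11,3,12,9,13,12]), ([], 1044, [3,11,12,9,11,13,12,9])], []⟩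
def c1637 : Clm := ⟨6, 6, true, [3,13,10,13,12,9,13,10,2,1,13,2,1,7,7,13], [10,12,11,12,11,10,13,2,4,6,12,11,3], 5, [([], 1636, [])], []⟩
def c1638 : Clm := ⟨6, 6, true, [10,12,11,12,11,10,13,2,1,4,6,12,11], [3,13,10,13,12,9,13,10,2,1,13,2,1,7,7,13], 5, [([], 1637, [])], []⟩
def c1639 : Clm := ⟨6, 4, true, [13,10,12,13,10,12,11,12,2,13,7,5,11,2], [10,12,8,12,11,3,5,12,2,1,13,4,6,6,12,13], 13, [([], 1230, [3,8,10,12,11,5,12,8]), ([], 195, [3,11,13,12,9,11,10,12]), ([], 1019, [9,12,13,5,12,8])], []⟩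
def c1640 : Clm := ⟨4, 6, true, [3,13,12,8,11,12,2,1,7,7,13,2,12,11], [13,10,12,13,10,12,11,12,2,13,7,5,11,2], 5, [([], 1639, [])], []⟩
def c1641 : Clm := ⟨6, 6, true, [3,8,10,12,11,5,2,1,7,13,12,4,12,9], [5,8,11,12,11,10,12,8,13,2,1,11,5,4,7,7], 13, [([], 1230, [1,9,12,11,13,10,12]), ([], 195, [5,9,13,3,10,12]), ([], 1044, [3,5,8,13,12])], []⟩
def c1642 : Clm := ⟨6, 6, true, [3,8,12,13,12,8,2,1,13,2,7,7], [3,8,10,12,11,5,2,1,7,13,12,4,12,9], 5, [([], 1641, [])], []⟩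
def c1643 : Clm := ⟨6, 6, true, [10,12,13,10,13,12,9,11,2,1,6,11,12,4,7,13], [8,10,13,12,13,5,12,8,2,4,13,7,7,10,13], 13, [([], 998, [1,12,11,13,12,8,12,11,5]), ([], 195, [11,3,12,13]), ([372,370], 1274, [1,5,8,10,13,12,9,11,10])], []⟩
def c1644 : Clm := ⟨6, 6, true, [13,3,12,9,11,13,10,12,2,13,2,13,7,7,13], [10,12,13,10,13,12,9,11,2,1,6,11,12,4,7,13], 5, [([], 1643, [])], []⟩
def c1645 : Clm := ⟨6, 6, true, [3,9,12,9,11,12,8,2,4,12,11,13,2,6], [13,3,12,9,11,13,10,12,2,13,2,13,7,7,13], 5, [([], 1644, [])], []⟩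
def c1646 : Clm := ⟨6, 6, true, [5,9,12,8,13,12,8,13,2,13,7,12,11,2,3], [1,13,5,12,9,13,10,2,4,12,13,3,2,7,5], 13, [([], 1149, [5,11,5,13]), ([], 195, [10,11,3,10]), ([], 1274, [5,8,11,5,12,13,12,9])], []⟩
def c1647 : Clm := ⟨6, 6, true, [1,8,10,12,13,10,12,11,2,4,12,4,13,2,7,8], [5,9,12,8,13,12,8,13,2,13,7,12,11,2,3], 5, [([], 1646, [])], []⟩
def c1648 : Clm := ⟨6, 6, true, [13,12,8,11,10,12,11,10,2,1,13,12,13,2,13], [1,8,10,12,13,10,12,11,2,4,12,4,13,2,7,8], 5, [([], 1647, [])], []⟩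
def c1649 : Clm := ⟨6, 6, true, [9,12,9,11,3,12,11,2,4,12,11,3,13,6,9], [5,8,10,11,12,11,13,5,2,1,7,13,2,6,13], 13, [([], 1480, [1,8,11,12,8,13,10,11]), ([], 195, [5,11,13,10,12,9,13,12]), ([], 1533, [8,10,13,3,12,9,12,13,10])], []⟩
def c1650 : Clm := ⟨6, 6, true, [3,8,11,13,12,13,12,2,7,11,5,4,6,13], [9,12,9,11,3,12,11,2,4,12,11,3,13,6,9], 5, [([], 1649, [])], []⟩
def c1651 : Clm := ⟨6, 6, true, [9,12,9,11,3,12,11,2,4,12,11,13,6,9], [3,8,11,13,12,13,12,2,7,11,5,4,6,13], 5, [([], 1650, [])], []⟩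
def c1652 : Clm := ⟨6, 6, true, [3,5,9,10,11,12,11,13,2,6,13,6,12,4,9], [12,13,12,9,13,12,8,13,2,13,12,7,8,13,4], 13, [([], 998, [5,12,9,11,3,5,12]), ([], 195, [12,9,12,11,3,12]), ([], 1533, [3,5,9,10,11,12,8,13,10])], []⟩
def c1653 : Clm := ⟨6, 6, true, [3,8,11,13,12,9,13,12,2,1,7,9,13,12,4,9], [3,5,9,10,11,12,11,13,2,6,13,6,12,4,9], 5, [([], 1652, [])], []⟩
def c1654 : Clm := ⟨6, 5, true, [1,5,12,13,12,9,12,11,12,2,4,13,7,13,12,8,13], [5,8,13,5,12,9,13,4,6,10,12,4,9], 13, [([], 1230, [11,12,9,11,5,10,13]), ([], 195, [5,11,13,12,9,11,10,12]), ([], 859, [3,12,9,13,5,10,13,12,13])], []⟩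
def c1655 : Clm := ⟨5, 6, true, [12,11,12,9,13,12,13,4,12,4,10,13,4], [1,5,12,13,12,9,12,11,12,2,4,13,7,13,12,8,13], 5, [([], 1654, [])], []⟩
def c1656 : Clm := ⟨6, 6, true, [1,5,13,10,12,9,12,11,12,2,1,11,5,4,7,5,11], [12,13,10,11,12,8,11,2,1,13,12,4,6,13,5], 13, [([], 1149, [3,9,11,12,11,13,12,13]), ([], 195, [8,10,12,11,3,10]), ([372,370], 1236, [12,11,3,13,12,8,13])], []⟩
def c1657 : Clm := ⟨6, 6, true, [5,13,5,13,12,8,13,12,2,7,13,2,12,11,12,4], [1,5,13,10,12,9,12,11,12,2,1,11,5,4,7,5,11], 5, [([], 1656, [])], []⟩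
def c1658 : Clm := ⟨6, 6, true, [3,10,13,12,9,12,11,12,2,13,6,12,13,10], [1,5,8,11,12,8,11,2,6,6,13,12,6,13], 13, [([], 1480, [8,10,12,11,5,12,9,13]), ([], 195, [5,8,10,12,13,3]), ([370], 653, [10,13,5,12,11,5])], []⟩
def c1659 : Clm := ⟨6, 6, true, [1,5,8,11,12,8,11,10,2,6,6,13,12,6,13], [3,10,13,12,9,12,11,12,2,13,6,12,13,10], 5, [([], 1658, [])], []⟩
def c1660 : Clm := ⟨6, 6, true, [12,8,13,3,12,8,13,2,13,6,12,13,10], [1,5,8,11,12,8,11,10,2,6,6,13,12,6,13], 5, [([], 1659, [])], []⟩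
def c1661 : Clm := ⟨6, 6, true, [9,11,10,12,8,13,10,13,2,4,13,12,13,4,5,10], [3,5,9,11,12,13,10,12,13,2,4,7,12,13,12,7], 13, [([], 1149, [1,8,11,12,11,13,12,13]), ([], 195, [5,9,12,11,3,10]), ([], 1044, [11,13,12,9,11,12,9,13])], []⟩
def c1662 : Clm := ⟨6, 6, true, [3,9,11,12,11,12,13,2,1,13,2,7,13,7,13], [9,11,10,12,8,13,10,13,2,4,13,12,13,4,5,10], 5, [([], 1661, [])], []⟩
def c1663 : Clm := ⟨6, 6, true, [1,11,12,8,11,12,9,11,5,2,4,3,12,13,4,12,13], [3,9,11,12,11,12,13,2,1,13,2,7,13,7,13], 5, [([], 1662, [])], []⟩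
def c1664 : Clm := ⟨6, 6, true, [13,5,12,13,12,8,13,10,2,13,12,13,2,7,9], [5,8,11,12,11,10,12,13,2,6,9,13,12,4,6], 13, [([], 1149, [1,5,8,10,11,12,13,10]), ([], 195, [3,9,11,13,12,13,10]), ([], 1040, [8,13,12,9,11,13,12,8])], []⟩
def c1665 : Clm := ⟨6, 6, true, [8,10,12,13,10,13,12,11,12,2,11,5,7,9,11,5,4], [13,5,12,13,12,8,13,10,2,13,12,13,2,7,9], 5, [([], 1664, [])], []⟩
def c1666 : Clm := ⟨6, 6, true, [9,10,11,5,12,13,10,2,4,12,4,13,12,11,10], [5,9,12,13,3,5,10,12,11,2,13,4,6,13,6,9], 13, [([], 1443, [1,11,13,10,12,13,12]), ([], 195, [5,12,8,13,3,10,12]), ([], 1040, [13,12,8,11,13,12,8,13])], []⟩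
def c1667 : Clm := ⟨6, 6, true, [5,8,11,12,11,10,12,13,2,1,11,5,7,11,5,4], [9,10,11,5,12,13,10,2,4,12,4,13,12,11,10], 5, [([], 1666, [])], []⟩
def c1668 : Clm := ⟨6, 6, true, [9,12,8,13,12,9,13,4,7,5,10,4], [3,8,11,13,10,12,11,12,2,4,6,12,4,13], 43, [([], 195, [1,3,10]), ([373,370], 894, [10,13,12,8,13,12,9,13]), ([372,370], 1605, [1,13,12,9,13,10,12,9,11])], []⟩
def c1669 : Clm := ⟨6, 6, true, [3,8,11,13,10,12,11,12,2,4,6,12,4,3,13], [9,12,8,13,12,9,13,4,7,5,10,4], 5, [([], 1668, [])], []⟩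
def c1670 : Clm := ⟨6, 6, true, [9,12,8,13,12,9,13,4,5,7,10,4], [1,5,10,12,9,11,12,9,2,1,13,2,7,9], 43, [([], 195, [1,3,10,12]), ([373], 1602, [8,13,3,10,11,12,9,13]), ([370], 1604, [10,11,12,9,12,11,12,11])], []⟩
def c1671 : Clm := ⟨6, 6, true, [1,9,11,12,9,11,12,11,2,1,11,5,4,7,9], [9,12,8,13,12,9,13,4,5,7,10,4], 5, [([], 1670, [])], []⟩
def c1672 : Clm := ⟨6, 6, true, [1,8,10,13,5,10,12,13,10,2,1,13,12,4,7,9], [8,10,12,13,12,9,11,10,2,1,4,12,13,2,1,7], 47, [([], 1605, [1,9,11,13,12,9,11,10]), ([373,370], 1479, [12,8,12,11,12,9,11]), ([], 195, [3,13,10])], []⟩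
def c1673 : Clm := ⟨6, 6, true, [8,10,12,13,12,9,11,10,2,1,4,12,13,2,3,7], [1,8,10,13,5,10,12,13,10,2,1,13,12,4,7,9], 5, [([], 1672, [])], []⟩
def c1674 : Clm := ⟨6, 6, true, [12,9,11,10,13,12,11,2,4,12,13,7,13,2], [9,10,13,10,12,13,10,2,11,13,2,7,9], 47, [([], 1659, [1,9,12,8,13,5,12,13]), ([373], 343, [1,5,8,11,12,8,11,10]), ([], 195, [3,8,11,13,10,12])], []⟩
def c1675 : Clm := ⟨6, 6, true, [1,9,10,13,12,11,13,5,2,1,13,4,7,9], [12,9,11,10,13,12,11,2,4,12,13,7,13,2], 5, [([], 1674, [])], []⟩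
def c1676 : Clm := ⟨6, 6, true, [5,8,10,12,9,13,12,2,1,4,6], [1,9,10,12,11,10,12,9,13,10,2,1,4,12,13,2,1,7], 47, [([], 1079, [8,10,11,12,11]), ([372,370], 909, [12,11,5,11,12,9,11]), ([370], 195, [8,11,3,10])], []⟩
def c1677 : Clm := ⟨6, 6, true, [1,9,10,12,11,10,12,9,13,10,2,1,4,12,13,2,3,7], [5,8,10,12,9,13,12,2,1,4,6], 5, [([], 1676, [])], []⟩
def c1678 : Clm := ⟨6, 6, true, [5,8,10,12,9,13,12,2,4,3,6], [1,9,10,12,11,10,12,9,13,10,2,1,4,12,13,2,3,7], 5, [([], 1677, [])], []⟩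
def c1679 : Clm := ⟨6, 6, true, [9,12,8,13,12,13,4,6,10,12,4], [8,10,12,13,10,13,2,1,13,6,12,4,5,7], 43, [([], 195, [1,3,9,10,12]), ([373,370], 1251, [3,11,12,9,13,10,12,13,10]), ([373,370], 1613, [9,10,11,3,12,8,11,10])], []⟩
def c1680 : Clm := ⟨6, 6, true, [1,5,8,12,11,12,2,1,4,12,7,13,12,7], [9,12,8,13,12,13,4,6,10,12,4], 5, [([], 1679, [])], []⟩
def c1681 : Clm := ⟨6, 6, true, [8,10,13,12,8,13,5,13,2,1,6,13,2,6,13], [9,13,10,13,10,12,13,10,2,11,13,2,7,9], 47, [([], 1080, [9,11,10,12,13,10,13]), ([373,370], 1521, [11,12,9,13,12,13,12]), ([], 195, [8,11,3,10,12])], []⟩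
def c1682 : Clm := ⟨6, 6, true, [9,10,13,12,11,13,10,2,1,13,4,7,9], [8,10,13,12,8,13,5,13,2,1,6,13,2,6,13], 5, [([], 1681, [])], []⟩
def c1683 : Clm := ⟨6, 6, true, [9,12,8,13,12,9,13,4,5,7,10,12,4], [9,13,12,13,12,8,12,13,2,6,11,10,12,6,13], 43, [([], 195, [1,3,9,10,12,8]), ([370], 1645, [9,12,13,12,8,13,12,9]), ([372], 1604, [3,8,10,11,10,12,8,11,10])], []⟩
def c1684 : Clm := ⟨6, 6, true, [9,12,8,13,12,8,13,4,7,5,7,10,4], [8,13,10,12,11,2,6,13,6,13,2,1,5], 43, [([], 195, [1,3,9,10,12,9]), ([372,370], 1510, [3,12,9,13,5,12,13]), ([373], 352, [1,11,12,8,11,12,9,13,10])], []⟩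
def c1685 : Clm := ⟨6, 6, true, [3,8,10,11,12,9,13,10,2,4,12,9,13,4,7,9], [9,12,8,13,12,8,13,4,7,5,7,10,4], 5, [([], 1684, [])], []⟩
def c1686 : Clm := ⟨6, 6, true, [12,8,13,12,9,13,5,2,4,5,12,11,13,7,8], [3,8,10,12,8,13,5,2,11,5,12,13,4,7], 9, [([], 1235, [12,11,13,5,12,9,11]), ([], 194, [9,11,13,10,12]), ([372,370], 1479, [12,9,13,12,8,13,10,12,13])], []⟩
def c1687 : Clm := ⟨6, 6, true, [11,10,13,12,8,11,12,11,12,2,7,13,6,12,4,8,7], [12,8,13,12,9,13,5,2,4,5,12,11,13,7,8], 5, [([], 1686, [])], []⟩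
def c1688 : Clm := ⟨6, 6, true, [8,11,13,12,13,12,9,2,4,13,6,5,8,11], [1,10,11,12,13,10,12,11,2,7,13,6,6,12], 9, [([], 1532, [8,13,5,12,11,12,9]), ([], 194, [8,13,10,12]), ([], 1229, [8,12,11,13,5,10,12,11,13])], []⟩
def c1689 : Clm := ⟨6, 6, true, [10,12,13,3,10,12,11,2,1,7,13,6,6,12], [8,11,13,12,13,12,9,2,4,13,6,5,8,11], 5, [([], 1688, [])], []⟩
def c1690 : Clm := ⟨6, 6, true, [5,11,12,11,10,12,11,2,4,13,10,12,7,13,7], [1,5,8,13,5,2,1,7,13,12,4,10,13], 15, [([], 1647, [12,11,10,12,8,12,13,10]), ([372], 194, [5,11,3,12,13,10]), ([], 1407, [1,13,12,8,12,13,10])], []⟩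
def c1691 : Clm := ⟨6, 6, true, [1,5,8,13,5,2,7,13,12,4,10,13], [5,11,12,11,10,12,11,2,4,13,10,12,7,13,7], 5, [([], 1690, [])], []⟩
def c1692 : Clm := ⟨6, 6, true, [1,5,8,12,13,5,10,12,8,11,2,1,13,2,5], [12,8,11,5,12,9,11,2,4,3,13,6,12,6,11], 13, [([], 194, [8,10,11,5,12]), ([373,370], 923, [11,10,12,9,13,12,11,12,8]), ([373,370], 1499, [9,10,11,12,9,13,12,9,13])], []⟩
def c1693 : Clm := ⟨6, 6, true, [12,8,11,5,12,9,11,2,1,4,13,6,12,6,11], [1,5,8,12,13,5,10,12,8,11,2,1,13,2,5], 5, [([], 1692, [])], []⟩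
def c1694 : Clm := ⟨6, 6, true, [8,11,13,12,8,13,12,8,2,13,7,5,4,8], [3,9,12,8,13,12,11,10,2,4,5,13,6,13,10,12,9], 15, [([], 1541, [9,13,5,10,11,12,8,13,10]), ([], 194, [8,10,13,5,12]), ([373,370], 923, [9,12,8,11,3,10,13,12])], []⟩
def c1695 : Clm := ⟨6, 6, true, [1,5,8,11,10,12,11,12,8,2,7,13,4,7,12,4,13], [8,11,13,12,8,13,12,8,2,13,7,5,4,8], 5, [([], 1694, [])], []⟩
def c1696 : Clm := ⟨6, 6, true, [1,10,13,12,8,12,13,10,2,4,5,12,4,13,3], [1,5,12,9,11,5,12,11,10,2,4,13,7,13,7], 13, [([], 194, [1,9,10,13,10,12]), ([], 1442, [8,11,5,12,9,11,10]), ([372], 1075, [9,13,12,13,5,10])], []⟩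
def c1697 : Clm := ⟨6, 6, true, [3,9,11,12,8,13,12,2,4,6,9,13,3,6], [1,10,13,12,8,12,13,10,2,4,5,12,4,13,3], 5, [([], 1696, [])], []⟩
def c1698 : Clm := ⟨6, 6, true, [12,11,5,11,5,12,9,2,6,6,13], [1,11,13,12,9,11,10,12,8,2,1,4,6,12,4,13,12,13], 15, [([], 1608, [12,11,5,11,12,8,11]), ([370], 194, [10,12]), ([372,370], 1145, [5,10,13,5,12,11,10])], []⟩
def c1699 : Clm := ⟨6, 6, true, [1,8,12,8,13,10,12,8,13,2,13,4,6,13,12,4,10], [12,11,5,11,5,12,9,2,6,6,13], 5, [([], 1698, [])], []⟩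
def c1700 : Clm := ⟨6, 6, true, [1,12,11,12,8,12,13,12,2,4,5,12,4,13,3], [11,3,10,12,9,12,13,2,1,4,12,7,13,10,2], 13, [([], 194, [1,5,9,10,11,12]), ([372,370], 1479, [5,13,3,12,11,10]), ([], 1140, [5,10,12,8,13,10,12,11])], []⟩
def c1701 : Clm := ⟨6, 6, true, [11,3,10,12,9,12,13,2,1,4,12,7,13,2], [1,12,11,12,8,12,13,12,2,4,5,12,4,13,3], 5, [([], 1700, [])], []⟩
def c1702 : Clm := ⟨6, 6, true, [8,12,11,3,12,8,2,4,12,4,13,3], [3,8,11,13,10,12,8,2,13,5,7,12,11,2], 13, [([], 194, [8,11,10,13,12]), ([372,370], 1229, [3,5,9,13,12,9,11,10]), ([], 1498, [8,11,3,5,12,9,13,10])], []⟩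
def c1703 : Clm := ⟨6, 6, true, [1,9,11,13,10,12,2,1,7,13,12,13,2], [8,12,11,3,12,8,2,4,12,4,13,3], 5, [([], 1702, [])], []⟩
def c1704 : Clm := ⟨6, 6, true, [12,8,12,13,10,13,12,2,4,12,4,13,2,12], [13,10,13,12,11,13,2,1,7,9,13,6,5,4], 15, [([], 1581, [1,10,11,12,8,13,12,13,12]), ([372], 194, [3,13,12]), ([], 999, [9,10,13,10,12,11,10,12,13])], []⟩
def c1705 : Clm := ⟨6, 6, true, [11,5,11,12,11,12,9,2,4,5,13,7,7,13,2], [12,8,12,13,10,13,12,2,4,12,4,13,2,12], 5, [([], 1704, [])], []⟩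
def c1706 : Clm := ⟨6, 6, true, [12,8,12,13,10,13,12,13,2,1,4,12,13,5,4,12], [11,5,11,12,11,12,9,2,4,5,13,7,7,13,2], 5, [([], 1705, [])], []⟩
def c1707 : Clm := ⟨6, 6, true, [8,13,3,12,8,13,12,11,2,4,12,9,13,7,5], [8,12,9,13,3,12,13,10,13,2,4,3,12,11,5], 15, [([], 1585, [8,10,13,10,12,13,10,12]), ([372], 194, [1,3,5,10,12]), ([], 1145, [13])], []⟩
def c1708 : Clm := ⟨6, 6, true, [8,12,9,13,3,12,13,10,13,2,4,12,11,5], [8,13,3,12,8,13,12,11,2,4,12,9,13,7,5], 5, [([], 1707, [])], []⟩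
def c1709 : Clm := ⟨6, 6, true, [5,10,12,8,11,12,13,2,1,13,2,12,7,13], [8,12,9,13,3,12,13,10,13,2,4,12,11,5], 5, [([], 1708, [])], []⟩
def c1710 : Clm := ⟨6, 6, true, [9,11,12,13,12,9,2,4,3,12,6,9,11,12], [3,13,12,8,11,12,9,11,10,2,1,13,2,7,12,4], 15, [([], 953, [10,12,9,12,13,5,12,11]), ([372], 194, [3,5,13,5,10,12]), ([372,370], 1410, [1,8,10,12,13,12,9,11])], []⟩
def c1711 : Clm := ⟨6, 6, true, [5,9,12,8,13,12,11,2,6,13,12,4,12,4], [9,11,12,13,12,9,2,4,3,12,6,9,11,12], 5, [([], 1710, [])], []⟩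
def c1712 : Clm := ⟨6, 5, true, [5,12,11,12,8,11,10,12,2,4,7,13,7,10,12,11], [13,5,12,8,11,5,12,9,2,11,12,11,13,4,6], 17, [([], 1585, [3,12,11,13,12,8,12]), ([372], 194, [10,12,13,5]), ([370], 490, [1,8,11,10,12,9,12,11])], []⟩
def c1713 : Clm := ⟨5, 6, true, [13,5,12,8,11,5,12,9,2,1,11,12,13,4,6], [5,12,11,12,8,11,10,12,2,4,7,13,7,10,12,11], 5, [([], 1712, [])], []⟩
def c1714 : Clm := ⟨6, 5, true, [3,5,8,12,11,5,12,11,10,2,1,11,10,12,13,2,11], [13,5,12,8,11,5,12,9,2,1,11,12,13,4,6], 5, [([], 1713, [])], []⟩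
def c1715 : Clm := ⟨6, 6, true, [3,10,11,10,12,13,5,10,2,1,7,7,13,2,6], [1,9,10,12,11,5,12,8,11,2,4,7,12,8,13,12,13], 15, [([], 194, [3,13,12]), ([372,370], 652, [3,13,5,10]), ([], 1392, [1,12,8,13,12,13,10,11,12])], []⟩
def c1716 : Clm := ⟨6, 6, true, [1,8,12,8,13,10,11,12,9,2,1,13,2,6,12,4,13], [3,10,11,10,12,13,5,10,2,1,7,7,13,2,6], 5, [([], 1715, [])], []⟩
def c1717 : Clm := ⟨6, 6, true, [1,10,13,12,8,11,13,5,2,1,6,11,12,4,9], [1,8,12,8,13,10,11,12,9,2,1,13,2,6,12,4,13], 5, [([], 1716, [])], []⟩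
def c1718 : Clm := ⟨6, 6, true, [5,11,12,8,11,13,5,12,13,2,6,13,2,12,9,11,5], [1,11,13,10,12,8,11,12,2,13,2,1,12,13,2,7], 17, [([], 1468, [1,10,11,10,12,11,10]), ([], 194, [11,13,12,13,5,10,12]), ([], 1248, [1,10,11,12,11,10])], []⟩
def c1719 : Clm := ⟨6, 6, true, [1,9,11,13,10,12,9,11,2,4,6,12,4,13,7,13], [5,11,12,8,11,13,5,12,13,2,6,13,2,12,9,11,5], 5, [([], 1718, [])], []⟩
def c1720 : Clm := ⟨6, 6, true, [3,9,12,13,12,8,13,2,1,13,12,4,5,13,2], [1,9,11,13,10,12,9,11,2,4,6,12,4,13,7,13], 5, [([], 1719, [])], []⟩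
def c1721 : Clm := ⟨6, 6, true, [3,5,9,12,13,12,11,10,13,2,13,12,7,13,10,4], [3,10,13,12,9,13,5,13,2,4,6,13,3,12,11,13], 15, [([], 194, [8,12,11,5]), ([373,370], 730, [3,10,12,11,13]), ([373,370], 1662, [3,8,12,13,10,13,12,9,13])], []⟩
def c1722 : Clm := ⟨6, 6, true, [9,10,12,13,10,12,13,12,11,2,13,7,12,4,12,11], [3,5,9,12,13,12,11,10,13,2,13,12,7,13,10,4], 5, [([], 1721, [])], []⟩
def c1723 : Clm := ⟨6, 6, true, [3,10,12,8,13,12,9,11,12,2,1,13,6,13,2,3,5], [3,8,11,10,12,8,11,13,2,4,13,12,13,6,5], 17, [([], 1475, [1]), ([], 194, [11,10,12,13,12]), ([], 1185, [1,13])], []⟩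
def c1724 : Clm := ⟨6, 6, true, [3,8,11,10,12,8,11,13,2,4,13,3,12,13,6,5], [3,10,12,8,13,12,9,11,12,2,1,13,6,13,2,3,5], 5, [([], 1723, [])], []⟩
def c1725 : Clm := ⟨6, 6, true, [3,10,12,8,13,12,9,11,12,2,1,13,6,13,2,1,5], [3,8,11,10,12,8,11,13,2,4,13,3,12,13,6,5], 5, [([], 1724, [])], []⟩
def c1726 : Clm := ⟨6, 6, true, [1,5,9,11,12,11,13,12,8,2,11,13,7,12,9], [9,12,9,13,12,13,2,4,13,5,6,13,2,3], 17, [([], 1487, [1,11,12,9,13,10,13,12,8]), ([], 194, [9,10,12,13]), ([372,370], 1049, [5,9,10,11,5,12,13,12,8])], []⟩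
def c1727 : Clm := ⟨6, 6, true, [12,8,12,11,3,5,10,12,2,11,5,6,13,2,11], [1,5,9,11,12,11,13,12,8,2,11,13,7,12,9], 5, [([], 1726, [])], []⟩
def c1728 : Clm := ⟨6, 6, true, [1,12,13,10,12,11,12,13,2,11,13,7,12,9], [12,8,12,11,3,5,10,12,2,11,5,6,13,2,11], 5, [([], 1727, [])], []⟩
def c1729 : Clm := ⟨6, 6, true, [11,12,8,13,10,13,12,9,2,7,11,12,13,2,7,8], [1,12,9,11,12,13,10,11,2,4,13,3,6,6], 11, [([], 477, [3,5,8,10,12,11,12,8]), ([228,227], 677, [1,5,8,11,10,12,11,10]), ([], 194, [5,10,12,11,12])], []⟩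
def c1730 : Clm := ⟨6, 6, true, [1,12,9,11,12,13,10,11,2,1,4,13,6,6], [11,12,8,13,10,13,12,9,2,7,11,12,13,2,7,8], 5, [([], 1729, [])], []⟩
def c1731 : Clm := ⟨6, 6, true, [3,11,5,10,12,8,11,12,8,2,1,11,12,7,9,13,2], [1,12,9,11,12,13,10,11,2,1,4,13,6,6], 5, [([], 1730, [])], []⟩
def c1732 : Clm := ⟨6, 6, true, [1,10,12,9,13,10,12,11,13,2,1,7,13,12,4,5,9,10], [3,8,10,12,13,5,2,4,7,9,13,3,6], 11, [([], 1291, [9,12,9,11,3,12,13,10]), ([372], 603, [8,11,5,12,9,13,12,9,13]), ([370], 194, [8,12,13,10,13])], []⟩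
def c1733 : Clm := ⟨6, 6, true, [3,8,10,12,13,5,2,1,4,7,9,13,6], [1,10,12,9,13,10,12,11,13,2,1,7,13,12,4,5,9,10], 5, [([], 1732, [])], []⟩
def c1734 : Clm := ⟨6, 6, true, [5,10,11,13,12,11,12,2,7,11,12,8,13,2,13], [3,8,10,12,13,5,2,1,4,7,9,13,6], 5, [([], 1733, [])], []⟩
def c1735 : Clm := ⟨6, 6, true, [8,10,12,8,11,12,9,11,13,2,13,2,6,6,11,12], [5,10,13,12,11,10,2,4,3,12,4,10], 11, [([], 1640, [1,8,12,8,13,5,12,11,13]), ([202,333,211,201], 1356, [3,9,12,13,10,12,9,13]), ([], 194, [1,8,11,10,13,12,13])], []⟩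
def c1736 : Clm := ⟨6, 6, true, [1,8,12,11,10,13,12,8,12,2,4,6,13,6,8], [8,10,12,8,11,12,9,11,13,2,13,2,6,6,11,12], 5, [([], 1735, [])], []⟩
def c1737 : Clm := ⟨6, 6, true, [12,9,12,13,10,13,12,8,2,13,4,6,12,8], [1,8,12,11,10,13,12,8,12,2,4,6,13,6,8], 5, [([], 1736, [])], []⟩
def c1738 : Clm := ⟨6, 6, true, [3,9,10,13,12,9,13,5,2,11,5], [11,5,12,9,11,13,12,8,2,1,11,12,4,13,6,10], 15, [([], 194, [1,9,10,11,10,12]), ([370], 1425, [5,10,13,10,12,8]), ([], 1611, [3,8,12,11,5,10,12,9,11])], []⟩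
def c1739 : Clm := ⟨6, 6, true, [1,12,9,11,12,8,11,10,12,2,7,7,13,12,4,7,5], [3,9,10,13,12,9,13,5,2,11,5], 5, [([], 1738, [])], []⟩
def c1740 : Clm := ⟨5, 6, true, [8,10,12,9,13,5,10,12,4,5,10,4,12,13,2], [10,12,8,13,5,12,9,11,2,1,6,13,7,13,7], 17, [([], 1564, [3,8,10,12,11,10,12,9]), ([], 194, [3,9,11,13,12]), ([], 1167, [])], []⟩
def c1741 : Clm := ⟨6, 5, true, [1,8,13,12,8,13,12,8,2,1,6,13,7,13,7], [8,10,12,9,13,5,10,12,4,5,10,4,12,13,2], 5, [([], 1740, [])], []⟩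
def c1742 : Clm := ⟨6, 6, true, [11,10,13,12,8,13,12,2,7,9,13,2,6,12], [3,8,10,12,11,13,12,8,13,2,1,13,4,6,5,12], 15, [([], 194, [1,11,10,12]), ([370], 934, [1,11,5,11,12,9,12,13]), ([373], 1492, [1,8,12,13,5,10,12,9,13,5])], []⟩
def c1743 : Clm := ⟨6, 6, true, [3,12,11,10,12,11,12,9,2,4,5,13,12,6,5], [11,10,13,12,8,13,12,2,7,9,13,2,6,12], 5, [([], 1742, [])], []⟩
def c1744 : Clm := ⟨6, 6, true, [8,11,12,13,12,9,13,5,10,2,1,13,6,13,5,10], [1,8,11,13,5,12,11,10,2,1,13,4,7,13,7,13], 17, [([], 1305, [3,5,10,13,5,12,8]), ([], 194, [10,13,10,12]), ([373], 1535, [3,8,10,11,12,9,12,11])], []⟩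
def c1745 : Clm := ⟨6, 6, true, [5,8,12,11,5,12,11,13,2,11,13,6,12,4,7], [8,11,12,13,12,9,13,5,10,2,1,13,6,13,5,10], 5, [([], 1744, [])], []⟩
def c1746 : Clm := ⟨6, 6, true, [12,9,11,5,10,12,2,6,13,2,1,6,13,2], [3,10,12,11,13,5,12,8,11,2,4,6,12,11,13,7], 17, [([], 411, [5,11,12,8,11,13,12,8]), ([], 194, [1,13,10,12,9,13,12]), ([372,370], 1391, [3,8,10,11,12,8,13,10])], []⟩
def c1747 : Clm := ⟨6, 6, true, [5,8,11,12,11,10,12,13,2,11,12,4,13,5,12], [12,9,11,5,10,12,2,6,13,2,1,6,13,2], 5, [([], 1746, [])], []⟩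
def c1748 : Clm := ⟨6, 6, true, [1,12,9,11,5,12,11,10,2,6,13,6,5,4,10,4], [5,8,11,12,11,10,12,13,2,11,12,4,13,5,12], 5, [([], 1747, [])], []⟩
def c1749 : Clm := ⟨6, 6, true, [3,9,11,12,9,13,12,9,2,4,13,12,11,10,13,2], [1,8,10,12,8,13,5,2,4,6,13,3,6,9], 11, [([], 1496, [1,10,12,8,11,13,12,11]), ([226,253,226], 1495, [1]), ([], 194, [5,9,10,13,5,12])], []⟩
def c1750 : Clm := ⟨6, 6, true, [1,8,10,12,8,13,5,2,1,4,6,13,6,9], [3,9,11,12,9,13,12,9,2,4,13,12,11,10,13,2], 5, [([], 1749, [])], []⟩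
def c1751 : Clm := ⟨6, 6, true, [1,8,12,8,13,12,8,13,2,1,13,12,4,10,4], [1,8,10,12,8,13,5,2,1,4,6,13,6,9], 5, [([], 1750, [])], []⟩
def c1752 : Clm := ⟨6, 6, true, [1,9,12,8,13,5,13,12,8,2,13,12,11,13,2,7], [1,8,11,13,10,12,13,10,12,2,4,3,6], 11, [([], 594, [8,13,10,12,9,12]), ([227,253], 1473, [11]), ([], 194, [5,9,13,3,10,12])], []⟩
def c1753 : Clm := ⟨6, 6, true, [1,8,11,13,10,12,13,10,12,2,1,4,6], [1,9,12,8,13,5,13,12,8,2,13,12,11,13,2,7], 5, [([], 1752, [])], []⟩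
def c1754 : Clm := ⟨6, 6, true, [5,9,10,12,11,3,12,8,2,4,12,7,8,13,6], [9,10,11,13,5,12,13,12,2,4,5,12,9,13,2], 11, [([], 1532, [13,12,11,10,12,13,12,11]), ([], 194, [11,13,5,12,8,11,10,12]), ([372,370], 1737, [5,9,10,13,3,12,8,11,10])], []⟩
def c1755 : Clm := ⟨6, 6, true, [8,12,11,13,10,12,8,2,1,13,4,12,4,5,9], [5,9,10,12,11,3,12,8,2,4,12,7,8,13,6], 5, [([], 1754, [])], []⟩
def c1756 : Clm := ⟨6, 6, true, [9,13,10,12,8,11,12,8,2,13,2,12,4,12], [8,12,11,13,10,12,8,2,1,13,4,12,4,5,9], 5, [([], 1755, [])], []⟩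
def c1757 : Clm := ⟨6, 6, true, [3,12,13,10,12,13,10,12,2,6,13,10,12,6], [10,11,3,12,9,11,12,8,2,13,2,1,12,7], 11, [([], 652, [12,8,13,3,10,12,8,13]), ([370], 194, [1,11,13,12,13,10]), ([372,370], 1366, [11,3,13])], []⟩
def c1758 : Clm := ⟨6, 6, true, [3,5,12,11,5,12,11,10,2,4,13,5,12,4], [3,12,13,10,12,13,10,12,2,6,13,10,12,6], 5, [([], 1757, [])], []⟩
def c1759 : Clm := ⟨6, 6, true, [13,3,10,13,12,9,2,4,3,13,7,12,13,10], [11,12,9,13,12,8,11,10,2,7,13,2,4,7,9], 11, [([], 1273, [10,11,3,10,12,13]), ([], 194, [10,12,13,12]), ([], 814, [9,10,11,13,12,8,13,12])], []⟩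
def c1760 : Clm := ⟨6, 6, true, [5,12,8,11,13,12,9,11,12,2,7,13,2,7,9,11], [13,3,10,13,12,9,2,4,3,13,7,12,13,10], 5, [([], 1759, [])], []⟩
def c1761 : Clm := ⟨6, 6, true, [13,10,13,12,9,11,10,2,1,4,12,13,5,7,12], [5,12,8,11,13,12,9,11,12,2,7,13,2,7,9,11], 5, [([], 1760, [])], []⟩
def c1762 : Clm := ⟨6, 6, true, [3,9,10,11,12,9,11,5,11,2,7,13,7,12,4], [11,5,10,12,8,13,10,2,6,13,2,7,7,13], 11, [([], 652, [10,13,12,8,12,13,10,12]), ([370], 194, [8,11,13,10,12,13,10]), ([372,370], 1734, [1,5,13,5])], []⟩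
def c1763 : Clm := ⟨6, 6, true, [1,10,11,12,8,11,12,13,10,2,4,7,13,5,7,7,13], [3,9,10,11,12,9,11,5,11,2,7,13,7,12,4], 5, [([], 1762, [])], []⟩
def c1764 : Clm := ⟨6, 6, true, [3,9,13,12,8,13,2,4,6,13,7,12], [9,11,12,8,13,10,12,8,11,2,4,12,13,12,6,13], 13, [([], 1453, [9,10,12,8,11,12,11,5,11]), ([372,370], 1153, [1,8,10,13,5,12,9,11]), ([], 194, [1,9,10,13,10,12])], []⟩
def c1765 : Clm := ⟨6, 6, true, [1,8,10,11,13,12,11,2,1,7,11,13,12,4], [3,9,13,12,8,13,2,4,6,13,7,12], 5, [([], 1764, [])], []⟩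
def c1766 : Clm := ⟨6, 6, true, [5,8,10,11,5,2,7,13,10,12,11], [1,10,11,13,12,11,2,1,4,13,7,12], 11, [([], 652, [13,3,10,11,12,8,13,12,11]), ([370], 194, [1,8,11,13,10,12,13,10]), ([372,370], 1358, [1,3])], []⟩
def c1767 : Clm := ⟨6, 6, true, [1,10,11,13,12,11,2,4,13,3,7,12], [5,8,10,11,5,2,7,13,10,12,11], 5, [([], 1766, [])], []⟩
def c1768 : Clm := ⟨6, 6, true, [5,9,12,11,5,12,8,11,13,2,4,12,9,11], [5,8,11,13,10,12,11,2,13,4,7,5,4,3,6], 11, [([], 1219, [1,13,5,10]), ([], 194, [1,11,10,13,12]), ([373,370], 1535, [5,9,10,13,3,12,8])], []⟩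
def c1769 : Clm := ⟨6, 6, true, [5,8,11,13,10,12,11,2,1,13,4,7,5,4,6], [5,9,12,11,5,12,8,11,13,2,4,12,9,11], 5, [([], 1768, [])], []⟩
def c1770 : Clm := ⟨6, 6, true, [1,5,9,10,13,5,12,13,12,9,2,4,12,8,11,12,13,10], [10,12,13,12,11,10,13,4,5,7,7,10,4], 13, [([], 1252, [10,11,3,12,8,13,12,13,10]), ([372], 1043, [10,12,8,12,13,12,8,11]), ([], 194, [8,12])], []⟩
def c1771 : Clm := ⟨6, 6, true, [3,12,11,10,13,12,2,13,5,6,6,10], [1,5,9,10,13,5,12,13,12,9,2,4,12,8,11,12,13,10], 5, [([], 1770, [])], []⟩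
def c1772 : Clm := ⟨6, 6, true, [9,12,13,12,9,13,12,11,2,4,6,5,11,12,4], [10,12,9,11,12,8,13,10,4,5,7,7,10,4], 13, [([], 1528, [10,13,12,11,10,12]), ([370], 1043, [9,13,3,12,13,10]), ([], 194, [5,8,11,5,12])], []⟩
def c1773 : Clm := ⟨6, 6, true, [11,10,12,8,13,10,12,9,2,13,5,6,6,10], [9,12,13,12,9,13,12,11,2,4,6,5,11,12,4], 5, [([], 1772, [])], []⟩
def c1774 : Clm := ⟨6, 6, true, [1,5,13,12,9,11,10,12,2,4,5,6,11,13,12,4], [3,13,12,11,13,4,5,6,6,10,4], 13, [([], 1588, [5,9,11,5,11,12,8,11]), ([], 1041, [1,10,12,11,10,12,9,13,12]), ([], 194, [8,11,13,12,13,5])], []⟩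
def c1775 : Clm := ⟨6, 6, true, [1,13,5,10,12,13,2,13,5,7,7,10], [1,5,13,12,9,11,10,12,2,4,5,6,11,13,12,4], 5, [([], 1774, [])], []⟩
def c1776 : Clm := ⟨6, 6, true, [1,5,13,12,9,11,10,12,2,4,7,13,6,12,4,7], [1,13,5,10,12,13,2,13,5,7,7,10], 5, [([], 1775, [])], []⟩
def c1777 : Clm := ⟨6, 6, true, [5,11,12,9,11,12,2,1,4,5,7,7,13], [9,12,11,13,12,13,5,2,4,12,8,11,12,6], 11, [([], 1219, [3,10,11,12,13]), ([], 194, [1,13,5,10,13,12]), ([373], 612, [5,12,9,13,12,8,13])], []⟩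
def c1778 : Clm := ⟨6, 6, true, [9,12,11,13,12,13,5,2,4,3,12,8,11,12,6], [5,11,12,9,11,12,2,1,4,5,7,7,13], 5, [([], 1777, [])], []⟩
def c1779 : Clm := ⟨6, 6, true, [9,11,5,12,13,12,9,12,2,1,13,2,6,5,6,8], [1,9,12,13,10,13,12,9,2,7,11,10], 13, [([], 1133, [10,13,10,12,11,13,12,8]), ([333,210,205], 1020, [13,10,13,10,12,9,13]), ([], 194, [3,9,11,13,12])], []⟩
def c1780 : Clm := ⟨6, 6, true, [1,9,12,13,10,13,10,12,9,2,1,7,11,10], [9,11,5,12,13,12,9,12,2,1,13,2,6,5,6,8], 5, [([], 1779, [])], []⟩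
def c1781 : Clm := ⟨6, 6, true, [5,8,11,5,10,12,9,13,12,2,1,11,12,4,9,12,4], [1,9,12,13,10,13,10,12,9,2,1,7,11,10], 5, [([], 1780, [])], []⟩
def c1782 : Clm := ⟨6, 6, true, [11,12,8,11,12,9,13,10,2,1,13,2,12,13,2,7], [1,5,8,11,5,12,13,12,2,6,9,13,12,13,2,3], 11, [([], 1273, [9,12,13,10,13,12,11,12]), ([], 194, [8,13,12,13,10]), ([372,370], 1731, [3,5,8,10,13,12,8,11,10])], []⟩
def c1783 : Clm := ⟨6, 6, true, [5,8,11,12,13,12,9,13,10,2,7,13,4,7,12,7], [11,12,8,11,12,9,13,10,2,1,13,2,12,13,2,7], 5, [([], 1782, [])], []⟩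
def c1784 : Clm := ⟨6, 6, true, [13,5,10,11,12,8,13,10,2,11,12,13,7,5,8], [9,13,12,11,12,8,12,2,1,13,2,6,13,5,12], 11, [([], 1273, [5,11,3,10]), ([], 194, [11,13,5,10,12,11,12]), ([372], 612, [3,11,12,11,13,10])], []⟩
def c1785 : Clm := ⟨6, 6, true, [1,11,10,12,8,11,12,9,2,11,5,4,6,13,5,12], [13,5,10,11,12,8,13,10,2,11,12,13,7,5,8], 5, [([], 1784, [])], []⟩
def c1786 : Clm := ⟨6, 6, true, [1,9,12,13,10,13,10,2,1,4,12,9,13], [13,12,9,11,12,11,2,4,7,9,13,7,12,9], 11, [([], 1532, [9,11,12,11,5,10,12,8]), ([], 194, [3,5,8,13,10,12]), ([], 498, [10,12,9,11,3,13])], []⟩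
def c1787 : Clm := ⟨6, 6, true, [1,8,10,11,13,12,8,11,2,11,5,4,12,4,8,10], [1,9,12,13,10,13,10,2,1,4,12,9,13], 5, [([], 1786, [])], []⟩
def c1788 : Clm := ⟨6, 6, true, [1,9,12,13,10,13,10,2,4,12,9,13,3], [1,8,10,11,13,12,8,11,2,11,5,4,12,4,8,10], 5, [([], 1787, [])], []⟩
def c1789 : Clm := ⟨6, 6, true, [5,11,12,9,12,13,12,9,13,2,11,10,12,4,6,12], [12,11,13,5,12,11,5,2,1,4,12,13,2,3], 13, [([], 1608, [10,12,13,3,5,12,9]), ([373,370], 1532, [13,3,10,11,12,13]), ([], 194, [8,13,10,11,12])], []⟩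
def c1790 : Clm := ⟨6, 6, true, [12,11,13,5,12,11,5,2,1,4,12,13,2,1], [5,11,12,9,12,13,12,9,13,2,11,10,12,4,6,12], 5, [([], 1789, [])], []⟩
def c1791 : Clm := ⟨6, 6, true, [13,5,10,12,8,13,2,4,12,13,6,5,10], [5,9,13,5,13,12,8,2,13,12,4,3,5,6,6], 11, [([], 1532, [1,11,5,10]), ([], 194, [1,8,10,13,10,12]), ([], 1389, [13,3])], []⟩
def c1792 : Clm := ⟨6, 6, true, [5,9,13,5,13,12,8,2,1,13,12,4,5,6,6], [13,5,10,12,8,13,2,4,12,13,6,5,10], 5, [([], 1791, [])], []⟩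
def c1793 : Clm := ⟨6, 6, true, [9,13,12,9,2,6,13,2,6,6,12], [13,3,12,9,13,10,12,11,2,1,13,7,12,4,6,13], 13, [([], 1289, [5,13,12,8,12,11,12,13]), ([373], 1219, [1,8,13,5,12,11,10,12,9]), ([], 194, [1,11,10,12])], []⟩
def c1794 : Clm := ⟨6, 6, true, [8,11,3,12,11,10,13,12,8,2,13,5,7,7,13,4], [9,13,12,9,2,6,13,2,6,6,12], 5, [([], 1793, [])], []⟩
def c1795 : Clm := ⟨6, 6, true, [10,12,9,13,12,9,11,12,2,1,7,11,12,4,10,12], [8,11,3,12,11,10,13,12,8,2,13,5,7,7,13,4], 5, [([], 1794, [])], []⟩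
def c1796 : Clm := ⟨6, 6, true, [1,5,10,12,13,2,7,11,12,4,5,11,3], [8,10,13,5,13,12,13,10,2,1,7,11,5,4], 13, [([], 1722, [1,5,9,11,10,12,11]), ([372,370], 1273, [11,13,12,13,5,10,12,8]), ([], 194, [5,9,11,12,13,10])], []⟩
def c1797 : Clm := ⟨6, 6, true, [3,11,13,12,9,11,13,12,9,2,1,7,13,2], [1,5,10,12,13,2,7,11,12,4,5,11,3], 5, [([], 1796, [])], []⟩
def c1798 : Clm := ⟨6, 6, true, [1,5,10,12,13,2,1,7,11,12,4,5,11], [3,11,13,12,9,11,13,12,9,2,1,7,13,2], 5, [([], 1797, [])], []⟩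
def c1799 : Clm := ⟨6, 6, true, [1,5,11,12,8,11,10,12,13,2,4,5,7,7,11], [3,5,8,12,11,5,12,8,2,4,12,9,13,12,4,8], 11, [([], 1532, [8,13,5,12,11,10,12,9]), ([], 194, [8,13,10,12]), ([370], 1662, [1,5,9,11,12,8,13,12,13])], []⟩
def c1800 : Clm := ⟨6, 6, true, [3,5,8,12,11,5,10,12,2,4,12,8,13,12,4,13], [1,5,11,12,8,11,10,12,13,2,4,5,7,7,11], 5, [([], 1799, [])], []⟩
def c1801 : Clm := ⟨6, 6, true, [9,11,12,13,12,9,2,1,13,2,1,6,5,6], [3,12,9,11,12,11,12,8,2,1,11,12,4,5,11], 11, [([], 1235, [1,8,10,13,12,8,11]), ([], 194, [9,10,11,5,12]), ([372,370], 1751, [5,13,5,13])], []⟩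
def c1802 : Clm := ⟨6, 6, true, [3,12,9,11,12,11,12,8,2,11,12,4,5,11,3], [9,11,12,13,12,9,2,1,13,2,1,6,5,6], 5, [([], 1801, [])], []⟩
def c1803 : Clm := ⟨6, 6, true, [3,13,12,13,2,1,4,6,12,13,6,9], [9,13,3,10,12,8,13,10,2,4,6,13,5,12,8,13], 11, [([], 1219, [5,9,11,12,13,10,12,8]), ([], 194, [13,5,10,12]), ([373], 1304, [9,10,12,11,3,10,12,8])], []⟩
def c1804 : Clm := ⟨6, 6, true, [12,11,13,12,13,10,11,2,7,13,2,12,8,13], [3,13,12,13,2,1,4,6,12,13,6,9], 5, [([], 1803, [])], []⟩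
def c1805 : Clm := ⟨6, 6, true, [5,11,5,12,8,13,10,12,2,1,4,6,12,4,7], [12,8,11,5,11,12,9,2,1,4,7,9,13,12,11], 11, [([], 1532, [3,8,12,13,10,12,9,11,13]), ([], 194, [1,8,13,10,12]), ([], 1391, [3,5,13,12,11,12])], []⟩
def c1806 : Clm := ⟨6, 6, true, [10,12,8,11,13,12,9,2,1,13,4,7,9,12,13], [5,11,5,12,8,13,10,12,2,1,4,6,12,4,7], 5, [([], 1805, [])], []⟩
def c1807 : Clm := ⟨6, 6, true, [3,13,5,12,9,11,10,12,2,4,3,6,12,9,12], [10,12,8,11,13,12,9,2,1,13,4,7,9,12,13], 5, [([], 1806, [])], []⟩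
def c1808 : Clm := ⟨6, 6, true, [1,10,13,10,12,8,12,2,4,5,13,7,9,12,13], [12,8,11,12,11,5,10,13,2,7,11,10], 13, [([], 1355, [11,12,9,11,5,11,12,9]), ([332,204,210], 1020, [13,10,13,12,9,13]), ([], 194, [9,11,13,12])], []⟩
def c1809 : Clm := ⟨6, 6, true, [1,12,8,11,5,10,12,13,2,1,7,11,10], [1,10,13,10,12,8,12,2,4,5,13,7,9,12,13], 5, [([], 1808, [])], []⟩
def c1810 : Clm := ⟨6, 6, true, [1,10,13,12,8,12,2,13,4,12,7,9,13], [1,12,8,11,5,10,12,13,2,1,7,11,10], 5, [([], 1809, [])], []⟩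
def c1811 : Clm := ⟨6, 6, true, [5,12,8,13,12,11,10,13,2,1,13,4,7,13,5,7], [1,9,12,9,11,12,9,13,4,5,7,7,10,4], 13, [([], 1577, [12,8,13,12,8,13,5,13]), ([], 1043, [1,9,13,12,11,10]), ([], 194, [3,8,13,12])], []⟩
def c1812 : Clm := ⟨6, 6, true, [11,3,12,9,13,10,13,12,8,2,13,5,6,6,10], [5,12,8,13,12,11,10,13,2,1,13,4,7,13,5,7], 5, [([], 1811, [])], []⟩
def c1813 : Clm := ⟨6, 6, true, [5,9,13,12,13,12,9,2,13,4,7,5,13,6], [3,5,8,12,9,11,12,2,4,5,12,8,13,7], 11, [([], 1153, [1,5,9,12,13,10,12,8]), ([], 194, [8,11,13,12,8,11,10,12]), ([372], 1425, [1,11,13,10,12,11,10,12,8])], []⟩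
def c1814 : Clm := ⟨6, 6, true, [3,5,8,12,9,11,12,2,4,3,5,12,8,13,7], [5,9,13,12,13,12,9,2,13,4,7,5,13,6], 5, [([], 1813, [])], []⟩
def c1815 : Clm := ⟨6, 6, true, [5,13,10,12,11,10,12,11,2,4,5,7,9,13,6,10], [5,9,12,11,12,8,12,11,2,1,7,13,2,12,13,6], 11, [([], 1273, [9,11,5,11,12,13,10,12,8]), ([], 194, [1,10]), ([373], 1361, [10,12,13,12,8,13,12,13])], []⟩
def c1816 : Clm := ⟨6, 6, true, [11,10,12,13,5,10,2,4,13,6,12,6,11,13], [5,13,10,12,11,10,12,11,2,4,5,7,9,13,6,10], 5, [([], 1815, [])], []⟩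
def c1817 : Clm := ⟨6, 6, true, [13,5,10,11,12,9,13,12,2,4,3,13,6,12,4,7], [11,10,12,13,5,10,2,4,13,6,12,6,11,13], 5, [([], 1816, [])], []⟩
def c1818 : Clm := ⟨6, 6, true, [11,10,12,13,12,11,2,4,12,11,13,6,5,11], [5,10,13,12,8,12,11,12,13,2,4,12,13,12,6,13], 13, [([], 1717, [1,13,10,12,11,10,12,8]), ([372,370], 1153, [3,8,13,10,13,12,9,11]), ([], 194, [9,10,13,10,12])], []⟩
def c1819 : Clm := ⟨6, 6, true, [8,10,11,13,12,11,2,1,7,11,13,12,4], [11,10,12,13,12,11,2,4,12,11,13,6,5,11], 5, [([], 1818, [])], []⟩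
def c1820 : Clm := ⟨6, 6, true, [11,10,12,13,12,11,10,2,4,5,6,13,5,12,13], [8,10,11,13,12,11,2,1,7,11,13,12,4], 5, [([], 1819, [])], []⟩
def c1821 : Clm := ⟨6, 6, true, [5,11,12,8,12,13,12,8,2,1,4,12,6,11,5,12], [5,10,11,12,13,10,12,9,4,5,6,9,10,4], 13, [([], 1418, [9,13,12,9,11,13]), ([370], 1041, [3,13,5,12,9,13,10,12,9]), ([], 194, [3,11,13,12,9,13,12])], []⟩
def c1822 : Clm := ⟨6, 6, true, [1,10,12,11,5,12,9,2,13,5,7,9,10], [5,11,12,8,12,13,12,8,2,1,4,12,6,11,5,12], 5, [([], 1821, [])], []⟩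
def c1823 : Clm := ⟨6, 6, true, [8,12,13,3,10,12,9,13,10,2,1,13,12,4,6,13], [3,9,13,12,13,10,12,11,2,4,3,5,12,13,7,5], 11, [([], 652, [3,10,11,5,12,9,13,5,10]), ([370], 194, [1,11,10]), ([373], 1172, [13,10,13,12,8,11,12,9])], []⟩
def c1824 : Clm := ⟨6, 6, true, [3,9,13,12,13,10,12,11,2,4,5,12,13,7,5], [8,12,13,3,10,12,9,13,10,2,1,13,12,4,6,13], 5, [([], 1823, [])], []⟩
def c1825 : Clm := ⟨6, 6, true, [12,11,10,12,13,2,11,5,7,12,13,4], [3,9,13,12,13,10,12,11,2,4,5,12,13,7,5], 5, [([], 1824, [])], []⟩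
def c1826 : Clm := ⟨6, 6, true, [9,12,11,10,12,8,11,13,5,2,7,9,13,10,12,13], [10,13,3,10,12,13,10,2,4,12,9,11,13,2,3], 13, [([], 1778, [8,11,5,10,12,11,12,9,12]), ([373,370], 652, [10,11,12,9,13,10]), ([370], 194, [1,13,5,10])], []⟩
def c1827 : Clm := ⟨6, 6, true, [3,8,13,10,12,13,2,7,11,13,12,4,8], [9,12,11,10,12,8,11,13,5,2,7,9,13,10,12,13], 5, [([], 1826, [])], []⟩
def c1828 : Clm := ⟨6, 6, true, [1,8,12,13,5,12,11,10,2,13,2,12,7,13,5], [1,8,13,5,10,12,11,12,2,7,7,13,6,9,12,4], 13, [([], 1387, [13,12,8,12,11,5,12,11]), ([], 1532, [5,8,12,11,10,12,9]), ([], 194, [3,5,8,11,5,10,12])], []⟩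
def c1829 : Clm := ⟨6, 6, true, [5,9,12,13,12,8,12,11,2,1,4,7,12,7,13,2], [1,8,12,13,5,12,11,10,2,13,2,12,7,13,5], 5, [([], 1828, [])], []⟩
def c1830 : Clm := ⟨6, 6, true, [12,8,13,5,12,13,10,12,2,4,5,11,12,4,5], [5,9,12,13,12,8,12,11,2,1,4,7,12,7,13,2], 5, [([], 1829, [])], []⟩
def c1831 : Clm := ⟨6, 6, true, [3,10,13,12,9,13,12,8,13,2,11,13,6,5,8,11], [8,13,12,9,13,5,13,5,2,4,3,12,13,7,9,10], 11, [([], 1153, [5,9,10,13,12,8,13]), ([], 194, [8,12,8,13,10,13,12,13]), ([373,370], 1288, [3,8,11,12,9,13,10,11])], []⟩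
def c1832 : Clm := ⟨6, 6, true, [8,13,12,9,13,5,13,5,2,4,12,13,7,9,10], [3,10,13,12,9,13,12,8,13,2,11,13,6,5,8,11], 5, [([], 1831, [])], []⟩
def c1833 : Clm := ⟨6, 6, true, [10,12,13,12,8,12,13,10,2,7,11,12,11,13,4,10], [9,10,12,9,13,5,12,2,7,11,10], 13, [([], 1640, [11,13,12,13,10,11,12,9]), ([205,202], 1020, [9,12,11,13,10,12]), ([], 194, [9,11,12])], []⟩
def c1834 : Clm := ⟨6, 6, true, [9,10,12,9,13,5,10,12,2,1,7,11,10], [10,12,13,12,8,12,13,10,2,7,11,12,11,13,4,10], 5, [([], 1833, [])], []⟩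
def c1835 : Clm := ⟨6, 6, true, [5,9,10,12,8,11,3,12,8,2,13,7,7,13], [3,9,11,10,12,8,13,12,9,2,11,12,11,13,4,7], 11, [([], 1532, [3,10,11,5,12,13]), ([], 194, [1,8,13,10,11,12]), ([372,370], 1834, [1,11,13,12,8,11,12])], []⟩
def c1836 : Clm := ⟨6, 6, true, [5,9,13,10,12,8,11,12,9,2,6,13,12,13,4], [5,9,10,12,8,11,3,12,8,2,13,7,7,13], 5, [([], 1835, [])], []⟩
def c1837 : Clm := ⟨6, 6, true, [1,9,12,13,10,13,12,9,12,2,13,7,7,13], [5,9,13,10,12,8,11,12,9,2,6,13,12,13,4], 5, [([], 1836, [])], []⟩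
def c1838 : Clm := ⟨6, 6, true, [3,8,12,13,12,9,13,2,4,3,5,7,7,13,6], [3,12,8,11,10,12,11,10,2,13,12,11,13,10,2], 13, [([], 652, [3,10,11,12,9,11,5,11]), ([370], 194, [10,11,10]), ([372,370], 1407, [13,3,12,8,13,10,13])], []⟩
def c1839 : Clm := ⟨6, 6, true, [3,12,8,11,10,12,11,10,2,13,12,11,13,2], [3,8,12,13,12,9,13,2,4,3,5,7,7,13,6], 5, [([], 1838, [])], []⟩
def c1840 : Clm := ⟨6, 6, true, [9,13,5,10,11,12,11,12,9,2,1,13,12,4,10,12], [1,11,10,13,12,13,12,2,7,13,6,9,10,2], 13, [([], 652, [5,10,11,12,8,12,11,12]), ([370], 194, [8,11,13,10,12,13,10]), ([373], 923, [12,11,3,10,12,11])], []⟩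
def c1841 : Clm := ⟨6, 6, true, [1,11,10,13,12,13,12,2,7,13,2,6,9], [9,13,5,10,11,12,11,12,9,2,1,13,12,4,10,12], 5, [([], 1840, [])], []⟩
def c1842 : Clm := ⟨6, 6, true, [1,5,8,11,12,8,11,12,9,2,4,7,12,11,13,6], [1,11,10,13,12,13,12,2,7,13,2,6,9], 5, [([], 1841, [])], []⟩
def c1843 : Clm := ⟨6, 6, true, [1,8,10,13,5,10,12,13,10,2,1,7,9,13,6,12,4], [1,10,11,12,8,11,12,8,13,2,6,13,5,10], 47, [([], 1605, [10,11,10,12,9,11,12,9]), ([373], 1720, [8,10,13,5,10,12,9,11,13]), ([370], 194, [13,10,12])], []⟩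
def c1844 : Clm := ⟨6, 6, true, [3,10,11,12,8,13,10,12,8,4,7,5,10,4], [1,8,10,13,5,10,12,13,10,2,1,7,9,13,6,12,4], 5, [([], 1843, [])], []⟩
def c1845 : Clm := ⟨6, 6, true, [12,9,13,3,10,13,12,13,2,6,13,6,13,12,4,8], [3,10,11,12,8,13,10,12,8,4,7,5,10,4], 5, [([], 1844, [])], []⟩
def c1846 : Clm := ⟨6, 6, true, [1,12,13,10,12,9,11,5,2,6,9,11,12,4], [8,10,13,3,12,11,10,2,4,12,13,7,10,12], 43, [([], 194, [11,10,12,9]), ([372], 1745, [8,12,11,10,13,12,8,13]), ([373], 637, [8,11,13,5,12,9])], []⟩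
def c1847 : Clm := ⟨6, 6, true, [8,10,13,3,12,11,10,2,4,3,12,13,7,10,12], [1,12,13,10,12,9,11,5,2,6,9,11,12,4], 5, [([], 1846, [])], []⟩
def c1848 : Clm := ⟨5, 6, true, [3,5,9,10,13,12,9,2,11,10,12,4,5,12], [11,12,11,10,12,11,2,1,11,10,12,4], 9, [([], 307, [9,10,11,12,9,13,10,13]), ([], 283, [9,11,3,13,12,8,11]), ([], 198, [1,3,5,12])], []⟩
def c1849 : Clm := ⟨6, 5, true, [1,12,11,10,12,11,2,1,11,10,12,4,3], [3,5,9,10,13,12,9,2,11,10,12,4,5,12], 5, [([], 1848, [])], []⟩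
def c1850 : Clm := ⟨5, 6, true, [1,5,9,12,11,10,12,9,13,2,6,11,10,12,13,4,7], [1,12,11,10,12,11,2,1,11,10,12,4,3], 5, [([], 1849, [])], []⟩
def c1851 : Clm := ⟨6, 6, true, [5,12,13,3,12,9,12,4,6,10,12,9,12,4], [11,13,12,11,10,13,12,9,2,4,12,4,7,13,10], 9, [([], 198, [8,11,3,10,12]), ([372], 842, [8,11,12,13,12,8,13,5]), ([], 382, [9,12,8,13,10,12,11,10])], []⟩
def c1852 : Clm := ⟨6, 6, true, [5,11,13,12,11,13,10,2,4,3,13,7,5,9,13], [5,12,13,3,12,9,12,4,6,10,12,9,12,4], 5, [([], 1851, [])], []⟩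
def c1853 : Clm := ⟨6, 6, true, [5,12,9,13,10,12,9,11,2,4,13,6,6,13,2], [5,11,13,12,11,13,10,2,4,3,13,7,5,9,13], 5, [([], 1852, [])], []⟩
def c1854 : Clm := ⟨6, 6, true, [8,11,3,12,11,13,2,7,11,5,7,11,13,2], [11,12,11,10,12,11,2,1,11,12,4,13], 17, [([], 1705, [3,8,10,13,12,9,11,10,12]), ([370], 618, [10,13,3,12,9,13,12,11]), ([370], 198, [5,10,11,5,13,12])], []⟩
def c1855 : Clm := ⟨6, 6, true, [11,12,11,10,12,11,2,11,12,4,13,3], [8,11,3,12,11,13,2,7,11,5,7,11,13,2], 5, [([], 1854, [])], []⟩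
def c1856 : Clm := ⟨6, 6, true, [1,8,11,12,11,13,2,7,13,7,5,10,11,2], [11,12,11,10,12,11,2,11,12,4,13,3], 5, [([], 1855, [])], []⟩
def c1857 : Clm := ⟨6, 6, true, [12,8,11,5,12,9,13,4,5,7,7,10,4], [5,11,12,11,13,12,13,10,2,6,13,4,12,13], 13, [([], 198, [1,9,11,5,12]), ([], 1034, [1,12,8,11,13,12,9,12]), ([372], 1418, [1,9,10,12,8,11,10,12])], []⟩
def c1858 : Clm := ⟨6, 6, true, [5,11,12,11,13,12,13,10,2,1,4,12,7,11,5], [12,8,11,5,12,9,13,4,5,7,7,10,4], 5, [([], 1857, [])], []⟩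
def c1859 : Clm := ⟨6, 6, true, [8,13,12,9,11,10,12,13,2,13,5,6,6,10], [5,11,12,11,13,12,13,10,2,1,4,12,7,11,5], 5, [([], 1858, [])], []⟩
def c1860 : Clm := ⟨6, 6, true, [3,12,11,13,12,8,12,11,2,4,7,12,8,13,12], [12,9,11,12,9,11,5,10,2,1,13,2,12,4,12,6], 15, [([], 1477, [3,8,11,5,10,12,13,12,9]), ([370], 198, [11,13,5,10,12]), ([], 1856, [5,10,13,3,12,11,10])], []⟩
def c1861 : Clm := ⟨6, 6, true, [13,10,12,11,12,8,11,5,2,1,4,7,13,12,13,7], [3,12,11,13,12,8,12,11,2,4,7,12,8,13,12], 5, [([], 1860, [])], []⟩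
def c1862 : Clm := ⟨6, 6, true, [8,10,13,10,13,12,9,13,12,2,1,13,4,7,13,7,12], [12,11,10,12,11,2,11,12,4,13], 17, [([], 1706, [1,12,8,11,12,8,13,10,13]), ([373], 918, [1,5,12,11,10,12,13,12,9]), ([370], 198, [5,13,3,5,10,12])], []⟩
def c1863 : Clm := ⟨6, 6, true, [12,11,10,12,11,2,11,12,4,3,13], [8,10,13,10,13,12,9,13,12,2,1,13,4,7,13,7,12], 5, [([], 1862, [])], []⟩
def c1864 : Clm := ⟨6, 6, true, [3,9,11,12,8,11,12,9,2,4,12,13,7,8,10], [12,11,10,12,11,2,11,12,4,3,13], 5, [([], 1863, [])], []⟩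
def c1865 : Clm := ⟨6, 6, true, [1,9,11,10,12,11,12,13,10,4,6,12,4,10,4], [1,13,10,13,12,9,13,12,8,2,4,3,5,12,11,12,7], 13, [([], 198, [1,12,13,5,12]), ([], 223, [9,11,13,12,13,5,12,8]), ([111,111,104], 1095, [1,5,8,12,13,5,12,8,11])], []⟩
def c1866 : Clm := ⟨6, 6, true, [1,13,10,13,12,9,13,12,8,2,4,5,12,11,12,7], [1,9,11,10,12,11,12,13,10,4,6,12,4,10,4], 5, [([], 1865, [])], []⟩
def c1867 : Clm := ⟨6, 6, true, [8,12,13,5,12,8,11,12,4,6,12,4,10,4,3], [1,13,10,13,12,9,13,12,8,2,4,5,12,11,12,7], 5, [([], 1866, [])], []⟩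
def c1868 : Clm := ⟨6, 6, true, [5,10,11,13,12,9,11,12,8,2,4,5,12,13,3,4,7], [13,10,11,12,9,2,4,13,6,9,10,12,4], 15, [([], 905, [10,11,3,10,12,11]), ([], 198, [3,10,11,12]), ([], 1856, [5,9,11,13,12,13,5,12,8])], []⟩
def c1869 : Clm := ⟨6, 6, true, [1,12,9,11,12,13,10,2,7,13,2,12,13,12,9], [5,10,11,13,12,9,11,12,8,2,4,5,12,13,3,4,7], 5, [([], 1868, [])], []⟩
def c1870 : Clm := ⟨6, 6, true, [3,9,10,12,8,11,12,2,7,7,13,2,12,6], [3,10,11,5,12,9,11,12,9,2,4,12,4,7,13,5], 15, [([], 1349, [10,11,3,12,11,13]), ([], 198, [1,5,10,11,12]), ([372,370], 1856, [3,8,11,13,12,13,12,9])], []⟩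
def c1871 : Clm := ⟨6, 6, true, [3,10,11,5,12,9,11,2,4,3,5,6,9,13,4], [3,9,10,12,8,11,12,2,7,7,13,2,12,6], 5, [([], 1870, [])], []⟩
def c1872 : Clm := ⟨6, 6, true, [5,12,11,12,8,12,13,10,2,4,12,13,12], [13,5,10,13,12,11,12,2,6,6,11,13,12,13], 15, [([], 551, [1,5,12,8,13,10,12,8]), ([372], 198, [3,13,10,13,12]), ([372,370], 1864, [8,12,13,3,12,9])], []⟩
def c1873 : Clm := ⟨6, 6, true, [1,8,11,12,9,13,12,13,2,13,6,12,6,11,13], [5,12,11,12,8,12,13,10,2,4,12,13,12], 5, [([], 1872, [])], []⟩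
def c1874 : Clm := ⟨6, 6, true, [9,13,12,13,10,13,10,2,4,3,7,9,13,6], [1,9,10,12,11,12,11,10,2,1,13,2,12,4,9], 13, [([], 198, [3,8,11,10,12]), ([370], 842, [11,13,5,12,13,12,9]), ([372], 1737, [3,8,11,10,12,9,11,12,11])], []⟩
def c1875 : Clm := ⟨6, 6, true, [1,9,10,12,11,12,11,10,2,1,13,12,4,9,10,2], [9,13,12,13,10,13,10,2,4,3,7,9,13,6], 5, [([], 1874, [])], []⟩
def c1876 : Clm := ⟨6, 6, true, [3,5,12,11,5,12,8,2,4,12,4,12,11,10], [1,8,13,12,9,12,11,13,2,1,13,2,6,13,12,6], 13, [([], 198, [3,5,8,11,10,12]), ([370], 842, [3,8,12,13,5,12,8]), ([370], 1261, [12,9,13,12,13,10,13,12])], []⟩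
def c1877 : Clm := ⟨6, 6, true, [5,13,12,11,10,12,9,13,12,2,4,12,9,13,2,6,9], [3,5,12,11,5,12,8,2,4,12,4,12,11,10], 5, [([], 1876, [])], []⟩
def c1878 : Clm := ⟨6, 6, true, [1,5,10,11,12,9,13,12,13,12,2,4,6,6,13,7,9], [5,13,12,11,10,12,9,13,12,2,4,12,9,13,2,6,9], 5, [([], 1877, [])], []⟩
def c1879 : Clm := ⟨6, 6, true, [9,11,12,8,11,12,13,12,4,5,7,7,10,4], [1,12,8,11,10,12,9,11,2,4,7,13,10,12,9,13], 13, [([], 198, [1,3,5,9,12]), ([], 1034, [12,11,13,12,8,13,12,9,13]), ([370], 1259, [1,5,13,12,8,13,10,12,9])], []⟩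
def c1880 : Clm := ⟨6, 6, true, [12,8,11,3,12,9,11,2,4,13,12,13,7,9], [9,11,12,8,11,12,13,12,4,5,7,7,10,4], 5, [([], 1879, [])], []⟩
def c1881 : Clm := ⟨6, 6, true, [13,10,13,12,9,11,12,8,13,2,13,5,6,6,10], [12,8,11,3,12,9,11,2,4,13,12,13,7,9], 5, [([], 1880, [])], []⟩
def c1882 : Clm := ⟨6, 6, true, [5,11,12,13,12,8,13,4,6,10,12,9,12,4], [1,5,12,11,13,10,12,8,2,13,2,13,12,11,2], 13, [([], 198, [1,3,9,12]), ([], 1043, [3,10,13,5,12,9,13,10]), ([370], 1330, [8,12,8,11,5,11,12,11])], []⟩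
def c1883 : Clm := ⟨6, 6, true, [11,10,13,12,8,11,12,2,4,3,6,13,6,12,11], [5,11,12,13,12,8,13,4,6,10,12,9,12,4], 5, [([], 1882, [])], []⟩
def c1884 : Clm := ⟨6, 6, true, [13,10,12,8,13,10,2,6,13,7,10,12,11,2], [1,8,11,12,9,13,12,13,2,7,11,12,4,12], 15, [([], 384, [1,8,12,13,5,10,11]), ([], 198, [3,11,10,12]), ([], 1864, [3,11])], []⟩
def c1885 : Clm := ⟨6, 6, true, [13,10,12,13,12,13,2,13,2,13,12,6,13], [13,10,12,8,13,10,2,6,13,7,10,12,11,2], 5, [([], 1884, [])], []⟩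
def c1886 : Clm := ⟨6, 6, true, [1,12,11,13,5,10,12,2,6,11,13,6,8,12], [1,12,11,10,12,11,12,2,1,11,12,13,4,13], 17, [([], 349, [8,12,11,5,11,5]), ([226,252,227], 380, [11,13,12,13,10,12]), ([372], 198, [5,11,13,10,12,11,12])], []⟩
def c1887 : Clm := ⟨6, 6, true, [1,12,11,10,12,8,11,2,4,12,13,12,9,13], [1,12,11,13,5,10,12,2,6,11,13,6,8,12], 5, [([], 1886, [])], []⟩
def c1888 : Clm := ⟨6, 6, true, [1,12,11,13,5,12,2,6,11,13,6,8,12], [1,12,11,10,12,8,11,2,4,12,13,12,9,13], 5, [([], 1887, [])], []⟩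
def c1889 : Clm := ⟨6, 6, true, [8,12,8,11,3,10,12,8,4,7,10,12,4,6,12], [12,11,10,12,9,11,10,2,1,11,12,4], 17, [([], 1825, [10,12,13,10,13,12,9]), ([372], 510, [8,12,8,11,13,10]), ([], 198, [9,11,3,10,12])], []⟩
def c1890 : Clm := ⟨6, 6, true, [12,11,10,12,9,11,10,2,11,12,4,3], [8,12,8,11,3,10,12,8,4,7,10,12,4,6,12], 5, [([], 1889, [])], []⟩
def c1891 : Clm := ⟨6, 6, true, [1,9,10,13,12,13,12,8,2,13,7,5,10,13,4], [12,11,10,12,9,11,10,2,11,12,4,3], 5, [([], 1890, [])], []⟩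
def c1892 : Clm := ⟨6, 6, true, [11,3,12,8,11,4,5,7,10,12,4,9], [3,9,10,11,13,12,8,2,7,13,7,7,10,2], 13, [([], 198, [9,12,13,3,5,12]), ([], 223, [1,13,5,12,11,12,8]), ([110,110,104,96], 1313, [9,10,11,10,12,13,5])], []⟩
def c1893 : Clm := ⟨6, 6, true, [3,9,10,11,13,12,8,2,7,13,2,7,7], [11,3,12,8,11,4,5,7,10,12,4,9], 5, [([], 1892, [])], []⟩
def c1894 : Clm := ⟨6, 6, true, [3,5,9,11,10,12,11,12,2,4,3,6,13], [10,13,3,10,12,9,2,7,9,13,12,4,5,12], 13, [([], 198, [3,5,10,12]), ([372,370], 1856, [5,10,13,3,12,11,10,13]), ([373,370], 1137, [3,9,11,12])], []⟩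
def c1895 : Clm := ⟨6, 6, true, [8,10,13,10,12,8,11,10,2,4,12,13,6,9,10,13], [3,5,9,11,10,12,11,12,2,4,3,6,13], 5, [([], 1894, [])], []⟩
def c1896 : Clm := ⟨6, 6, true, [3,5,9,11,10,12,11,12,2,4,6,13], [8,10,13,10,12,8,11,10,2,4,12,13,6,9,10,13], 5, [([], 1895, [])], []⟩
def c1897 : Clm := ⟨6, 6, true, [1,5,9,13,12,2,4,6,12,11,3,10], [1,8,10,11,13,12,9,11,10,2,1,4,12,6,13,5,12], 13, [([], 198, [10,13,3,5]), ([372,370], 1888, [5,9,11,5,12,11,12,8,11]), ([373,370], 690, [1,12,8,11,10,12,9,12,13])], []⟩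
def c1898 : Clm := ⟨6, 6, true, [1,8,10,11,13,12,9,11,10,2,4,12,6,13,3,5,12], [1,5,9,13,12,2,4,6,12,11,3,10], 5, [([], 1897, [])], []⟩
def c1899 : Clm := ⟨6, 6, true, [12,8,13,10,12,9,11,2,4,7,12,7], [3,13,12,8,13,12,8,11,13,2,1,6,9,13,7,12], 15, [([], 1463, [12,9,11,10,12,11,13]), ([370], 198, [5,10,13,3,5,12]), ([], 1856, [5,9,12,13,3,5,12,8])], []⟩
def c1900 : Clm := ⟨6, 6, true, [3,5,10,13,5,12,9,13,12,2,6,9,13,7,12], [12,8,13,10,12,9,11,2,4,7,12,7], 5, [([], 1899, [])], []⟩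
def c1901 : Clm := ⟨6, 6, true, [12,8,13,10,12,9,11,4,7,10,2,12,7], [3,5,10,13,5,12,9,13,12,2,6,9,13,7,12], 5, [([], 1900, [])], []⟩
def c1902 : Clm := ⟨6, 6, true, [1,5,13,12,9,4,6,5,10,4], [3,9,10,12,9,11,5,12,11,2,13,12,13,2,3], 13, [([], 198, [1,5,11,5,12]), ([], 1850, [3,8,13,12,13,12,9]), ([228,253], 505, [1,8,13,12,9,13,10,12,9])], []⟩
def c1903 : Clm := ⟨6, 6, true, [3,9,10,12,9,11,5,12,11,2,13,12,13,2,1], [1,5,13,12,9,4,6,5,10,4], 5, [([], 1902, [])], []⟩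
def c1904 : Clm := ⟨6, 6, true, [8,11,10,12,9,12,11,2,4,3,6,13,6,13], [10,11,5,12,8,11,12,8,2,13,2,12,11,12,6,9], 13, [([], 198, [9,12,13,3,10,12]), ([372,370], 1891, [5,10,11,12,13,10,13]), ([372], 629, [8,12,9,13,5,10,11,12,13])], []⟩
def c1905 : Clm := ⟨6, 6, true, [12,11,5,12,9,13,2,13,4,6,5,4,9,12], [8,11,10,12,9,12,11,2,4,3,6,13,6,13], 5, [([], 1904, [])], []⟩
def c1906 : Clm := ⟨6, 6, true, [8,11,10,12,9,12,11,2,1,4,6,13,6,13], [12,11,5,12,9,13,2,13,4,6,5,4,9,12], 5, [([], 1905, [])], []⟩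
def c1907 : Clm := ⟨6, 6, true, [3,8,12,13,10,12,9,11,2,4,12,13,6,10,2], [1,12,11,13,10,12,9,12,2,11,10,12,4,7,9], 15, [([], 1058, [1,10,13,5,12]), ([], 198, [10,12,11,5,12,11,13]), ([372,370], 1888, [3,10,11,12,11,10,13])], []⟩
def c1908 : Clm := ⟨6, 6, true, [9,11,13,10,12,2,6,6,13,6,9,10], [3,8,12,13,10,12,9,11,2,4,12,13,6,10,2], 5, [([], 1907, [])], []⟩
def c1909 : Clm := ⟨6, 6, true, [1,5,8,13,12,9,12,4,5,7,7,10,4], [3,8,10,13,10,12,8,13,10,2,13,12,4,5,12,9], 13, [([], 198, [1,5,9,11,12]), ([], 1034, [12,11,12,8,13,12,9]), ([372], 1717, [13,5,12,8,11,12,11,10])], []⟩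
def c1910 : Clm := ⟨6, 6, true, [10,11,12,8,11,12,11,2,7,13,2,7,12,13,10], [1,5,8,13,12,9,12,4,5,7,7,10,4], 5, [([], 1909, [])], []⟩
def c1911 : Clm := ⟨6, 6, true, [9,11,3,10,12,8,11,2,13,5,6,6,10], [10,11,12,8,11,12,11,2,7,13,2,7,12,13,10], 5, [([], 1910, [])], []⟩
def c1912 : Clm := ⟨6, 6, true, [5,12,11,3,5,12,8,2,4,12,4,12,11,10], [1,12,9,12,13,10,12,8,13,2,1,6,13,12,4,6,12], 13, [([], 198, [5,8,11,3,10,12]), ([370], 842, [12,8,13,12,8,11,12]), ([373], 1199, [8,11,5,12,9,13,12,13,10])], []⟩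
def c1913 : Clm := ⟨6, 6, true, [10,12,11,10,12,9,11,13,2,13,12,8,13,4,12], [5,12,11,3,5,12,8,2,4,12,4,12,11,10], 5, [([], 1912, [])], []⟩
def c1914 : Clm := ⟨6, 6, true, [5,10,11,12,9,13,12,13,12,2,4,6,6,13,7,9], [10,12,11,10,12,9,11,13,2,13,12,8,13,4,12], 5, [([], 1913, [])], []⟩
def c1915 : Clm := ⟨6, 6, true, [13,5,10,12,8,11,2,4,5,6,11,13,7,7], [12,8,13,10,12,8,11,13,2,4,13,7,5,8,13], 15, [([], 411, [3,11,12,8,11,10,12,9,11]), ([], 198, [1,10,13,10,12]), ([372,370], 1864, [3,8,11,12,13,12,9,13])], []⟩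
def c1916 : Clm := ⟨6, 6, true, [8,11,12,9,13,12,11,2,13,2,7,12,7,13], [13,5,10,12,8,11,2,4,5,6,11,13,7,7], 5, [([], 1915, [])], []⟩
def c1917 : Clm := ⟨6, 6, true, [5,9,11,12,13,2,4,6,12,11,3,10], [1,10,13,10,12,11,12,9,2,6,9,13,4,12,6], 13, [([], 198, [10,13,3,5,12]), ([372,370], 1856, [3,8,13,12,13,12,9]), ([370], 1776, [3,9,10,11,5])], []⟩
def c1918 : Clm := ⟨6, 6, true, [11,10,13,12,9,13,12,2,4,5,12,9,13,4,6], [5,9,11,12,13,2,4,6,12,11,3,10], 5, [([], 1917, [])], []⟩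
def c1919 : Clm := ⟨6, 6, true, [12,11,12,8,12,13,12,13,2,4,12,4,12,11,10], [10,11,3,12,2,1,4,6,6], 13, [([], 198, [3,8,13,5,10,12]), ([370], 842, [8,11,12,13,12,8,13,5]), ([372], 937, [3,12,8,11,12,11,10,12,11])], []⟩
def c1920 : Clm := ⟨6, 6, true, [10,11,3,12,2,4,3,6,6], [12,11,12,8,12,13,12,13,2,4,12,4,12,11,10], 5, [([], 1919, [])], []⟩
def c1921 : Clm := ⟨6, 6, true, [1,8,13,12,9,13,10,12,11,2,4,6,13,3,6,13], [12,11,10,13,12,9,11,2,4,5,12,13,12,4,10], 13, [([], 198, [3,9,10,13,10,12]), ([372,370], 1891, [3,8,12,13,12,9]), ([373], 420, [5,8,10,12,9,11,5])], []⟩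
def c1922 : Clm := ⟨6, 6, true, [1,5,10,12,11,12,8,13,2,7,13,4,12,7,8,13], [1,8,13,12,9,13,10,12,11,2,4,6,13,3,6,13], 5, [([], 1921, [])], []⟩
def c1923 : Clm := ⟨6, 6, true, [1,8,13,12,9,13,10,12,11,2,4,6,13,6,13], [1,5,10,12,11,12,8,13,2,7,13,4,12,7,8,13], 5, [([], 1922, [])], []⟩
def c1924 : Clm := ⟨6, 6, true, [1,12,8,13,12,8,11,4,6,12,4,10,4], [1,5,11,12,8,11,2,1,4,12,13,5,4,7,7], 13, [([], 198, [1,5,12,11,12]), ([], 223, [3,9,11,5,12,11,12,8]), ([171,110,98,96], 390, [9,10,11,5,12,11,13,12])], []⟩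
def c1925 : Clm := ⟨6, 6, true, [1,5,12,11,10,12,8,12,2,4,5,7,13,12,4,10], [1,12,8,13,12,8,11,4,6,12,4,10,4], 5, [([], 1924, [])], []⟩
def c1926 : Clm := ⟨6, 6, true, [9,11,12,11,5,11,2,4,6,12,11,3,10], [12,9,11,12,8,11,2,7,13,12,6,5], 13, [([], 198, [13,3,10,13,12]), ([372,370], 1864, [3,8,13,12,13,12,9]), ([373], 1162, [3,5,13,5,10])], []⟩
def c1927 : Clm := ⟨6, 6, true, [3,12,9,12,11,12,8,11,12,2,13,12,13,10,13], [9,11,12,11,5,11,2,4,6,12,11,3,10], 5, [([], 1926, [])], []⟩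
def c1928 : Clm := ⟨6, 6, true, [1,8,12,8,11,5,11,12,13,2,13,12,7,9], [1,8,11,10,12,9,12,11,2,4,12,6,5,13,12,9], 15, [([], 1330, [1,5,9,10,11,12,8,13]), ([370], 198, [11,3,13,12,13,10]), ([372], 1923, [11,12,9,11,10])], []⟩
def c1929 : Clm := ⟨6, 6, true, [1,8,13,12,9,13,10,12,11,2,1,13,12,4,6,9,13,12], [1,8,12,8,11,5,11,12,13,2,13,12,7,9], 5, [([], 1928, [])], []⟩
def c1930 : Clm := ⟨6, 6, true, [1,10,13,5,10,12,13,12,9,2,1,13,12,7,9], [1,8,13,12,9,13,10,12,11,2,1,13,12,4,6,9,13,12], 5, [([], 1929, [])], []⟩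
def c1931 : Clm := ⟨6, 6, true, [3,9,12,13,5,4,6,12,4,10,4], [8,12,9,11,13,5,12,13,2,4,7,13,12,4,8,13], 13, [([], 198, [12,11,3,5,12]), ([], 223, [5,8,12,13,3,12,9]), ([110,104,100], 711, [1,9,12,11,13,12])], []⟩
def c1932 : Clm := ⟨6, 6, true, [12,9,13,12,9,13,12,13,2,1,13,4,12,11,13,7], [3,9,12,13,5,4,6,12,4,10,4], 5, [([], 1931, [])], []⟩
def c1933 : Clm := ⟨6, 6, true, [10,13,12,9,11,12,11,5,2,4,3,6], [8,10,11,3,10,12,8,2,4,6,5,6,13,6], 13, [([], 198, [10,13,5,13,12]), ([372,370], 1856, [3,11,13]), ([373], 739, [12,11,3,13])], []⟩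
def c1934 : Clm := ⟨6, 6, true, [11,13,12,9,11,10,13,2,1,13,2,6,13,2,3], [10,13,12,9,11,12,11,5,2,4,3,6], 5, [([], 1933, [])], []⟩
def c1935 : Clm := ⟨6, 6, true, [1,12,9,13,5,12,13,10,2,13,4,6,12,13,6,13], [8,10,13,5,12,9,11,5,11,2,4,7,12,11,12], 15, [([], 1891, [9,11,12,11,12,8,13,12]), ([372], 198, [9,12,11,3,5]), ([], 1034, [1,5,9,13,12,8,11,13,12])], []⟩
def c1936 : Clm := ⟨6, 6, true, [3,9,12,13,5,10,12,8,13,2,13,6,12,13,4], [1,12,9,13,5,12,13,10,2,13,4,6,12,13,6,13], 5, [([], 1935, [])], []⟩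
def c1937 : Clm := ⟨6, 6, true, [1,8,11,5,12,13,12,9,2,6,11,10,12,9,13,2], [3,9,12,13,5,10,12,8,13,2,13,6,12,13,4], 5, [([], 1936, [])], []⟩
def c1938 : Clm := ⟨6, 6, true, [5,13,12,13,10,13,12,2,1,13,4,12,4,8,10], [10,12,13,5,12,8,13,10,2,1,4,12,11,5,6,6], 15, [([], 937, [11,12,9,12,11,12,8]), ([370], 198, [5,10,11,13,12,11]), ([372,370], 1856, [1,13])], []⟩
def c1939 : Clm := ⟨6, 6, true, [9,12,8,11,10,12,13,5,2,1,7,9,13,2,12,9], [5,13,12,13,10,13,12,2,1,13,4,12,4,8,10], 5, [([], 1938, [])], []⟩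
def c1940 : Clm := ⟨6, 6, true, [12,8,13,10,13,10,12,13,2,7,13,4,12,11,13], [9,12,8,11,10,12,13,5,2,1,7,9,13,2,12,9], 5, [([], 1939, [])], []⟩
def c1941 : Clm := ⟨5, 6, true, [5,8,10,13,10,12,8,13,2,1,4,13,12,7,13,4], [3,8,10,11,13,12,9,2,13,6,9,10,13,5], 15, [([], 758, [5,10,12,8,13,5,12,11,13]), ([370], 198, [5,9,11,3,12,13,10]), ([], 1888, [3,11,13,12,13,12,8])], []⟩
def c1942 : Clm := ⟨6, 5, true, [1,8,13,5,13,12,8,2,7,13,7,7,10,13], [5,8,10,13,10,12,8,13,2,1,4,13,12,7,13,4], 5, [([], 1941, [])], []⟩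
def c1943 : Clm := ⟨6, 5, true, [10,11,12,9,12,11,12,13,2,4,3,7,9,13,6], [3,13,5,10,12,11,12,9,2,13,7,10,13,2,5], 13, [([], 198, [3,8,10,13,10,13,12]), ([372], 842, [12,11,12,9,11,5]), ([372,370], 538, [1,5,12,8,13,10,12,9,12])], []⟩
def c1944 : Clm := ⟨5, 6, true, [13,12,9,13,10,13,10,2,11,13,7,12,13,2], [10,11,12,9,12,11,12,13,2,4,3,7,9,13,6], 5, [([], 1943, [])], []⟩
def c1945 : Clm := ⟨6, 5, true, [10,11,12,9,12,11,12,13,2,4,7,9,13,6], [13,12,9,13,10,13,10,2,11,13,7,12,13,2], 5, [([], 1944, [])], []⟩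
def c1946 : Clm := ⟨6, 6, true, [3,5,10,13,12,9,11,12,13,2,4,3,6,13], [5,9,11,5,11,12,13,12,8,2,7,13,2,12,11,12,9], 13, [([], 198, [10,11,3,13,12]), ([], 1856, [3,10,11,10,12,13,5,10]), ([370], 861, [1,11,13,12,8,11,13,12,8])], []⟩
def c1947 : Clm := ⟨6, 6, true, [1,8,11,10,12,9,11,13,2,7,9,11,12,4,13,5], [3,5,10,13,12,9,11,12,13,2,4,3,6,13], 5, [([], 1946, [])], []⟩
def c1948 : Clm := ⟨6, 6, true, [9,10,12,8,13,12,9,12,4,6,10,2], [3,10,11,10,12,9,13,12,8,2,4,12,13,4,6,5,13], 13, [([], 198, [11,3,10,12,13,12]), ([372], 1923, [1,5,9,13,5,12,11,10]), ([372], 1046, [13,5,12,11,12])], []⟩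
def c1949 : Clm := ⟨6, 6, true, [1,11,10,12,13,12,11,2,4,5,12,13,7,12,7], [9,10,12,8,13,12,9,12,4,6,10,2], 5, [([], 1948, [])], []⟩
def c1950 : Clm := ⟨6, 6, true, [5,13,5,12,11,13,2,6,11,12,9,13,4,10], [13,12,11,10,12,8,11,2,11,13,12,4], 17, [([], 632, [10,11,12,8,12,11,13,10]), ([373,370], 930, [1,13,12,9,11,13,10]), ([370], 198, [8,10,13,5,12])], []⟩
def c1951 : Clm := ⟨6, 6, true, [3,9,12,13,12,9,13,2,1,4,12,13,5,10], [5,13,5,12,11,13,2,6,11,12,9,13,4,10], 5, [([], 1950, [])], []⟩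
def c1952 : Clm := ⟨6, 6, true, [3,5,11,5,10,12,9,2,11,5,12,13,2,11,3], [3,9,12,13,12,9,13,2,1,4,12,13,5,10], 5, [([], 1951, [])], []⟩
def c1953 : Clm := ⟨6, 6, true, [3,10,11,12,11,13,10,2,4,13,7,9,10,12], [5,8,12,13,5,10,11,12,9,2,1,4,12,13,2,6,8], 15, [([], 1906, [9,10,12,11,3,10,12]), ([372], 198, [3,10]), ([], 1888, [3,9,12,11,12,8,11])], []⟩
def c1954 : Clm := ⟨6, 6, true, [3,12,9,11,13,10,12,2,7,9,13,12,4,7], [3,10,11,12,11,13,10,2,4,13,7,9,10,12], 5, [([], 1953, [])], []⟩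
def c1955 : Clm := ⟨6, 6, true, [9,10,11,12,11,12,13,2,4,3,6,13], [9,13,10,13,12,13,12,2,11,5,7,13,2,11], 13, [([], 198, [13,3,5,10,12]), ([], 1864, [5,10,13,3,12,11,10]), ([], 1814, [1,9,11,12,9,11,12,11,13])], []⟩
def c1956 : Clm := ⟨6, 6, true, [11,5,11,12,8,11,13,12,8,2,4,13,5,7,13,2,3], [9,10,11,12,11,12,13,2,4,3,6,13], 5, [([], 1955, [])], []⟩
def c1957 : Clm := ⟨6, 6, true, [9,10,11,12,11,12,13,2,4,6,13], [11,5,11,12,8,11,13,12,8,2,4,13,5,7,13,2,3], 5, [([], 1956, [])], []⟩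
def c1958 : Clm := ⟨6, 6, true, [1,10,13,12,9,13,12,13,12,2,4,3,6,13], [11,10,12,11,13,12,13,2,1,4,12,13,2,5,6], 13, [([], 198, [5,13,3,10,12]), ([372,370], 1864, [3,5,10,13,5,12,11,10]), ([373,370], 1292, [5,13,3,5,10,12,8,11])], []⟩
def c1959 : Clm := ⟨6, 6, true, [5,11,5,11,12,13,10,2,1,4,12,4,13,6,10], [1,10,13,12,9,13,12,13,12,2,4,3,6,13], 5, [([], 1958, [])], []⟩
def c1960 : Clm := ⟨6, 6, true, [1,10,13,12,9,13,12,13,12,2,4,6,13], [5,11,5,11,12,13,10,2,1,4,12,4,13,6,10], 5, [([], 1959, [])], []⟩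
def c1961 : Clm := ⟨6, 6, true, [5,9,12,13,10,12,13,2,6,13,2,12,7,8], [13,10,11,12,9,11,12,13,2,4,3,6,13,12,4,8], 15, [([], 1468, [8,12,8,11,12,8,13,10]), ([372], 198, [3,9,11,13,10,12,13,10]), ([372], 1923, [10,12,9,12,11,12,8,13,12])], []⟩
def c1962 : Clm := ⟨6, 6, true, [8,12,9,11,13,5,2,7,13,2,12,13,2,4], [5,9,12,13,10,12,13,2,6,13,2,12,7,8], 5, [([], 1961, [])], []⟩
def c1963 : Clm := ⟨6, 6, true, [8,12,13,10,12,9,11,2,1,6,13,7,10,13,2], [8,12,9,11,13,5,2,7,13,2,12,13,2,4], 5, [([], 1962, [])], []⟩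
def c1964 : Clm := ⟨6, 6, true, [9,11,5,10,12,11,5,12,8,2,4,13,3,6,6], [3,9,12,9,13,12,13,10,13,2,4,3,5,6,13,6,13,5], 13, [([], 198, [9,10,12,13,3,10,12]), ([372,370], 1891, [12,9,12,13,12,8,13,12]), ([373], 1395, [1,13,5,10,11,12,8,13])], []⟩
def c1965 : Clm := ⟨6, 6, true, [5,8,13,12,8,11,12,9,2,4,12,6,13,6,10,12], [9,11,5,10,12,11,5,12,8,2,4,13,3,6,6], 5, [([], 1964, [])], []⟩
def c1966 : Clm := ⟨6, 6, true, [8,10,13,12,8,11,12,8,11,2,4,6,13,3,6,9], [12,8,12,13,3,5,2,4,6,13,3,7,5], 13, [([], 198, [3,11,5,10,13,12]), ([372,370], 1864, [3,5,9,12,13,5,12,8]), ([370], 1624, [5,11,12,13,10,13,12])], []⟩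
def c1967 : Clm := ⟨6, 6, true, [12,8,12,13,3,5,2,1,4,6,13,7,5], [8,10,13,12,8,11,12,8,11,2,4,6,13,3,6,9], 5, [([], 1966, [])], []⟩
def c1968 : Clm := ⟨6, 6, true, [8,10,13,12,8,11,12,8,11,2,1,4,6,13,6,9], [12,8,12,13,3,5,2,1,4,6,13,7,5], 5, [([], 1967, [])], []⟩
def c1969 : Clm := ⟨6, 6, true, [5,12,13,3,12,9,12,4,6,12,4,10,4], [5,11,13,12,8,13,12,8,2,4,3,12,6,13,4], 13, [([], 198, [11,3,5]), ([], 223, [13,3,5]), ([110,104,100], 776, [1,9,11,12,11,13,12])], []⟩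
def c1970 : Clm := ⟨6, 6, true, [5,11,13,12,9,13,12,8,2,4,5,7,9,13,5], [5,12,13,3,12,9,12,4,6,12,4,10,4], 5, [([], 1969, [])], []⟩
def c1971 : Clm := ⟨6, 6, true, [5,13,3,12,8,11,10,12,13,2,4,7,7,13,3,7], [11,12,9,11,12,11,12,8,2,4,12,6,11,13,6], 13, [([], 198, [5,8,10,11,3,12]), ([], 1952, [3,11,13]), ([370], 462, [8,10,12,13,5,13,12,9])], []⟩
def c1972 : Clm := ⟨6, 6, true, [11,12,9,11,12,11,12,8,2,4,12,6,11,3,13,6], [5,13,3,12,8,11,10,12,13,2,4,7,7,13,3,7], 5, [([], 1971, [])], []⟩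
def c1973 : Clm := ⟨6, 6, true, [13,3,10,12,8,12,11,2,4,3,7,13,7,7], [9,10,11,13,5,12,11,12,2,13,6,13,2,13,7], 13, [([], 198, [3,12,8,11,10,12]), ([370], 842, [9,12,11,5,12,13]), ([370], 1939, [3,8,13,10])], []⟩
def c1974 : Clm := ⟨6, 6, true, [8,11,3,12,9,11,13,10,2,7,9,11,12,4,13], [13,3,10,12,8,12,11,2,4,3,7,13,7,7], 5, [([], 1973, [])], []⟩
def c1975 : Clm := ⟨6, 6, true, [8,11,13,10,12,11,13,2,1,11,12,4,7,12,9], [3,9,12,13,10,13,12,8,13,2,4,5,13,6,13,10,2], 15, [([], 1841, [11,12,9,11,12,9,13,10]), ([372], 198, [3,9,11,10,12]), ([], 1891, [3,13])], []⟩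
def c1976 : Clm := ⟨6, 6, true, [3,9,12,13,10,13,12,8,13,2,4,5,13,6,13,2], [8,11,13,10,12,11,13,2,1,11,12,4,7,12,9], 5, [([], 1975, [])], []⟩
def c1977 : Clm := ⟨6, 6, true, [1,13,10,12,11,2,4,6,12,8,13,3,12], [3,9,12,13,12,8,13,10,2,13,6,5,4,7], 15, [([], 1957, [3,11,13,10,12,8,11,10]), ([372], 198, [3,9,13,10,13,12]), ([372,370], 1891, [3,8,11,12,13,12,9,13])], []⟩
def c1978 : Clm := ⟨6, 6, true, [3,13,10,12,8,13,12,9,2,13,2,6,13,2], [1,13,10,12,11,2,4,6,12,8,13,3,12], 5, [([], 1977, [])], []⟩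
def c1979 : Clm := ⟨6, 6, true, [1,13,10,12,11,2,1,4,6,12,8,13,12], [3,13,10,12,8,13,12,9,2,13,2,6,13,2], 5, [([], 1978, [])], []⟩
def c1980 : Clm := ⟨6, 6, true, [1,5,8,13,10,12,11,2,11,13,6,12,4,8], [5,9,13,5,12,13,10,12,2,4,3,5,6,13,4,7], 17, [([], 870, [1,11,12,8,13,10,13,12]), ([], 198, [8,12,8,13,10,12,13,10]), ([373], 541, [8,11,13,5,10,12,11,12])], []⟩
def c1981 : Clm := ⟨6, 6, true, [9,11,5,12,11,10,12,2,6,13,4,7,12,11], [1,5,8,13,10,12,11,2,11,13,6,12,4,8], 5, [([], 1980, [])], []⟩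
def c1982 : Clm := ⟨6, 6, true, [5,10,12,8,11,13,12,11,13,2,4,12,13,2,6,9,11], [1,12,11,10,12,11,2,1,13,12,13,4,10,4], 11, [([], 1724, [3,11,5,10,12,8,13,12,9]), ([373], 1477, [1,8,13,10,12,13,12,9]), ([370], 198, [1,10,11,13,12,13])], []⟩
def c1983 : Clm := ⟨6, 6, true, [8,11,13,12,8,11,13,2,1,4,5,12,13,7,8], [5,10,12,8,11,13,12,11,13,2,4,12,13,2,6,9,11], 5, [([], 1982, [])], []⟩
def c1984 : Clm := ⟨6, 6, true, [1,9,10,11,12,11,12,13,10,2,4,5,7,12,11,3], [3,8,10,13,10,12,9,11,10,2,1,13,4,12,4,3], 17, [([], 930, [3,13,5,10,12,9]), ([370], 198, [3,5,8,10,11,12,13]), ([372], 617, [9,10,11,10,12,11])], []⟩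
def c1985 : Clm := ⟨6, 6, true, [3,8,10,13,10,12,9,11,10,2,13,4,12,4], [1,9,10,11,12,11,12,13,10,2,4,5,7,12,11,3], 5, [([], 1984, [])], []⟩
def c1986 : Clm := ⟨5, 6, true, [3,9,10,11,12,11,13,4,10,12,4,3,8], [3,5,9,12,13,5,10,12,8,11,2,11,12,11,13,4,6], 11, [([], 977, [1,10,12,9]), ([], 1038, [13,10,13,10,12,8,11,10]), ([], 198, [1,5,11,12,13])], []⟩
def c1987 : Clm := ⟨6, 5, true, [3,5,9,12,13,5,10,12,8,11,2,1,11,12,13,4,6], [3,9,10,11,12,11,13,4,10,12,4,3,8], 5, [([], 1986, [])], []⟩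
def c1988 : Clm := ⟨5, 6, true, [3,9,10,11,12,13,4,10,12,4,8], [3,5,9,12,13,5,10,12,8,11,2,1,11,12,13,4,6], 5, [([], 1987, [])], []⟩
def c1989 : Clm := ⟨5, 6, true, [5,12,13,10,12,9,12,13,2,6,9,13,12,9], [11,13,10,12,8,11,13,5,2,1,6,6,13,2,12,7], 17, [([], 380, [12,13,5,10,12]), ([372], 198, [10,11,12,11,12,13]), ([373], 1916, [1,8,12,8,11,12,9,11])], []⟩
def c1990 : Clm := ⟨6, 5, true, [12,11,13,10,12,8,11,13,2,1,13,6,10,13,2,5], [5,12,13,10,12,9,12,13,2,6,9,13,12,9], 5, [([], 1989, [])], []⟩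
def c1991 : Clm := ⟨5, 6, true, [1,12,8,11,12,8,13,10,13,2,1,6,9,13,12,9], [12,11,13,10,12,8,11,13,2,1,13,6,10,13,2,5], 5, [([], 1990, [])], []⟩
def c1992 : Clm := ⟨6, 6, true, [10,13,12,8,13,2,13,2,12,4,3,5], [1,5,9,10,13,12,2,7,13,7,5,4,7], 11, [([], 1350, [3,11,12,8,11,12,13,10]), ([373], 1911, [5,13,5,13]), ([], 198, [9,13,5,12,13])], []⟩
def c1993 : Clm := ⟨6, 6, true, [1,9,13,5,10,13,12,2,1,13,7,12,13,4], [10,13,12,8,13,2,13,2,12,4,3,5], 5, [([], 1992, [])], []⟩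
def c1994 : Clm := ⟨6, 6, true, [10,13,12,8,13,2,13,2,1,12,4,5], [1,9,13,5,10,13,12,2,1,13,7,12,13,4], 5, [([], 1993, [])], []⟩
def c1995 : Clm := ⟨6, 6, true, [3,11,13,12,11,12,8,12,2,13,12,13,2,1,4], [1,5,12,9,11,12,9,11,2,1,7,11,12,7,11], 17, [([], 905, [11,5,11,12,9,11]), ([372], 198, [1,8,10,13,5,10,12]), ([372], 917, [3,11,13,12,9,12])], []⟩
def c1996 : Clm := ⟨6, 6, true, [1,5,12,9,11,12,9,11,10,2,1,7,11,12,7,11], [3,11,13,12,11,12,8,12,2,13,12,13,2,1,4], 5, [([], 1995, [])], []⟩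
def c1997 : Clm := ⟨6, 6, true, [1,10,11,12,8,11,10,13,2,1,4,12,8,13,2], [12,8,11,10,13,12,11,2,13,6,10,13,2,7], 15, [([], 198, [3,13,5,10,13,12]), ([370], 1864, [9,12,11,3,5,10,12,8,11]), ([370], 1624, [5,13,10,12,11,10,12])], []⟩
def c1998 : Clm := ⟨6, 6, true, [1,9,11,12,8,11,5,12,11,10,2,4,7,13,3,7,5,8], [1,10,11,12,8,11,10,13,2,1,4,12,8,13,2], 5, [([], 1997, [])], []⟩
def c1999 : Clm := ⟨6, 6, true, [3,9,11,13,10,12,13,10,12,2,4,12,13,12,6], [1,9,11,12,8,11,5,12,11,10,2,4,7,13,3,7,5,8], 5, [([], 1998, [])], []⟩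
def c2000 : Clm := ⟨6, 6, true, [1,8,13,10,12,11,12,11,10,2,6,13,2,12,4,5,7], [1,10,12,8,12,13,12,11,2,1,6,6,11,5,4,12], 17, [([], 1330, [1,8,10,13,12,9,12,11]), ([370], 198, [10,13,5,13,12,13,10]), ([372,370], 1798, [9,10,13,12,9,13,12,13])], []⟩
def c2001 : Clm := ⟨6, 6, true, [12,8,13,5,12,11,13,10,2,1,6,6,13,2,12], [1,8,13,10,12,11,12,11,10,2,6,13,2,12,4,5,7], 5, [([], 2000, [])], []⟩
def c2002 : Clm := ⟨6, 6, true, [5,12,8,13,10,12,8,13,12,2,13,2,13,12,4,6], [3,12,11,10,12,13,10,12,8,2,6,13,12,4,10,4,13], 17, [([], 1325, [3,10,13,12,9,12,13]), ([370], 198, [10,13,5,12,11,5]), ([], 1830, [3,10,11,12])], []⟩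
def c2003 : Clm := ⟨6, 6, true, [8,11,13,5,12,11,2,4,5,7,12,13,7,7], [5,12,8,13,10,12,8,13,12,2,13,2,13,12,4,6], 5, [([], 2002, [])], []⟩
def c2004 : Clm := ⟨6, 6, true, [1,5,8,12,11,12,4,5,7,10,12,4], [3,9,11,12,13,12,9,2,4,5,12,4,13,3], 11, [([], 297, [10,12,9,13,5,10]), ([252,226,253,226], 1990, [3,13,10,11,12,9,13,12,8]), ([], 198, [3,8,11,10,13,12])], []⟩
def c2005 : Clm := ⟨6, 6, true, [3,9,11,12,13,12,9,2,1,4,5,12,4,13], [1,5,8,12,11,12,4,5,7,10,12,4], 5, [([], 2004, [])], []⟩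
def c2006 : Clm := ⟨6, 6, true, [8,11,3,10,13,12,2,6,6,13,5,7,10], [3,9,11,12,13,12,9,2,1,4,5,12,4,13], 5, [([], 2005, [])], []⟩
def c2007 : Clm := ⟨6, 6, true, [3,11,12,8,13,12,9,13,2,4,3,12,6,11,12,6], [8,11,12,13,10,12,13,12,2,7,11,13,12,4,12], 17, [([], 1614, [1,5,9,12,13,10,12,9,12]), ([372], 198, [5,9,10,11,13,12,11]), ([373], 1304, [11,3,12,9,11,13,12,8])], []⟩
def c2008 : Clm := ⟨6, 6, true, [3,11,12,11,10,12,8,13,2,11,12,4,5,12,13,6], [3,11,12,8,13,12,9,13,2,4,3,12,6,11,12,6], 5, [([], 2007, [])], []⟩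
def c2009 : Clm := ⟨6, 6, true, [3,11,12,8,13,12,9,13,2,4,12,6,11,12,6], [3,11,12,11,10,12,8,13,2,11,12,4,5,12,13,6], 5, [([], 2008, [])], []⟩
def c2010 : Clm := ⟨6, 6, true, [8,13,10,11,12,8,13,2,4,13,12,13,10,12], [1,8,13,10,11,12,13,2,6,13,4,7,12,11], 17, [([], 356, [1,5,9,12,13,12]), ([], 198, [5,8,12,13,3,5]), ([372], 521, [5,9,10,11,5,12,11,12])], []⟩
def c2011 : Clm := ⟨6, 6, true, [1,8,13,5,10,13,12,11,2,4,3,5,6,13,4,7], [8,13,10,11,12,8,13,2,4,13,12,13,10,12], 5, [([], 2010, [])], []⟩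
def c2012 : Clm := ⟨6, 6, true, [3,10,11,12,9,12,13,5,13,2,7,13,4,7,12,11], [1,8,13,5,10,13,12,11,2,4,3,5,6,13,4,7], 5, [([], 2011, [])], []⟩
def c2013 : Clm := ⟨6, 6, true, [8,11,12,11,13,5,12,9,11,2,13,7,5,4,6,5], [11,5,10,13,12,8,13,12,2,1,4,13,12,4,10,11], 17, [([373], 1972, [1,9,11,5,11,12,11,13,12,9]), ([370], 198, [8,10,13,3,12,13]), ([373,370], 1778, [12,8,13,10,13,12,13,5])], []⟩
def c2014 : Clm := ⟨6, 6, true, [11,5,10,13,12,8,13,12,2,4,13,12,4,10,11], [8,11,12,11,13,5,12,9,11,2,13,7,5,4,6,5], 5, [([], 2013, [])], []⟩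
def c2015 : Clm := ⟨6, 6, true, [5,8,10,11,12,8,13,12,9,2,4,5,6,13,5,7,12], [13,5,10,12,9,13,5,12,2,1,13,7,12,4,3,8], 17, [([], 1325, [3,10,12,13,10,12,13]), ([], 198, [1,3,9,10,12]), ([372,370], 1775, [5,8,11,5,10,12,13,12,9])], []⟩
def c2016 : Clm := ⟨6, 6, true, [13,5,10,12,9,13,5,12,2,13,7,12,4,8], [5,8,10,11,12,8,13,12,9,2,4,5,6,13,5,7,12], 5, [([], 2015, [])], []⟩
def c2017 : Clm := ⟨6, 6, true, [3,9,13,12,8,13,12,11,10,2,1,13,12,4,8,10,12], [13,5,10,12,9,13,5,12,2,13,7,12,4,8], 5, [([], 2016, [])], []⟩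
def c2018 : Clm := ⟨6, 6, true, [8,10,12,8,13,12,9,11,13,2,13,5,7,7,10], [8,11,5,12,9,13,12,2,7,9,13,7,10,13,6], 15, [([], 198, [8,13,5,13,12]), ([372,370], 962, [3,10,12,8,11,10,12,9,11]), ([373], 1659, [12,13,3,12])], []⟩
def c2019 : Clm := ⟨6, 6, true, [1,10,11,13,12,9,13,12,2,1,4,7,12,13,7,5], [1,9,13,5,10,13,2,11,12,11,13,4,6], 11, [([], 1662, [11,13,12,8,12,11,5,10]), ([373,370], 1859, [3,5,11,5]), ([], 198, [1,9,11,12,11,5])], []⟩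
def c2020 : Clm := ⟨6, 6, true, [1,9,13,5,10,13,2,1,11,12,13,4,6], [1,10,11,13,12,9,13,12,2,1,4,7,12,13,7,5], 5, [([], 2019, [])], []⟩
def c2021 : Clm := ⟨6, 6, true, [3,12,9,12,11,12,2,4,5,12,13,7,7,10], [1,9,13,5,10,13,2,1,11,12,13,4,6], 5, [([], 2020, [])], []⟩
def c2022 : Clm := ⟨6, 6, true, [12,13,12,8,12,11,12,2,1,4,12,9,13,2], [10,13,3,12,11,10,13,2,4,13,3,12,4,3], 15, [([], 198, [3,9,11,5,10,13,12]), ([372,370], 1553, [1,8,13,5,10,12,13,12]), ([], 1085, [8,13,12,9,13,10,12,9,11])], []⟩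
def c2023 : Clm := ⟨6, 6, true, [10,13,3,12,11,10,13,2,4,3,13,12,4], [12,13,12,8,12,11,12,2,1,4,12,9,13,2], 5, [([], 2022, [])], []⟩
def c2024 : Clm := ⟨5, 6, true, [3,12,13,10,12,11,12,9,2,4,13,7,12,13,12], [11,13,12,11,10,12,8,2,1,11,12,11,2], 11, [([], 139, [12,9,11,12,13,10,13]), ([252,227,253], 1945, [13,5,13,5]), ([], 198, [8,13,3,10,12])], []⟩
def c2025 : Clm := ⟨6, 5, true, [11,13,12,11,10,12,8,2,1,11,12,11,10,2], [3,12,13,10,12,11,12,9,2,4,13,7,12,13,12], 5, [([], 2024, [])], []⟩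
def c2026 : Clm := ⟨6, 6, true, [1,13,10,11,12,9,11,13,2,4,7,13,12,4,10,13], [9,12,13,12,9,13,10,11,2,1,13,2,12,11,10], 11, [([], 1842, [3,12,8,11,10,12,9,11]), ([370], 897, [13,3,10,12,9,11,12,8]), ([], 198, [3,8,11,13,10,12,13,10,12])], []⟩
def c2027 : Clm := ⟨6, 6, true, [5,9,13,5,12,13,12,9,13,2,11,5,4,12,11,10], [1,13,10,11,12,9,11,13,2,4,7,13,12,4,10,13], 5, [([], 2026, [])], []⟩
def c2028 : Clm := ⟨6, 6, true, [5,9,12,11,12,13,2,4,13,12,6,13,6,6], [5,9,13,5,12,13,12,9,13,2,11,5,4,12,11,10], 5, [([], 2027, [])], []⟩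
def c2029 : Clm := ⟨5, 6, true, [9,12,8,13,3,5,10,12,11,2,13,12,4,5,7,11], [8,12,13,10,12,11,12,8,2,1,6,13,12,4,9], 11, [([], 1741, [9,11,12,11,10,12,8,12]), ([370], 1521, [13,12,9,13,5,13,5]), ([], 198, [8,13,12,13])], []⟩
def c2030 : Clm := ⟨6, 5, true, [8,12,13,10,12,11,12,8,2,6,13,12,4,3,9], [9,12,8,13,3,5,10,12,11,2,13,12,4,5,7,11], 5, [([], 2029, [])], []⟩
def c2031 : Clm := ⟨5, 6, true, [3,8,10,11,13,5,12,9,11,2,4,5,13,6,13,4,13], [8,12,13,10,12,11,12,8,2,6,13,12,4,3,9], 5, [([], 2030, [])], []⟩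
def c2032 : Clm := ⟨6, 6, true, [3,11,12,13,12,8,12,11,12,2,4,12,11,13,2], [1,12,11,10,12,8,11,13,12,2,4,3,13,6,12,4,7], 15, [([], 198, [3,8,10,13,10,12,13]), ([370], 936, [1,11,5,10,12,9,13,12,9]), ([372], 1781, [3,9,11,13,10,12,13])], []⟩
def c2033 : Clm := ⟨6, 6, true, [9,10,12,9,13,12,8,13,2,4,5,7,9,13,6,10], [3,11,12,13,12,8,12,11,12,2,4,12,11,13,2], 5, [([], 2032, [])], []⟩
def c2034 : Clm := ⟨6, 6, true, [5,8,11,12,11,13,5,12,2,4,3,12,13,4,10], [9,10,12,9,13,12,8,13,2,4,5,7,9,13,6,10], 5, [([], 2033, [])], []⟩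
def c2035 : Clm := ⟨6, 6, true, [1,12,9,11,12,8,11,10,12,2,4,7,12,11,13,7], [1,8,12,11,13,12,9,2,4,5,12,4,13,3], 11, [([], 1322, [3,11,5,10,12,13,12]), ([370], 1382, [5,10,13,3,5,12]), ([], 198, [3,13,10,13,12])], []⟩
def c2036 : Clm := ⟨6, 6, true, [1,8,12,11,13,12,9,2,1,4,5,12,4,13], [1,12,9,11,12,8,11,10,12,2,4,7,12,11,13,7], 5, [([], 2035, [])], []⟩
def c2037 : Clm := ⟨6, 6, true, [1,12,9,11,12,8,11,10,12,2,4,7,12,11,3,13,7], [1,8,12,11,13,12,9,2,1,4,5,12,4,13], 5, [([], 2036, [])], []⟩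
def c2038 : Clm := ⟨6, 6, true, [9,11,5,10,12,11,2,7,11,13,12,4,8], [9,12,13,5,10,12,11,13,2,4,13,5,6,6,13,4], 15, [([], 198, [3,9,13,10,13,12]), ([370], 1117, [3,9,12,13,12,13,10,11,12]), ([227,253,226], 1023, [13,3,12,9,11,12,8])], []⟩
def c2039 : Clm := ⟨6, 6, true, [10,11,3,10,12,9,11,13,2,6,13,6,12,4,10], [9,11,5,10,12,11,2,7,11,13,12,4,8], 5, [([], 2038, [])], []⟩
def c2040 : Clm := ⟨6, 6, true, [9,11,12,8,11,12,9,12,2,4,3,13,12,6,13,10], [1,9,10,11,12,13,12,2,4,12,6,13,10,12,8], 11, [([], 644, [3,8,13,10,13,12]), ([110,100,98], 760, [12,8,11,10,12,8,11]), ([370], 198, [11,12,13,10,13,10])], []⟩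
def c2041 : Clm := ⟨6, 6, true, [8,13,12,9,11,13,12,8,2,4,12,9,13,6,13,6], [9,11,12,8,11,12,9,12,2,4,3,13,12,6,13,10], 5, [([], 2040, [])], []⟩
def c2042 : Clm := ⟨6, 6, true, [12,9,12,13,3,5,10,12,2,1,13,4,12,11,2,12], [9,11,5,13,12,9,2,4,3,13,12,9,11,2], 17, [([], 1906, [1,9,12,13,5,10,13,12]), ([372], 198, [5,10,13,3,5]), ([372], 728, [1,13,10,13,10])], []⟩
def c2043 : Clm := ⟨6, 6, true, [1,9,12,8,13,5,10,2,4,5,6,13,2,7], [12,9,12,13,3,5,10,12,2,1,13,4,12,11,2,12], 5, [([], 2042, [])], []⟩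
def c2044 : Clm := ⟨6, 6, true, [5,9,13,12,2,7,11,13,2], [3,8,13,12,13,12,8,12,2,4,3,6,13,12,8,13], 15, [([], 198, [3,5,11,12,13,10]), ([372,370], 1185, [1,12,13,10,12,9,12,13,10]), ([372,370], 1709, [1,9,13,10,12,13,12,13,10])], []⟩
def c2045 : Clm := ⟨6, 6, true, [5,8,11,12,8,11,10,2,13,7,12,4,12,8], [5,9,13,12,2,7,11,13,2], 5, [([], 2044, [])], []⟩
def c2046 : Clm := ⟨6, 6, true, [1,9,10,11,13,12,11,12,2,1,7,13,4], [5,8,11,12,8,11,10,2,13,7,12,4,12,8], 5, [([], 2045, [])], []⟩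
def c2047 : Clm := ⟨6, 6, true, [3,10,12,8,12,13,5,2,4,12,13,12,6], [12,11,10,12,2,1,11,5,12,11,2], 11, [([], 1110, [9,10,11,3,12,11,13,12]), ([373,370], 1960, [13,5,13,5]), ([], 198, [11,3,5,10,12])], []⟩
def c2048 : Clm := ⟨6, 6, true, [1,8,12,8,11,13,12,9,2,4,6,5,13,6,9], [3,10,12,8,12,13,5,2,4,12,13,12,6], 5, [([], 2047, [])], []⟩
def c2049 : Clm := ⟨6, 6, true, [8,12,13,12,9,12,11,2,1,4,12,8,13,2], [1,8,12,8,11,13,12,9,2,4,6,5,13,6,9], 5, [([], 2048, [])], []⟩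
def c2050 : Clm := ⟨6, 6, true, [3,10,12,9,13,5,12,13,2,6,13,12,7,7], [1,5,10,13,12,8,2,6,6,13,12,4,7], 11, [([], 1613, [13,12,8,13,12,9,11,10]), ([372], 1881, [5,9,10,13,3,12,9,11,10]), ([], 198, [3,13,12,8,13,12])], []⟩
def c2051 : Clm := ⟨6, 6, true, [8,11,12,11,13,12,2,6,13,7,13,2,1,13], [3,10,12,9,13,5,12,13,2,6,13,12,7,7], 5, [([], 2050, [])], []⟩
def c2052 : Clm := ⟨6, 6, true, [1,9,10,11,12,13,12,2,11,13,7,12,13], [8,11,12,11,13,12,2,6,13,7,13,2,1,13], 5, [([], 2051, [])], []⟩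
def c2053 : Clm := ⟨6, 5, true, [5,9,10,13,10,12,9,11,12,2,4,12,6,5,13,7,8], [8,10,12,9,13,12,13,2,6,13,10,12,6], 17, [([], 1460, [5,8,12,11,10]), ([372], 198, [3,5,9,10,12,13,5]), ([370], 490, [8,13,10,12,9,12,13,10,12])], []⟩
def c2054 : Clm := ⟨5, 6, true, [3,11,5,12,9,13,12,8,2,1,6,13,10,12,6], [5,9,10,13,10,12,9,11,12,2,4,12,6,5,13,7,8], 5, [([], 2053, [])], []⟩
def c2055 : Clm := ⟨6, 5, true, [1,13,12,9,13,12,11,2,13,2,7,11,13,12,6], [3,11,5,12,9,13,12,8,2,1,6,13,10,12,6], 5, [([], 2054, [])], []⟩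
def c2056 : Clm := ⟨6, 6, true, [5,9,10,11,12,11,13,2,4,3,13,12,11,2,3], [10,13,12,9,11,13,10,2,6,13,12,4], 11, [([], 638, [8,12,11,3,5,10,12,8]), ([372], 875, [1,5,8,13,10,12,11,12]), ([370], 198, [1,13,5,13,12,9,13,12])], []⟩
def c2057 : Clm := ⟨6, 6, true, [10,13,12,9,11,13,10,2,1,6,13,12,4,3], [5,9,10,11,12,11,13,2,4,3,13,12,11,2,3], 5, [([], 2056, [])], []⟩
def c2058 : Clm := ⟨6, 6, true, [1,5,9,12,13,10,12,9,12,2,11,12,7,13,2], [1,12,11,10,12,2,1,11,12,11,2], 11, [([], 1292, [1,9,12,8,13,10]), ([373,370], 618, [13,12,8,11,10,12,8,11]), ([370], 198, [1,3,10,12])], []⟩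
def c2059 : Clm := ⟨6, 6, true, [1,12,11,10,12,2,1,11,12,11,10,2], [1,5,9,12,13,10,12,9,12,2,11,12,7,13,2], 5, [([], 2058, [])], []⟩
def c2060 : Clm := ⟨6, 6, true, [1,5,9,12,13,10,12,9,12,2,11,12,7,13,10,2], [1,12,11,10,12,2,1,11,12,11,10,2], 5, [([], 2059, [])], []⟩
def c2061 : Clm := ⟨6, 6, true, [10,12,11,3,10,12,8,2,13,6,5,4,3], [8,10,13,12,8,11,13,2,4,12,13,12,13,10,4], 11, [([], 1925, [11,12,8,13,12,13,10]), ([373], 2046, [1,8,11,12,11,10,13]), ([372], 198, [11,3,13,12,9,11,10,12])], []⟩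
def c2062 : Clm := ⟨6, 6, true, [12,13,12,9,12,11,12,2,7,13,4,7,12,4], [10,12,11,3,10,12,8,2,13,6,5,4,3], 5, [([], 2061, [])], []⟩
def c2063 : Clm := ⟨6, 6, true, [8,13,10,13,10,12,2,1,7,13,2,7,12,4], [11,13,5,12,9,11,13,12,11,2,4,3,5,12,7,11], 11, [([], 739, [8,11,13,5,10,12,11,12,9]), ([373], 1923, [5,13,5,13]), ([], 198, [9,13,3,10,13,12,13])], []⟩
def c2064 : Clm := ⟨6, 6, true, [10,13,12,9,12,13,10,13,2,4,3,5,12,4], [8,13,10,13,10,12,2,1,7,13,2,7,12,4], 5, [([], 2063, [])], []⟩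
def c2065 : Clm := ⟨6, 6, true, [5,13,12,8,13,12,9,11,4,5,7,7,10,13,4], [1,10,11,5,12,9,11,12,11,2,11,13,6,5,13,10], 15, [([], 198, [1,5,9,12]), ([], 1124, [1,5,10,12,11,12,9,12]), ([372], 1060, [1,11,5,11,12,9,13,12])], []⟩
def c2066 : Clm := ⟨6, 6, true, [10,11,5,12,9,11,12,11,2,11,5,6,5,10,13], [5,13,12,8,13,12,9,11,4,5,7,7,10,13,4], 5, [([], 2065, [])], []⟩
def c2067 : Clm := ⟨6, 6, true, [8,13,12,9,12,13,10,11,2,13,5,7,7,13,4], [5,10,13,3,12,8,11,10,2,13,7], 15, [([], 198, [3,5,9,10,12,13]), ([], 1972, [1,5,9,13,12,11,10]), ([373], 471, [11,12,13,10,13,12,13,5])], []⟩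
def c2068 : Clm := ⟨6, 6, true, [5,10,13,3,12,8,11,2,1,13,7], [8,13,12,9,12,13,10,11,2,13,5,7,7,13,4], 5, [([], 2067, [])], []⟩
def c2069 : Clm := ⟨5, 6, true, [3,8,10,11,13,12,11,2,1,6,13,2,12,4,5], [3,9,10,11,13,12,8,11,10,2,4,7,13,12,6,9,13], 17, [([], 758, [5,9,12,13,12,13,10]), ([370], 198, [8,10,12,11,3,12]), ([372,370], 1999, [3,5,12])], []⟩
def c2070 : Clm := ⟨6, 5, true, [11,5,10,12,13,10,12,2,6,13,2,6,12,9,13], [3,8,10,11,13,12,11,2,1,6,13,2,12,4,5], 5, [([], 2069, [])], []⟩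
def c2071 : Clm := ⟨5, 6, true, [8,12,8,13,12,11,13,10,2,7,13,12,4,5,9,7], [11,5,10,12,13,10,12,2,6,13,2,6,12,9,13], 5, [([], 2070, [])], []⟩
def c2072 : Clm := ⟨6, 6, true, [1,5,9,10,12,11,2,7,11,13,12,4,8], [3,9,11,12,8,11,12,9,2,6,13,12,9,13,12], 15, [([], 198, [9,10,13,3,12]), ([], 349, [3,8,11,12,13,10,12,9,13]), ([227,253], 2030, [12,9,11,12,8,11])], []⟩
def c2073 : Clm := ⟨6, 6, true, [8,10,12,8,11,5,12,13,2,6,13,12,9,13,12], [1,5,9,10,12,11,2,7,11,13,12,4,8], 5, [([], 2072, [])], []⟩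
def c2074 : Clm := ⟨6, 6, true, [3,8,11,12,13,12,2,4,12,9,11,13,2,3], [8,10,12,8,11,5,12,13,2,6,13,12,9,13,12], 5, [([], 2073, [])], []⟩
def c2075 : Clm := ⟨6, 6, true, [1,10,11,13,12,11,10,12,9,2,4,13,7,9,10,13,12], [13,3,10,11,12,2,1,7,7,13,7,5,4], 11, [([], 1392, [1,5,10,12,11,12,8,12]), ([370], 1930, [3,12,13,12,8,13,10]), ([370], 198, [11,13,5,12,11,5])], []⟩
def c2076 : Clm := ⟨6, 6, true, [12,11,12,13,10,13,10,2,4,13,12,11,2,13,3], [1,10,11,13,12,11,10,12,9,2,4,13,7,9,10,13,12], 5, [([], 2075, [])], []⟩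
def c2077 : Clm := ⟨6, 6, true, [12,9,13,12,8,11,13,2,4,12,6,11,5,12,11], [9,12,11,10,13,12,8,2,4,5,7,12,13,3,7], 17, [([], 2009, [10,12,13,12,8,13,12]), ([], 198, [5,8,11,3,12,13,10]), ([373], 1624, [9,12,11,13,10,12,11,13])], []⟩
def c2078 : Clm := ⟨6, 6, true, [1,8,12,9,13,5,10,11,2,4,12,13,2,7,11], [12,9,13,12,8,11,13,2,4,12,6,11,5,12,11], 5, [([], 2077, [])], []⟩
def c2079 : Clm := ⟨6, 6, true, [12,9,13,12,8,11,13,10,2,4,5,7,13,6,6,5], [1,8,12,9,13,5,10,11,2,4,12,13,2,7,11], 5, [([], 2078, [])], []⟩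
def c2080 : Clm := ⟨6, 6, true, [12,13,12,9,11,12,8,2,4,13,7,5,13,7,12], [1,5,10,13,5,12,2,7,13,4,6,9,13], 11, [([], 1072, [3,12,9,13,5,12]), ([373,370], 2073, [5,9,13,10,12,8,11,12,9]), ([372], 198, [3,9,11,5,12,13])], []⟩
def c2081 : Clm := ⟨6, 6, true, [8,11,5,10,13,12,8,2,11,12,13,4,13,6], [12,13,12,9,11,12,8,2,4,13,7,5,13,7,12], 5, [([], 2080, [])], []⟩
def c2082 : Clm := ⟨6, 6, true, [12,13,12,8,11,10,2,7,13,12,4,5,9,6], [8,11,5,10,13,12,8,2,11,12,13,4,13,6], 5, [([], 2081, [])], []⟩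
def c2083 : Clm := ⟨6, 6, true, [5,8,13,12,9,13,12,11,13,2,1,4,5,7,7,13,2], [13,5,10,13,12,11,12,9,2,1,13,6,5,12,4], 15, [([], 198, [9,10,12,13,3,10]), ([373,370], 1001, [1,11,10,12,9,11,12,11]), ([372], 1873, [10,12,9,13,12,13,12])], []⟩
def c2084 : Clm := ⟨6, 6, true, [13,10,11,12,9,13,2,1,11,12,6,13,4], [5,8,13,12,9,13,12,11,13,2,1,4,5,7,7,13,2], 5, [([], 2083, [])], []⟩
def c2085 : Clm := ⟨6, 6, true, [5,11,12,13,12,13,2,1,13,12,6,9,13], [12,9,13,12,8,13,5,2,13,7,5,8,13,4], 11, [([], 1853, [5,8,12,11,10,12,9]), ([], 198, [8,11,3,10,13,12]), ([372], 917, [8,11,13,12,8,13,5])], []⟩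
def c2086 : Clm := ⟨6, 6, true, [1,9,12,9,11,5,12,13,10,2,7,13,2,12,13,6,12], [5,11,12,13,12,13,2,1,13,12,6,9,13], 5, [([], 2085, [])], []⟩
def c2087 : Clm := ⟨6, 6, true, [5,11,12,13,12,13,10,2,1,13,12,6,9,13], [1,9,12,9,11,5,12,13,10,2,7,13,2,12,13,6,12], 5, [([], 2086, [])], []⟩
def c2088 : Clm := ⟨6, 6, true, [11,12,9,13,12,8,13,10,2,1,13,2,12,7,13,4], [12,11,3,10,12,8,2,4,13,10,12,4,3], 13, [([], 878, [10,11,13,12,13,12,8,12]), ([372], 1428, [5,9,10,12,8,13,12,13]), ([], 198, [8,10,13,5,13,12,13,10])], []⟩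
def c2089 : Clm := ⟨6, 6, true, [5,11,12,13,12,8,2,13,2,12,4,13], [11,12,9,13,12,8,13,10,2,1,13,2,12,7,13,4], 5, [([], 2088, [])], []⟩
def c2090 : Clm := ⟨6, 6, true, [9,12,8,13,3,10,12,9,2,1,13,6,12,4,10], [12,11,5,12,11,13,2,4,5,12,13,6,5,12], 11, [([], 1853, [3,10,11,12,13]), ([], 198, [5,8,11,3,10,12]), ([372,370], 377, [12,11,13,10,12,9,11])], []⟩
def c2091 : Clm := ⟨6, 6, true, [5,8,11,10,12,9,11,12,11,2,7,11,12,4,13,5], [9,12,8,13,3,10,12,9,2,1,13,6,12,4,10], 5, [([], 2090, [])], []⟩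
def c2092 : Clm := ⟨6, 6, true, [8,10,13,12,8,13,2,4,12,6,13,3,10], [11,10,13,12,9,11,13,2,6,11,12,4,9], 13, [([], 1713, [3,8,11,12,13,10,13,12,8]), ([226,253,226], 322, [1,8,13,10,13,12,8,13,12]), ([], 198, [3,8,11,12])], []⟩
def c2093 : Clm := ⟨6, 6, true, [11,10,13,12,9,11,13,2,1,6,11,12,4,3,9], [8,10,13,12,8,13,2,4,12,6,13,3,10], 5, [([], 2092, [])], []⟩
def c2094 : Clm := ⟨5, 6, true, [1,9,13,10,11,12,9,2,1,11,12,4,3,7], [3,8,11,13,12,8,13,12,13,2,7,13,12,4,3,2], 11, [([], 317, [8,10,13,3,10,12,8,11,12]), ([], 198, [1,9,11,5,12]), ([], 2021, [1,5,13,5,11])], []⟩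
def c2095 : Clm := ⟨6, 5, true, [3,9,10,13,12,2,4,12,11,13,2,6,12], [1,9,13,10,11,12,9,2,1,11,12,4,3,7], 5, [([], 2094, [])], []⟩
def c2096 : Clm := ⟨6, 6, true, [1,10,13,10,12,9,11,2,6,9,13,2,7,5,9], [1,5,9,13,12,8,13,2,4,13,12,11,13,7], 11, [([], 1428, [5,9,11,12,13,10]), ([], 198, [9,11,3,13,12,13,10]), ([373], 524, [12,9,11,5,10,13,12,9])], []⟩
def c2097 : Clm := ⟨6, 6, true, [13,5,12,2,11,12,13,2,7,7], [1,10,13,10,12,9,11,2,6,9,13,2,7,5,9], 5, [([], 2096, [])], []⟩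
def c2098 : Clm := ⟨6, 6, true, [3,13,12,13,10,12,13,2,1,11,12,4,6,5,10], [13,5,12,2,11,12,13,2,7,7], 5, [([], 2097, [])], []⟩
def c2099 : Clm := ⟨5, 6, true, [1,8,10,11,10,2,1,11,12,4,3,7], [8,10,11,10,12,13,5,10,12,2,11,13,7,12,13], 11, [([], 317, [9,13,10,12,13,12,13,5]), ([], 198, [1,5,9,12]), ([370], 1974, [1,8,11,12,8,11,13,10,12])], []⟩
def c2100 : Clm := ⟨6, 5, true, [13,3,12,8,11,12,11,2,6,13,12,7,7], [1,8,10,11,10,2,1,11,12,4,3,7], 5, [([], 2099, [])], []⟩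
def c2101 : Clm := ⟨6, 6, true, [1,13,5,12,8,11,5,2,6,13,5,6,8,13], [11,12,13,12,9,12,11,12,2,1,4,12,13,4], 13, [([], 1046, [9,10,13,12,8,11,10,12]), ([372,370], 2052, [10,11,12,13,10,12,8,12]), ([372], 198, [9,10,13,3,5,12])], []⟩
def c2102 : Clm := ⟨6, 6, true, [11,12,13,12,9,12,11,12,2,4,12,11,13,4], [1,13,5,12,8,11,5,2,6,13,5,6,8,13], 5, [([], 2101, [])], []⟩
def c2103 : Clm := ⟨6, 5, true, [1,8,12,8,11,12,8,11,12,2,4,5,7,13,7,10,2], [3,9,10,12,8,13,10,12,13,2,4,5,13,7,13,10,2], 11, [([], 2052, [3,8,13,5,10,13,12]), ([372], 198, [3,9,11,13,10,12]), ([372], 490, [1,8,10,11,12,13,12,9,12])], []⟩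
def c2104 : Clm := ⟨5, 6, true, [3,9,10,12,8,13,10,12,13,2,4,5,13,7,13,2], [1,8,12,8,11,12,8,11,12,2,4,5,7,13,7,10,2], 5, [([], 2103, [])], []⟩
def c2105 : Clm := ⟨6, 6, true, [8,11,13,5,12,9,11,12,11,2,1,13,2,7,9,13,6], [5,9,12,11,12,9,11,10,13,2,4,6,13,3,7,9], 13, [([], 1091, [5,9,10,12,8,13,10]), ([111,111,96], 270, [3,8,10,13,12,9,13]), ([], 198, [12,13,3,5,12])], []⟩
def c2106 : Clm := ⟨6, 6, true, [5,9,12,11,5,10,12,8,11,2,4,7,13,6,13], [8,11,13,5,12,9,11,12,11,2,1,13,2,7,9,13,6], 5, [([], 2105, [])], []⟩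
def c2107 : Clm := ⟨6, 6, true, [1,5,9,13,10,12,11,10,12,2,7,13], [3,10,11,5,12,8,2,4,12,8,13,2,7], 17, [([], 198, [5,13,3,10,12]), ([], 2049, [5,13,5,13]), ([372], 1794, [8,13,12,9,12,11,13,12,13])], []⟩
def c2108 : Clm := ⟨6, 6, true, [1,5,12,9,13,5,10,12,11,2,4,12,4,13,5,12], [1,5,9,13,10,12,11,10,12,2,7,13], 5, [([], 2107, [])], []⟩
def c2109 : Clm := ⟨6, 6, true, [1,5,9,13,10,12,11,12,2,1,7,13], [1,5,12,9,13,5,10,12,11,2,4,12,4,13,5,12], 5, [([], 2108, [])], []⟩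
def c2110 : Clm := ⟨6, 6, true, [5,9,11,3,10,12,11,12,2,1,7,13], [5,12,11,13,10,12,13,2,4,7,9,13,3,12,7], 17, [([], 198, [10,12,11,3,5]), ([], 1756, [1,5,9,12,11,13,12,9]), ([372,370], 1477, [3,12,8,12,11,12,9,11])], []⟩
def c2111 : Clm := ⟨6, 6, true, [5,12,11,13,10,12,13,2,1,4,7,9,13,12,7], [5,9,11,3,10,12,11,12,2,1,7,13], 5, [([], 2110, [])], []⟩
def c2112 : Clm := ⟨6, 6, true, [1,9,13,12,13,5,10,11,12,2,7,13], [5,12,11,13,10,12,13,2,1,4,7,9,13,12,7], 5, [([], 2111, [])], []⟩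
def c2113 : Clm := ⟨5, 6, true, [12,8,12,11,13,2,1,4,12,13,2,7], [5,8,10,12,11,5,12,2,4,7,5,13,7,13,10], 11, [([], 322, [1,9,12,13,5,10,13,12,11]), ([], 198, [1,8,12]), ([372], 521, [9,10,11,12,11,12,13])], []⟩
def c2114 : Clm := ⟨6, 5, true, [10,11,13,12,8,11,10,12,13,2,1,6,13,2,7,5,11], [12,8,12,11,13,2,1,4,12,13,2,7], 5, [([], 2113, [])], []⟩
def c2115 : Clm := ⟨5, 6, true, [12,11,12,9,11,5,10,13,2,4,12,13,12,7,9], [10,11,13,12,8,11,10,12,13,2,1,6,13,2,7,5,11], 5, [([], 2114, [])], []⟩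
def c2116 : Clm := ⟨6, 6, true, [1,9,13,10,12,13,10,12,13,2,4,12,13,6,12,11,5], [9,13,10,12,8,11,12,11,2,11,13,7,5,9], 11, [([], 2112, [3,8,10,12,11,10,12,9]), ([], 198, [3,10,11,5,12]), ([372], 1246, [13,10,11,12,8,13,12])], []⟩
def c2117 : Clm := ⟨6, 6, true, [1,11,13,5,12,8,13,12,9,2,11,13,7,5,9], [1,9,13,10,12,13,10,12,13,2,4,12,13,6,12,11,5], 5, [([], 2116, [])], []⟩
def c2118 : Clm := ⟨6, 6, true, [1,9,11,10,12,11,12,13,2,1,13,2,12,13,6,5,12], [1,11,13,5,12,8,13,12,9,2,11,13,7,5,9], 5, [([], 2117, [])], []⟩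
def c2119 : Clm := ⟨5, 6, true, [11,12,13,12,9,13,12,4,6,10,12,4,5], [12,11,3,12,8,12,2,4,6,9,13,12,6,13], 13, [([], 409, [3,11,5,12,8,13,12,8,11]), ([373], 1428, [1,9,12,13,10,13,12,9,11]), ([], 198, [3,13,5,10,12,13,12])], []⟩
def c2120 : Clm := ⟨6, 5, true, [12,11,10,12,11,10,12,2,13,12,4,10,13,4], [11,12,13,12,9,13,12,4,6,10,12,4,5], 5, [([], 2119, [])], []⟩
def c2121 : Clm := ⟨6, 6, true, [3,5,10,11,12,13,2,1,6,13,12,4,5,12,9], [3,10,11,5,12,8,2,6,11,12,4,9], 13, [([], 1934, [1,9,12,8,11,12,11]), ([], 1038, [9,12,13,10,12,9,11,13]), ([372], 198, [11,3,13,12])], []⟩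
def c2122 : Clm := ⟨6, 6, true, [3,10,11,5,12,8,2,1,6,11,12,4,3,9], [3,5,10,11,12,13,2,1,6,13,12,4,5,12,9], 5, [([], 2121, [])], []⟩
def c2123 : Clm := ⟨5, 6, true, [9,10,11,12,9,2,13,6,12,4,3,13], [1,8,11,5,12,13,12,2,4,12,8,13,3,7], 11, [([], 317, [1,9,11,5,12,11,10]), ([], 198, [9,11,5,11,12]), ([372,370], 1124, [11,12,9,13,10,11,12])], []⟩
def c2124 : Clm := ⟨6, 5, true, [1,8,11,5,12,13,12,2,1,4,12,8,13,7], [9,10,11,12,9,2,13,6,12,4,3,13], 5, [([], 2123, [])], []⟩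
def c2125 : Clm := ⟨5, 6, true, [9,10,11,12,9,2,13,6,12,4,13], [1,8,11,5,12,13,12,2,1,4,12,8,13,7], 5, [([], 2124, [])], []⟩
def c2126 : Clm := ⟨5, 6, true, [9,10,11,3,12,9,11,2,6,6,13,4,6,10], [10,13,3,12,8,13,12,11,2,6,9,13,5,12,11], 11, [([], 317, [1,12,11,10,12,9,11,13,12]), ([], 198, [5,9,11,3,12]), ([372,370], 2082, [1,5,13,5,11])], []⟩
def c2127 : Clm := ⟨6, 5, true, [1,9,12,13,10,12,9,12,11,2,6,9,13,5,12,11], [9,10,11,3,12,9,11,2,6,6,13,4,6,10], 5, [([], 2126, [])], []⟩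
def c2128 : Clm := ⟨5, 6, true, [8,11,13,12,11,12,9,2,13,2,7,7,13,2], [1,9,10,11,12,13,10,12,2,7,13,12,13,4,10,4], 11, [([], 317, [8,12,11,10,13,12,9,13,12]), ([], 198, [12,8,11,3,12]), ([372,370], 2052, [3,11,12,9,13,12,13,12,8,12])], []⟩
def c2129 : Clm := ⟨6, 5, true, [11,13,12,9,13,10,12,13,2,4,5,6,11,13,7,7], [8,11,13,12,11,12,9,2,13,2,7,7,13,2], 5, [([], 2128, [])], []⟩
def c2130 : Clm := ⟨6, 6, true, [11,5,10,13,12,2,4,3,12,4,5,12], [3,11,12,9,11,12,8,2,11,12,11,13,7,9], 11, [([], 2052, [3,5,9,11,12,9,13,12]), ([372], 198, [3,9,10,11,5,12]), ([], 618, [3,5,9,11,5,10])], []⟩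
def c2131 : Clm := ⟨6, 6, true, [5,13,12,13,10,12,2,7,7,13,6,5,9], [11,5,10,13,12,2,4,3,12,4,5,12], 5, [([], 2130, [])], []⟩
def c2132 : Clm := ⟨6, 6, true, [3,9,12,13,5,2,4,6,13,3,12,13,2], [12,9,11,10,12,8,2,4,13,7,13,7,12,8], 11, [([], 2112, [1,9,10,13,12,13,10,12,8]), ([], 198, [5,10,11,12]), ([], 1717, [1,8,12,11,10,12,13,5])], []⟩
def c2133 : Clm := ⟨6, 6, true, [8,12,13,10,11,12,11,5,2,7,13,2,6,6,12], [3,9,12,13,5,2,4,6,13,3,12,13,2], 5, [([], 2132, [])], []⟩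
def c2134 : Clm := ⟨6, 6, true, [9,10,12,13,12,8,11,10,2,1,7,13,2,6,6], [5,11,5,12,9,13,12,8,13,2,4,13,12,13,2,6,5], 13, [([], 949, [9,12,11,5,11]), ([370], 2109, [1,13,12,13,10,13,10]), ([], 198, [3,10,13,10,13,12])], []⟩
def c2135 : Clm := ⟨6, 6, true, [1,8,12,8,11,13,2,6,13,6,8,12,4,12], [9,10,12,13,12,8,11,10,2,1,7,13,2,6,6], 5, [([], 2134, [])], []⟩
def c2136 : Clm := ⟨6, 6, true, [5,9,13,5,13,2,1,13,4,12,6,13,4], [11,13,12,13,12,8,12,11,2,4,12,13,3], 11, [([], 2052, [8,12,11,3,5,10,12,8,11]), ([372], 198, [3,10,12,8,11,12]), ([], 1775, [9,12,13,10,12,13,12,9])], []⟩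
def c2137 : Clm := ⟨6, 6, true, [11,13,12,13,12,8,12,11,2,1,4,12,13], [5,9,13,5,13,2,1,13,4,12,6,13,4], 5, [([], 2136, [])], []⟩
def c2138 : Clm := ⟨6, 6, true, [1,13,12,9,13,10,12,9,11,4,5,10,12,4,8], [5,10,11,5,12,11,13,2,6,13,7,5,4,6], 13, [([], 1025, [12,9,11,12,8,11,12,11,13]), ([], 283, [1,5,10,13,5,12,13,10]), ([370], 198, [13,5,13,12])], []⟩
def c2139 : Clm := ⟨6, 6, true, [3,8,12,13,5,10,12,9,13,2,13,12,7,13,10,4], [1,13,12,9,13,10,12,9,11,4,5,10,12,4,8], 5, [([], 2138, [])], []⟩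
def c2140 : Clm := ⟨6, 6, true, [11,12,9,13,12,13,10,2,6,13,5,7,10], [3,8,12,13,5,10,12,9,13,2,13,12,7,13,10,4], 5, [([], 2139, [])], []⟩
def c2141 : Clm := ⟨6, 6, true, [8,10,12,13,10,13,12,8,13,2,6,13,2,6,12,4,5], [1,11,13,5,12,9,13,10,2,13,12,4,3,5,7], 11, [([], 1853, [5,9,12,13,12,8,11,10]), ([], 198, [3,8,10,11,10,12]), ([372], 551, [3,13,10,11,12,9,11,12])], []⟩
def c2142 : Clm := ⟨6, 6, true, [1,11,13,5,12,9,13,10,2,1,13,12,4,5,7], [8,10,12,13,10,13,12,8,13,2,6,13,2,6,12,4,5], 5, [([], 2141, [])], []⟩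
def c2143 : Clm := ⟨6, 6, true, [3,12,8,13,5,10,12,13,2,1,6,6,13,7,12,9], [10,12,11,12,8,13,12,9,2,13,2,12,7,13], 13, [([], 1506, [9,11,10,12,13,10,13]), ([], 1428, [5,12,8,11,5,12,13,10]), ([], 198, [13,5,13,12,13,10])], []⟩
def c2144 : Clm := ⟨6, 6, true, [3,12,11,12,11,10,2,4,5,11,12,4], [3,12,8,13,5,10,12,13,2,1,6,6,13,7,12,9], 5, [([], 2143, [])], []⟩
def c2145 : Clm := ⟨6, 6, true, [1,13,12,8,11,10,12,9,11,2,1,7,13,5,7,5], [1,5,8,11,10,12,8,2,4,12,6,11,13], 17, [([], 198, [3,9,13,10,11,12]), ([], 797, [5,9,10,11,5,13]), ([373,370], 1893, [5,12,9,13,5,10,11,12])], []⟩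
def c2146 : Clm := ⟨6, 6, true, [1,5,8,11,10,12,8,2,4,12,6,11,3,13], [1,13,12,8,11,10,12,9,11,2,1,7,13,5,7,5], 5, [([], 2145, [])], []⟩
def c2147 : Clm := ⟨6, 6, true, [3,8,12,9,11,5,10,12,13,2,7,13,5,7,5], [1,5,8,11,10,12,8,2,4,12,6,11,3,13], 5, [([], 2146, [])], []⟩
def c2148 : Clm := ⟨6, 6, true, [1,12,9,12,13,10,12,13,2,4,5,13,7,5,13,7], [3,9,12,8,11,13,10,12,11,13,2,1,4,6,13,6], 11, [([], 1853, [3,10,11,5,12,13]), ([], 198, [3,8,13,5,10,12]), ([370], 1211, [1,10,11,13,12,11,12,9])], []⟩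
def c2149 : Clm := ⟨6, 6, true, [3,9,12,8,11,13,10,12,11,13,2,4,6,13,3,6], [1,12,9,12,13,10,12,13,2,4,5,13,7,5,13,7], 5, [([], 2148, [])], []⟩
def c2150 : Clm := ⟨6, 6, true, [10,11,13,5,12,13,12,2,1,13,12,6,9], [5,9,11,12,9,13,10,12,2,11,13,7,5,4,8], 11, [([], 1853, [8,12,13,5,12,9,13,10]), ([], 198, [3,8,11,10,13,12]), ([372], 936, [1,12,8,11,10,13,12,11])], []⟩
def c2151 : Clm := ⟨6, 6, true, [9,13,12,8,11,12,9,2,1,7,13,5,7,12,4], [10,11,13,5,12,13,12,2,1,13,12,6,9], 5, [([], 2150, [])], []⟩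
def c2152 : Clm := ⟨6, 6, true, [11,13,12,9,11,13,10,2,7,7,13,10,2,12], [8,11,12,11,13,12,9,2,4,3,5,12,13,4], 13, [([], 1914, [1,8,10,13,10,12,11,13,12]), ([373,370], 2109, [9,10,12,13,12,8,13,10]), ([], 198, [1,10,13,10,12])], []⟩
def c2153 : Clm := ⟨6, 6, true, [8,11,12,9,11,13,5,12,2,4,5,7,12,13,5], [11,13,12,9,11,13,10,2,7,7,13,10,2,12], 5, [([], 2152, [])], []⟩
def c2154 : Clm := ⟨6, 6, true, [11,12,11,5,10,13,12,9,13,2,6,13,12,4,12], [1,13,10,13,10,12,2,7,9,13,12,4,5,11], 11, [([], 1428, [11,12,8,11,12,9,13,10]), ([], 198, [3,8,11,13,10,12,13,10]), ([373], 738, [1,12,13,10,12,8,12,13])], []⟩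
def c2155 : Clm := ⟨6, 6, true, [5,10,11,3,12,2,13,12,4,6,9,13,5], [11,12,11,5,10,13,12,9,13,2,6,13,12,4,12], 5, [([], 2154, [])], []⟩
def c2156 : Clm := ⟨6, 6, true, [11,12,11,5,10,13,12,9,13,2,1,6,13,12,4,3,12], [5,10,11,3,12,2,13,12,4,6,9,13,5], 5, [([], 2155, [])], []⟩
def c2157 : Clm := ⟨6, 6, true, [1,12,9,11,13,12,9,13,2,13,12,13,2,7,9], [11,12,13,12,9,12,11,12,2,1,4,5,12,13,4], 13, [([], 1370, [12,11,12,13,10,13]), ([370], 2052, [3,5,13,10,12,8,12,11,12]), ([372], 198, [3,5,9,10,11,12])], []⟩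
def c2158 : Clm := ⟨6, 6, true, [11,12,13,12,9,12,11,12,2,4,5,12,11,13,4], [1,12,9,11,13,12,9,13,2,13,12,13,2,7,9], 5, [([], 2157, [])], []⟩
def c2159 : Clm := ⟨6, 6, true, [1,9,12,11,5,12,13,10,2,4,6,13,12,6,11,2], [9,12,11,12,8,12,13,2,4,6,9,13,12,6], 13, [([], 251, [1,12,8,11,5,11,12,9,13]), ([372], 2147, [12,8,11,12,9,11,12]), ([], 198, [3,9,11,5,10,12])], []⟩
def c2160 : Clm := ⟨6, 6, true, [9,12,11,12,8,12,13,2,4,3,6,9,13,12,6], [1,9,12,11,5,12,13,10,2,4,6,13,12,6,11,2], 5, [([], 2159, [])], []⟩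
def c2161 : Clm := ⟨6, 6, true, [10,13,5,12,9,11,10,2,6,11,13,12,4,7], [9,12,11,12,8,12,13,2,4,3,6,9,13,12,6], 5, [([], 2160, [])], []⟩
def c2162 : Clm := ⟨6, 6, true, [5,9,13,12,8,13,2,4,12,13,6,5,9], [12,13,10,12,13,10,12,11,2,1,4,5], 13, [([], 1490, [5,9,13,5,10,12,11,12,8]), ([], 2109, [5,12,11,13,12,8,13,12,9,13]), ([], 198, [13,3,10,11,12])], []⟩
def c2163 : Clm := ⟨6, 6, true, [12,13,10,12,13,10,12,11,2,4,3,5], [5,9,13,12,8,13,2,4,12,13,6,5,9], 5, [([], 2162, [])], []⟩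
def c2164 : Clm := ⟨6, 6, true, [3,12,9,11,5,10,13,2,4,5,11,12,13,2,1], [8,10,13,3,5,12,11,10,4,10,12,13,4,6], 11, [([], 1853, [1,8,13,5,12,11,10,12,9]), ([], 198, [8,10,13,5,10,12]), ([], 2006, [1,5,13,5])], []⟩
def c2165 : Clm := ⟨6, 6, true, [5,8,11,4,5,10,12,4,6], [3,12,9,11,5,10,13,2,4,5,11,12,13,2,1], 5, [([], 2164, [])], []⟩
def c2166 : Clm := ⟨6, 6, true, [10,13,5,12,8,11,2,4,5,11,12,6,11], [3,5,8,10,11,12,8,11,2,1,4,5], 13, [([], 670, [13,5,13,5,12,9]), ([373], 2052, [10,11,13,12,11,10,12,8,12]), ([372], 198, [9,10,11,3,5,12])], []⟩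
def c2167 : Clm := ⟨6, 6, true, [3,5,8,10,11,12,8,11,2,4,3,5], [10,13,5,12,8,11,2,4,5,11,12,6,11], 5, [([], 2166, [])], []⟩
def c2168 : Clm := ⟨6, 6, true, [12,9,11,5,12,13,5,13,2,7,13,5,12,13,2,11], [3,13,12,9,13,12,8,2,11,12,7,8], 11, [([], 2112, [13,5,12,11,5]), ([], 198, [3,10,11,13,5,12,13]), ([372,370], 2060, [1,5,13,5,11])], []⟩
def c2169 : Clm := ⟨6, 6, true, [3,13,12,9,13,10,12,8,2,1,11,12,7,8], [12,9,11,5,12,13,5,13,2,7,13,5,12,13,2,11], 5, [([], 2168, [])], []⟩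
def c2170 : Clm := ⟨6, 6, true, [1,10,12,13,12,9,13,2,4,13,7,12,13,7,8], [1,9,13,5,10,13,2,4,12,11,12,6], 13, [([], 443, [3,5,8,10,11,13]), ([253,226], 317, [13,10,13,12,9,11,12]), ([], 198, [3,9,13,5,12])], []⟩
def c2171 : Clm := ⟨6, 6, true, [1,9,13,5,10,13,2,4,3,12,11,12,6], [1,10,12,13,12,9,13,2,4,13,7,12,13,7,8], 5, [([], 2170, [])], []⟩
def c2172 : Clm := ⟨4, 6, true, [3,13,12,9,13,2,6,9,13,2,12,13,10], [10,13,5,12,11,5,11,2,6,13,7,5,4,6], 13, [([], 302, [5,9,11,12,11,13,5,12,9,11]), ([], 283, [5,8,11,12,9,12,13,12]), ([370], 198, [5,11,3,12])], []⟩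
def c2173 : Clm := ⟨6, 4, true, [8,12,13,3,5,10,12,9,13,2,13,12,7,13,10,4], [3,13,12,9,13,2,6,9,13,2,12,13,10], 5, [([], 2172, [])], []⟩
def c2174 : Clm := ⟨6, 6, true, [10,12,13,3,10,12,2,11,13,2,6,13], [9,12,11,12,8,11,12,13,2,4,6,9,13,12,6], 13, [([], 1940, [9,11,3,12,9,13]), ([], 2147, [8,10,11,12,11,12,9,13,10]), ([], 198, [9,11,3,5,10,12])], []⟩
def c2175 : Clm := ⟨6, 6, true, [9,12,11,12,8,11,12,13,2,4,3,6,9,13,12,6], [10,12,13,3,10,12,2,11,13,2,6,13], 5, [([], 2174, [])], []⟩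
def c2176 : Clm := ⟨6, 6, true, [1,5,10,13,5,12,13,10,12,2,13,4,6,13], [9,12,11,12,8,11,12,13,2,4,3,6,9,13,12,6], 5, [([], 2175, [])], []⟩
def c2177 : Clm := ⟨6, 6, true, [8,11,12,13,10,13,12,8,2,1,4,7,13,12,4,12], [3,9,12,11,12,13,10,13,12,2,1,13,2,5,12,7,13], 11, [([], 2109, [1,9,10,12,13,12,8,11,10]), ([], 198, [13,3,10,13,12]), ([373], 1049, [9,13,12,8,11,12,8,11])], []⟩
def c2178 : Clm := ⟨6, 6, true, [5,8,12,11,5,11,12,8,11,2,4,5,11,12,7,13], [8,11,12,13,10,13,12,8,2,1,4,7,13,12,4,12], 5, [([], 2177, [])], []⟩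
def c2179 : Clm := ⟨6, 6, true, [5,8,10,12,9,13,3,2,1,11,5,12,13,2,3], [10,12,13,12,11,10,13,2,1,4,6,12,11,5], 13, [([], 2106, [12,8,11,5,11,12,8,11]), ([372], 2109, [13,10,11,12,11,13,12]), ([], 198, [12,13,3,10,12])], []⟩
def c2180 : Clm := ⟨6, 6, true, [10,12,13,12,11,10,13,2,4,6,12,11,3,5], [5,8,10,12,9,13,3,2,1,11,5,12,13,2,3], 5, [([], 2179, [])], []⟩
def c2181 : Clm := ⟨6, 6, true, [5,8,10,12,9,13,3,2,1,11,5,12,13,2,1], [10,12,13,12,11,10,13,2,4,6,12,11,3,5], 5, [([], 2180, [])], []⟩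
def c2182 : Clm := ⟨6, 6, true, [1,5,12,13,5,12,11,10,2,1,13,6,13], [8,11,5,12,9,11,10,12,2,13,2,12,7,8], 13, [([], 1033, [8,13,3,5,12,9,13,10]), ([], 2052, [1,5,8,12,13,5,12,8,11]), ([372], 198, [10,12,8,11,3,12])], []⟩
def c2183 : Clm := ⟨6, 6, true, [1,12,8,13,5,12,11,2,1,4,13,7,5,7], [1,5,12,13,5,12,11,10,2,1,13,6,13], 5, [([], 2182, [])], []⟩
def c2184 : Clm := ⟨6, 6, true, [3,12,9,11,12,8,11,10,13,2,13,2,1,7,12,4], [1,10,12,9,13,10,12,13,10,2,7,13,12,13,6], 13, [([], 2149, [1,9,12,11,10,12]), ([373,370], 2147, [5,12,11,10,12,13,12]), ([], 198, [1,12,9,13,10,13,12,11])], []⟩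
def c2185 : Clm := ⟨6, 6, true, [1,10,12,9,13,10,12,13,2,7,13,12,13,6], [3,12,9,11,12,8,11,10,13,2,13,2,1,7,12,4], 5, [([], 2184, [])], []⟩
def c2186 : Clm := ⟨6, 6, true, [1,9,10,12,13,2,6,13,5,12,11,13,2], [5,10,12,8,13,12,8,11,2,11,12,13,4,6,12,9], 11, [([], 2109, [1,13,5,13]), ([], 198, [11,3,5,10,12]), ([372], 2155, [9,11,3,5,12,11])], []⟩
def c2187 : Clm := ⟨6, 6, true, [1,5,8,10,11,5,12,11,2,4,5,7,13,12,4], [1,9,10,12,13,2,6,13,5,12,11,13,2], 5, [([], 2186, [])], []⟩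
def c2188 : Clm := ⟨6, 6, true, [3,5,10,12,13,5,12,11,2,11,12,4,7,13,10,12], [8,10,13,12,9,12,11,12,13,2,6,13,2,7,12,9], 11, [([], 2052, [11,12,11,13,12,8,13,12]), ([372], 198, [9,10,12,13,3,5]), ([], 1972, [1,9,11,5,12,11,10])], []⟩
def c2189 : Clm := ⟨6, 6, true, [8,10,13,12,9,12,11,12,13,2,6,13,7,10,2,12,9], [3,5,10,12,13,5,12,11,2,11,12,4,7,13,10,12], 5, [([], 2188, [])], []⟩
def c2190 : Clm := ⟨6, 6, true, [1,5,10,13,2,4,6,6,13,12,4,13], [8,10,13,12,9,12,11,12,13,2,6,13,7,10,2,12,9], 5, [([], 2189, [])], []⟩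
def c2191 : Clm := ⟨5, 6, true, [13,5,10,11,12,11,13,12,9,2,6,13,12,4,6], [9,12,11,3,5,10,12,8,13,2,4,12,11,12,6], 13, [([], 322, [12,11,12,8,12,13,12]), ([], 283, [10,12,9,13,12,11,10,12,8]), ([370], 198, [3,13,5,12])], []⟩
def c2192 : Clm := ⟨6, 5, true, [9,12,11,3,5,10,12,8,13,2,4,3,12,11,12,6], [13,5,10,11,12,11,13,12,9,2,6,13,12,4,6], 5, [([], 2191, [])], []⟩
def c2193 : Clm := ⟨6, 6, true, [3,9,12,9,11,2,4,12,6,11,13,5], [11,5,11,12,13,12,9,2,13,12,13,2,11,3,5], 13, [([], 1036, [1,5,13,12,8,11,10,12]), ([370], 2147, [9,10,13,12,13,10,12,8]), ([], 198, [5,9,11,5,10,12])], []⟩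
def c2194 : Clm := ⟨6, 6, true, [3,8,10,13,12,13,10,2,4,12,8,11,13,12,4], [3,9,12,9,11,2,4,12,6,11,13,5], 5, [([], 2193, [])], []⟩
def c2195 : Clm := ⟨6, 6, true, [10,13,3,10,12,9,11,10,2,4,5,7,9,13,2], [3,8,10,13,12,13,10,2,4,12,8,11,13,12,4], 5, [([], 2194, [])], []⟩
def c2196 : Clm := ⟨5, 6, true, [1,10,13,10,12,9,2,4,12,4,13,12,4,8], [1,8,12,13,10,12,8,11,2,1,13,12,4,7,9], 13, [([227,253], 154, [3,10,12,9,11,13,5]), ([226,253], 322, [13,12,13,12,9,12,13,10]), ([], 198, [5,8,13,3,5,12])], []⟩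
def c2197 : Clm := ⟨6, 5, true, [1,8,12,13,10,12,8,11,2,13,12,4,3,7,9], [1,10,13,10,12,9,2,4,12,4,13,12,4,8], 5, [([], 2196, [])], []⟩
def c2198 : Clm := ⟨6, 5, true, [3,12,11,5,12,9,11,10,2,4,3,12,4,12,4], [3,13,12,11,10,12,11,2,1,13,4,7], 13, [([], 2052, [1,8,11,13,10,12,8,11,13]), ([372], 198, [3,9,12,9,13,12,11,10]), ([], 1850, [8,12,11,12,8])], []⟩
def c2199 : Clm := ⟨5, 6, true, [5,11,12,13,12,13,5,2,11,13,2,7], [3,12,11,5,12,9,11,10,2,4,3,12,4,12,4], 5, [([], 2198, [])], []⟩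
def c2200 : Clm := ⟨6, 5, true, [5,8,12,9,13,12,9,11,2,4,7,13,12,7,13], [5,11,12,13,12,13,5,2,11,13,2,7], 5, [([], 2199, [])], []⟩
def c2201 : Clm := ⟨6, 6, true, [3,11,13,12,11,10,12,9,2,4,3,7,13,12,7,9], [5,10,12,11,5,12,11,2,1,4,6,9,12], 13, [([], 2147, [11,12,8,12,13,10]), ([], 198, [11,3,10,12,8,11,12]), ([], 1952, [8,12,11,3,13,12,9,13])], []⟩
def c2202 : Clm := ⟨6, 6, true, [5,10,12,11,5,12,11,2,4,3,6,9,12], [3,11,13,12,11,10,12,9,2,4,3,7,13,12,7,9], 5, [([], 2201, [])], []⟩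
def c2203 : Clm := ⟨6, 6, true, [8,12,9,11,12,13,10,2,6,13,7,13,7,12], [12,8,11,12,9,12,13,2,11,13,7,5,4,3], 13, [([], 2052, [3,11,12,8,13,10,11,12,11]), ([372], 198, [5,9,10,13,3,12]), ([], 1891, [5,9,11,13,12,13,5,12,8])], []⟩
def c2204 : Clm := ⟨6, 6, true, [12,8,11,12,9,12,13,2,1,11,13,7,5,4], [8,12,9,11,12,13,10,2,6,13,7,13,7,12], 5, [([], 2203, [])], []⟩
def c2205 : Clm := ⟨6, 6, true, [8,12,9,11,12,13,2,6,13,7,13,7,12], [12,8,11,12,9,12,13,2,1,11,13,7,5,4], 5, [([], 2204, [])], []⟩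
def c2206 : Clm := ⟨6, 6, true, [5,10,11,12,11,12,13,2,6,9,11,10], [3,9,10,13,12,8,13,10,2,11,5,4,6,13], 13, [([], 283, [13,3,5,12,8,11,12]), ([], 198, [8,12,8,11,3,12]), ([372,370], 1891, [8,11,3,12,11,13,12,9,13])], []⟩
def c2207 : Clm := ⟨6, 6, true, [8,12,11,5,10,12,9,13,12,2,1,13,2,6,13], [5,10,11,12,11,12,13,2,6,9,11,10], 5, [([], 2206, [])], []⟩
def c2208 : Clm := ⟨6, 6, true, [3,10,12,13,10,12,11,13,2,1,6,9,11,10], [8,12,11,5,10,12,9,13,12,2,1,13,2,6,13], 5, [([], 2207, [])], []⟩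
def c2209 : Clm := ⟨5, 6, true, [3,8,11,12,11,10,12,9,11,2,1,13,6,5,4,9], [1,9,10,13,12,8,13,2,11,13,12,4,3,6], 13, [([], 322, [1,12,8,13,12]), ([], 198, [5,12,9,11,3,12]), ([372,370], 1891, [3,5,13,5,12,13,12])], []⟩
def c2210 : Clm := ⟨6, 5, true, [1,9,10,13,12,8,13,2,1,11,13,12,4,6], [3,8,11,12,11,10,12,9,11,2,1,13,6,5,4,9], 5, [([], 2209, [])], []⟩
def c2211 : Clm := ⟨5, 6, true, [3,8,11,12,11,10,12,9,11,2,13,6,5,4,3,9], [1,9,10,13,12,8,13,2,1,11,13,12,4,6], 5, [([], 2210, [])], []⟩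
def c2212 : Clm := ⟨6, 5, true, [9,10,12,11,12,13,2,7,13,6,13,4,12], [3,13,12,11,10,12,11,12,2,13,4,7,9,13], 13, [([], 2147, [8,10,12,13,5,12,9,11]), ([], 198, [8,12,8,13,3,10,12]), ([], 1850, [1,5,13,5,12,11,12,8])], []⟩
def c2213 : Clm := ⟨5, 6, true, [10,12,13,10,12,13,10,12,2,11,13,2,7,9,13], [9,10,12,11,12,13,2,7,13,6,13,4,12], 5, [([], 2212, [])], []⟩
def c2214 : Clm := ⟨6, 5, true, [3,9,10,13,12,11,10,2,11,13,12,4,12,13], [10,12,13,10,12,13,10,12,2,11,13,2,7,9,13], 5, [([], 2213, [])], []⟩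
def c2215 : Clm := ⟨5, 6, true, [12,13,3,10,12,8,11,12,2,6,13,6,12,4,8], [1,5,8,12,11,12,8,12,13,2,1,6,11,12], 13, [([], 322, [12,8,13,3,12]), ([], 198, [5,12,9,11,3,12,13]), ([372,370], 1856, [5,11,5,12,11,12,8,11])], []⟩
def c2216 : Clm := ⟨6, 5, true, [3,10,11,12,9,11,5,12,2,6,11,12], [12,13,3,10,12,8,11,12,2,6,13,6,12,4,8], 5, [([], 2215, [])], []⟩
def c2217 : Clm := ⟨5, 6, true, [3,8,12,11,10,12,9,11,10,2,11,5,6,9,13,4], [3,10,11,12,9,11,5,12,2,6,11,12], 5, [([], 2216, [])], []⟩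
def c2218 : Clm := ⟨6, 6, true, [3,9,12,13,12,9,2,1,4,12,7,13,12,4], [8,10,12,11,5,12,11,13,10,2,4,12,4,13,6,10,13], 13, [([], 1428, [11,5,11,12,8,12,13]), ([], 198, [10,12,11,3,10]), ([372,370], 1856, [1,10,11,12,11,10,13])], []⟩
def c2219 : Clm := ⟨6, 6, true, [1,5,10,11,5,12,11,10,12,2,13,2,12,4,8,12], [3,9,12,13,12,9,2,1,4,12,7,13,12,4], 5, [([], 2218, [])], []⟩
def c2220 : Clm := ⟨6, 6, true, [3,9,12,9,13,10,2,4,12,13,7,12,13], [1,5,10,11,5,12,11,10,12,2,13,2,12,4,8,12], 5, [([], 2219, [])], []⟩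
def c2221 : Clm := ⟨6, 6, true, [12,11,5,11,12,9,11,12,2,4,3,13,7,13,12,7], [8,13,10,13,12,11,13,2,1,4,12,13,12,8], 15, [([], 861, [10,13,10,12,8,12,13,10]), ([], 1038, [9,11,12,11,5,11,5,12]), ([372], 198, [3,13,12,9,12,11,12])], []⟩
def c2222 : Clm := ⟨6, 6, true, [9,12,13,10,12,8,11,5,2,1,11,12,9,13,4], [12,11,5,11,12,9,11,12,2,4,3,13,7,13,12,7], 5, [([], 2221, [])], []⟩
def c2223 : Clm := ⟨6, 6, true, [12,11,5,11,12,9,11,12,2,1,4,13,7,13,12,7], [9,12,13,10,12,8,11,5,2,1,11,12,9,13,4], 5, [([], 2222, [])], []⟩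
def c2224 : Clm := ⟨6, 6, true, [3,9,10,12,13,5,2,4,6,13,12,13,2,4], [9,10,12,11,5,12,8,11,10,2,1,6,13,12,4,7,12], 13, [([], 2112, [5,9,10,11,12,11,12,8,13]), ([], 198, [1,10,13,5,12]), ([372,370], 1864, [3,8,11,12,13,12,9,13])], []⟩
def c2225 : Clm := ⟨6, 6, true, [3,8,13,5,10,12,9,13,12,2,13,7,13,2,13,12], [3,9,10,12,13,5,2,4,6,13,12,13,2,4], 5, [([], 2224, [])], []⟩
def c2226 : Clm := ⟨5, 6, true, [1,5,12,11,10,12,9,13,2,4,6,12,11,12], [8,13,3,10,12,9,13,12,13,2,4,7,12,7,13,5], 13, [([], 317, [5,8,11,12,9,11,13,12,8]), ([], 198, [8,12,9,13,3,12]), ([], 1864, [1,9,10,13,12,8,13,10])], []⟩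
def c2227 : Clm := ⟨6, 5, true, [11,13,5,12,13,2,6,13,6,12,4,12], [1,5,12,11,10,12,9,13,2,4,6,12,11,12], 5, [([], 2226, [])], []⟩
def c2228 : Clm := ⟨5, 6, true, [9,10,13,5,12,11,13,2,1,13,7,13,10,4], [11,13,5,12,13,2,6,13,6,12,4,12], 5, [([], 2227, [])], []⟩
def c2229 : Clm := ⟨6, 5, true, [5,13,12,9,11,12,13,2,6,6,13,12,9], [5,8,13,12,8,13,12,11,4,6,10,12,4], 13, [([], 1428, [9,11,3,13,12,9,13]), ([], 198, [12,11,3,10]), ([], 995, [3,11,12,9,11,12,13])], []⟩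
def c2230 : Clm := ⟨5, 6, true, [5,8,13,12,8,13,12,4,6,10,12,4,3], [5,13,12,9,11,12,13,2,6,6,13,12,9], 5, [([], 2229, [])], []⟩
def c2231 : Clm := ⟨6, 6, true, [1,5,12,13,10,12,9,13,2,1,13,2,12,8,11], [1,5,13,12,13,10,13,12,2,6,13,12,4,13,12], 13, [([], 2052, [5,8,10,13,3,12]), ([372], 198, [3,9,11,13,10,12,13]), ([370], 1923, [5,8,11,12,9,13,10])], []⟩
def c2232 : Clm := ⟨6, 6, true, [3,5,13,5,10,12,11,2,13,4,12,13,7,5], [1,5,12,13,10,12,9,13,2,1,13,2,12,8,11], 5, [([], 2231, [])], []⟩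
def c2233 : Clm := ⟨6, 6, true, [3,5,12,13,5,12,9,13,2,11,5,4,12,8,11], [3,5,13,5,10,12,11,2,13,4,12,13,7,5], 5, [([], 2232, [])], []⟩
def c2234 : Clm := ⟨6, 6, true, [1,5,9,13,12,9,13,12,11,2,7,9,13,2,13,12,11], [1,8,11,5,11,12,9,11,13,2,4,12,13,2,12,9,13], 13, [([], 1428, [1,12,8,11,5,11,12,8,13]), ([], 198, [9,10,12,11,3,10]), ([372,370], 2223, [10,12,13,10,12,13,10,12])], []⟩
def c2235 : Clm := ⟨6, 6, true, [12,11,5,12,9,11,2,4,13,12,13,4,7,5], [1,5,9,13,12,9,13,12,11,2,7,9,13,2,13,12,11], 5, [([], 2234, [])], []⟩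
def c2236 : Clm := ⟨6, 6, true, [1,8,13,12,11,10,2,6,13,2,13,12,8,11], [9,10,13,12,13,10,13,2,4,7,5,13,6], 13, [([], 2112, [3,10,11,13,5]), ([], 198, [5,10,12,13,3]), ([372], 1923, [11,3,12,9,12,11,10])], []⟩
def c2237 : Clm := ⟨6, 6, true, [1,9,13,10,13,12,13,2,1,6,13,4,5,6], [1,8,13,12,11,10,2,6,13,2,13,12,8,11], 5, [([], 2236, [])], []⟩
def c2238 : Clm := ⟨6, 6, true, [9,10,11,10,12,9,13,5,12,2,4,7,13,10,12,8,11], [1,9,13,10,13,12,13,2,1,6,13,4,5,6], 5, [([], 2237, [])], []⟩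
def c2239 : Clm := ⟨5, 6, true, [3,9,10,12,11,13,12,13,2,1,13,7,5,4,9], [8,12,8,11,3,12,13,10,13,2,4,13,7,5,13,12,8], 13, [([], 317, [1,8,12,9,13,5,13,12,9]), ([], 198, [5,9,12,11,3]), ([370], 1923, [1,9,10,11,13,12,13,12,8])], []⟩
def c2240 : Clm := ⟨6, 5, true, [3,11,5,10,12,8,13,12,2,4,6,9,12,13,6,12], [3,9,10,12,11,13,12,13,2,1,13,7,5,4,9], 5, [([], 2239, [])], []⟩
def c2241 : Clm := ⟨6, 6, true, [3,11,13,12,9,11,2,1,4,12,11,5,7,5], [10,12,11,12,9,11,2,1,13,4,12,13,7,12], 13, [([], 2147, [1,8,11,12,9,13,10,13]), ([], 198, [12,9,13,3,10,12,13]), ([372,370], 1856, [3,12,11,12,8,13])], []⟩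
def c2242 : Clm := ⟨6, 6, true, [3,10,11,12,9,11,5,12,2,6,11,5,12,4,5], [3,11,13,12,9,11,2,1,4,12,11,5,7,5], 5, [([], 2241, [])], []⟩
def c2243 : Clm := ⟨6, 6, true, [1,13,5,13,12,13,2,1,4,13,6,5,9,11], [10,12,11,3,12,9,12,2,4,12,7,11,13,6,5], 13, [([], 2147, [1,9,10,12,13,5,12,8,13]), ([], 198, [9,13,3,10,12,11]), ([], 1888, [1,5,11,5,12,13,12,8])], []⟩
def c2244 : Clm := ⟨6, 6, true, [1,13,10,12,9,13,12,2,13,2,7,13,6,12], [1,13,5,13,12,13,2,1,4,13,6,5,9,11], 5, [([], 2243, [])], []⟩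
def c2245 : Clm := ⟨6, 6, true, [5,9,12,11,5,10,12,9,11,2,13,6,5,4,13], [5,9,10,11,12,8,11,2,11,5,4,6,13], 13, [([], 1038, [5,12,13,5,13,12,9]), ([372], 198, [12,9,12,13,3,12]), ([], 1891, [5,9,11,5,12,13,12,8,11])], []⟩
def c2246 : Clm := ⟨6, 6, true, [1,8,10,13,10,12,9,12,11,2,1,13,2,6,13], [5,9,12,11,5,10,12,9,11,2,13,6,5,4,13], 5, [([], 2245, [])], []⟩
def c2247 : Clm := ⟨6, 6, true, [3,5,9,10,11,12,13,2,13,4,7,12,7], [3,10,11,12,9,13,10,13,2,13,2,7,13,4], 13, [([], 2147, [3,8,11,10,12,9,13,10]), ([], 198, [12,9,13,3,10,12,11]), ([], 1856, [8,10,13,5,12,11,5,10])], []⟩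
def c2248 : Clm := ⟨6, 6, true, [10,11,3,10,12,9,11,10,2,4,5,13,7,13,4], [3,5,9,10,11,12,13,2,13,4,7,12,7], 5, [([], 2247, [])], []⟩
def c2249 : Clm := ⟨6, 6, true, [3,5,9,13,12,8,11,10,2,4,7,12,7,13,6,8], [3,5,8,10,12,13,5,12,9,2,1,13,12,4,3,8,10], 13, [([], 1428, [1,9,11,13,12,9,13]), ([], 198, [12,11,3,10,13]), ([], 1856, [5,11,5,13])], []⟩
def c2250 : Clm := ⟨6, 6, true, [3,5,8,10,12,13,5,12,9,2,13,12,4,8,10], [3,5,9,13,12,8,11,10,2,4,7,12,7,13,6,8], 5, [([], 2249, [])], []⟩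
def c2251 : Clm := ⟨6, 6, true, [1,9,12,11,5,10,2,1,13,12,13,2,4,13], [5,8,10,13,10,12,9,2,13,4,6,13,6,6], 13, [([], 1853, [5,12,13,5,12]), ([], 198, [3,11,13,12,8,13,10,12]), ([], 1043, [10,11,12,11,10])], []⟩
def c2252 : Clm := ⟨6, 6, true, [5,10,13,10,12,8,2,1,6,9,11,12,13,4], [1,9,12,11,5,10,2,1,13,12,13,2,4,13], 5, [([], 2251, [])], []⟩
def c2253 : Clm := ⟨6, 6, true, [5,12,13,5,10,11,2,6,11,10], [3,11,5,10,12,9,13,2,1,13,6,6,13,4,5], 13, [([], 283, [8,13,5,13,12,9,12,11]), ([], 198, [5,12,11,3]), ([370], 1923, [3,11,10,12,9,11,10])], []⟩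
def c2254 : Clm := ⟨6, 6, true, [12,9,11,10,12,13,12,2,4,12,13,2,4,6], [5,12,13,5,10,11,2,6,11,10], 5, [([], 2253, [])], []⟩
def c2255 : Clm := ⟨5, 6, true, [3,9,11,10,13,12,11,13,2,7,9,13,4,6], [3,9,13,10,12,8,11,10,12,2,4,3,7,7,13,7], 13, [([], 322, [13,5,12,11,12,9,12,13]), ([], 198, [8,11,3,12]), ([372], 842, [8,11,12,13,12,8,13,5])], []⟩
def c2256 : Clm := ⟨6, 5, true, [3,9,13,10,12,8,11,10,12,2,4,7,7,13,7], [3,9,11,10,13,12,11,13,2,7,9,13,4,6], 5, [([], 2255, [])], []⟩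
def c2257 : Clm := ⟨6, 6, true, [8,11,12,9,11,5,12,11,10,2,4,5,6,5,13,6,9], [12,11,5,12,11,10,2,13,12,7,9], 13, [([], 2147, [13,5,12,11,10]), ([], 198, [9,10,13,3,10,12]), ([372,370], 2223, [3,5,9,10,11,12,8,13,10])], []⟩
def c2258 : Clm := ⟨6, 6, true, [12,11,5,12,11,2,1,13,12,7,9], [8,11,12,9,11,5,12,11,10,2,4,5,6,5,13,6,9], 5, [([], 2257, [])], []⟩
def c2259 : Clm := ⟨5, 6, true, [3,9,10,13,12,9,11,13,2,6,11,12,4,7], [12,13,3,10,11,12,2,11,12,11,13,6,6], 13, [([], 322, [10,11,12,9,13,10,12,11]), ([], 198, [8,11,3,12,13]), ([], 1888, [3,9,12,13,12,11])], []⟩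
def c2260 : Clm := ⟨6, 5, true, [10,12,11,3,12,2,6,13,12,11,13,6], [3,9,10,13,12,9,11,13,2,6,11,12,4,7], 5, [([], 2259, [])], []⟩
def c2261 : Clm := ⟨6, 6, true, [10,11,13,5,12,11,12,2,6,9,11,10], [12,9,12,13,10,13,12,11,2,1,13,4,6,5,9,11], 13, [([], 283, [13,5,12,8,11,12]), ([], 198, [8,12,8,11,3,12,13]), ([372,370], 1952, [12,13,12,9,12,11,12,13])], []⟩
def c2262 : Clm := ⟨6, 6, true, [5,9,10,13,12,9,11,12,2,11,12,6,11,2,13,5], [10,11,13,5,12,11,12,2,6,9,11,10], 5, [([], 2261, [])], []⟩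
def c2263 : Clm := ⟨6, 6, true, [1,10,12,13,10,12,11,13,2,1,6,9,11,10], [5,9,10,13,12,9,11,12,2,11,12,6,11,2,13,5], 5, [([], 2262, [])], []⟩
def c2264 : Clm := ⟨6, 6, true, [9,13,10,12,9,11,12,8,2,1,11,12,4,5,13,7], [9,11,5,10,13,12,9,2,11,5,4,7], 13, [([], 2109, [12,11,10,12,13,10,12,13]), ([], 198, [8,12,9,13,3,10,12]), ([], 1043, [9,12,13,5,13,5,12,9])], []⟩
def c2265 : Clm := ⟨6, 6, true, [10,11,12,8,12,11,10,2,1,13,2,1,7], [9,13,10,12,9,11,12,8,2,1,11,12,4,5,13,7], 5, [([], 2264, [])], []⟩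
def c2266 : Clm := ⟨6, 6, true, [3,13,10,12,8,11,10,2,6,6,11,10], [9,13,3,10,12,9,11,2,4,7,9,13,3,6], 13, [([], 283, [3,12,11,12,9,11,12]), ([], 198, [9,12,9,13,3,12]), ([370], 842, [3,5,9,13,12,11,12])], []⟩
def c2267 : Clm := ⟨6, 6, true, [9,13,3,10,12,9,11,2,1,4,7,9,13,6], [3,13,10,12,8,11,10,2,6,6,11,10], 5, [([], 2266, [])], []⟩
def c2268 : Clm := ⟨6, 6, true, [5,11,13,12,9,13,5,12,2,4,7,5,13,7,7], [3,13,12,8,12,13,10,12,2,4,12,4,3,7,13,2], 13, [([], 2109, [9,10,11,13,5,12,11,12,8]), ([], 198, [3,13,10,13,12]), ([372,370], 1856, [3,8,12,13,12,9,11])], []⟩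
def c2269 : Clm := ⟨6, 6, true, [3,10,11,12,9,11,5,2,1,4,6,9,12,11,5,11], [5,11,13,12,9,13,5,12,2,4,7,5,13,7,7], 5, [([], 2268, [])], []⟩
def c2270 : Clm := ⟨6, 6, true, [3,12,11,10,12,9,11,13,5,2,11,12,7,13,4,12,4], [13,5,10,13,12,9,2,7,7,11,12,4], 13, [([], 2109, [1,11,13,10,12,13,12]), ([], 198, [5,8,12,9,13,3,10,12]), ([], 1034, [1,9,12,8,11,5,11,12,9])], []⟩
def c2271 : Clm := ⟨6, 6, true, [10,11,12,9,11,10,2,1,13,2,1,6,6], [3,12,11,10,12,9,11,13,5,2,11,12,7,13,4,12,4], 5, [([], 2270, [])], []⟩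
def c2272 : Clm := ⟨6, 6, true, [3,5,12,13,5,12,8,2,13,2,12,4,5,8], [10,11,12,9,11,10,2,1,13,2,1,6,6], 5, [([], 2271, [])], []⟩
def c2273 : Clm := ⟨6, 6, true, [3,12,11,13,12,9,12,2,1,4,12,6,13,10], [5,10,13,12,9,11,13,5,2,1,13,2,7,5,4,9], 13, [([], 2109, [1,8,10,12,11,5,12,9]), ([], 198, [3,13,10,11,12]), ([], 1856, [5,9,11,13,12,13,5,12,8])], []⟩
def c2274 : Clm := ⟨6, 6, true, [11,10,12,11,12,9,11,2,13,4,6,9,13,7,5], [3,12,11,13,12,9,12,2,1,4,12,6,13,10], 5, [([], 2273, [])], []⟩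
def c2275 : Clm := ⟨6, 6, true, [3,12,11,13,12,9,12,2,4,12,6,13,3,10], [11,10,12,11,12,9,11,2,13,4,6,9,13,7,5], 5, [([], 2274, [])], []⟩
def c2276 : Clm := ⟨6, 6, true, [12,8,13,12,9,12,11,2,13,2,13,6,12,9,11], [5,13,5,10,11,12,11,2,4,7,7,13,3,12,9], 13, [([], 1428, [11,5,12,8,13,12,9,11]), ([], 198, [3,8,11,13,10,12,13,10]), ([372,370], 1952, [1,5,9,12,13,5,12,8])], []⟩
def c2277 : Clm := ⟨6, 6, true, [5,9,13,10,12,2,11,10,12,13,2,6], [12,8,13,12,9,12,11,2,13,2,13,6,12,9,11], 5, [([], 2276, [])], []⟩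
def c2278 : Clm := ⟨6, 6, true, [8,12,11,13,5,10,12,13,2,6,9,11,12,4,13], [10,12,9,11,3,2,11,5,12,13,2,13], 13, [([], 1038, [3,9,12,11,12,8]), ([372], 198, [11,3,12,8,12,11,12]), ([], 1952, [5,9,12,11,5,12,8,11])], []⟩
def c2279 : Clm := ⟨6, 6, true, [10,12,13,5,12,8,13,10,2,6,13,4,12,7,8,13], [8,12,11,13,5,10,12,13,2,6,9,11,12,4,13], 5, [([], 2278, [])], []⟩
def c2280 : Clm := ⟨6, 6, true, [1,5,11,12,11,10,13,12,2,11,12,7,8,11,13], [5,12,8,13,10,12,9,13,12,2,13,2,6,12,11,5,10], 13, [([], 2052, [1,8,10,12,9,11,5,13]), ([372], 198, [9,12,8,13,12,11,10,13]), ([372,370], 1864, [3,11,12,11,12,13])], []⟩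
def c2281 : Clm := ⟨6, 6, true, [9,10,12,11,5,12,8,11,2,4,12,6,11,5,12,13], [1,5,11,12,11,10,13,12,2,11,12,7,8,11,13], 5, [([], 2280, [])], []⟩
def c2282 : Clm := ⟨6, 6, true, [1,5,11,5,12,9,13,12,8,2,4,12,8,11,3,5], [1,9,10,13,12,9,13,12,9,2,1,13,4,6,13], 13, [([], 2112, [5,10,12,11,12,8]), ([], 198, [8,10,12,8,11,3,12]), ([372,370], 1891, [3,8,11,12,11,12,9,13])], []⟩
def c2283 : Clm := ⟨6, 6, true, [3,12,9,11,12,8,13,10,13,2,13,4,6,10,13], [1,5,11,5,12,9,13,12,8,2,4,12,8,11,3,5], 5, [([], 2282, [])], []⟩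
def c2284 : Clm := ⟨5, 6, true, [3,12,13,10,12,11,10,12,2,6,6,13,12,4,6], [9,13,10,13,10,12,8,11,10,2,4,6,12,13,4,6,12], 13, [([], 322, [12,8,11,3,13,12,9,13]), ([], 198, [5,9,12,8,11,3,12]), ([372,370], 1864, [5,11,5,12,11,12,11])], []⟩
def c2285 : Clm := ⟨6, 5, true, [12,11,3,5,2,4,12,7,13,2,4,6], [3,12,13,10,12,11,10,12,2,6,6,13,12,4,6], 5, [([], 2284, [])], []⟩
def c2286 : Clm := ⟨6, 6, true, [9,12,13,12,9,11,2,6,13,12,13,10,11], [12,13,10,12,8,12,2,4,13,12,6,13], 13, [([], 1428, [11,13,5,12,8,11,13,12,11]), ([], 198, [10,11,3,10]), ([372,370], 1888, [9,11,12,11,12,8])], []⟩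
def c2287 : Clm := ⟨6, 6, true, [1,12,9,13,12,9,11,13,2,13,2,6,12,13], [9,12,13,12,9,11,2,6,13,12,13,10,11], 5, [([], 2286, [])], []⟩
def c2288 : Clm := ⟨6, 6, true, [3,5,9,13,12,11,12,9,2,6,6,13,5,7,12], [1,12,9,13,12,9,11,13,2,13,2,6,12,13], 5, [([], 2287, [])], []⟩
def c2289 : Clm := ⟨6, 6, true, [5,10,13,12,9,13,12,13,12,2,4,5,6,11,13,12,4], [8,13,3,12,8,13,12,9,2,13,2,7,13,2,1,12], 13, [([], 2109, [8,11,12,9,13,10]), ([], 198, [8,10,12,9,13,3,10,12]), ([], 2223, [3,9,11,12,11,12,13])], []⟩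
def c2290 : Clm := ⟨6, 6, true, [13,12,13,10,13,10,12,2,1,13,6,12,4,8,12], [5,10,13,12,9,13,12,13,12,2,4,5,6,11,13,12,4], 5, [([], 2289, [])], []⟩
def c2291 : Clm := ⟨6, 6, true, [5,10,13,12,9,13,12,13,12,2,4,7,13,6,12,4,7], [13,12,13,10,13,10,12,2,1,13,6,12,4,8,12], 5, [([], 2290, [])], []⟩
def c2292 : Clm := ⟨5, 6, true, [3,8,12,11,10,12,9,11,2,6,13,4,6,13,6,6], [13,10,12,13,10,12,8,2,11,13,2,7,12,9], 13, [([], 317, [1,12,11,13,12,9,13,12,8]), ([], 198, [12,8,11,3,12,13]), ([], 1856, [3,9,11,12,11,13,12,13])], []⟩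
def c2293 : Clm := ⟨6, 5, true, [12,8,12,11,5,11,12,11,2,1,13,4,7,12,9], [3,8,12,11,10,12,9,11,2,6,13,4,6,13,6,6], 5, [([], 2292, [])], []⟩
def c2294 : Clm := ⟨5, 6, true, [1,5,12,11,10,12,13,12,2,7,13,12,13,4,6], [12,8,12,11,5,11,12,11,2,1,13,4,7,12,9], 5, [([], 2293, [])], []⟩
def c2295 : Clm := ⟨6, 6, true, [3,9,12,8,13,12,11,13,10,2,1,13,12,6,9], [5,8,13,3,5,10,12,11,12,9,2,1,13,12,4,10], 13, [([], 1853, [3,5,12,13,5,12]), ([], 198, [1,9,10,12,9,11,10,12]), ([], 1856, [3,11,12,13,12,9])], []⟩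
def c2296 : Clm := ⟨6, 6, true, [5,8,13,3,5,10,12,11,12,9,2,13,12,4,3,10], [3,9,12,8,13,12,11,13,10,2,1,13,12,6,9], 5, [([], 2295, [])], []⟩
def c2297 : Clm := ⟨6, 6, true, [8,13,5,13,5,12,9,11,10,2,4,6,9,12,13,3,2], [12,13,10,12,2,11,12,13,6,6], 13, [([], 1853, [1,3]), ([], 198, [8,11,3,10,12,13]), ([], 1888, [9,12,13,12,11])], []⟩
def c2298 : Clm := ⟨6, 6, true, [12,13,12,2,11,12,13,6,6], [8,13,5,13,5,12,9,11,10,2,4,6,9,12,13,3,2], 5, [([], 2297, [])], []⟩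
def c2299 : Clm := ⟨6, 6, true, [3,5,8,11,10,12,9,11,12,2,4,6,9,13,10,12,4], [1,5,9,10,13,12,2,1,13,4,7,13,7,13], 13, [([], 2147, [8,10,12,11,3,5,12,9]), ([], 198, [5,9,13,10,12]), ([], 1043, [1,5,9,12,11,5,12])], []⟩
def c2300 : Clm := ⟨6, 6, true, [1,9,13,5,10,13,2,11,13,6,12,4,7], [3,5,8,11,10,12,9,11,12,2,4,6,9,13,10,12,4], 5, [([], 2299, [])], []⟩
def c2301 : Clm := ⟨5, 6, true, [8,10,13,12,9,12,11,13,2,13,6,5,4,9], [8,11,10,12,8,11,12,8,2,4,12,9,13,7,10,12], 13, [([], 322, [9,11,12,9,11,13,5]), ([], 198, [1,13,12,9,13,5,12]), ([], 2223, [12,11,3,13,12,13])], []⟩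
def c2302 : Clm := ⟨6, 5, true, [8,11,10,12,8,11,2,11,12,13,4,7,10], [8,10,13,12,9,12,11,13,2,13,6,5,4,9], 5, [([], 2301, [])], []⟩
def c2303 : Clm := ⟨6, 6, true, [9,10,12,8,13,12,9,13,2,4,6,13,6,10,13,10], [10,12,8,11,3,12,9,11,13,2,11,13,7,5,11], 13, [([], 1853, [9,13,10,13,12,8,13,10]), ([], 198, [3,9,12,9,13,5,10,12,13]), ([372,370], 2223, [1,8,11])], []⟩
def c2304 : Clm := ⟨6, 6, true, [10,12,8,11,3,12,9,11,13,2,13,7,13,5,13], [9,10,12,8,13,12,9,13,2,4,6,13,6,10,13,10], 5, [([], 2303, [])], []⟩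
def c2305 : Clm := ⟨6, 6, true, [13,5,13,5,12,9,11,4,6,12,4,10,4], [5,9,11,5,11,12,8,11,13,12,2,4,7,13,6,5,8], 43, [([], 198, [1,3,10]), ([372,370], 2202, [12,8,13,5,12,13,12,13,10]), ([], 940, [3,11,12,11,10,12,11,12])], []⟩
def c2306 : Clm := ⟨6, 6, true, [3,9,13,5,10,2,1,13,4,12,9,13,2], [13,5,13,5,12,9,11,4,6,12,4,10,4], 5, [([], 2305, [])], []⟩
def c2307 : Clm := ⟨6, 6, true, [5,8,11,12,8,11,12,11,13,4,6,12,4,10,4,3], [3,9,13,5,10,2,1,13,4,12,9,13,2], 5, [([], 2306, [])], []⟩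
def c2308 : Clm := ⟨6, 6, true, [1,10,13,5,10,12,8,2,13,4,7,12,7,11], [1,5,9,11,12,9,11,13,2,1,4,12,13,2,1,7], 47, [([], 638, [12,8,11,3,5,12,9]), ([370], 1809, [5,12,11,5,12,11]), ([], 198, [1,3,8,10])], []⟩
def c2309 : Clm := ⟨6, 6, true, [1,5,9,11,12,9,11,13,2,1,4,12,13,2,3,7], [1,10,13,5,10,12,8,2,13,4,7,12,7,11], 5, [([], 2308, [])], []⟩
def c2310 : Clm := ⟨6, 6, true, [1,10,13,5,12,2,4,5,13,7,5,8,11], [1,5,9,11,12,9,11,13,2,1,4,12,13,2,3,7], 5, [([], 2309, [])], []⟩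
def c2311 : Clm := ⟨6, 6, true, [11,10,13,12,9,13,12,13,2,6,6,11,10], [10,12,13,12,13,5,10,13,2,6,11,13,6,12], 43, [([], 198, [1,3,10,12]), ([372], 2246, [8,10,11,3,12]), ([373,370], 939, [5,10,11,3,12])], []⟩
def c2312 : Clm := ⟨6, 6, true, [12,13,3,10,13,12,11,2,6,11,13,6,12], [11,10,13,12,9,13,12,13,2,6,6,11,10], 5, [([], 2311, [])], []⟩
def c2313 : Clm := ⟨6, 6, true, [3,8,12,8,11,10,12,2,4,5,11,12,6,5,13], [5,9,11,12,9,11,13,2,1,4,12,13,2,1,7], 47, [([], 352, [1,12,13,5,10,13,12]), ([373,370], 1834, [5,12,11,5,12]), ([], 198, [8,11,3,10])], []⟩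
def c2314 : Clm := ⟨6, 6, true, [5,9,11,12,9,11,13,2,1,4,12,13,2,3,7], [3,8,12,8,11,10,12,2,4,5,11,12,6,5,13], 5, [([], 2313, [])], []⟩
def c2315 : Clm := ⟨6, 6, true, [5,8,10,12,9,13,12,2,13,12,4,6], [9,12,13,10,12,11,2,1,11,12,4,3,7,9], 47, [([], 1079, [10,13,12,13,5,12,8,13,12]), ([372,370], 1197, [3,12,8,11,12,11,12,9,12]), ([], 198, [3,11,13,10,12,8])], []⟩
def c2316 : Clm := ⟨6, 6, true, [9,12,13,10,12,11,2,11,12,4,7,9], [5,8,10,12,9,13,12,2,13,12,4,6], 5, [([], 2315, [])], []⟩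
def c2317 : Clm := ⟨6, 6, true, [5,8,10,12,9,13,12,2,1,13,12,4,3,6], [9,12,13,10,12,11,2,11,12,4,7,9], 5, [([], 2316, [])], []⟩
def c2318 : Clm := ⟨6, 6, true, [10,12,8,13,3,5,12,13,2,6,13,4,12,13,7], [5,9,11,5,12,13,12,11,2,11,13,2,7,9], 47, [([], 351, [5,11,10,12,11,12]), ([373], 1780, [10,13,5,10,12,13,10]), ([], 198, [3,8,13,10,12])], []⟩
def c2319 : Clm := ⟨6, 6, true, [9,13,12,13,10,12,11,2,1,13,4,7,9], [10,12,8,13,3,5,12,13,2,6,13,4,12,13,7], 5, [([], 2318, [])], []⟩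
def c2320 : Clm := ⟨6, 6, true, [5,10,12,9,13,10,12,13,12,2,4,3], [9,10,11,10,12,11,10,2,1,6,9,13,2], 47, [([], 1080, [5,10,12,13,5,12,9]), ([373], 1168, [12,8,12,13,12,9,11,12]), ([], 198, [1,3,9,10,12,9])], []⟩
def c2321 : Clm := ⟨6, 6, true, [9,12,13,12,13,10,11,2,1,6,9,11,5,4], [5,10,12,9,13,10,12,13,12,2,4,3], 5, [([], 2320, [])], []⟩
def c2322 : Clm := ⟨6, 6, true, [5,10,12,9,13,10,12,13,12,2,1,4], [9,12,13,12,13,10,11,2,1,6,9,11,5,4], 5, [([], 2321, [])], []⟩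
def c2323 : Clm := ⟨6, 6, true, [12,8,13,12,9,13,12,8,2,4,6,9,12,13,12,9], [1,9,12,13,10,12,11,2,1,11,12,4,3,7,9], 47, [([], 1659, [1,11,13,12,9,11,12,8]), ([], 824, [1,8,13,10,12,8,13,12,9]), ([], 198, [3,13,10,12,8])], []⟩
def c2324 : Clm := ⟨6, 6, true, [1,9,12,13,10,12,11,2,11,12,4,7,9], [12,8,13,12,9,13,12,8,2,4,6,9,12,13,12,9], 5, [([], 2323, [])], []⟩
def c2325 : Clm := ⟨6, 6, true, [3,13,12,9,11,13,12,13,2,7,7,11,12,13,4], [1,9,12,13,10,12,11,2,11,12,4,7,9], 5, [([], 2324, [])], []⟩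
def c2326 : Clm := ⟨6, 6, true, [13,10,13,12,9,13,12,8,13,2,6,11,10], [8,10,12,13,10,13,12,9,11,2,4,13,7,13,12,8,13], 43, [([], 198, [11,3,10,12,9]), ([], 1428, [3,8,11,12,11,12,9]), ([372], 2139, [10,13,10,12,8,11,10])], []⟩
def c2327 : Clm := ⟨6, 6, true, [3,10,12,11,13,5,12,11,2,11,13,6,5,4,12,8], [13,10,13,12,9,13,12,8,13,2,6,11,10], 5, [([], 2326, [])], []⟩
def c2328 : Clm := ⟨6, 6, true, [1,8,13,12,9,11,12,13,4,5,7,10,12,4], [1,9,12,9,11,12,9,2,13,6,5,8,10], 43, [([], 198, [8,11,3,10,12,8]), ([372], 1330, [1,8,12,8,11,13,12,13,5,13]), ([], 2140, [5,12,11,3,12,9,12])], []⟩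
def c2329 : Clm := ⟨6, 6, true, [9,10,13,12,9,13,10,13,2,1,11,12,4,7,5,10], [8,10,12,11,13,12,13,5,2,1,11,12,4,3,7,9], 47, [([], 939, [9,13,5,10,13,12,8]), ([372,370], 2288, [1,11,13,5,10,12,8]), ([372], 198, [9,11,3,10,12,8])], []⟩
def c2330 : Clm := ⟨6, 6, true, [8,10,12,11,13,12,13,5,2,11,12,4,7,9], [9,10,13,12,9,13,10,13,2,1,11,12,4,7,5,10], 5, [([], 2329, [])], []⟩
def c2331 : Clm := ⟨6, 6, true, [3,8,12,13,12,8,13,10,2,13,4], [1,9,10,11,10,12,11,10,2,1,6,9,13,2], 47, [([], 1660, [8,11,12,9,12,11,12,11]), ([372,370], 1157, [12,8,12,13,12,9,11,12]), ([], 198, [9,11,3,10,12,9])], []⟩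
def c2332 : Clm := ⟨6, 6, true, [9,13,12,13,10,12,11,2,1,6,9,11,5,4], [3,8,12,13,12,8,13,10,2,13,4], 5, [([], 2331, [])], []⟩
def c2333 : Clm := ⟨6, 6, true, [8,12,13,12,8,13,10,11,2,13,4,10], [9,13,12,13,10,12,11,2,1,6,9,11,5,4], 5, [([], 2332, [])], []⟩
def c2334 : Clm := ⟨6, 6, true, [3,9,10,13,12,8,13,10,2,13,7,10,13], [5,9,13,12,8,13,10,12,13,2,4,5,6,9,13,3,5], 7, [([], 1890, [5,10,13,12,11,10,13]), ([], 197, [8,11,10,12]), ([], 2146, [1,8,10,11,12,13,12,9])], []⟩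
def c2335 : Clm := ⟨6, 6, true, [5,9,13,12,8,13,10,12,13,2,1,4,5,6,9,13,5], [3,9,10,13,12,8,13,10,2,13,7,10,13], 5, [([], 2334, [])], []⟩
def c2336 : Clm := ⟨6, 6, true, [9,11,12,8,11,10,12,11,2,4,7,13,12,4,6,13], [1,8,11,5,12,9,13,5,12,2,1,11,12,4,5,7,9,11], 9, [([], 1863, [10,11,3,10,12,13,10]), ([], 197, [11,10,12]), ([372,370], 2108, [10,11,3,13])], []⟩
def c2337 : Clm := ⟨6, 6, true, [1,11,12,9,12,13,5,10,2,4,6,12,13,6,5,6], [9,11,12,8,11,10,12,11,2,4,7,13,12,4,6,13], 5, [([], 2336, [])], []⟩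
def c2338 : Clm := ⟨6, 6, true, [11,13,5,12,9,11,5,12,2,1,11,12,13,4,10,12], [5,11,12,13,12,9,13,2,4,5,6,6,11,13,12], 15, [([], 2027, [10,11,3,12,11,10,13]), ([], 197, [1,9,10,11,10,12]), ([], 1852, [8,12,13,12,9])], []⟩
def c2339 : Clm := ⟨6, 6, true, [5,11,12,13,12,9,13,10,2,1,4,12,6,5,13,6], [11,13,5,12,9,11,5,12,2,1,11,12,13,4,10,12], 5, [([], 2338, [])], []⟩
def c2340 : Clm := ⟨6, 6, true, [12,9,13,3,5,12,13,10,2,4,5,6,6,11,12], [5,12,11,13,10,12,9,13,2,4,3,5,6,13,4,7], 15, [([], 2163, [1,10,11]), ([370], 197, [1,10,11,5,12]), ([372,370], 2111, [1,12,9,13,12,8,13,10,12])], []⟩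
def c2341 : Clm := ⟨6, 6, true, [5,10,11,12,11,13,12,9,2,6,13,4,7,12,11], [12,9,13,3,5,12,13,10,2,4,5,6,6,11,12], 5, [([], 2340, [])], []⟩
def c2342 : Clm := ⟨6, 6, true, [1,12,9,13,12,11,13,5,10,2,4,13,6,6,10,12], [5,10,11,12,11,13,12,9,2,6,13,4,7,12,11], 5, [([], 2341, [])], []⟩
def c2343 : Clm := ⟨6, 6, true, [3,9,13,10,12,2,4,3,6,6,13,6], [5,11,12,13,12,8,13,10,12,2,4,12,13,3,7,8], 15, [([], 2291, [5,9,12,13,5,12,11,10]), ([], 197, [9,10,13,10,13,12]), ([372,370], 1852, [5,10,13,12,11,10,13])], []⟩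
def c2344 : Clm := ⟨6, 6, true, [5,11,12,13,12,8,13,10,12,2,1,4,12,13,7,8], [3,9,13,10,12,2,4,3,6,6,13,6], 5, [([], 2343, [])], []⟩
def c2345 : Clm := ⟨6, 6, true, [11,12,11,10,12,2,1,11,5,12,11,2], [9,13,12,13,10,13,10,2,13,2,12,4,12], 13, [([], 197, [1,10,12]), ([], 2111, [10,11]), ([373], 2342, [1,11,10,12,13,10,12,13])], []⟩
def c2346 : Clm := ⟨6, 6, true, [1,5,13,12,8,11,10,12,11,2,4,12,7,8,13,6], [11,12,11,10,12,2,1,11,5,12,11,2], 5, [([], 2345, [])], []⟩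
def c2347 : Clm := ⟨6, 6, true, [1,8,11,12,8,11,13,12,9,2,4,6,5,13,6,9], [1,5,13,12,8,11,10,12,11,2,4,12,7,8,13,6], 5, [([], 2346, [])], []⟩
def c2348 : Clm := ⟨6, 6, true, [3,9,10,12,13,10,12,11,13,2,4,7,12,13,7], [1,5,11,5,12,9,2,4,12,6,13,6,13,12], 15, [([], 1214, [1,8,11,12,13,10,13,12]), ([370], 197, [1,8,11,10,13,12]), ([372,370], 2146, [1,5,13,5,12,11,10])], []⟩
def c2349 : Clm := ⟨6, 6, true, [13,12,9,13,5,10,13,2,4,13,6,5,6,10,13], [3,9,10,12,13,10,12,11,13,2,4,7,12,13,7], 5, [([], 2348, [])], []⟩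
def c2350 : Clm := ⟨5, 6, true, [8,13,5,12,11,10,12,8,2,7,13,2,13,6], [11,12,9,13,10,2,13,7,13,2,5,6], 15, [([], 722, [11,5,11,5,12,8,13,10]), ([], 197, [10,13,10,13,12]), ([], 2108, [1,10,13])], []⟩
def c2351 : Clm := ⟨6, 5, true, [5,13,3,12,8,11,12,2,13,12,8,13,2], [8,13,5,12,11,10,12,8,2,7,13,2,13,6], 5, [([], 2350, [])], []⟩
def c2352 : Clm := ⟨5, 6, true, [5,10,12,9,13,10,12,13,12,2,1,7,13,2,5,6], [5,13,3,12,8,11,12,2,13,12,8,13,2], 5, [([], 2351, [])], []⟩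
def c2353 : Clm := ⟨6, 6, true, [11,3,12,8,13,10,13,12,2,4,3,7,9,13,6,12], [8,12,11,13,12,8,13,12,9,2,1,7,13,4,5,7,12], 15, [([], 2233, [1,9,11,10,12,8,11,10]), ([], 197, [1,11,10]), ([], 1427, [1,9,12,8,11,13,5,12,9])], []⟩
def c2354 : Clm := ⟨6, 6, true, [5,10,12,13,10,12,8,13,12,2,4,6,5,13,7,12], [11,3,12,8,13,10,13,12,2,4,3,7,9,13,6,12], 5, [([], 2353, [])], []⟩
def c2355 : Clm := ⟨6, 6, true, [11,3,12,8,13,10,13,12,2,4,7,9,13,6,12], [5,10,12,13,10,12,8,13,12,2,4,6,5,13,7,12], 5, [([], 2354, [])], []⟩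
def c2356 : Clm := ⟨6, 6, true, [3,12,8,11,12,8,11,2,11,5,7,9,11,13], [3,8,13,12,9,13,10,12,9,2,7,7,13,5,6], 15, [([], 1554, [9,11,10,12,11,12]), ([], 197, [8,10,11,10,12]), ([372,370], 2146, [1,10,11])], []⟩
def c2357 : Clm := ⟨6, 6, true, [12,8,13,10,12,8,11,5,4,10,12,4,7,10], [3,12,8,11,12,8,11,2,11,5,7,9,11,13], 5, [([], 2356, [])], []⟩
def c2358 : Clm := ⟨6, 6, true, [1,5,9,10,11,5,12,11,10,12,2,1,4,7,9,13,12], [5,8,11,12,8,11,2,1,4,13,6,12,4,13], 15, [([], 2064, [8,10,11,3,12,9,12,11,10]), ([], 197, [11,13,5,12,8,11,10,12]), ([], 2146, [1,11,13,5,10,12,13,12])], []⟩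
def c2359 : Clm := ⟨6, 6, true, [5,8,11,12,8,11,2,4,13,6,12,4,13,3], [1,5,9,10,11,5,12,11,10,12,2,1,4,7,9,13,12], 5, [([], 2358, [])], []⟩
def c2360 : Clm := ⟨6, 6, true, [1,5,9,10,11,5,12,11,10,12,2,4,7,9,13,3,12], [5,8,11,12,8,11,2,4,13,6,12,4,13,3], 5, [([], 2359, [])], []⟩
def c2361 : Clm := ⟨6, 6, true, [1,12,11,12,9,2,11,5,12,11,2], [5,9,10,12,11,5,12,8,11,10,2,1,7,9,13,2,12,7], 13, [([], 197, [5,8,12]), ([], 316, [9,12,11,3,13,12,9,12]), ([226,252,252], 2200, [10,12,9,13,12,8,13,12])], []⟩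
def c2362 : Clm := ⟨6, 6, true, [8,11,3,10,12,9,12,13,2,13,2,13,12,4,5,9], [1,12,11,12,9,2,11,5,12,11,2], 5, [([], 2361, [])], []⟩
def c2363 : Clm := ⟨6, 6, true, [1,13,12,9,11,13,2,1,13,2,6,6,13], [8,12,13,10,11,12,8,2,1,13,12,13,2,11], 15, [([], 2262, [11,5,11,12,9,13,12,8]), ([372], 197, [9,12,13,10]), ([372,370], 1427, [1,5,11,12,9,11,12,8])], []⟩
def c2364 : Clm := ⟨6, 6, true, [8,13,12,9,11,13,12,2,13,12,4,7,5,9], [1,13,12,9,11,13,2,1,13,2,6,6,13], 5, [([], 2363, [])], []⟩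
def c2365 : Clm := ⟨5, 6, true, [5,8,10,12,9,13,12,11,10,2,1,4,12,4,7,13,2], [5,8,12,11,5,13,4,6,10,12,4,7], 11, [([], 1630, [3,11,12,11,10,12]), ([], 1657, [3,9,10,13,12,8,11,10]), ([370], 197, [9,11,5,13,12])], []⟩
def c2366 : Clm := ⟨6, 5, true, [1,11,13,10,12,9,12,13,2,6,9,13,5,6,10], [5,8,10,12,9,13,12,11,10,2,1,4,12,4,7,13,2], 5, [([], 2365, [])], []⟩
def c2367 : Clm := ⟨6, 6, true, [3,5,12,8,11,10,12,11,2,1,13,12,6,13], [3,12,8,13,12,9,13,10,11,2,4,6,13,3,6,9], 11, [([], 1312, [1,11,13,5,12,8,13,12,9]), ([110,104,102], 224, [3,13,10,11,12,11,5]), ([372], 197, [10,11,12])], []⟩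
def c2368 : Clm := ⟨6, 6, true, [3,12,8,13,12,9,13,10,11,2,1,4,6,13,6,9], [3,5,12,8,11,10,12,11,2,1,13,12,6,13], 5, [([], 2367, [])], []⟩
def c2369 : Clm := ⟨6, 6, true, [12,8,13,12,13,5,10,11,2,1,13,12,6,13], [3,12,8,13,12,9,13,10,11,2,1,4,6,13,6,9], 5, [([], 2368, [])], []⟩
def c2370 : Clm := ⟨6, 6, true, [10,13,10,12,9,11,12,8,2,4,3,6,9,13,6,5], [13,10,12,8,11,13,12,13,2,4,12,13,2,7,13,3], 17, [([], 1252, [12,13,5,10,13,12,8]), ([372], 197, [1,5,8,11,5,13,12]), ([372,370], 1767, [9,12,9,13,3,12,11,13])], []⟩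
def c2371 : Clm := ⟨6, 6, true, [1,10,11,13,12,11,10,2,13,4,7,5,4,8], [10,13,10,12,9,11,12,8,2,4,3,6,9,13,6,5], 5, [([], 2370, [])], []⟩
def c2372 : Clm := ⟨6, 6, true, [10,13,10,12,9,11,12,8,2,4,6,9,13,6,5], [1,10,11,13,12,11,10,2,13,4,7,5,4,8], 5, [([], 2371, [])], []⟩
def c2373 : Clm := ⟨6, 6, true, [1,8,11,12,11,10,13,12,8,2,4,12,6,5,11], [5,12,11,5,10,12,8,13,2,4,12,4,12,13,10], 17, [([], 2093, [11]), ([], 197, [3,9,13,12]), ([], 1685, [5,9,12,11,5,12,8,11])], []⟩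
def c2374 : Clm := ⟨6, 6, true, [8,10,11,12,8,11,13,10,2,4,3,12,6,9,13,10], [1,8,11,12,11,10,13,12,8,2,4,12,6,5,11], 5, [([], 2373, [])], []⟩
def c2375 : Clm := ⟨6, 6, true, [1,8,11,12,11,10,13,12,8,2,4,3,12,6,5,11], [8,10,11,12,8,11,13,10,2,4,3,12,6,9,13,10], 5, [([], 2374, [])], []⟩
def c2376 : Clm := ⟨6, 6, true, [3,5,12,13,5,10,12,2,1,13,2,5], [12,9,13,5,10,2,4,12,11,12,7,13], 15, [([], 197, [1,5,10]), ([372,370], 1898, [13]), ([370], 2298, [5,8,10,13,10,12,11,12,8])], []⟩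
def c2377 : Clm := ⟨6, 6, true, [12,13,12,9,2,11,5,6,13,5,4], [3,5,12,13,5,10,12,2,1,13,2,5], 5, [([], 2376, [])], []⟩
def c2378 : Clm := ⟨6, 6, true, [13,5,12,13,10,12,2,13,2,13], [12,13,12,9,2,11,5,6,13,5,4], 5, [([], 2377, [])], []⟩
def c2379 : Clm := ⟨6, 6, true, [3,9,10,12,8,11,12,8,2,6,13,4,7,9,10], [1,9,12,11,10,13,12,8,12,2,4,13,3,6,6], 11, [([], 2183, [3,9,13,12,9,11,12,9,11]), ([], 1063, [5,11,3,12,9,13,12]), ([370], 197, [8,11,13,10,12,13])], []⟩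
def c2380 : Clm := ⟨6, 6, true, [1,9,12,11,10,13,12,8,12,2,1,4,13,6,6], [3,9,10,12,8,11,12,8,2,6,13,4,7,9,10], 5, [([], 2379, [])], []⟩
def c2381 : Clm := ⟨6, 6, true, [1,11,5,12,8,13,10,12,2,6,13,4,7,9], [1,9,12,11,10,13,12,8,12,2,1,4,13,6,6], 5, [([], 2380, [])], []⟩
def c2382 : Clm := ⟨6, 6, true, [12,11,5,10,12,11,13,2,13,2,13,12,4], [8,13,10,12,13,12,9,13,2,4,3,7,13,12,11,2], 15, [([], 197, [11,13,12,13,10]), ([373,370], 2017, [3,5,8,11,5,12,11,10,12]), ([372,370], 2153, [11,3,12,8,11,12,9,11])], []⟩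
def c2383 : Clm := ⟨6, 6, true, [12,8,13,12,9,12,11,12,13,2,4,13,6,10,12,11,10], [12,11,5,10,12,11,13,2,13,2,13,12,4], 5, [([], 2382, [])], []⟩
def c2384 : Clm := ⟨6, 6, true, [3,8,13,12,9,13,10,11,2,13,6,6,10,12], [5,12,9,13,10,12,11,2,7,13,7,5,9,10], 17, [([], 1300, [3,8,12,9,13,5,10,13,12]), ([372], 197, [3,9,13,5,12,13]), ([372], 1080, [1,13,10,12])], []⟩
def c2385 : Clm := ⟨6, 6, true, [1,11,10,13,12,8,11,12,13,2,11,5,10,12,4,5], [3,8,13,12,9,13,10,11,2,13,6,6,10,12], 5, [([], 2384, [])], []⟩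
def c2386 : Clm := ⟨6, 6, true, [5,10,12,9,11,12,11,13,5,2,4,5,6,13,5,13,6], [10,12,8,13,5,12,13,2,11,5,6,10,13,2], 17, [([], 2163, [10,11,12,11,10]), ([], 197, [3,10,12,13,10,12,11,13]), ([373,370], 545, [5,8,12,11,13,10,12,11,13])], []⟩
def c2387 : Clm := ⟨6, 6, true, [10,12,8,13,3,5,12,13,2,11,13,6,5,11,2], [5,10,12,9,11,12,11,13,5,2,4,5,6,13,5,13,6], 5, [([], 2386, [])], []⟩
def c2388 : Clm := ⟨6, 6, true, [1,10,12,9,13,12,8,11,2,11,12,13,2,13,2], [12,8,13,10,12,8,11,5,2,4,6,13,3], 11, [([], 641, [8,12,13,10,12,9,13,10]), ([372], 2262, [13,5,12,9,11,12,11]), ([372], 197, [11,5,10,12,13,12])], []⟩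
def c2389 : Clm := ⟨6, 6, true, [12,8,13,10,12,8,11,5,2,1,4,6,13], [1,10,12,9,13,12,8,11,2,11,12,13,2,13,2], 5, [([], 2388, [])], []⟩
def c2390 : Clm := ⟨6, 6, true, [5,8,11,13,12,13,5,12,8,4,5,6,9,10,13], [9,13,12,13,5,10,4,6], 11, [([], 979, [12,9,11,13,5,12]), ([373], 2139, [11]), ([], 197, [11,5,11,12])], []⟩
def c2391 : Clm := ⟨6, 6, true, [5,9,11,10,12,11,10,4,6], [5,8,11,13,12,13,5,12,8,4,5,6,9,10,13], 5, [([], 2390, [])], []⟩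
def c2392 : Clm := ⟨6, 6, true, [3,11,13,12,11,10,12,8,2,4,3,13,12,4], [5,10,12,8,11,5,12,11,2,4,12,11,10,12,13], 15, [([], 197, [5,9,11,12,13,10]), ([372], 2389, [11,3,12,9,12,13]), ([373], 1763, [11,10,12,9,11,12,8])], []⟩
def c2393 : Clm := ⟨6, 6, true, [5,11,12,9,12,13,12,9,13,2,7,13,4,7,13,12], [3,11,13,12,11,10,12,8,2,4,3,13,12,4], 5, [([], 2392, [])], []⟩
def c2394 : Clm := ⟨6, 6, true, [3,10,13,5,12,8,13,10,2,6,13,10,2,12], [1,8,10,13,12,8,13,12,13,4,6,10,2], 11, [([], 1208, [1,11,10,12,9,13,12,8]), ([373], 2347, [3,5,11,5]), ([], 197, [1,5,10,12,11,5])], []⟩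
def c2395 : Clm := ⟨6, 6, true, [1,8,10,13,12,8,13,12,13,2,4,6], [3,10,13,5,12,8,13,10,2,6,13,10,2,12], 5, [([], 2394, [])], []⟩
def c2396 : Clm := ⟨6, 6, true, [3,10,13,5,12,8,13,10,2,6,13,2,12], [1,8,10,13,12,8,13,12,13,2,4,6], 5, [([], 2395, [])], []⟩
def c2397 : Clm := ⟨6, 6, true, [3,5,10,13,10,12,9,11,2,1,4,7,12,13,2,12], [8,12,9,11,12,11,2,6,13,2,6,13,6], 17, [([], 2163, [1,5,11,13,10]), ([370], 197, [5,10,13,12,13]), ([], 906, [10,11,5,12,11,13,10])], []⟩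
def c2398 : Clm := ⟨6, 6, true, [9,11,12,13,10,12,8,12,2,4,7,13,5,6,13,6], [3,5,10,13,10,12,9,11,2,1,4,7,12,13,2,12], 5, [([], 2397, [])], []⟩
def c2399 : Clm := ⟨5, 6, true, [10,11,5,13,12,2,1,4,12,6,13,6,12,4], [12,9,11,13,5,10,12,11,12,2,7,13,7,5,13], 17, [([], 2197, [11]), ([], 197, [3,5,9,11,5,12]), ([372], 1536, [5,11,5,12,8,11,13,12,9,11])], []⟩
def c2400 : Clm := ⟨6, 5, true, [1,8,11,10,12,9,11,12,9,2,7,13,7,5,13], [10,11,5,13,12,2,1,4,12,6,13,6,12,4], 5, [([], 2399, [])], []⟩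
def c2401 : Clm := ⟨5, 6, true, [9,13,5,11,2,4,7,7,13,7,12,8], [1,8,11,10,12,9,11,12,9,2,7,13,7,5,13], 5, [([], 2400, [])], []⟩
def c2402 : Clm := ⟨6, 6, true, [11,5,10,12,11,5,2,4,5,7,13,6,6,12], [9,13,12,13,10,13,10,2,4,12,8,13,7,9], 17, [([], 2233, [1,5,9,13,10,12,8,11,10]), ([], 197, [1,13,5,10,11]), ([372,370], 1878, [11,12,8,12,13,5])], []⟩
def c2403 : Clm := ⟨6, 6, true, [3,13,12,9,12,13,10,2,11,12,13,2,4,3], [11,5,10,12,11,5,2,4,5,7,13,6,6,12], 5, [([], 2402, [])], []⟩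
def c2404 : Clm := ⟨6, 6, true, [11,3,12,13,10,13,12,2,1,11,12,4,12,6,11], [3,13,12,9,12,13,10,2,11,12,13,2,4,3], 5, [([], 2403, [])], []⟩
def c2405 : Clm := ⟨6, 6, true, [3,5,13,10,12,13,12,8,2,4,6,5,9,11,12,11], [8,11,10,12,9,12,11,5,2,4,3,13,6,6], 11, [([], 2060, [8,10,12,9,11,5,12]), ([373,370], 2194, [11]), ([], 197, [5,8,13,10,12])], []⟩
def c2406 : Clm := ⟨6, 6, true, [8,11,10,12,9,12,11,5,2,4,13,6,6], [3,5,13,10,12,13,12,8,2,4,6,5,9,11,12,11], 5, [([], 2405, [])], []⟩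
def c2407 : Clm := ⟨6, 6, true, [10,11,10,12,8,13,5,2,1,13,12,9,11,2,13], [8,11,10,12,9,12,11,5,2,4,13,6,6], 5, [([], 2406, [])], []⟩
def c2408 : Clm := ⟨6, 6, true, [10,13,3,12,8,11,2,13,12,4,5,11], [3,11,5,12,9,13,4,6,5,10,4], 11, [([], 1590, [3,9,11,10,12,8,13,12,9]), ([370], 2122, [11]), ([], 197, [3,11,13,12])], []⟩
def c2409 : Clm := ⟨6, 6, true, [13,12,9,13,5,10,11,2,7,13,5,10], [10,13,3,12,8,11,2,13,12,4,5,11], 5, [([], 2408, [])], []⟩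
def c2410 : Clm := ⟨6, 6, true, [10,13,3,12,8,11,2,13,12,4,3,5,11], [13,12,9,13,5,10,11,2,7,13,5,10], 5, [([], 2409, [])], []⟩
def c2411 : Clm := ⟨6, 6, true, [9,11,3,12,11,10,13,12,2,7,13,6,13,2,5], [5,8,13,4,6,10,12,9,12,4], 11, [([], 1591, [1,11,5,11,12,8,13,10,12]), ([370], 1577, [5,8,13,12,9,11,13,12,9]), ([], 197, [5,8,13,5,12])], []⟩
def c2412 : Clm := ⟨6, 6, true, [1,9,11,10,12,8,13,5,2,4,13,6,6,13,2], [9,11,3,12,11,10,13,12,2,7,13,6,13,2,5], 5, [([], 2411, [])], []⟩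
def c2413 : Clm := ⟨6, 6, true, [5,9,13,5,10,12,13,12,9,2,1,13,12,8,13,2], [1,9,11,10,12,8,13,5,2,4,13,6,6,13,2], 5, [([], 2412, [])], []⟩
def c2414 : Clm := ⟨6, 6, true, [5,10,11,5,12,13,12,8,2,4,3,13,12,4,6,10], [8,12,9,11,5,12,13,2,13,2,6,13,2,12], 17, [([], 2089, [8,10,11,12,8,11,10,13]), ([], 197, [1,11,10,12,13,12]), ([373,370], 2033, [3,9,13,10,11,12,13])], []⟩
def c2415 : Clm := ⟨6, 6, true, [9,13,3,10,12,11,10,12,8,2,13,6,5,4,7,12], [5,10,11,5,12,13,12,8,2,4,3,13,12,4,6,10], 5, [([], 2414, [])], []⟩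
def c2416 : Clm := ⟨6, 6, true, [1,10,12,9,13,10,12,13,10,12,2,6,13,6,5,8], [12,11,13,5,12,8,11,5,2,4,12,4,12,11,10], 11, [([], 2176, [1,12,8,13,5,13,12,8,13]), ([], 1727, [1,13,12,8,13,10,13,12,9]), ([372], 197, [9,10,12])], []⟩
def c2417 : Clm := ⟨6, 6, true, [1,5,9,11,13,10,12,11,12,2,4,6,6,13,7,9], [1,10,12,9,13,10,12,13,10,12,2,6,13,6,5,8], 5, [([], 2416, [])], []⟩
def c2418 : Clm := ⟨6, 6, true, [1,10,12,9,13,10,12,13,12,2,1,6,13,6,5,8], [1,5,9,11,13,10,12,11,12,2,4,6,6,13,7,9], 5, [([], 2417, [])], []⟩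
def c2419 : Clm := ⟨6, 6, true, [12,9,13,5,13,12,2,4,7,12,7,13,2,7], [3,13,5,12,8,13,10,12,2,11,12,4,6,5,11], 17, [([], 2153, [11]), ([], 197, [1,13,10,13,12]), ([], 412, [8,11,10,12,8,13,10,12,8])], []⟩
def c2420 : Clm := ⟨6, 6, true, [3,13,5,12,9,13,10,12,9,2,1,7,13,12,4,5,13], [12,9,13,5,13,12,2,4,7,12,7,13,2,7], 5, [([], 2419, [])], []⟩
def c2421 : Clm := ⟨6, 6, true, [3,10,11,12,8,12,13,5,13,2,1,6,6,13,12,4,3], [1,10,13,12,9,11,12,11,5,2,4,3,6], 11, [([], 1317, [3,12,8,13,5,12,9]), ([370], 2034, [3,13,10,12,9,13,10]), ([372], 197, [1,5,11,13,10,12])], []⟩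
def c2422 : Clm := ⟨6, 6, true, [1,10,13,12,9,11,12,11,5,2,1,4,6], [3,10,11,12,8,12,13,5,13,2,1,6,6,13,12,4,3], 5, [([], 2421, [])], []⟩
def c2423 : Clm := ⟨6, 6, true, [3,10,11,12,8,12,13,5,13,2,6,6,13,12,4], [1,10,13,12,9,11,12,11,5,2,1,4,6], 5, [([], 2422, [])], []⟩
def c2424 : Clm := ⟨5, 6, true, [12,9,11,5,11,12,9,13,4,10,12,4,3,8], [9,11,12,11,5,11,12,2,4,13,3,6,9], 11, [([], 996, [11,10,12,8,12,13,12,11]), ([], 197, [5,12]), ([372], 2391, [11,10,12,8,12,11,12,8])], []⟩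
def c2425 : Clm := ⟨6, 5, true, [9,11,12,11,5,11,12,2,1,4,13,6,9], [12,9,11,5,11,12,9,13,4,10,12,4,3,8], 5, [([], 2424, [])], []⟩
def c2426 : Clm := ⟨5, 6, true, [12,9,11,5,11,12,9,11,13,4,10,12,4,8], [9,11,12,11,5,11,12,2,1,4,13,6,9], 5, [([], 2425, [])], []⟩
def c2427 : Clm := ⟨6, 6, true, [13,10,12,11,12,11,2,4,12,6,5,13,12,8], [9,11,12,9,13,12,11,2,1,4,13,6,12,11], 11, [([], 1855, [3,10,11,12,13]), ([], 197, [1,11,13,10,12]), ([372,370], 2396, [1,5,13,5,11])], []⟩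
def c2428 : Clm := ⟨6, 6, true, [9,11,12,9,13,12,11,2,4,3,13,6,12,11], [13,10,12,11,12,11,2,4,12,6,5,13,12,8], 5, [([], 2427, [])], []⟩
def c2429 : Clm := ⟨6, 6, true, [3,10,13,10,12,11,10,12,8,2,13,2,6,13,6,13,5], [9,11,12,9,13,12,11,2,4,3,13,6,12,11], 5, [([], 2428, [])], []⟩
def c2430 : Clm := ⟨6, 6, true, [1,11,10,12,9,11,13,2,4,12,13,6,5,6,13], [5,11,13,12,9,13,12,2,6,13,12,9,13,2,3], 11, [([], 1951, [3,10,11,12,13]), ([], 197, [1,5,9,10,13,5,12]), ([373], 1898, [1,10,12,11,10,12,8])], []⟩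
def c2431 : Clm := ⟨6, 6, true, [1,10,11,5,12,11,2,7,13,4,12,8,7], [1,11,10,12,9,11,13,2,4,12,13,6,5,6,13], 5, [([], 2430, [])], []⟩
def c2432 : Clm := ⟨6, 6, true, [3,12,9,11,13,10,2,4,6,9,13,3,7], [1,5,9,10,13,5,12,13,2,4,3,12,7,11], 11, [([], 1887, [1,10,12,9,13,12,8,11,12]), ([], 197, [1,11,12,13,10]), ([373,370], 2418, [3,8,10,11,10,12,8])], []⟩
def c2433 : Clm := ⟨6, 6, true, [1,5,9,10,13,5,12,13,2,4,12,7,11], [3,12,9,11,13,10,2,4,6,9,13,3,7], 5, [([], 2432, [])], []⟩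
def c2434 : Clm := ⟨6, 5, true, [1,12,8,11,13,5,12,2,1,7,9,13,2,1], [1,8,12,9,13,5,13,12,13,2,6,13,4,7,13,5,4], 11, [([], 843, [3,5,8,11,5,10]), ([370], 197, [9,13,5,10,11,12]), ([], 1991, [3,12,9,11,10,12,8,11])], []⟩
def c2435 : Clm := ⟨5, 6, true, [3,8,11,12,9,12,11,2,1,4,5,6,13,6,13,2], [1,12,8,11,13,5,12,2,1,7,9,13,2,1], 5, [([], 2434, [])], []⟩
def c2436 : Clm := ⟨6, 6, true, [5,12,13,12,13,10,13,2,13,6,12,4,3], [1,13,12,8,12,11,2,13,7,12,4,12,6], 11, [([], 1033, [3,12,8,11,13,10,12,9]), ([], 197, [8,13,5,12]), ([373], 2074, [13,10,11,12,8,13,12,11])], []⟩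
def c2437 : Clm := ⟨6, 6, true, [8,10,11,12,11,13,2,7,11,12,13,2,11], [5,12,13,12,13,10,13,2,13,6,12,4,3], 5, [([], 2436, [])], []⟩
def c2438 : Clm := ⟨6, 6, true, [3,9,11,10,13,12,8,13,2,13,2,7,13,2], [1,5,10,13,12,8,12,2,4,13,12,8,13,12,4], 11, [([], 1890, [3,10,11,5,12,13]), ([], 197, [1,8,11,10,12]), ([], 917, [5,9,12,11,5,12,8,11,13])], []⟩
def c2439 : Clm := ⟨6, 6, true, [1,13,5,10,13,12,2,13,12,4,7,9,12,11], [3,9,11,10,13,12,8,13,2,13,2,7,13,2], 5, [([], 2438, [])], []⟩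
def c2440 : Clm := ⟨6, 6, true, [1,10,11,12,9,12,11,13,2,6,13,2,7,13,12,4], [1,13,5,10,12,8,11,12,8,2,7,11,10], 13, [([], 2031, [10,12,11,3,10,12,9,12]), ([226,253], 1849, [9,11,12,11,5,10,12,8]), ([], 197, [5,13,5,12])], []⟩
def c2441 : Clm := ⟨6, 6, true, [1,13,12,8,11,10,13,12,8,2,1,7,11,10], [1,10,11,12,9,12,11,13,2,6,13,2,7,13,12,4], 5, [([], 2440, [])], []⟩
def c2442 : Clm := ⟨6, 6, true, [1,9,12,9,11,10,12,11,2,13,4,12,7,8,13,4], [1,13,12,8,11,10,13,12,8,2,1,7,11,10], 5, [([], 2441, [])], []⟩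
def c2443 : Clm := ⟨5, 6, true, [13,12,8,11,13,12,11,13,2,1,4,12,13,2,7], [11,13,10,12,8,11,2,1,11,13,7,12], 11, [([], 1849, [13,3,10,11,12,13]), ([], 197, [5,13,5,13,12]), ([370], 1929, [12,11,12,9,11,5,10,13])], []⟩
def c2444 : Clm := ⟨6, 5, true, [11,13,10,12,8,11,10,2,1,11,13,7,12], [13,12,8,11,13,12,11,13,2,1,4,12,13,2,7], 5, [([], 2443, [])], []⟩
def c2445 : Clm := ⟨6, 6, true, [13,5,13,12,9,2,1,4,12,13,2,13,7], [12,9,12,11,5,11,2,1,6,13,2,12,4,3], 11, [([], 1044, [8,13,5,12,13,10,12]), ([], 197, [8,13,12]), ([372,370], 2413, [5,13,5,13])], []⟩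
def c2446 : Clm := ⟨6, 6, true, [11,3,12,9,13,12,11,10,13,2,4,7,13,12,4,13], [13,5,13,12,9,2,1,4,12,13,2,13,7], 5, [([], 2445, [])], []⟩
def c2447 : Clm := ⟨6, 6, true, [1,8,12,8,11,12,11,2,4,12,11,13,2,3,7], [11,3,12,9,13,12,11,10,13,2,4,7,13,12,4,13], 5, [([], 2446, [])], []⟩
def c2448 : Clm := ⟨6, 6, true, [3,11,13,12,8,11,12,13,2,4,13,7,13,2,7,5], [1,9,10,11,13,12,8,13,2,1,13,2,1,12,13,6], 11, [([], 1887, [3,9,13,5,10,13,12,8,13]), ([], 197, [11,12,13,10]), ([], 2045, [13,3])], []⟩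
def c2449 : Clm := ⟨6, 6, true, [1,9,13,5,13,12,8,13,10,2,13,2,12,11,5,6], [3,11,13,12,8,11,12,13,2,4,13,7,13,2,7,5], 5, [([], 2448, [])], []⟩
def c2450 : Clm := ⟨6, 6, true, [5,12,13,10,12,9,12,11,12,2,6,11,5,4,7,5,13], [5,8,12,11,3,5,12,2,1,13,2,12,4,6,5], 11, [([], 2222, [3,8,11,10,13,12,9,11]), ([], 197, [5,8,10,11,12]), ([], 2073, [13,3])], []⟩
def c2451 : Clm := ⟨6, 6, true, [5,10,12,9,13,3,12,9,2,1,13,2,12,13,2,3], [5,12,13,10,12,9,12,11,12,2,6,11,5,4,7,5,13], 5, [([], 2450, [])], []⟩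
def c2452 : Clm := ⟨6, 6, true, [5,10,12,11,5,12,8,11,2,4,13,7,12,13,7,13], [1,10,11,10,12,8,11,13,2,13,7,5,10], 11, [([], 1855, [1,11,5,10]), ([], 197, [10,11,5,13,12]), ([372,370], 2423, [5,13,5,13])], []⟩
def c2453 : Clm := ⟨6, 6, true, [5,10,13,12,8,11,13,2,1,13,7,5,10], [5,10,12,11,5,12,8,11,2,4,13,7,12,13,7,13], 5, [([], 2452, [])], []⟩
def c2454 : Clm := ⟨6, 6, true, [3,13,12,8,13,12,11,13,2,4,12,4,13,12,4,13], [5,10,13,12,8,11,13,2,1,13,7,5,10], 5, [([], 2453, [])], []⟩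
def c2455 : Clm := ⟨6, 6, true, [1,12,8,12,13,5,10,11,2,6,6,13,7,9,12], [5,8,12,13,5,13,12,2,1,4,12,9,13,2,3], 13, [([], 950, [12,8,11,10,12,11,12,9]), ([370], 2222, [9,13,12,13,5,10,12,8]), ([], 197, [8,10,11,5,12])], []⟩
def c2456 : Clm := ⟨6, 6, true, [1,5,9,10,12,8,11,5,2,13,12,7,13,4,6], [1,12,8,12,13,5,10,11,2,6,6,13,7,9,12], 5, [([], 2455, [])], []⟩
def c2457 : Clm := ⟨6, 6, true, [1,12,9,11,12,8,13,12,2,11,12,11,2,13,4], [1,5,9,10,12,8,11,5,2,13,12,7,13,4,6], 5, [([], 2456, [])], []⟩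
def c2458 : Clm := ⟨5, 6, true, [8,10,13,3,5,12,13,10,2,13,6,6,13,2,13], [5,10,11,3,12,8,13,10,2,11,12,4,13,5,10,4], 11, [([], 1849, [10,11,13]), ([], 197, [5,12,13,5]), ([372,370], 2410, [13,5,13,5])], []⟩
def c2459 : Clm := ⟨6, 5, true, [1,10,13,5,10,12,8,11,13,2,13,12,13,2,11,5], [8,10,13,3,5,12,13,10,2,13,6,6,13,2,13], 5, [([], 2458, [])], []⟩
def c2460 : Clm := ⟨6, 6, true, [1,8,10,11,10,12,9,11,12,11,2,4,5,13,7,13,2,1], [8,12,9,11,13,5,12,2,4,12,9,13,6,13], 11, [([], 1890, [9,12,11,12,8,11,5,10]), ([], 197, [8,11,10,13,12]), ([373,370], 2045, [5,11,3,5,12,9,11,10])], []⟩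
def c2461 : Clm := ⟨6, 6, true, [11,5,11,12,9,2,1,13,12,11,2,13,10], [1,8,10,11,10,12,9,11,12,11,2,4,5,13,7,13,2,1], 5, [([], 2460, [])], []⟩
def c2462 : Clm := ⟨6, 6, true, [1,8,10,11,10,12,9,11,12,11,2,4,5,13,7,13,2,3], [11,5,11,12,9,2,1,13,12,11,2,13,10], 5, [([], 2461, [])], []⟩
def c2463 : Clm := ⟨6, 6, true, [8,12,11,13,12,13,10,2,4,5,11,12,11,2], [12,9,13,12,11,13,5,2,4,6,6,13,5,6,5], 11, [([], 1887, [10,13,5,11]), ([], 197, [10,12,11,5,12]), ([], 2008, [1,9,12,9,11,13,10])], []⟩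
def c2464 : Clm := ⟨6, 6, true, [8,13,12,9,13,5,10,13,2,6,11,12,4,5,9,10], [8,12,11,13,12,13,10,2,4,5,11,12,11,2], 5, [([], 2463, [])], []⟩
def c2465 : Clm := ⟨6, 6, true, [8,12,11,13,12,13,10,2,4,5,11,12,11,10,2], [8,13,12,9,13,5,10,13,2,6,11,12,4,5,9,10], 5, [([], 2464, [])], []⟩
def c2466 : Clm := ⟨6, 6, true, [8,11,12,11,10,13,12,9,13,2,6,9,13,12,4,10,4], [10,11,3,12,8,12,11,12,2,4,3,12,9,11,13,7], 11, [([], 1951, [3,8,12,13,5,12,9,13,10]), ([], 197, [5,9,10,12,11,5]), ([], 2418, [1,5,13,5,11])], []⟩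
def c2467 : Clm := ⟨6, 6, true, [8,13,12,9,11,13,5,12,13,2,13,6,13,12,4,12], [8,11,12,11,10,13,12,9,13,2,6,9,13,12,4,10,4], 5, [([], 2466, [])], []⟩
def c2468 : Clm := ⟨6, 6, true, [11,5,10,12,9,11,13,2,4,13,12,6,5,11,5], [8,13,12,9,11,13,5,12,13,2,13,6,13,12,4,12], 5, [([], 2467, [])], []⟩
def c2469 : Clm := ⟨6, 6, true, [5,12,8,13,10,12,9,12,13,2,13,7,13,2], [10,13,3,12,11,10,2,13,2,12,11,13,12], 11, [([], 1890, [1,8,13,5,12,11,10,12,9]), ([], 197, [8,10,11,10,12]), ([372,370], 2023, [13,3])], []⟩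
def c2470 : Clm := ⟨6, 6, true, [1,8,10,13,12,9,11,13,5,2,1,13,12,7,11,2], [5,12,8,13,10,12,9,12,13,2,13,7,13,2], 5, [([], 2469, [])], []⟩
def c2471 : Clm := ⟨6, 6, true, [5,12,8,13,10,12,9,12,13,2,13,7,13,10,2], [1,8,10,13,12,9,11,13,5,2,1,13,12,7,11,2], 5, [([], 2470, [])], []⟩
def c2472 : Clm := ⟨6, 6, true, [8,10,11,12,8,13,12,11,2,1,6,9,13,12,4], [5,9,11,13,12,11,12,9,4,10,12,4,7,9], 13, [([], 1427, [5,9,11,5,12,11,12,8,11]), ([], 1044, [9,12,11,13,5,10,12,9]), ([], 197, [5,8,13,5,12])], []⟩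
def c2473 : Clm := ⟨6, 6, true, [9,11,5,11,12,8,13,10,13,2,4,13,7,7,13,2], [8,10,11,12,8,13,12,11,2,1,6,9,13,12,4], 5, [([], 2472, [])], []⟩
def c2474 : Clm := ⟨6, 6, true, [1,12,8,11,12,8,2,1,13,2,12,13,7,8], [3,5,10,11,12,9,11,12,2,13,7,10,13,12,13], 11, [([], 2222, [9,11,3,5,10]), ([], 197, [10,12,9,13,12]), ([], 2381, [3,9,10,11,5,12,13,5,10])], []⟩
def c2475 : Clm := ⟨6, 6, true, [9,12,8,13,12,9,13,5,2,13,6,10,13,4,12], [1,12,8,11,12,8,2,1,13,2,12,13,7,8], 5, [([], 2474, [])], []⟩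
def c2476 : Clm := ⟨6, 6, true, [8,13,12,9,11,12,2,4,5,7,13,7,10,12], [9,12,8,13,12,9,13,5,2,13,6,10,13,4,12], 5, [([], 2475, [])], []⟩
def c2477 : Clm := ⟨6, 6, true, [13,10,11,12,9,13,12,8,2,4,13,12,4,12,11], [9,13,5,12,13,10,12,2,4,12,9,13,3,2], 11, [([], 1863, [1,5,8,12,11,10,12,9]), ([], 197, [1,10,11,10,12]), ([], 1998, [13,3])], []⟩
def c2478 : Clm := ⟨6, 6, true, [5,9,10,12,8,11,12,8,2,1,4,6,5,6,13,5], [13,10,11,12,9,13,12,8,2,4,13,12,4,12,11], 5, [([], 2477, [])], []⟩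
def c2479 : Clm := ⟨6, 6, true, [1,9,12,9,11,5,11,12,11,2,13,2,6,12,9,11], [5,9,10,12,8,11,12,8,2,1,4,6,5,6,13,5], 5, [([], 2478, [])], []⟩
def c2480 : Clm := ⟨6, 6, true, [1,9,10,13,10,12,13,12,9,2,7,9,13,4,10], [8,10,12,13,10,12,13,10,2,1,11,12,13,2,4,12], 11, [([], 843, [1,8,11,13,10]), ([370], 197, [9,11,10,13,12]), ([372,370], 2033, [3,13])], []⟩
def c2481 : Clm := ⟨6, 6, true, [5,10,12,9,13,12,9,11,2,7,7,13,12,4,5,11], [1,9,10,13,10,12,13,12,9,2,7,9,13,4,10], 5, [([], 2480, [])], []⟩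
def c2482 : Clm := ⟨6, 6, true, [11,5,10,12,8,11,13,2,11,12,4,12,8,12], [12,8,11,3,5,12,13,4,10,12,11,2,13,2], 11, [([], 1951, [10,11,3,5,12,13]), ([], 197, [1,9,10,11,12]), ([372,370], 871, [1,9,10,11,12,9,11,13])], []⟩
def c2483 : Clm := ⟨6, 6, true, [10,13,12,8,11,12,11,12,2,1,4,7,7,13,6,5], [11,5,10,12,8,11,13,2,11,12,4,12,8,12], 5, [([], 2482, [])], []⟩
def c2484 : Clm := ⟨6, 6, true, [5,13,5,12,8,11,13,12,2,4,12,8,13,12,11], [10,13,12,8,11,12,11,12,2,1,4,7,7,13,6,5], 5, [([], 2483, [])], []⟩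
def c2485 : Clm := ⟨6, 6, true, [9,10,13,12,11,12,8,12,2,4,12,9,11,13,12,11], [3,5,10,13,10,12,8,11,10,2,1,11,13,7], 11, [([], 2222, [1,9,12,11,13,5,10,12,8]), ([], 197, [1,8,11,13,10,12]), ([372,370], 2068, [1,3])], []⟩
def c2486 : Clm := ⟨6, 6, true, [3,5,10,13,10,12,8,11,2,1,11,13,7], [9,10,13,12,11,12,8,12,2,4,12,9,11,13,12,11], 5, [([], 2485, [])], []⟩
def c2487 : Clm := ⟨6, 6, true, [5,10,13,10,12,9,11,10,12,2,1,13,2,7,13,7], [5,8,10,13,12,8,11,12,13,2,4,12,13,12,6,13], 13, [([], 2395, [9,12,11,3,5,10]), ([373,370], 1855, [9,11,12,11,5,10,12,8]), ([], 197, [1,5,10,11,12])], []⟩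
def c2488 : Clm := ⟨6, 6, true, [9,10,12,13,3,12,2,1,7,11,13,12,4], [5,10,13,10,12,9,11,10,12,2,1,13,2,7,13,7], 5, [([], 2487, [])], []⟩
def c2489 : Clm := ⟨6, 6, true, [8,10,13,12,8,11,12,13,2,11,5,4,7,13,7], [9,10,12,13,3,12,2,1,7,11,13,12,4], 5, [([], 2488, [])], []⟩
def c2490 : Clm := ⟨6, 6, true, [9,13,12,8,13,12,2,6,6,13,12,13,4], [3,12,8,13,12,8,11,13,2,4,3,13,6,12,8], 11, [([], 1890, [1,5,10]), ([], 197, [8,13,5,10,12]), ([372,370], 2407, [5,13,5,13])], []⟩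
def c2491 : Clm := ⟨6, 6, true, [3,12,8,13,12,8,11,13,2,4,13,6,12,8], [9,13,12,8,13,12,2,6,6,13,12,13,4], 5, [([], 2490, [])], []⟩
def c2492 : Clm := ⟨6, 6, true, [3,11,13,12,9,11,13,12,2,1,11,12,4,13,12,6], [12,8,13,12,9,12,13,10,2,4,6,12,6,11,13], 11, [([], 1951, [13,5,10]), ([], 197, [3,9,10,13,12]), ([372], 2014, [1,5,8,13,12,8,13,10])], []⟩
def c2493 : Clm := ⟨6, 6, true, [12,8,13,12,9,12,13,10,2,4,6,12,6,11,3,13], [3,11,13,12,9,11,13,12,2,1,11,12,4,13,12,6], 5, [([], 2492, [])], []⟩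
def c2494 : Clm := ⟨6, 6, true, [3,11,10,12,9,13,10,13,2,7,7,13,2,7,13], [12,8,13,12,9,12,13,10,2,4,6,12,6,11,3,13], 5, [([], 2493, [])], []⟩
def c2495 : Clm := ⟨6, 6, true, [9,13,12,13,12,8,12,2,1,4,12,13,2], [1,5,8,11,12,9,11,10,12,4,5,6,10,13,4], 11, [([], 843, [1,5,12,9,13,12,9,11,10,12]), ([370], 197, [5,9,13,3,5,10,12]), ([370], 2117, [1,5,13,10,12,8,11,12,11])], []⟩
def c2496 : Clm := ⟨6, 6, true, [3,8,10,12,8,11,12,8,4,5,6,5,10,4], [9,13,12,13,12,8,12,2,1,4,12,13,2], 5, [([], 2495, [])], []⟩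
def c2497 : Clm := ⟨6, 6, true, [9,13,12,13,12,8,12,2,1,4,12,13,10,2], [3,8,10,12,8,11,12,8,4,5,6,5,10,4], 5, [([], 2496, [])], []⟩
def c2498 : Clm := ⟨6, 6, true, [1,10,12,13,12,9,11,10,12,2,4,6,13,7,12,8], [9,10,11,13,12,8,11,2,1,13,7,12,4,6,13], 13, [([], 2462, [11,13,10,12,13,10,12,9]), ([373], 1887, [5,12,13,12,9,11,10]), ([], 197, [1,8,11,12,13,10])], []⟩
def c2499 : Clm := ⟨6, 6, true, [5,12,8,13,12,9,11,10,13,2,13,5,7,7,13,4], [1,10,12,13,12,9,11,10,12,2,4,6,13,7,12,8], 5, [([], 2498, [])], []⟩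
def c2500 : Clm := ⟨6, 6, true, [1,10,12,13,12,9,11,10,12,2,4,3,6,13,7,12,8], [5,12,8,13,12,9,11,10,13,2,13,5,7,7,13,4], 5, [([], 2499, [])], []⟩
def c2501 : Clm := ⟨6, 6, true, [8,11,12,8,11,5,10,2,6,13,2,1,12,11,13], [1,8,13,10,13,12,9,11,10,2,4,6,6,13,6,5,6], 11, [([], 2222, [1,13,5,12,11,10,12]), ([], 197, [8,10,12,11,5]), ([373,370], 1613, [5,8,12,9,11,10,12,9,13])], []⟩
def c2502 : Clm := ⟨6, 6, true, [1,12,11,13,10,12,13,10,2,1,13,6,13,2,11,12,7], [8,11,12,8,11,5,10,2,6,13,2,1,12,11,13], 5, [([], 2501, [])], []⟩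
def c2503 : Clm := ⟨6, 6, true, [1,11,13,12,9,11,12,11,2,4,7,13,5,12,11,13], [1,12,11,13,10,12,13,10,2,1,13,6,13,2,11,12,7], 5, [([], 2502, [])], []⟩
def c2504 : Clm := ⟨6, 6, true, [11,13,5,12,9,11,5,2,11,5,7,5], [5,8,13,5,12,9,11,12,11,2,11,13,6,13,10], 11, [([], 1922, [8,13,5,10,12,13]), ([370], 197, [1,13,10,12,11,12]), ([], 2084, [3,12,13,12,8,12,11,12,13])], []⟩
def c2505 : Clm := ⟨6, 6, true, [1,9,13,10,12,8,11,12,13,2,1,11,13,6,13,10], [11,13,5,12,9,11,5,2,11,5,7,5], 5, [([], 2504, [])], []⟩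
def c2506 : Clm := ⟨6, 6, true, [8,10,12,11,10,12,8,13,2,4,7,12,4,13,12,6], [3,8,10,13,10,12,11,10,2,11,5,11,12], 11, [([], 1951, [1,8,13,5,12,11,10,12,9]), ([], 197, [9,10,12]), ([373], 2494, [1,8,12,11,12,8,12])], []⟩
def c2507 : Clm := ⟨6, 6, true, [3,8,10,13,10,12,11,2,11,5,11,12], [8,10,12,11,10,12,8,13,2,4,7,12,4,13,12,6], 5, [([], 2506, [])], []⟩
def c2508 : Clm := ⟨6, 6, true, [8,13,3,10,12,11,2,4,13,12,4,10,11], [5,12,11,5,11,12,8,11,2,4,3,12,9,13,4,10], 13, [([], 2307, [1,9,12,8,13,10,13]), ([], 2222, [8,13,3,10,13,12,9,11]), ([], 197, [8,10,13,5,12])], []⟩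
def c2509 : Clm := ⟨6, 6, true, [9,10,13,12,9,13,10,13,2,4,12,9,11,13,2], [8,13,3,10,12,11,2,4,13,12,4,10,11], 5, [([], 2508, [])], []⟩
def c2510 : Clm := ⟨6, 6, true, [9,12,11,13,5,10,12,11,13,2,11,5,7,13,2,4], [3,8,11,12,13,12,13,2,4,3,12,9,13,4,10], 13, [([], 1678, [8,12,11,10,12,8,13]), ([372], 2222, [3,8,10,13,12,9,11]), ([], 197, [1,5,8,10,11,12])], []⟩
def c2511 : Clm := ⟨6, 6, true, [5,12,11,5,12,8,2,4,12,9,11,13,2], [9,12,11,13,5,10,12,11,13,2,11,5,7,13,2,4], 5, [([], 2510, [])], []⟩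
def c2512 : Clm := ⟨6, 6, true, [3,10,12,13,10,12,9,12,2,13,12,13,4,12,7], [5,12,11,5,12,8,2,4,12,9,11,13,2], 5, [([], 2511, [])], []⟩
def c2513 : Clm := ⟨6, 6, true, [1,12,9,11,12,8,11,13,10,2,4,5,13,7,13,2], [3,8,12,13,10,12,9,12,2,4,3,7,13,12,13,4], 11, [([], 1890, [13,5,12,13,10,12]), ([], 197, [11,13,5,12,8,13,10,12]), ([373,370], 2263, [8,11,12,11,5,10])], []⟩
def c2514 : Clm := ⟨6, 6, true, [3,8,12,9,13,2,4,7,12,8,13,6,9], [1,12,9,11,12,8,11,13,10,2,4,5,13,7,13,2], 5, [([], 2513, [])], []⟩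
def c2515 : Clm := ⟨6, 5, true, [3,5,9,10,11,13,12,2,6,13,2,4,7,5], [3,5,8,12,13,10,12,13,2,1,11,5,4,7,7], 13, [([], 1951, [9,11,13,12,11,12,8]), ([], 197, [9,11,13,5,10,12]), ([], 321, [1,8,11,13,12,13,5,13])], []⟩
def c2516 : Clm := ⟨5, 6, true, [3,5,8,11,5,12,11,12,2,1,13,2,7,7], [3,5,9,10,11,13,12,2,6,13,2,4,7,5], 5, [([], 2515, [])], []⟩
def c2517 : Clm := ⟨6, 5, true, [5,10,13,5,12,9,11,13,2,4,13,10,12,4,7,9], [5,12,11,10,12,9,13,2,7,13,12,9,12,4], 13, [([], 1951, [8,12,13,5,13,5,12]), ([], 197, [10,11,5,12,8,11,12]), ([], 316, [1,8,11,13,12,11,13])], []⟩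
def c2518 : Clm := ⟨5, 6, true, [5,9,10,11,5,12,13,10,2,1,13,2,6,9,13], [5,10,13,5,12,9,11,13,2,4,13,10,12,4,7,9], 5, [([], 2517, [])], []⟩
def c2519 : Clm := ⟨6, 6, true, [1,5,9,12,8,13,10,12,13,2,13,4,7,5,8,13], [10,11,12,9,11,12,8,13,2,6,13,5,10], 47, [([], 1194, [3,5,11,5,12,9,11]), ([372], 2447, [10,11,12,11,10]), ([], 197, [8,11,10,12])], []⟩
def c2520 : Clm := ⟨6, 6, true, [3,8,11,13,12,9,13,12,13,4,7,5,10,4], [1,5,9,12,8,13,10,12,13,2,13,4,7,5,8,13], 5, [([], 2519, [])], []⟩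
def c2521 : Clm := ⟨6, 6, true, [1,9,12,8,11,13,2,4,5,12,4,13,10,12], [1,5,8,12,11,13,12,9,2,7,7,13,6,9,12,4], 7, [([], 791, [1,8,12,8,11,12,8,11,10]), ([102], 201, [1,3,10]), ([372], 1097, [1,10,11,12,8,11,13,5])], []⟩
def c2522 : Clm := ⟨6, 6, true, [8,11,12,8,13,12,13,10,11,2,1,4,7,12,7,13,2], [1,9,12,8,11,13,2,4,5,12,4,13,10,12], 5, [([], 2521, [])], []⟩
def c2523 : Clm := ⟨6, 6, true, [8,12,11,10,12,8,11,2,4,7,13,12,8,13,4], [8,11,12,8,13,12,13,10,11,2,1,4,7,12,7,13,2], 5, [([], 2522, [])], []⟩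
def c2524 : Clm := ⟨6, 6, true, [1,5,12,9,11,10,12,13,2,4,5,6,13,2,6,5], [11,13,12,8,12,2,1,7,13,4,6], 7, [([], 755, [12,8,11,13,12,13,10]), ([111,170], 201, [3,13,5,10]), ([370], 1908, [10,12,8,13,12,11,12,9])], []⟩
def c2525 : Clm := ⟨6, 6, true, [3,9,10,12,9,13,10,2,7,11,13,2,6], [1,5,12,9,11,10,12,13,2,4,5,6,13,2,6,5], 5, [([], 2524, [])], []⟩
def c2526 : Clm := ⟨6, 6, true, [10,12,11,10,12,9,13,5,2,4,13,12,4,12,13,7], [3,9,10,12,9,13,10,2,7,11,13,2,6], 5, [([], 2525, [])], []⟩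
def c2527 : Clm := ⟨6, 6, true, [3,9,13,5,12,13,10,12,2,4,12,13,2,5,7], [3,12,13,10,12,8,11,10,2,1,11,12,4], 9, [([], 617, [5,12,9,13,12,9,11,12]), ([], 704, [3,9,12,11,5,12,11]), ([111,104,98], 201, [1,3,5,8,10,12])], []⟩
def c2528 : Clm := ⟨6, 6, true, [3,12,13,10,12,8,11,10,2,11,12,4,3], [3,9,13,5,12,13,10,12,2,4,12,13,2,5,7], 5, [([], 2527, [])], []⟩
def c2529 : Clm := ⟨6, 6, true, [11,12,9,11,10,13,12,2,1,13,7,13,2,13], [3,12,13,10,12,8,11,10,2,11,12,4,3], 5, [([], 2528, [])], []⟩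
def c2530 : Clm := ⟨6, 6, true, [1,11,12,8,13,12,13,10,2,1,7,9,13,6,9], [1,5,12,11,10,12,9,13,2,1,11,12,4], 9, [([], 1844, [10,13,3,10,12,8,13,10]), ([373,370], 1296, [8,10,12,8,11,3,12,9]), ([98,170,110], 201, [3,9,13,5,10,12])], []⟩
def c2531 : Clm := ⟨6, 6, true, [1,5,12,11,10,12,9,13,2,11,12,4,3], [1,11,12,8,13,12,13,10,2,1,7,9,13,6,9], 5, [([], 2530, [])], []⟩
def c2532 : Clm := ⟨6, 6, true, [1,11,12,8,13,12,13,2,7,9,13,6,9], [1,5,12,11,10,12,9,13,2,11,12,4,3], 5, [([], 2531, [])], []⟩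
def c2533 : Clm := ⟨6, 6, true, [12,11,10,13,12,11,13,2,4,7,13,7,5,13], [3,9,12,9,11,10,12,8,2,13,2,12,4,8,12], 15, [([], 746, [1,8,11,13,10,12,9,13,12]), ([170,98], 201, [8,10,11,3,5,12]), ([], 2238, [1,8,13,10,12,13,10,12])], []⟩
def c2534 : Clm := ⟨6, 6, true, [5,10,12,11,13,2,4,12,4,13,6,10,13], [12,11,10,13,12,11,13,2,4,7,13,7,5,13], 5, [([], 2533, [])], []⟩
def c2535 : Clm := ⟨6, 6, true, [9,10,12,13,10,12,8,12,2,11,12,4,3,8], [5,12,8,13,5,10,12,11,2,4,6,13,3,7,7], 15, [([], 1094, [9,12,8,11,5,12,11,10]), ([104], 201, [3,8,13,12,8,11,10,12]), ([373,370], 2307, [5,9,12,13,3,12])], []⟩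
def c2536 : Clm := ⟨6, 6, true, [5,12,8,13,5,10,12,11,2,1,4,6,13,7,7], [9,10,12,13,10,12,8,12,2,11,12,4,3,8], 5, [([], 2535, [])], []⟩
def c2537 : Clm := ⟨6, 6, true, [5,10,11,13,12,13,12,8,2,13,6,12,11,2,1], [11,12,8,11,13,5,10,12,2,4,3], 15, [([], 791, [1,10,13,5,12,9,11,12]), ([104,102], 201, [8,12,11,3,5,12]), ([], 221, [1,5,8,10,13,5,12,13,10])], []⟩
def c2538 : Clm := ⟨6, 6, true, [11,12,8,11,13,5,10,12,2,1,4], [5,10,11,13,12,13,12,8,2,13,6,12,11,2,1], 5, [([], 2537, [])], []⟩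
def c2539 : Clm := ⟨5, 6, true, [1,3,5,9,12,8,2,4,6,13,6,12,11], [5,8,10,13,5,12,9,11,13,2,1,13,2,1,7,7,13], 15, [([], 171, [5,12,9,11,3,12,8]), ([111,98,96], 201, [5,10,11,5,13,12]), ([373], 1440, [1,8,11,13,10,12,8,11])], []⟩
def c2540 : Clm := ⟨6, 5, true, [8,12,8,13,12,11,13,10,2,6,9,13,12,4,9], [1,3,5,9,12,8,2,4,6,13,6,12,11], 5, [([], 2539, [])], []⟩
def c2541 : Clm := ⟨5, 6, true, [3,8,13,12,8,11,13,10,2,11,10,12,4,6,12], [8,13,10,13,12,8,11,2,1,4,7,7,13], 15, [([], 171, [1,8,11,12,11,13,12,13,10]), ([111,104,102], 201, [9,11,13,5,10,12]), ([372,370], 2532, [3,5,10,13,10,12,11,10])], []⟩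
def c2542 : Clm := ⟨6, 5, true, [8,13,10,13,12,8,11,2,4,7,7,13,3], [3,8,13,12,8,11,13,10,2,11,10,12,4,6,12], 5, [([], 2541, [])], []⟩
def c2543 : Clm := ⟨6, 6, true, [5,9,12,8,11,13,10,12,9,2,1,7,9,11,12,13,4,5], [8,10,11,10,12,8,11,12,8,2,6,13,6,13,4], 15, [([], 826, [1,9,12,9,11,12,11]), ([110,171], 201, [3,10,11,13,12]), ([373], 1440, [1,10,12,9,13,12])], []⟩
def c2544 : Clm := ⟨6, 6, true, [8,10,11,10,12,9,11,2,13,6,6,12,4,13], [5,9,12,8,11,13,10,12,9,2,1,7,9,11,12,13,4,5], 5, [([], 2543, [])], []⟩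
def c2545 : Clm := ⟨6, 6, true, [13,12,11,10,13,12,13,2,13,4,12,7,8,13,7], [8,10,11,10,12,9,11,2,13,6,6,12,4,13], 5, [([], 2544, [])], []⟩
def c2546 : Clm := ⟨6, 6, true, [8,10,13,3,12,11,10,13,2,4,12,4,13,2], [1,11,12,9,13,10,2,4,5,12,11,10], 15, [([], 704, [10,11,3,5,12,13,10]), ([111,98], 201, [12,11,3,5,12]), ([], 221, [1,5,9,11,12,11,13,12,13])], []⟩
def c2547 : Clm := ⟨6, 6, true, [11,12,11,13,10,2,4,7,13,6,9], [8,10,13,3,12,11,10,13,2,4,12,4,13,2], 5, [([], 2546, [])], []⟩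
def c2548 : Clm := ⟨6, 6, true, [8,10,13,3,12,11,10,2,1,4,12,13,5,4], [11,12,11,13,10,2,4,7,13,6,9], 5, [([], 2547, [])], []⟩
def c2549 : Clm := ⟨6, 6, true, [3,9,12,9,11,12,9,2,1,4,13,6,12,13], [1,11,12,8,13,10,12,11,2,4,13,3,7], 15, [([], 698, [5,9,12,13,3,10,12,8,12]), ([171,104,96], 201, [9,10,11,3,10,12]), ([373], 2307, [3,9,11,10,13,12,11,10])], []⟩
def c2550 : Clm := ⟨6, 6, true, [1,11,12,8,13,10,12,11,2,1,4,13,7], [3,9,12,9,11,12,9,2,1,4,13,6,12,13], 5, [([], 2549, [])], []⟩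
def c2551 : Clm := ⟨6, 6, true, [1,5,9,10,12,13,12,9,11,2,4,12,13,6,6,10], [3,11,12,13,10,12,11,12,2,4,13], 17, [([], 1302, [3,5,8,12,13,10]), ([372,370], 682, [1,8,12,13,10,12,13,10,12,13]), ([110,171], 201, [3,13,5,10,13,12])], []⟩
def c2552 : Clm := ⟨6, 6, true, [3,11,12,13,10,12,11,12,2,4,3,13], [1,5,9,10,12,13,12,9,11,2,4,12,13,6,6,10], 5, [([], 2551, [])], []⟩
def c2553 : Clm := ⟨6, 6, true, [1,10,11,10,12,8,11,13,2,13,2,12,6,13,2], [3,11,12,13,10,12,11,12,2,4,3,13], 5, [([], 2552, [])], []⟩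
def c2554 : Clm := ⟨3, 3, true, [3,5,13,12,9,12,13,2,1,6,6,13,7,5,4], [1,5,8,13,10,12,8,2,13,4,12,11,13,7], 13, [([], 201, [11,3,12]), ([], 454, [11,3,13,12,9,13,12,8]), ([370], 698, [3,12,13,12,8,11,12,11])], []⟩
def c2555 : Clm := ⟨3, 3, true, [1,12,11,13,5,10,12,8,2,1,6,13,2,12,4,8], [3,5,13,12,9,12,13,2,1,6,6,13,7,5,4], 5, [([], 2554, [])], []⟩
def c2556 : Clm := ⟨6, 6, true, [10,11,12,8,12,13,5,10,2,7,13,2,6,5,11,3], [8,13,10,13,12,8,11,2,6,13,12,13,4,7], 15, [([], 621, [10,13,3,12,9,11]), ([110,104,98,96], 201, [3,9,13,10,11,12]), ([], 2532, [5,9,12,13,3,5,12,8])], []⟩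
def c2557 : Clm := ⟨6, 6, true, [8,12,9,13,3,10,12,11,13,2,7,9,13,4,6,13], [10,11,12,8,12,13,5,10,2,7,13,2,6,5,11,3], 5, [([], 2556, [])], []⟩
def c2558 : Clm := ⟨6, 6, true, [8,13,10,12,13,12,13,10,13,4,10,2,12,4,12,11], [9,12,13,10,13,12,8,13,2,4,3,7,13,6], 15, [([], 755, [11,13,10,12,9,12,13,10]), ([111,170,104], 201, [9,12,13,3,5,12]), ([], 221, [8,13,5,12,13,12,9,13])], []⟩
def c2559 : Clm := ⟨6, 6, true, [9,12,13,10,13,12,8,13,2,4,7,13,6], [8,13,10,12,13,12,13,10,13,4,10,2,12,4,12,11], 5, [([], 2558, [])], []⟩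
def c2560 : Clm := ⟨6, 6, true, [8,13,10,12,13,12,13,10,13,2,4,3,12,4,12,11,3], [9,12,13,10,13,12,8,13,2,4,7,13,6], 5, [([], 2559, [])], []⟩
def c2561 : Clm := ⟨6, 6, true, [1,8,10,12,8,13,12,11,10,2,7,13,2,11,12,6,13], [12,9,13,5,2,4,7,13,7,12,4,3], 15, [([], 599, [10,11,12,9,13,12,9,11]), ([170,96], 201, [8,10,11,3,12]), ([], 2529, [5,9,12,13,3,5,12,8])], []⟩
def c2562 : Clm := ⟨6, 6, true, [9,13,3,12,2,11,10,12,13,2,4], [1,8,10,12,8,13,12,11,10,2,7,13,2,11,12,6,13], 5, [([], 2561, [])], []⟩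
def c2563 : Clm := ⟨6, 6, true, [9,10,12,8,11,3,13,12,11,2,13,12,4,5,12,4], [5,8,12,13,10,12,2,7,9,13,6,10], 15, [([], 1091, [1,8,12,8]), ([110,110,104], 201, [1,3,10,12]), ([373], 1440, [1,8,11,13,10,12,8])], []⟩
def c2564 : Clm := ⟨6, 6, true, [5,8,12,13,12,2,1,7,9,13,6,10], [9,10,12,8,11,3,13,12,11,2,13,12,4,5,12,4], 5, [([], 2563, [])], []⟩
def c2565 : Clm := ⟨6, 6, true, [9,12,9,11,5,11,12,8,11,2,1,13,4,5,7,7], [5,8,13,3,10,12,13,12,9,2,1,6,9,13,2,1,6], 15, [([], 391, [8,12,11,12,9,11,10,13]), ([110,110,104], 201, [10,12,11,3,5,12]), ([372], 1097, [10,12,8,11,5,12,13,12])], []⟩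
def c2566 : Clm := ⟨6, 6, true, [8,12,9,11,13,2,7,11,12,4,9], [9,12,9,11,5,11,12,8,11,2,1,13,4,5,7,7], 5, [([], 2565, [])], []⟩
def c2567 : Clm := ⟨6, 6, true, [10,13,3,10,12,13,12,9,2,4,5,13,7,7], [8,12,9,11,13,2,7,11,12,4,9], 5, [([], 2566, [])], []⟩
def c2568 : Clm := ⟨6, 6, true, [1,10,12,11,12,9,11,12,8,2,4,7,13,7,5,13], [11,12,11,13,5,2,1,6,13,2,12,9,13], 15, [([], 788, [5,12,8,11,10,12,13]), ([96,170], 201, [3,8,10,11,12]), ([], 2529, [12,9,12,13,12,8,11,12])], []⟩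
def c2569 : Clm := ⟨6, 6, true, [3,11,13,12,9,12,2,4,13,6,5,13,2,6], [1,10,12,11,12,9,11,12,8,2,4,7,13,7,5,13], 5, [([], 2568, [])], []⟩
def c2570 : Clm := ⟨6, 6, true, [1,9,10,11,12,11,13,12,2,4,13,7,5,13,6,9], [3,9,10,13,10,12,9,11,2,7,13,2,1,7,13,2], 15, [([], 337, [9,12,11,3,10,13,12]), ([110,104,171], 201, [5,13,5,10,11,12]), ([], 2553, [13,3])], []⟩
def c2571 : Clm := ⟨6, 6, true, [9,10,13,3,12,9,11,2,7,13,7,5,4,10,4], [1,9,10,11,12,11,13,12,2,4,13,7,5,13,6,9], 5, [([], 2570, [])], []⟩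
def c2572 : Clm := ⟨6, 6, true, [3,12,9,13,12,8,13,12,2,7,13,2,7,8,13,10], [9,10,13,3,12,9,11,2,7,13,7,5,4,10,4], 5, [([], 2571, [])], []⟩
def c2573 : Clm := ⟨6, 6, true, [1,8,11,12,9,11,10,12,8,2,4,6,9,13,7,5], [12,8,13,12,9,2,1,13,4,12,13,6,9], 15, [([], 826, [10,13,10,12,9,11,13,5]), ([110,104,98], 201, [11,3,12,8,11,10,12]), ([], 2529, [3,5,9,12,11,5,12,8])], []⟩
def c2574 : Clm := ⟨6, 6, true, [12,9,13,12,2,4,12,13,4,13,12], [1,8,11,12,9,11,10,12,8,2,4,6,9,13,7,5], 5, [([], 2573, [])], []⟩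
def c2575 : Clm := ⟨6, 6, true, [1,11,5,12,8,11,13,2,4,13,7,13,7,5], [5,10,12,13,12,8,12,13,10,2,4,12,6,11,3,5,12], 15, [([], 1312, [5,8,10,13,12,11,10,12,9]), ([98,170,96], 201, [1,10,13,5,10,12]), ([], 2553, [3,5,10,13,12,11,10])], []⟩
def c2576 : Clm := ⟨6, 6, true, [5,10,12,13,12,8,12,13,10,2,1,4,12,6,11,5,12], [1,11,5,12,8,11,13,2,4,13,7,13,7,5], 5, [([], 2575, [])], []⟩
def c2577 : Clm := ⟨6, 6, true, [5,10,13,12,9,12,13,12,13,2,1,13,2,12,13,4,10], [12,8,12,13,3,5,2,7,13,2,1,7,13,2], 15, [([], 816, [13,3,12,13,10,11,12,9]), ([98,171,110,96], 201, [10,12,11,3,5]), ([372,370], 2553, [5,8,11,5,12,13,12,9])], []⟩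
def c2578 : Clm := ⟨6, 6, true, [10,12,8,12,13,3,5,2,7,13,7,5,4,10,4], [5,10,13,12,9,12,13,12,13,2,1,13,2,12,13,4,10], 5, [([], 2577, [])], []⟩
def c2579 : Clm := ⟨6, 6, true, [1,9,11,13,12,9,11,13,2,7,13,4,6,5,8], [8,10,11,3,12,9,12,11,2,13,2,12,8,13,4,10], 15, [([], 621, [11,13,12,8,13,5]), ([104], 201, [3,10,11,5,12]), ([372,370], 2553, [11,3])], []⟩
def c2580 : Clm := ⟨6, 6, true, [10,12,8,12,13,3,10,12,2,6,6,13,12,4,12], [1,9,11,13,12,9,11,13,2,7,13,4,6,5,8], 5, [([], 2579, [])], []⟩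
def c2581 : Clm := ⟨6, 6, true, [10,12,9,12,11,12,9,2,4,3,7,13,12,8,7], [12,9,13,5,10,11,12,11,2,1,6,13,6,13,5,4], 15, [([], 755, [1,12,8,11,10,13,12,11]), ([98,171,111,96], 201, [3,9,13,10,13,12]), ([], 2532, [3,8,11,12,13,12,9,13])], []⟩
def c2582 : Clm := ⟨6, 6, true, [1,9,11,12,9,11,12,8,11,2,1,6,13,6,5,4,13], [10,12,9,12,11,12,9,2,4,3,7,13,12,8,7], 5, [([], 2581, [])], []⟩
def c2583 : Clm := ⟨6, 6, true, [8,13,3,12,13,10,11,12,9,2,4,5,7,13,12,4,13], [12,9,13,12,13,12,9,12,2,4,12,7,11,3,10], 15, [([], 746, [5,8,10,12,13,5,12,9,13]), ([110,98], 201, [9,13,3,5,10,12]), ([373], 2307, [8,12,13,12,8,13,5])], []⟩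
def c2584 : Clm := ⟨6, 6, true, [12,9,13,12,13,12,9,12,2,1,4,12,7,11,10], [8,13,3,12,13,10,11,12,9,2,4,5,7,13,12,4,13], 5, [([], 2583, [])], []⟩
def c2585 : Clm := ⟨6, 6, true, [10,12,8,12,13,12,11,2,4,5,12,13,6,8], [3,5,8,10,13,12,9,2,1,13,7,9,12,4], 15, [([], 621, [5,11,3,12,8,13,10]), ([171,110,102], 201, [5,8,11,3,12]), ([], 459, [12,8,11,5,12,11,12,11])], []⟩
def c2586 : Clm := ⟨6, 6, true, [3,5,8,10,13,12,9,2,13,7,9,12,4,3], [10,12,8,12,13,12,11,2,4,5,12,13,6,8], 5, [([], 2585, [])], []⟩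
def c2587 : Clm := ⟨6, 6, true, [10,12,8,12,13,12,11,2,4,3,5,12,13,6,8], [3,5,8,10,13,12,9,2,13,7,9,12,4,3], 5, [([], 2586, [])], []⟩
def c2588 : Clm := ⟨6, 6, true, [1,11,12,8,13,12,8,13,5,2,4,12,13,6,9,10,13], [11,12,8,13,10,12,11,2,4,13,3,7,13], 15, [([], 656, [3,11,12,9,12,13,12,9]), ([104,171,111,96], 201, [9,10,11,3,5,12]), ([373,370], 2307, [9,13,10,13,10,12,11,10])], []⟩
def c2589 : Clm := ⟨6, 6, true, [11,12,8,13,10,12,11,2,4,13,7,13], [1,11,12,8,13,12,8,13,5,2,4,12,13,6,9,10,13], 5, [([], 2588, [])], []⟩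
def c2590 : Clm := ⟨6, 6, true, [11,13,12,8,11,10,12,8,13,2,7,9,13,12,4,5,12], [11,12,8,13,10,12,11,2,4,13,7,13], 5, [([], 2589, [])], []⟩
def c2591 : Clm := ⟨6, 6, true, [9,10,13,12,8,13,12,13,12,2,13,6,12,6,13,6], [9,10,11,10,12,13,5,2,7,13,4,12], 15, [([], 1616, [10,11,10,12,9]), ([110,104,100], 201, [3,13,10,12,9,13,12]), ([372,370], 2238, [1,9,11,13,10,12,8,11,12])], []⟩
def c2592 : Clm := ⟨6, 6, true, [3,5,9,10,13,10,12,2,7,13,4,10,12], [9,10,13,12,8,13,12,13,12,2,13,6,12,6,13,6], 5, [([], 2591, [])], []⟩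
def c2593 : Clm := ⟨6, 6, true, [3,9,10,13,12,13,2,6,13,2,1,6,13,2], [8,12,9,11,13,10,2,4,7,9,13,6], 15, [([], 791, [1,11,13,12,8,11,12,13]), ([171,100,98], 201, [13,3,5,10]), ([370], 1097, [10,11,5,12,8,11])], []⟩
def c2594 : Clm := ⟨6, 6, true, [8,12,9,11,13,10,2,4,3,7,9,13,6], [3,9,10,13,12,13,2,6,13,2,1,6,13,2], 5, [([], 2593, [])], []⟩
def c2595 : Clm := ⟨6, 6, true, [3,8,10,11,13,12,9,12,13,2,1,4,5,7,13,7], [11,12,9,12,13,12,2,6,9,13,2,1,12], 15, [([], 761, [9,13,12,8,11,12,11,10,13]), ([111,102], 201, [3,11,13,10,12]), ([372,370], 2553, [1,5,9,13,5,12,11,12,8])], []⟩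
def c2596 : Clm := ⟨6, 6, true, [1,13,12,9,13,12,13,5,10,2,11,12,8,11,2,13], [1,9,12,11,5,11,12,9,2,1,6,11,10,12,8,13], 15, [([], 826, [1,3,10,12,9]), ([170,110,104], 201, [13,5,13,12,13,10]), ([370], 1097, [8,10,12,8,11,3,12,9])], []⟩
def c2597 : Clm := ⟨6, 6, true, [1,9,12,11,5,11,12,9,2,6,11,10,12,8,13], [1,13,12,9,13,12,13,5,10,2,11,12,8,11,2,13], 5, [([], 2596, [])], []⟩
def c2598 : Clm := ⟨6, 6, true, [8,13,5,10,12,13,12,8,2,4,5,7,13,2,6,11], [9,10,13,5,10,12,2,4,13,12,7,11,2], 15, [([], 701, [9,12,11,10,12,13,10,12]), ([104,96], 201, [1,11,12]), ([], 454, [11,3,13,12,9,13,12,8,13])], []⟩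
def c2599 : Clm := ⟨6, 6, true, [3,12,11,10,12,9,11,10,2,4,6,12,11,13,12,6], [8,13,5,10,12,13,12,8,2,4,5,7,13,2,6,11], 5, [([], 2598, [])], []⟩
def c2600 : Clm := ⟨6, 6, true, [3,11,12,8,11,13,12,8,2,1,4,6,12,8,13,5], [10,12,8,11,12,9,12,11,10,2,1,13,4,12,8,13,7], 15, [([], 209, [12,11,10,12,13,10,12]), ([111,170,102], 201, [3,10,13,5,12]), ([372,370], 2553, [3,5,10,13,5,12,11,10])], []⟩
def c2601 : Clm := ⟨6, 6, true, [10,12,8,11,12,9,12,11,10,2,4,5,12,8,11,5,7], [3,11,12,8,11,13,12,8,2,1,4,6,12,8,13,5], 5, [([], 2600, [])], []⟩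
def c2602 : Clm := ⟨6, 6, true, [3,11,12,11,13,12,8,2,4,12,9,13,3,4], [10,12,8,11,12,9,12,11,10,2,4,5,12,8,11,5,7], 5, [([], 2601, [])], []⟩
def c2603 : Clm := ⟨6, 6, true, [5,11,12,8,11,10,12,9,2,4,3,12,13,6,6,12], [12,8,12,13,5,10,11,2,7,13,7,5], 15, [([], 597, [11,12,11,5,10,13,12,9]), ([96,171,110], 201, [3,5,11,10,12]), ([], 2553, [8,12,13,3,12,9])], []⟩
def c2604 : Clm := ⟨6, 6, true, [10,12,8,12,13,3,5,2,1,7,13,7,5], [5,11,12,8,11,10,12,9,2,4,3,12,13,6,6,12], 5, [([], 2603, [])], []⟩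
def c2605 : Clm := ⟨6, 6, true, [5,11,12,8,11,10,12,9,2,4,12,13,6,6,12], [10,12,8,12,13,3,5,2,1,7,13,7,5], 5, [([], 2604, [])], []⟩
def c2606 : Clm := ⟨5, 6, true, [9,10,12,8,13,5,13,12,9,2,4,13,6,5,13,6,13], [8,11,13,12,9,2,7,13,10,12,4,8], 15, [([], 122, [5,9,12,8,11,10,12,8,13]), ([171,111,104], 201, [3,13,12,13,10]), ([372], 1908, [9,10,13,12,11,12,8,12])], []⟩
def c2607 : Clm := ⟨6, 5, true, [10,12,9,12,13,5,13,12,2,6,9,13,7,10,13], [9,10,12,8,13,5,13,12,9,2,4,13,6,5,13,6,13], 5, [([], 2606, [])], []⟩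
def c2608 : Clm := ⟨5, 6, true, [9,13,3,10,13,12,11,13,2,11,12,4,5,10,4,13], [10,12,9,12,13,5,13,12,2,6,9,13,7,10,13], 5, [([], 2607, [])], []⟩
def c2609 : Clm := ⟨6, 6, true, [5,8,13,5,12,9,11,12,2,4,5,11,12,6,11,13], [13,3,12,8,11,13,12,11,2,4,12,7,11,3,10], 15, [([], 495, [9,10,11,3,12,11,13]), ([111,104,98], 201, [3,13,12,9,11,10,12]), ([373,370], 2307, [1,5,12,11,13,12,9])], []⟩
def c2610 : Clm := ⟨6, 6, true, [13,3,12,8,11,13,12,11,2,1,4,12,7,11,10], [5,8,13,5,12,9,11,12,2,4,5,11,12,6,11,13], 5, [([], 2609, [])], []⟩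
def c2611 : Clm := ⟨6, 6, true, [1,5,10,12,8,13,12,11,2,1,4,13,12], [8,11,12,11,13,10,12,11,2,1,7,11,12,4,8,13], 15, [([], 1282, [9,12,13,5,12,9,13]), ([104,96], 201, [1,5,13,5,12]), ([], 454, [8,11,10,12,9,11,12,13,10])], []⟩
def c2612 : Clm := ⟨6, 6, true, [3,9,12,13,12,13,10,11,2,7,13,7,12,13,4], [1,5,10,12,8,13,12,11,2,1,4,13,12], 5, [([], 2611, [])], []⟩
def c2613 : Clm := ⟨6, 6, true, [3,12,11,10,12,8,11,12,4,10,2,12,4,6], [5,9,10,12,13,3,2,4,5,13,7,12,9], 15, [([], 712, [5,9,11,5,12,13,10,12,9]), ([170,111,104], 201, [13,5,10,11,12]), ([], 2553, [5,10,13,3,12,11,10,13])], []⟩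
def c2614 : Clm := ⟨6, 6, true, [3,9,12,11,5,10,13,2,1,13,4,5,7,12,9], [3,12,11,10,12,8,11,12,4,10,2,12,4,6], 5, [([], 2613, [])], []⟩
def c2615 : Clm := ⟨6, 6, true, [5,9,10,13,12,11,12,2,6,13,12,4,5,9], [3,5,8,10,11,13,12,9,2,7,9,13,7,10,13,6], 15, [([], 644, [5,12,8,11,3,10,12,8,11]), ([170], 201, [3,11,13,10]), ([372], 1097, [1,5,10,13,12,8])], []⟩
def c2616 : Clm := ⟨6, 6, true, [1,10,13,12,9,12,13,12,2,4,13,6,6,13,2,5], [5,9,10,13,12,11,12,2,6,13,12,4,5,9], 5, [([], 2615, [])], []⟩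
def c2617 : Clm := ⟨6, 6, true, [5,9,10,13,12,11,12,2,1,6,13,12,4,3,5,9], [1,10,13,12,9,12,13,12,2,4,13,6,6,13,2,5], 5, [([], 2616, [])], []⟩
def c2618 : Clm := ⟨6, 6, true, [5,12,9,11,13,12,13,10,2,4,7,13,5,6,13,6], [1,9,10,12,8,13,12,11,13,2,4,5,13,6,13,2], 15, [([], 826, [9,12,8,13,12,13,5,10]), ([111,111,96], 201, [3,5,10,13,5,12]), ([373], 1440, [5,8,10,13,12,8,11,13])], []⟩
def c2619 : Clm := ⟨6, 6, true, [1,9,10,12,8,13,12,11,13,2,4,5,13,6,13,10,2], [5,12,9,11,13,12,13,10,2,4,7,13,5,6,13,6], 5, [([], 2618, [])], []⟩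
def c2620 : Clm := ⟨6, 6, true, [8,12,9,11,13,12,9,13,2,6,13,2,6,13,6], [1,9,10,12,8,13,12,11,13,2,4,5,13,6,13,10,2], 5, [([], 2619, [])], []⟩
def c2621 : Clm := ⟨6, 6, true, [8,10,11,10,12,13,5,10,12,2,13,12,13,6,5,4,12], [1,8,12,13,10,12,8,12,13,2,6,6,13,4,10], 15, [([], 701, [9,13,3,12,11,10,13,12,8]), ([111,104], 201, [3,9,10,11,13,12]), ([372,370], 2532, [5,10,13,3,12,11,10,13])], []⟩
def c2622 : Clm := ⟨6, 6, true, [8,13,10,13,12,8,11,12,2,6,6,13,4], [8,10,11,10,12,13,5,10,12,2,13,12,13,6,5,4,12], 5, [([], 2621, [])], []⟩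
def c2623 : Clm := ⟨6, 6, true, [5,10,13,12,8,11,10,13,2,6,13,2,6,13,12,7], [8,13,10,13,12,8,11,12,2,6,6,13,4], 5, [([], 2622, [])], []⟩
def c2624 : Clm := ⟨6, 6, true, [11,13,12,8,13,10,13,2,4,12,6,13,6,10,12], [1,11,12,9,13,10,13,2,4,12,11,10], 15, [([], 334, [8,11,10,12,13,10]), ([171,110,171], 201, [5,12,13,12,11]), ([], 221, [9,11,12,11,5,11,12])], []⟩
def c2625 : Clm := ⟨6, 6, true, [1,11,12,9,13,10,13,2,4,3,12,11,10], [11,13,12,8,13,10,13,2,4,12,6,13,6,10,12], 5, [([], 2624, [])], []⟩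
def c2626 : Clm := ⟨6, 6, true, [5,12,11,10,12,13,2,13,2,12,13,2,13], [3,12,13,12,9,2,11,12,7,11,2], 15, [([], 1282, [1,9,12,11,5,11,12,11]), ([96,171,111,96], 201, [1,5,11,5,12]), ([], 454, [5,12,8,11,12,9,11,12])], []⟩
def c2627 : Clm := ⟨6, 6, true, [3,12,11,12,13,10,11,2,6,9,13,6,13,4], [5,12,11,10,12,13,2,13,2,12,13,2,13], 5, [([], 2626, [])], []⟩
def c2628 : Clm := ⟨6, 6, true, [1,8,10,12,9,11,13,12,9,2,1,4,12,6,13,5,4], [8,10,12,9,13,3,10,2,11,13,2,6,9], 15, [([], 735, [9,11,12,8,13]), ([110,110,104,96], 201, [3,11,13,10,12,11,12]), ([372], 1097, [11,13,10,12,8])], []⟩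
def c2629 : Clm := ⟨6, 6, true, [10,13,12,8,11,10,12,13,2,13,6,6,13,4], [10,12,13,12,9,2,6,6,13,5,12,13], 15, [([], 597, [1,11,12,9,11,12,9,13]), ([96,171,110,96], 201, [1,3,8,10,12]), ([], 2529, [1,3])], []⟩
def c2630 : Clm := ⟨6, 6, true, [10,12,13,10,12,9,2,6,6,13,5,12,13], [10,13,12,8,11,10,12,13,2,13,6,6,13,4], 5, [([], 2629, [])], []⟩
def c2631 : Clm := ⟨6, 6, true, [10,12,11,3,10,12,8,2,4,7,12,4,13,5,7], [10,12,9,13,2,4,6,12,11,13,6,5], 15, [([], 627, [11,5,12,11,13,10]), ([110,96], 201, [3,13,12,8,13,10,12]), ([], 2529, [5,12,13,5,12,11])], []⟩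
def c2632 : Clm := ⟨6, 6, true, [10,12,9,13,12,2,11,12,4,13,5,6,6], [10,12,11,3,10,12,8,2,4,7,12,4,13,5,7], 5, [([], 2631, [])], []⟩
def c2633 : Clm := ⟨6, 6, true, [11,12,8,13,10,13,12,2,13,2,12,4,12,4], [10,12,9,13,12,2,11,12,4,13,5,6,6], 5, [([], 2632, [])], []⟩
def c2634 : Clm := ⟨6, 6, true, [9,11,5,11,12,11,10,2,4,3,12,6,9,13,6], [8,12,8,13,10,11,12,9,2,4,6,12,13,3,7,10], 15, [([], 746, [3,9,12,13,5,10,12]), ([110,104,100], 201, [5,13,5,10,12]), ([], 2553, [12,9,11,12,13,12,8,12])], []⟩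
def c2635 : Clm := ⟨6, 6, true, [8,12,8,13,10,11,12,9,2,1,4,6,12,13,7,10], [9,11,5,11,12,11,10,2,4,3,12,6,9,13,6], 5, [([], 2634, [])], []⟩
def c2636 : Clm := ⟨5, 6, true, [8,12,8,11,3,12,13,10,13,2,4,3,13,12,4,10,11], [1,13,10,13,10,2,13,4,6,10], 15, [([], 169, [11,5,10,12,11,12,8,13]), ([171,111,98], 201, [3,8,13,10,12,13,10]), ([372], 1908, [12,11,12,9,11,10,13])], []⟩
def c2637 : Clm := ⟨6, 5, true, [1,5,11,13,10,2,13,4,6], [8,12,8,11,3,12,13,10,13,2,4,3,13,12,4,10,11], 5, [([], 2636, [])], []⟩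
def c2638 : Clm := ⟨6, 6, true, [13,3,12,9,11,2,4,3,12,4,5,7], [1,8,12,9,11,5,10,12,11,12,4,6,9,10,12,4,5], 15, [([], 746, [1,8,10,11,12,11,10,12,11]), ([171,111,96], 201, [3,9,10,12,13,10]), ([370], 1908, [10,11,13,12,8])], []⟩
def c2639 : Clm := ⟨6, 6, true, [8,10,12,9,11,13,12,9,2,6,13,6,10,12,6], [13,3,12,9,11,2,4,3,12,4,5,7], 5, [([], 2638, [])], []⟩
def c2640 : Clm := ⟨6, 6, true, [13,3,12,8,11,10,12,2,4,3,12,8,13,12,4], [8,10,12,9,11,13,12,9,2,6,13,6,10,12,6], 5, [([], 2639, [])], []⟩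
def c2641 : Clm := ⟨6, 6, true, [9,12,8,13,3,10,13,12,11,2,4,12,13,2,7,11,12], [5,9,10,11,3,12,9,2,4,3,13,12,11,2,1], 11, [([], 2584, [1,12,11,10,12,13,12,13]), ([373], 755, [5,12,13,12,9,13,12,11]), ([98,171,110], 201, [5,8,10,12,13,3,5,12])], []⟩
def c2642 : Clm := ⟨6, 6, true, [5,9,10,11,3,12,9,2,4,3,13,12,11,2,3], [9,12,8,13,3,10,13,12,11,2,4,12,13,2,7,11,12], 5, [([], 2641, [])], []⟩
def c2643 : Clm := ⟨6, 6, true, [13,10,13,12,9,13,12,13,2,6,13,6,8,12,13], [10,13,10,12,9,11,13,2,13,12,4,13,6], 11, [([], 1844, [3,11,10,13,12,13]), ([373,370], 1296, [10,12,9,13,5,12,11,12]), ([104,98,96], 201, [1,9,13,5,12])], []⟩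
def c2644 : Clm := ⟨6, 6, true, [11,12,13,12,13,2,1,7,13,2,6,9], [13,10,13,12,9,13,12,13,2,6,13,6,8,12,13], 5, [([], 2643, [])], []⟩
def c2645 : Clm := ⟨6, 6, true, [3,13,5,12,8,11,12,8,2,1,4,7,12,13,6,9], [1,3,12,8,12,2,4,5,12,13,12,7,9], 17, [([], 768, [8,12,11,5,11,12,9]), ([100,98], 201, [13,3,5,12,13,10]), ([], 2195, [1,10,13,12,9,11,12,11,12])], []⟩
def c2646 : Clm := ⟨6, 6, true, [1,3,2,13,4,7,13,12,4,12], [3,13,5,12,8,11,12,8,2,1,4,7,12,13,6,9], 5, [([], 2645, [])], []⟩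
def c2647 : Clm := ⟨5, 6, true, [11,3,10,12,9,12,13,2,4,5,7,5,13,2,7], [9,10,13,5,13,12,8,2,4,12,6,13,12,4], 17, [([], 122, [8,10,12,13,5]), ([96,171,96], 201, [3,12,11,5,10,13]), ([372,370], 1248, [1,12,8,11,10,12,8,13,12])], []⟩
def c2648 : Clm := ⟨6, 5, true, [8,11,3,13,12,9,2,1,11,12,4,5,7,11], [11,3,10,12,9,12,13,2,4,5,7,5,13,2,7], 5, [([], 2647, [])], []⟩
def c2649 : Clm := ⟨6, 6, true, [1,5,9,11,12,11,13,12,13,2,4,7,13,3,7,7], [5,13,3,10,12,9,12,11,2,4,3,6,5,12,13,2], 17, [([], 621, [3,9,12,9,13,12,11,13]), ([104], 201, [5,11,12,11,10,13,12]), ([373], 2571, [1,13,12,9,12,11,12,9])], []⟩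
def c2650 : Clm := ⟨6, 6, true, [3,13,10,11,12,9,11,12,11,2,1,7,13,4,12,13,4], [1,5,9,11,12,11,13,12,13,2,4,7,13,3,7,7], 5, [([], 2649, [])], []⟩
def c2651 : Clm := ⟨6, 6, true, [1,12,11,10,12,13,10,12,11,2,4,13,6,9,13], [3,13,10,11,12,9,11,12,11,2,1,7,13,4,12,13,4], 5, [([], 2650, [])], []⟩
def c2652 : Clm := ⟨5, 6, true, [1,12,9,12,11,5,10,12,9,2,1,13,4,12,13,2], [5,13,5,12,13,12,9,2,4,12,13,2,5], 11, [([], 725, [1,8,11,13,12,13,10,13]), ([], 495, [8,11,12,8,11,10,12]), ([111,104,98], 201, [9,10,13,3,5,12])], []⟩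
def c2653 : Clm := ⟨6, 5, true, [8,13,12,11,10,12,8,2,4,5,13,12,4], [1,12,9,12,11,5,10,12,9,2,1,13,4,12,13,2], 5, [([], 2652, [])], []⟩
def c2654 : Clm := ⟨5, 6, true, [3,12,11,10,12,8,13,12,2,1,13,4,12,13,10], [8,13,12,11,10,12,8,2,4,5,13,12,4], 5, [([], 2653, [])], []⟩
def c2655 : Clm := ⟨5, 6, true, [1,9,12,8,13,10,12,2,1,13,2,6,13,12,7], [1,11,13,12,8,13,5,10,2,4,6,13,5,6,9], 11, [([], 743, [5,10,12,9,11,12,13]), ([370], 606, [3,8,13,5]), ([96,170,110], 201, [10,11,12,11,5,12,11])], []⟩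
def c2656 : Clm := ⟨6, 5, true, [3,9,11,12,11,13,12,9,2,7,13,2,1,6,9], [1,9,12,8,13,10,12,2,1,13,2,6,13,12,7], 5, [([], 2655, [])], []⟩
def c2657 : Clm := ⟨6, 5, true, [1,8,11,13,12,11,10,13,12,9,2,4,7,13,12,13], [1,5,8,12,9,11,12,8,2,4,5,7,11,5,13], 17, [([], 621, [8,13,10,12,9,13,10]), ([110,110,104], 201, [5,8,11,5,11,12]), ([372,370], 443, [9,10,11,12,8,11,10])], []⟩
def c2658 : Clm := ⟨5, 6, true, [11,3,13,12,8,11,12,11,2,4,5,6,13,2,4], [1,8,11,13,12,11,10,13,12,9,2,4,7,13,12,13], 5, [([], 2657, [])], []⟩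
def c2659 : Clm := ⟨6, 6, true, [1,10,13,12,13,10,12,9,11,2,4,13,5,6,13,2,3], [12,13,12,8,11,10,2,1,4,13,12,13,4], 11, [([], 1998, [1,5,11,5,12,11]), ([373,370], 1091, [1,11,10,13,12,8,12,13]), ([111,104,96], 201, [3,8,13,10,12,13,10])], []⟩
def c2660 : Clm := ⟨6, 6, true, [12,13,12,8,11,10,2,4,13,12,11,13,4], [1,10,13,12,13,10,12,9,11,2,4,13,5,6,13,2,3], 5, [([], 2659, [])], []⟩
def c2661 : Clm := ⟨6, 6, true, [5,10,13,12,11,12,9,2,11,5,6,13,2,11], [12,13,12,8,11,10,2,4,13,12,11,13,4], 5, [([], 2660, [])], []⟩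
def c2662 : Clm := ⟨6, 6, true, [1,12,13,10,13,10,12,2,11,5,12,4,10,12,4], [10,13,12,9,12,13,10,12,8,2,13,4,6,5,4,8], 17, [([], 735, [1,13,12,11,10,13,12,9,11]), ([111,104], 201, [9,10,12,9,13,3,12]), ([], 1875, [9,12,8,13,10,13,12])], []⟩
def c2663 : Clm := ⟨6, 6, true, [5,8,10,11,5,12,11,10,12,9,2,13,7,13,12,4,5,8], [1,12,13,10,13,10,12,2,11,5,12,4,10,12,4], 5, [([], 2662, [])], []⟩
def c2664 : Clm := ⟨6, 6, true, [3,12,11,10,12,8,11,12,2,4,7,12,11], [1,13,5,12,11,10,12,9,12,2,4,7,12,8,13,3], 17, [([], 712, [10,11,12,8,11,13,5,12]), ([170,111,104], 201, [1,11,10,13,12]), ([372,370], 2290, [1,10,12,9,12,13,10])], []⟩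
def c2665 : Clm := ⟨6, 6, true, [1,13,5,12,11,10,12,9,12,2,1,4,7,12,8,13], [3,12,11,10,12,8,11,12,2,4,7,12,11], 5, [([], 2664, [])], []⟩
def c2666 : Clm := ⟨6, 6, true, [3,12,11,10,12,8,11,12,2,4,3,7,12,11], [1,13,5,12,11,10,12,9,12,2,1,4,7,12,8,13], 5, [([], 2665, [])], []⟩
def c2667 : Clm := ⟨6, 6, true, [3,9,11,10,12,11,10,12,2,13,5,12,7,13,4], [10,13,3,12,8,12,13,2,1,11,13], 11, [([], 1066, [12,9,11,5,11,12,9,11,13]), ([], 768, [3,8,13,12,11,10,12,9,13]), ([110,171,102], 201, [3,8,13,10,11,12,13])], []⟩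
def c2668 : Clm := ⟨6, 6, true, [10,13,3,12,8,12,13,10,2,1,11,13], [3,9,11,10,12,11,10,12,2,13,5,12,7,13,4], 5, [([], 2667, [])], []⟩
def c2669 : Clm := ⟨6, 6, true, [3,5,9,13,10,12,13,2,6,13,4,6,6,13], [10,13,3,12,8,12,13,10,2,1,11,13], 5, [([], 2668, [])], []⟩
def c2670 : Clm := ⟨6, 6, true, [9,10,12,8,11,12,8,2,1,7,9,13,7], [12,8,11,12,9,12,11,13,2,11,12,4,5,12,9,13], 17, [([], 816, [3,13,12,9,11,12,9,11]), ([98,171,110], 201, [8,12,13,10,13,10,13]), ([373], 868, [11,5,10,12,8])], []⟩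
def c2671 : Clm := ⟨6, 6, true, [3,13,10,11,12,9,11,5,12,2,4,12,6,5,13,12,7], [9,10,12,8,11,12,8,2,1,7,9,13,7], 5, [([], 2670, [])], []⟩
def c2672 : Clm := ⟨6, 6, true, [11,12,13,10,12,13,2,1,6,13,2,6,5,6], [1,8,11,12,9,11,5,12,2,4,3,7,9,12,11], 11, [([], 1648, [3,5,10,13,12,9,12,11]), ([372,370], 1296, [10,11,12,8,13,10,11]), ([111,170,102], 201, [3,9,12,11,10,12])], []⟩
def c2673 : Clm := ⟨6, 6, true, [1,8,11,12,9,11,5,12,2,4,7,9,12,11], [11,12,13,10,12,13,2,1,6,13,2,6,5,6], 5, [([], 2672, [])], []⟩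
def c2674 : Clm := ⟨6, 6, true, [5,8,12,9,11,3,12,9,2,1,4,6,9,12,11], [12,13,3,10,12,8,11,2,13,12,4,3,10,4], 11, [([], 1361, [1,9,11,10,12,11,13,12]), ([372,370], 650, [5,11,12,8,12,13]), ([104,102,98], 201, [5,8,11,3,10,12,11])], []⟩
def c2675 : Clm := ⟨6, 6, true, [1,5,8,12,11,13,10,12,13,2,13,12,4,3,2,6], [5,8,12,9,11,3,12,9,2,1,4,6,9,12,11], 5, [([], 2674, [])], []⟩
def c2676 : Clm := ⟨6, 6, true, [3,11,12,11,10,12,8,13,2,4,5,13,7,13,12,13], [5,12,11,12,13,10,13,12,2,7,13,2,13,12,11,10], 17, [([], 337, [1,9,10,12,13,5,10,12,13]), ([110,104,171], 201, [3,10,11,10,12,13]), ([373,370], 1014, [12,11,12,11,10,13])], []⟩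
def c2677 : Clm := ⟨6, 6, true, [8,12,9,11,3,13,12,13,2,4,6,13,10,12,11,10], [3,11,12,11,10,12,8,13,2,4,5,13,7,13,12,13], 5, [([], 2676, [])], []⟩
def c2678 : Clm := ⟨6, 6, true, [5,12,13,12,8,12,13,10,2,13,12,4,8,10,12,8], [8,12,11,5,10,12,13,12,2,11,13,12,4,3,9], 11, [([], 617, [3,10,11,12,11]), ([], 704, [5,10,13,12,13,10]), ([111,98], 201, [5,12,13,12,11])], []⟩
def c2679 : Clm := ⟨6, 6, true, [8,12,11,5,10,12,13,12,2,1,11,13,12,4,9], [5,12,13,12,8,12,13,10,2,13,12,4,8,10,12,8], 5, [([], 2678, [])], []⟩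
def c2680 : Clm := ⟨6, 6, true, [5,9,12,13,3,12,9,2,4,12,7,11,13,6,9], [8,12,11,5,10,12,13,12,2,1,11,13,12,4,9], 5, [([], 2679, [])], []⟩
def c2681 : Clm := ⟨6, 6, true, [5,9,12,11,13,12,2,7,9,13,12,13,4], [12,8,11,5,11,5,12,11,2,4,13,12,13,2], 17, [([], 826, [12,8,12,13,5,12,13]), ([110,171], 201, [1,5,11,13,10,12,13]), ([373], 481, [3,5,12,13,5,10,12])], []⟩
def c2682 : Clm := ⟨6, 6, true, [12,8,11,5,11,5,12,11,2,4,13,12,13,10,2], [5,9,12,11,13,12,2,7,9,13,12,13,4], 5, [([], 2681, [])], []⟩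
def c2683 : Clm := ⟨6, 6, true, [3,9,12,11,13,12,2,1,13,12,4,6,9], [12,8,11,5,11,5,12,11,2,4,13,12,13,10,2], 5, [([], 2682, [])], []⟩
def c2684 : Clm := ⟨6, 6, true, [5,12,8,11,13,12,13,5,2,4,6,13,6,10,12], [10,13,12,9,13,5,13,2,1,13,12,4,6,9], 11, [([], 871, [5,8,11,12,11,13,12,13,10]), ([], 334, [1,11,13,10,12,11,13,12,8]), ([], 201, [1,12,8,11,12])], []⟩
def c2685 : Clm := ⟨6, 6, true, [10,13,12,9,13,5,13,5,2,7,9,13,12,13,4], [5,12,8,11,13,12,13,5,2,4,6,13,6,10,12], 5, [([], 2684, [])], []⟩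
def c2686 : Clm := ⟨6, 6, true, [10,13,12,9,13,5,12,11,2,4,3,12,4,9,12], [10,13,12,9,13,5,13,5,2,7,9,13,12,13,4], 5, [([], 2685, [])], []⟩
def c2687 : Clm := ⟨6, 6, true, [3,8,11,12,11,10,13,12,8,2,1,13,4,6,9,13], [9,12,11,3,13,12,8,13,2,13,4,12,4,3], 11, [([], 685, [9,10,13,10,13,12,11,12,9]), ([370], 209, [3,8,12,11,10,12,9,11,12]), ([100,170,96], 201, [5,10,11,3,12])], []⟩
def c2688 : Clm := ⟨6, 6, true, [9,12,11,3,13,12,8,13,2,1,13,4,12,4], [3,8,11,12,11,10,13,12,8,2,1,13,4,6,9,13], 5, [([], 2687, [])], []⟩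
def c2689 : Clm := ⟨6, 6, true, [9,12,8,11,13,5,12,13,2,4,13,10,12,7,13], [1,11,5,12,9,13,5,12,13,2,13,4,7,12,9,11], 17, [([], 746, [3,9,13,12,8,13,10,13]), ([110,98], 201, [5,9,12,11,3,10,12]), ([373,370], 1414, [10,13,3,12,9,11,12,11])], []⟩
def c2690 : Clm := ⟨6, 6, true, [8,10,12,9,13,3,12,9,2,11,13,2,7,12,9,11], [9,12,8,11,13,5,12,13,2,4,13,10,12,7,13], 5, [([], 2689, [])], []⟩
def c2691 : Clm := ⟨6, 6, true, [3,8,11,12,13,10,13,12,9,2,13,2,13,12,7,13], [8,10,12,9,13,3,12,9,2,11,13,2,7,12,9,11], 5, [([], 2690, [])], []⟩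
def c2692 : Clm := ⟨6, 6, true, [9,12,8,13,12,9,11,10,2,7,13,2,7,5,7], [8,12,8,11,13,12,8,2,13,2,12,9,11,12], 17, [([], 644, [9,10,11,3,13,12,9]), ([171,102], 201, [3,5,11,10,12,11]), ([372,370], 2620, [8,13,12,9,11,13,5,10])], []⟩
def c2693 : Clm := ⟨6, 6, true, [1,5,12,9,11,13,12,11,13,10,2,13,4,6,5,12,4], [9,12,8,13,12,9,11,10,2,7,13,2,7,5,7], 5, [([], 2692, [])], []⟩
def c2694 : Clm := ⟨6, 6, true, [5,9,10,11,12,8,11,13,5,4,10,12,6,13,2], [3,8,12,8,11,5,12,13,10,2,7,13,4,6,8,12], 17, [([], 688, [5,12,8,11,12,11,13]), ([110,104,96], 201, [5,8,11,3,12,13,10]), ([372,370], 1947, [3,12,9,13,10,12,9,11,12])], []⟩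
def c2695 : Clm := ⟨6, 6, true, [8,11,12,11,5,12,11,2,1,11,12,9,13,2,3], [5,9,10,11,12,8,11,13,5,4,10,12,6,13,2], 5, [([], 2694, [])], []⟩
def c2696 : Clm := ⟨6, 6, true, [1,11,12,8,13,10,12,8,13,2,1,4,7,12,9,11,12], [5,12,9,11,13,12,2,6,9,13,2,12,7], 17, [([], 656, [8,11,12,8,11,5,12,9,13]), ([104,171,111,96], 201, [3,5,9,10,13,12,13]), ([373], 1501, [9,10,11,10,12,8,11,13])], []⟩
def c2697 : Clm := ⟨6, 6, true, [3,8,12,9,11,12,13,2,4,13,6,13,12,8], [1,11,12,8,13,10,12,8,13,2,1,4,7,12,9,11,12], 5, [([], 2696, [])], []⟩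
def c2698 : Clm := ⟨6, 6, true, [1,13,12,11,10,13,12,13,2,6,9,13,6,13,2,5], [10,12,13,10,13,12,13,2,4,13,12,11,2,1], 11, [([], 2572, [1,5,13,12,13,10,13,12,9]), ([372], 701, [8,13,3,10,12,11,10]), ([98,170,110], 201, [3,5,11,5,12,11])], []⟩
def c2699 : Clm := ⟨6, 6, true, [10,12,13,10,13,12,13,2,4,13,12,11,2,3], [1,13,12,11,10,13,12,13,2,6,9,13,6,13,2,5], 5, [([], 2698, [])], []⟩
def c2700 : Clm := ⟨6, 6, true, [1,8,13,5,13,12,8,2,6,13,2,12,9,12], [3,12,13,12,9,13,2,11,12,11,2], 11, [([], 871, [11,12,11,13,5,10,12,8]), ([], 334, [3,5,13,5,12,8,13,10]), ([171,111,104,96], 201, [3,9,11,13,12])], []⟩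
def c2701 : Clm := ⟨6, 6, true, [3,12,13,12,9,13,2,11,12,11,10,2], [1,8,13,5,13,12,8,2,6,13,2,12,9,12], 5, [([], 2700, [])], []⟩
def c2702 : Clm := ⟨6, 6, true, [12,11,10,12,9,11,2,6,11,5,4,7], [8,12,8,11,3,12,11,10,13,2,4,7,13,7,10], 11, [([], 986, [5,9,13,10,12,11,10]), ([253,226,252], 171, [11,12,8,11,10]), ([104,96], 201, [3,9,13,12,13,10,12])], []⟩
def c2703 : Clm := ⟨6, 6, true, [8,12,8,11,5,12,2,4,7,5,7,11], [12,11,10,12,9,11,2,6,11,5,4,7], 5, [([], 2702, [])], []⟩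
def c2704 : Clm := ⟨6, 6, true, [10,11,12,9,11,10,2,1,6,13,2,1,7], [8,12,8,11,5,12,2,4,7,5,7,11], 5, [([], 2703, [])], []⟩
def c2705 : Clm := ⟨6, 6, true, [3,12,11,5,10,13,12,9,13,2,4,13,6,9,10,12], [11,12,13,12,13,5,10,2,1,13,4,5], 11, [([], 2084, [1,10,12,9,12,13,10,12]), ([373], 644, [1,12,13,10,12,9,12]), ([170], 201, [3,5,10])], []⟩
def c2706 : Clm := ⟨6, 6, true, [11,12,13,12,13,5,2,4,5,13], [3,12,11,5,10,13,12,9,13,2,4,13,6,9,10,12], 5, [([], 2705, [])], []⟩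
def c2707 : Clm := ⟨6, 6, true, [10,13,12,11,12,9,2,4,5,6,9,11,12], [11,12,13,12,13,5,2,4,5,13], 5, [([], 2706, [])], []⟩
def c2708 : Clm := ⟨6, 6, true, [1,11,12,11,13,12,13,10,2,4,13,5,6,13,2], [3,8,12,13,10,12,11,10,2,1,6,13,12,4,9], 11, [([], 2685, [3,5,10,12,8,11,12,11,13]), ([372], 1282, [3,9,11,10,13,12,8,11,10]), ([98,170,110], 201, [1,13,12,13])], []⟩
def c2709 : Clm := ⟨6, 6, true, [3,8,12,13,10,12,11,10,2,6,13,12,4,3,9], [1,11,12,11,13,12,13,10,2,4,13,5,6,13,2], 5, [([], 2708, [])], []⟩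
def c2710 : Clm := ⟨6, 6, true, [13,3,5,12,9,13,10,12,2,1,13,12,4,7,9,12], [9,10,13,12,9,13,10,11,2,4,5,12,4,13,3], 11, [([], 915, [5,8,12,11,10,12,9]), ([], 243, [5,8,11,10,12]), ([171,110,110,96], 201, [8,10,13,3,12])], []⟩
def c2711 : Clm := ⟨6, 6, true, [9,10,13,12,9,13,10,11,2,1,4,5,12,4,13], [13,3,5,12,9,13,10,12,2,1,13,12,4,7,9,12], 5, [([], 2710, [])], []⟩
def c2712 : Clm := ⟨6, 6, true, [13,3,5,12,9,13,10,12,2,13,12,4,3,7,9,12], [9,10,13,12,9,13,10,11,2,1,4,5,12,4,13], 5, [([], 2711, [])], []⟩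
def c2713 : Clm := ⟨6, 6, true, [1,13,5,12,8,11,10,12,2,4,13,7,5,9,10], [5,12,11,5,12,13,10,2,13,2,13,12,13,4], 11, [([], 2087, [3,5,10,12,11,13,12,8]), ([372,370], 826, [5,10,11,5,13,12,9]), ([170,110,104], 201, [11,3,13,12,13,10])], []⟩
def c2714 : Clm := ⟨6, 6, true, [11,12,13,10,12,2,4,5,11,12,11,13,4], [1,13,5,12,8,11,10,12,2,4,13,7,5,9,10], 5, [([], 2713, [])], []⟩
def c2715 : Clm := ⟨6, 6, true, [1,9,13,10,13,12,9,13,4,10,12,4,6], [3,11,12,13,12,9,13,10,2,1,11,12,11,2], 11, [([], 1141, [12,13,10,13,10,12]), ([373], 1296, [1,5,9,10,11,12,9,13,12]), ([102,170], 201, [9,13,3,10,12])], []⟩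
def c2716 : Clm := ⟨6, 6, true, [3,11,12,13,12,9,13,10,2,1,11,12,11,10,2], [1,9,13,10,13,12,9,13,4,10,12,4,6], 5, [([], 2715, [])], []⟩
def c2717 : Clm := ⟨6, 6, true, [5,9,10,13,5,2,4,12,13,2,1,12,9], [1,12,13,5,10,12,13,2,7,13,5,6,5,4], 11, [([], 871, [5,10,13,3,5,12,8,13]), ([], 334, [3,8,11,12,13,10,13]), ([171,110,171], 201, [1,11,5,12,13,12])], []⟩
def c2718 : Clm := ⟨6, 6, true, [1,8,12,11,5,10,12,13,12,2,11,13,12,4,9], [5,9,10,13,5,2,4,12,13,2,1,12,9], 5, [([], 2717, [])], []⟩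
def c2719 : Clm := ⟨6, 6, true, [1,13,12,8,11,12,11,13,2,4,12,8,13,7,9,10], [1,8,12,11,5,10,12,13,12,2,11,13,12,4,9], 5, [([], 2718, [])], []⟩
def c2720 : Clm := ⟨6, 6, true, [5,12,11,12,8,11,12,11,10,2,1,4,12,9,13,6,10], [1,9,11,13,10,12,8,11,10,2,13,12,4,3,6,5,8], 17, [([], 597, [3,13,12,11,10,13,12,9]), ([96,171,110], 201, [13,3,5,10,12,13]), ([372], 1214, [9,10,13,12,8,11,10,12,11])], []⟩
def c2721 : Clm := ⟨6, 6, true, [1,9,11,13,10,12,8,11,10,2,1,13,12,4,6,5,8], [5,12,11,12,8,11,12,11,10,2,1,4,12,9,13,6,10], 5, [([], 2720, [])], []⟩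
def c2722 : Clm := ⟨6, 6, true, [5,12,11,12,8,11,12,11,10,2,4,12,9,13,3,6,10], [1,9,11,13,10,12,8,11,10,2,1,13,12,4,6,5,8], 5, [([], 2721, [])], []⟩
def c2723 : Clm := ⟨5, 6, true, [8,12,9,13,3,10,13,12,2,6,13,12,4,10,12], [1,5,13,5,10,12,8,2,4,6,12,13,3,6,8], 17, [([], 171, [1,5,9,13,12,8,11,12,11]), ([111,98,96], 201, [1,3,10,12]), ([372,370], 2171, [1,8,10,11,13,12,9,11,10])], []⟩
def c2724 : Clm := ⟨6, 5, true, [1,5,13,5,10,12,8,2,1,4,6,12,13,6,8], [8,12,9,13,3,10,13,12,2,6,13,12,4,10,12], 5, [([], 2723, [])], []⟩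
def c2725 : Clm := ⟨6, 6, true, [3,5,9,10,12,13,10,12,2,11,5,7,13,4,6], [1,13,12,9,2,6,13,2,1,12,13,2], 11, [([], 1110, [10,11,5,13,12,8,12]), ([372], 606, [13,12,9,13,12,13,10,12]), ([96,170,110,96], 201, [3,13,12,9,11,10,12,13])], []⟩
def c2726 : Clm := ⟨6, 6, true, [8,11,13,12,8,11,10,12,8,2,4,5,12,13,6,5,9], [3,5,9,10,12,13,10,12,2,11,5,7,13,4,6], 5, [([], 2725, [])], []⟩
def c2727 : Clm := ⟨6, 6, true, [3,13,12,8,12,11,12,8,4,5,10,2,12,7], [1,5,8,12,11,12,8,12,13,2,4,3,12,13,2,6], 17, [([], 746, [9,12,8,11,12,8,13]), ([100,170,96], 201, [1,3,5,10]), ([372], 693, [1,10,11,10,12,8,13,10,13])], []⟩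
def c2728 : Clm := ⟨6, 6, true, [5,8,13,12,8,11,12,11,10,2,13,2,12,6,13,7], [3,13,12,8,12,11,12,8,4,5,10,2,12,7], 5, [([], 2727, [])], []⟩
def c2729 : Clm := ⟨5, 6, true, [1,8,13,10,12,11,10,12,11,2,1,11,12,11,2,1], [1,9,10,11,13,12,13,12,9,2,6,11,12,8,11,13], 17, [([], 156, [8,10,11,3,12,9,11]), ([98,171,110], 201, [8,11,10,13,12]), ([373], 2623, [9,12,9,11,13,10])], []⟩
def c2730 : Clm := ⟨6, 5, true, [5,8,12,9,13,10,12,8,11,2,7,13,6,5,6,8], [1,8,13,10,12,11,10,12,11,2,1,11,12,11,2,1], 5, [([], 2729, [])], []⟩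
def c2731 : Clm := ⟨5, 6, true, [1,8,13,10,12,11,10,12,11,2,1,11,12,11,2,3], [5,8,12,9,13,10,12,8,11,2,7,13,6,5,6,8], 5, [([], 2730, [])], []⟩
def c2732 : Clm := ⟨5, 6, true, [5,10,11,12,9,11,13,12,2,1,11,12,13,2,7,13], [5,10,13,12,8,4,6,10,12,4,12], 17, [([], 122, [9,13,10,11,12,9,13,12]), ([171,111,104], 201, [3,5,11,12,13,10]), ([372,370], 1238, [10,11,12,9,13,12,11,10])], []⟩
def c2733 : Clm := ⟨6, 5, true, [5,11,13,12,9,13,12,2,11,10,12,9,13,7], [5,10,11,12,9,11,13,12,2,1,11,12,13,2,7,13], 5, [([], 2732, [])], []⟩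
def c2734 : Clm := ⟨6, 6, true, [3,13,12,9,11,10,13,2,1,4,13,7,7,13], [1,5,12,8,13,5,10,2,13,2,12,7,13], 13, [([], 738, [8,10,13,5,10,12,13,12,9]), ([372,370], 791, [12,9,11,3,13,12,11,13]), ([102], 201, [3,5,8,11,12,13,10])], []⟩
def c2735 : Clm := ⟨6, 6, true, [1,12,13,10,12,8,2,4,5,11,12,4], [3,13,12,9,11,10,13,2,1,4,13,7,7,13], 5, [([], 2734, [])], []⟩
def c2736 : Clm := ⟨3, 6, true, [1,8,12,13,10,13,12,9,13,2,4,3,12,7,9,13], [8,13,12,13,10,12,8,13,10,2,11,13,6,5,13,2,13], 17, [([], 201, [13,5,10,11,12]), ([372,370], 2290, [8,12,8,13,3,10]), ([370], 1845, [5,8,11,12,11,10,12,8])], []⟩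
def c2737 : Clm := ⟨6, 3, true, [10,11,12,9,11,5,10,12,2,4,3,7,7,13,12,4], [1,8,12,13,10,13,12,9,13,2,4,3,12,7,9,13], 5, [([], 2736, [])], []⟩
def c2738 : Clm := ⟨3, 6, true, [9,11,5,12,11,13,10,12,2,4,7,12,4,13], [10,11,12,9,11,5,10,12,2,4,3,7,7,13,12,4], 5, [([], 2737, [])], []⟩
def c2739 : Clm := ⟨5, 6, true, [3,8,13,5,10,12,9,13,2,1,6,13,6,12,4,13], [5,12,11,3,12,8,2,4,13,12,13,2,4,5], 13, [([], 1595, [1,9,13,5,13,12,9]), ([370], 334, [1,12,13,5,10,12,13,12]), ([102,170,110,96], 201, [5,8,11,5,10,12,11])], []⟩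
def c2740 : Clm := ⟨6, 5, true, [5,11,12,11,12,8,2,13,10,12,13,2,11,5], [3,8,13,5,10,12,9,13,2,1,6,13,6,12,4,13], 5, [([], 2739, [])], []⟩
def c2741 : Clm := ⟨6, 6, true, [3,12,9,11,12,13,10,11,12,2,13,12,7,13,2,11,3], [8,11,12,9,11,13,12,13,2,13,12,4,3,6,8], 11, [([], 2738, [13,5,12,11,5]), ([], 201, [3,10,11,10,12]), ([373,370], 2553, [5,10,13])], []⟩
def c2742 : Clm := ⟨6, 6, true, [8,11,12,9,11,13,12,13,2,1,13,12,4,6,8], [3,12,9,11,12,13,10,11,12,2,13,12,7,13,2,11,3], 5, [([], 2741, [])], []⟩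
def c2743 : Clm := ⟨6, 6, true, [11,12,13,10,13,12,8,11,2,4,13,7,7,10,13], [5,10,11,12,11,13,12,9,2,4,12,11,12,6], 13, [([], 1098, [5,11,12,13,10,12,11]), ([370], 200, [12,9,12,11,3,10]), ([171,111,104,96], 201, [9,13,3,5,12])], []⟩
def c2744 : Clm := ⟨6, 6, true, [5,10,11,12,11,13,12,9,2,4,3,12,11,12,6], [11,12,13,10,13,12,8,11,2,4,13,7,7,10,13], 5, [([], 2743, [])], []⟩
def c2745 : Clm := ⟨6, 6, true, [12,8,12,11,5,10,2,1,7,13,4,12,6,13], [3,5,10,11,12,8,12,11,2,1,4,5], 13, [([], 1328, [1,11,12,9,11,13,12,11,13]), ([], 704, [8,12,11,12,8,11,10]), ([111,104,98], 201, [8,10,11,3,5,12])], []⟩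
def c2746 : Clm := ⟨6, 6, true, [3,5,10,11,12,8,12,11,2,4,3,5], [12,8,12,11,5,10,2,1,7,13,4,12,6,13], 5, [([], 2745, [])], []⟩
def c2747 : Clm := ⟨6, 6, true, [1,9,10,12,11,5,12,11,2,4,7,13,10,12,13,2], [9,11,12,9,11,12,8,11,12,2,6,9,13,12,4,12], 11, [([], 2738, [5,12,11,13,12,8,13,12,9,13]), ([], 201, [3,5,13,5,10,12]), ([373,370], 623, [5,11,13,12,11,12,8])], []⟩
def c2748 : Clm := ⟨6, 6, true, [10,12,9,13,3,5,12,11,2,4,13,10,12,4,9], [1,9,10,12,11,5,12,11,2,4,7,13,10,12,13,2], 5, [([], 2747, [])], []⟩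
def c2749 : Clm := ⟨6, 5, true, [3,5,12,9,11,12,13,2,4,7,12,13,3,5], [3,9,12,13,5,10,13,2,4,12,8,11,5], 11, [([], 755, [1,5,8,11,5]), ([111,170], 201, [11,3,10,12,13,12]), ([370], 441, [9,13,10,12,13,10,13,12])], []⟩
def c2750 : Clm := ⟨5, 6, true, [3,9,12,13,5,10,13,2,4,3,12,8,11,5], [3,5,12,9,11,12,13,2,4,7,12,13,3,5], 5, [([], 2749, [])], []⟩
def c2751 : Clm := ⟨6, 6, true, [9,10,12,8,13,5,10,12,2,11,13,6,13,2,4], [12,13,5,10,12,13,5,2,4,13,3], 13, [([], 1439, [10,11,12,8,12,13,5,13]), ([372], 200, [3,10,11,5,12,11]), ([104], 201, [1,13,5])], []⟩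
def c2752 : Clm := ⟨6, 6, true, [12,13,5,10,12,13,5,2,1,4,13], [9,10,12,8,13,5,10,12,2,11,13,6,13,2,4], 5, [([], 2751, [])], []⟩
def c2753 : Clm := ⟨5, 6, true, [1,10,12,13,5,12,8,13,2,4,6,12,13,2,12], [11,12,13,12,8,12,2,4,6,9,13,12,6,13], 13, [([], 2285, [11,12,11,12,9,12]), ([370], 755, [5,8,13,3]), ([111,170], 201, [13,3,5,10,12,13,12])], []⟩
def c2754 : Clm := ⟨6, 5, true, [12,13,3,10,12,11,12,2,13,12,4,10,13,4], [1,10,12,13,5,12,8,13,2,4,6,12,13,2,12], 5, [([], 2753, [])], []⟩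
def c2755 : Clm := ⟨5, 6, true, [13,12,8,13,10,13,12,11,2,4,13,6,5,13,7], [12,13,3,10,12,11,12,2,13,12,4,10,13,4], 5, [([], 2754, [])], []⟩
def c2756 : Clm := ⟨6, 6, true, [3,5,8,10,13,12,9,11,10,2,6,6,11,13,12,4], [9,13,12,8,13,12,13,10,13,2,1,4,5,6,13,5,12,13], 11, [([], 1296, [9,11,13,12,9,13,5,13,12]), ([98,170,110], 201, [9,10,11,3,10,12]), ([373], 1593, [10,11,3,12,9,11,13,10])], []⟩
def c2757 : Clm := ⟨6, 6, true, [1,9,11,5,11,12,8,11,10,2,4,13,12,13,2,13,7], [3,5,8,10,13,12,9,11,10,2,6,6,11,13,12,4], 5, [([], 2756, [])], []⟩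
def c2758 : Clm := ⟨6, 6, true, [3,8,12,8,13,10,12,2,1,4,13,6,12,11,10], [10,13,10,12,9,11,13,5,2,6,13,7,5,4,6], 13, [([], 1439, [12,8,12,13,12,8,11,10]), ([372], 200, [10,12,9,12,13,5,12,13]), ([171,111,104,96], 201, [5,9,13,12])], []⟩
def c2759 : Clm := ⟨6, 6, true, [5,9,11,12,13,10,12,13,2,13,12,7,13,10,4], [3,8,12,8,13,10,12,2,1,4,13,6,12,11,10], 5, [([], 2758, [])], []⟩
def c2760 : Clm := ⟨6, 6, true, [3,8,12,8,13,10,12,2,4,3,13,6,12,11,10], [5,9,11,12,13,10,12,13,2,13,12,7,13,10,4], 5, [([], 2759, [])], []⟩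
def c2761 : Clm := ⟨6, 6, true, [8,10,11,10,12,9,11,12,9,2,13,6,12,11,2,13], [3,9,11,5,10,12,11,13,12,2,13,4,12,4,5,10], 11, [([], 755, [5,8,10,12,13,3]), ([111,170], 201, [3,11,10,12,11,12]), ([372,370], 1959, [8,10,13,12,8,11,12,11])], []⟩
def c2762 : Clm := ⟨6, 6, true, [1,11,13,12,9,11,10,13,2,13,4,12,13,4], [8,10,11,10,12,9,11,12,9,2,13,6,12,11,2,13], 5, [([], 2761, [])], []⟩
def c2763 : Clm := ⟨6, 6, true, [5,12,8,11,12,8,11,2,4,6,12,11,3,5], [3,10,12,9,11,12,11,4,12,4,10,4,5,12], 11, [([], 704, [1,5,10,13,12,9,11]), ([111,104,98], 201, [3,5,8,10,11,12]), ([], 1962, [3,9,10,12,11,5])], []⟩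
def c2764 : Clm := ⟨6, 6, true, [5,9,11,5,11,12,8,11,2,7,9,13,10,12,13], [5,12,8,11,12,8,11,2,4,6,12,11,3,5], 5, [([], 2763, [])], []⟩
def c2765 : Clm := ⟨6, 6, true, [8,10,12,11,10,12,8,11,2,4,5,7,12,13,6,9], [9,12,11,3,13,12,9,12,2,4,6,9,13,12,6], 13, [([], 641, [12,8,12,11,5,12,8,13]), ([], 2738, [1,8,13,12,9,11,13,12,11]), ([], 201, [3,13,5,10,12])], []⟩
def c2766 : Clm := ⟨6, 6, true, [9,12,11,3,13,12,9,12,2,4,3,6,9,13,12,6], [8,10,12,11,10,12,8,11,2,4,5,7,12,13,6,9], 5, [([], 2765, [])], []⟩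
def c2767 : Clm := ⟨6, 5, true, [1,9,11,10,12,9,13,5,2,1,4,7,12,9,13,2], [10,11,12,8,12,11,10,2,4,12,11,5,10,12,4], 11, [([], 1296, [1,12,8,13,12,13]), ([98,170,110], 201, [12,9,11,3,10,12]), ([372,370], 2654, [3,5,8,10,13,12,9,11,10])], []⟩
def c2768 : Clm := ⟨5, 6, true, [3,8,10,11,10,12,8,2,1,4,13,7,5,13,7,9], [1,9,11,10,12,9,13,5,2,1,4,7,12,9,13,2], 5, [([], 2767, [])], []⟩
def c2769 : Clm := ⟨6, 5, true, [3,8,10,11,12,9,13,12,2,1,13,6,12,4,13,7], [3,8,10,11,10,12,8,2,1,4,13,7,5,13,7,9], 5, [([], 2768, [])], []⟩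
def c2770 : Clm := ⟨6, 6, true, [5,8,12,13,12,8,11,10,2,1,13,4,6,13,12,4], [5,8,12,11,13,2,4,13,7,13,10,12], 11, [([], 334, [5,8,13,10,12,9,11]), ([102,170,110,96], 201, [8,10,13,3,10,12]), ([372,370], 2712, [1,5,13,5])], []⟩
def c2771 : Clm := ⟨6, 6, true, [1,5,8,12,13,2,1,4,12,11,5,7,13], [5,8,12,13,12,8,11,10,2,1,13,4,6,13,12,4], 5, [([], 2770, [])], []⟩
def c2772 : Clm := ⟨6, 6, true, [1,8,13,12,8,11,10,12,2,7,11,13,12,4,12,4], [1,5,8,12,13,2,1,4,12,11,5,7,13], 5, [([], 2771, [])], []⟩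
def c2773 : Clm := ⟨6, 6, true, [1,8,10,11,12,8,13,12,8,2,13,5,6,6,13,4], [1,8,11,12,9,11,13,12,13,2,4,12,13,4,7,8,10], 11, [([], 1296, [3,11,5,10,12,11,12,8]), ([98,170,110], 201, [3,9,10,11,10,12]), ([373,370], 1501, [8,10,11,12,9,12,11,13,10])], []⟩
def c2774 : Clm := ⟨6, 6, true, [8,12,9,11,3,12,11,13,2,4,12,13,4,7,8], [1,8,10,11,12,8,13,12,8,2,13,5,6,6,13,4], 5, [([], 2773, [])], []⟩
def c2775 : Clm := ⟨6, 6, true, [1,5,8,10,13,12,11,10,12,9,2,1,13,6,12,4,7,13], [8,12,9,11,3,12,11,13,2,4,12,13,4,7,8], 5, [([], 2774, [])], []⟩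
def c2776 : Clm := ⟨6, 6, true, [5,11,13,12,11,12,8,2,4,3,12,8,13,2,1], [1,5,12,8,11,5,2,6,13,2,6,5,13], 11, [([], 704, [3,10,11,5,12,9,13,5]), ([111,104,98], 201, [3,8,10,13,5,12]), ([373,370], 2045, [3,13,5,12,8])], []⟩
def c2777 : Clm := ⟨6, 6, true, [8,11,3,13,12,11,2,13,2,7,5,13,6], [5,11,13,12,11,12,8,2,4,3,12,8,13,2,1], 5, [([], 2776, [])], []⟩
def c2778 : Clm := ⟨6, 6, true, [11,12,9,13,12,8,13,10,2,1,4,12,13,2,7,13,5], [8,10,12,8,11,3,5,12,2,7,13,2,7,8,13,10], 11, [([], 791, [8,10,13,10,12,9,11,13]), ([102], 201, [13,3,12,13,10]), ([], 1248, [12,13,12,9,13,12,13,10])], []⟩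
def c2779 : Clm := ⟨6, 6, true, [9,12,13,10,12,9,11,13,2,4,13,7,5,13,6,9], [11,12,9,13,12,8,13,10,2,1,4,12,13,2,7,13,5], 5, [([], 2778, [])], []⟩
def c2780 : Clm := ⟨6, 6, true, [1,10,13,12,9,2,1,11,12,4,10,13,4], [8,13,5,10,13,12,11,2,4,3,5,6,5,13,12], 11, [([], 704, [8,12,11,10,12,8,11,13,5]), ([111,104,98], 201, [3,8,10,11,5,12]), ([], 1104, [3,10,11,10,12,11])], []⟩
def c2781 : Clm := ⟨6, 6, true, [8,13,5,10,13,12,11,2,4,5,6,5,13,12], [1,10,13,12,9,2,1,11,12,4,10,13,4], 5, [([], 2780, [])], []⟩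
def c2782 : Clm := ⟨5, 6, true, [1,8,10,11,13,12,9,13,2,1,6,13,6,12,4], [9,10,13,3,10,12,11,10,2,13,2,12,4,3,9], 13, [([], 1543, [5,13,5,12,8,13,12]), ([370], 334, [12,11,13,5,12]), ([102,170,110,96], 201, [5,12,8,13,3,10,12])], []⟩
def c2783 : Clm := ⟨6, 5, true, [9,10,13,3,10,12,11,10,2,13,2,1,12,4,9], [1,8,10,11,13,12,9,13,2,1,6,13,6,12,4], 5, [([], 2782, [])], []⟩
def c2784 : Clm := ⟨5, 6, true, [5,8,12,11,12,9,11,10,13,2,7,11,12,8,11,2], [8,12,11,12,8,11,2,1,4,5,12,13,4], 13, [([], 1402, [1,3,9,12,9]), ([370], 1296, [1,12,8,12,13,10,13,12]), ([98,170,110], 201, [9,10,13,5,10,12])], []⟩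
def c2785 : Clm := ⟨6, 5, true, [8,12,11,12,8,11,2,4,5,12,11,13,4], [5,8,12,11,12,9,11,10,13,2,7,11,12,8,11,2], 5, [([], 2784, [])], []⟩
def c2786 : Clm := ⟨6, 6, true, [8,13,3,12,9,13,10,12,11,2,7,13,7,12,4,6], [12,11,3,10,12,11,12,2,1,13,12,4,7,9], 13, [([], 2306, [5,9,12,13,12,11]), ([372], 200, [5,8,13,3,5,10,12,9]), ([102,170,110,96], 201, [1,5,9,11,5,12])], []⟩
def c2787 : Clm := ⟨6, 6, true, [12,11,3,10,12,11,12,2,13,12,4,3,7,9], [8,13,3,12,9,13,10,12,11,2,7,13,7,12,4,6], 5, [([], 2786, [])], []⟩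
def c2788 : Clm := ⟨6, 6, true, [3,8,12,13,10,12,11,2,6,13,4,7,8], [3,13,10,11,12,9,11,12,9,13,4,7,10,2], 13, [([], 188, [1,10,13,12,8,13,10,12]), ([104,171], 201, [12,9,13,3,12]), ([373], 2307, [3,9,12,13,5,12,13])], []⟩
def c2789 : Clm := ⟨6, 6, true, [3,13,10,11,12,9,11,12,9,13,2,4,7], [3,8,12,13,10,12,11,2,6,13,4,7,8], 5, [([], 2788, [])], []⟩
def c2790 : Clm := ⟨6, 6, true, [9,13,5,10,11,12,11,13,2,13,4,6,13,7], [11,12,8,12,13,2,4,7,12,11,10], 13, [([], 200, [5,8,12,11,12]), ([104], 201, [5,9,12,13,3,12]), ([373], 2307, [10,13,12,9,13,5,10,13])], []⟩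
def c2791 : Clm := ⟨6, 6, true, [5,13,10,12,8,12,13,2,4,6,13,7,7], [9,13,5,10,11,12,11,13,2,13,4,6,13,7], 5, [([], 2790, [])], []⟩
def c2792 : Clm := ⟨6, 6, true, [3,10,13,12,11,13,10,2,4,7,9,12,13,7], [3,9,12,9,11,12,2,6,11,13,2,12,9], 13, [([], 2738, [1,5,10,11]), ([], 201, [1,10,13,5,10,12]), ([373], 1440, [1,10,13,12,9,13,12,13])], []⟩
def c2793 : Clm := ⟨6, 6, true, [5,10,12,8,13,12,11,13,2,1,6,13,4,12,9], [3,10,13,12,11,13,10,2,4,7,9,12,13,7], 5, [([], 2792, [])], []⟩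
def c2794 : Clm := ⟨6, 6, true, [10,13,3,12,8,11,13,12,2,6,13,4,7], [10,12,9,13,12,8,11,13,2,4,6,5,8,13], 13, [([], 188, [1,5,12,9,11,13,12]), ([104,171], 201, [5,8,11,3,12,13]), ([372], 1097, [10,13,3,5,12,11])], []⟩
def c2795 : Clm := ⟨6, 6, true, [1,13,10,12,8,11,12,2,1,7,7,13,4,5], [10,13,3,12,8,11,13,12,2,6,13,4,7], 5, [([], 2794, [])], []⟩
def c2796 : Clm := ⟨6, 6, true, [9,13,12,11,10,12,9,2,6,13,4,7,10], [1,13,10,12,8,11,12,2,1,7,7,13,4,5], 5, [([], 2795, [])], []⟩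
def c2797 : Clm := ⟨6, 6, true, [12,8,12,13,12,9,13,12,2,13,2,12,4,3,9], [5,8,12,13,12,11,10,13,12,2,1,7,11,12,4,8,13], 13, [([], 704, [8,12,11,13,5,12,8]), ([111,104,98], 201, [3,8,11,13,10,12]), ([], 459, [1,10,13,12,11,10,12,8,11])], []⟩
def c2798 : Clm := ⟨6, 6, true, [9,10,13,10,12,11,13,2,7,13,7,12,13,4], [12,8,12,13,12,9,13,12,2,13,2,12,4,3,9], 5, [([], 2797, [])], []⟩
def c2799 : Clm := ⟨6, 6, true, [8,11,12,8,13,12,9,2,1,13,4,7,12,7], [1,5,13,10,12,8,12,13,12,2,4,3,13,7,13], 13, [([], 2738, [8,11,12,13,10,12,13,12]), ([], 201, [3,8,13,10,12,8,13,12]), ([373,370], 2307, [5,8,11,12,13,12,8])], []⟩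
def c2800 : Clm := ⟨6, 6, true, [1,5,13,10,12,8,12,13,12,2,1,4,13,7,13], [8,11,12,8,13,12,9,2,1,13,4,7,12,7], 5, [([], 2799, [])], []⟩
def c2801 : Clm := ⟨6, 6, true, [1,11,12,11,5,11,12,9,2,13,4,12,6,13,4], [10,12,8,12,13,3,12,2,4,12,8,13,6,12], 13, [([], 334, [3,9,10,12,11,5,12,8]), ([102,170,110,96], 201, [3,8,13,10,11,12]), ([], 2529, [12,9,12,13,12,8,11,12])], []⟩
def c2802 : Clm := ⟨6, 6, true, [3,10,13,12,9,11,12,13,2,1,13,12,7,13,4,5], [1,11,12,11,5,11,12,9,2,13,4,12,6,13,4], 5, [([], 2801, [])], []⟩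
def c2803 : Clm := ⟨6, 6, true, [1,5,11,13,12,8,11,12,8,11,2,4,6,12,13,3,5], [1,8,13,5,12,9,11,12,9,2,11,5,6,13,2,1,13], 13, [([], 704, [1,10,11,12,9,13,10,11]), ([111,104,98], 201, [5,8,10,11,3,12]), ([372,370], 2529, [3,8,11,13,12,13,12,9])], []⟩
def c2804 : Clm := ⟨6, 6, true, [3,8,13,5,12,9,11,12,9,2,13,6,5,11,2,13], [1,5,11,13,12,8,11,12,8,11,2,4,6,12,13,3,5], 5, [([], 2803, [])], []⟩
def c2805 : Clm := ⟨6, 6, true, [1,10,13,5,12,8,11,13,12,2,1,11,12,13,4,12,8], [12,13,5,10,12,8,13,2,6,9,13,4,6,13], 13, [([], 2738, [13,12,11,10,12,13,12,11]), ([], 201, [5,9,12,8,11,3,10,12]), ([], 459, [11,12,9,12,13,5,12,11])], []⟩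
def c2806 : Clm := ⟨6, 6, true, [3,10,13,12,8,12,11,5,11,2,13,7,9,12,13,4], [1,10,13,5,12,8,11,13,12,2,1,11,12,13,4,12,8], 5, [([], 2805, [])], []⟩
def c2807 : Clm := ⟨6, 6, true, [1,10,13,5,12,8,11,13,12,2,11,12,11,13,4,12,8], [3,10,13,12,8,12,11,5,11,2,13,7,9,12,13,4], 5, [([], 2806, [])], []⟩
def c2808 : Clm := ⟨6, 6, true, [5,8,10,11,12,9,13,10,2,1,6,6,11,5,4], [13,10,13,12,9,13,12,13,12,2,4,6,13,12,6,5,13], 13, [([], 1296, [1,9,10,12,9,11,12,13]), ([98,170,110], 201, [9,11,3,10,13,12]), ([372,370], 2532, [8,12,13,3,12,9])], []⟩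
def c2809 : Clm := ⟨6, 6, true, [3,9,10,13,12,11,13,10,2,4,13,10,12,13,2,12], [5,8,10,11,12,9,13,10,2,1,6,6,11,5,4], 5, [([], 2808, [])], []⟩
def c2810 : Clm := ⟨6, 6, true, [1,11,12,9,11,5,11,12,11,2,6,9,11,5,4], [9,10,12,11,12,9,11,5,2,4,3,7,7,13,12,4], 13, [([], 1296, [1,12,13,5,12,11,10]), ([98,170,110], 201, [3,8,13,10,12,9,13,12]), ([372,370], 2553, [9,13,10,13,12,8,13,10])], []⟩
def c2811 : Clm := ⟨6, 6, true, [3,11,12,8,11,12,13,10,2,11,13,6,5,13,2,13], [1,11,12,9,11,5,11,12,11,2,6,9,11,5,4], 5, [([], 2810, [])], []⟩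
def c2812 : Clm := ⟨6, 6, true, [10,12,8,12,13,5,13,2,1,4,12,7,8,11], [11,10,13,12,9,11,12,8,11,2,4,6,12,6,13,6,9], 13, [([], 791, [13,10,12,8,13,10,13,12]), ([102], 201, [3,9,13,12,13,10,11]), ([], 2532, [])], []⟩
def c2813 : Clm := ⟨6, 6, true, [11,3,10,13,12,9,11,10,2,1,11,12,4,10,13,7,7], [10,12,8,12,13,5,13,2,1,4,12,7,8,11], 5, [([], 2812, [])], []⟩
def c2814 : Clm := ⟨6, 6, true, [10,12,8,12,13,5,13,2,4,12,7,8,11,3], [11,3,10,13,12,9,11,10,2,1,11,12,4,10,13,7,7], 5, [([], 2813, [])], []⟩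
def c2815 : Clm := ⟨6, 6, true, [1,10,13,12,9,12,11,13,2,1,6,13,4,7], [12,9,11,12,8,11,5,2,4,3,13,6,13,12], 13, [([], 188, [8,12,11,12,9,11,12,8,13]), ([111,170,104], 201, [5,11,3,12]), ([373,370], 1440, [8,10,11,13,12,8,13,5,13])], []⟩
def c2816 : Clm := ⟨6, 6, true, [12,9,11,12,8,11,5,2,1,4,13,6,13,12], [1,10,13,12,9,12,11,13,2,1,6,13,4,7], 5, [([], 2815, [])], []⟩
def c2817 : Clm := ⟨6, 6, true, [1,8,12,9,11,13,12,11,13,10,2,6,9,13,4,12,7], [5,8,12,9,11,10,12,8,13,2,1,4,7,13,12,6,9], 13, [([], 334, [3,12,11,10,12,13,10,12]), ([102,170,110,96], 201, [8,13,3,10,12,11]), ([372], 1908, [3,5,12,13,12,9,11,10,13])], []⟩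
def c2818 : Clm := ⟨6, 6, true, [1,10,13,5,12,8,2,6,13,2,6,12,9], [1,8,12,9,11,13,12,11,13,10,2,6,9,13,4,12,7], 5, [([], 2817, [])], []⟩
def c2819 : Clm := ⟨6, 6, true, [1,8,12,8,11,13,12,11,13,2,4,13,7,5,8,13,7], [1,9,10,13,10,12,11,13,12,2,7,13,12,4,6,13], 13, [([], 755, [1,8,12,9,11,10,12,13,12]), ([111,170], 201, [8,12,11,3,10]), ([], 459, [1,12,9,12,13,5,12,9])], []⟩
def c2820 : Clm := ⟨6, 6, true, [3,5,10,11,12,8,12,11,13,2,1,11,12,7,8,13,4], [1,8,12,8,11,13,12,11,13,2,4,13,7,5,8,13,7], 5, [([], 2819, [])], []⟩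
def c2821 : Clm := ⟨6, 6, true, [12,11,10,12,13,5,10,12,2,1,6,9,13,12,4,3,5], [11,3,10,12,11,12,2,1,13,4,12,6,11,2,3], 13, [([], 755, [3,8,12,11,10,13]), ([111,170], 201, [3,13,5,10,12,11,12]), ([373], 1440, [5,12,11,12,9,13,10,13,12])], []⟩
def c2822 : Clm := ⟨6, 6, true, [1,12,13,5,10,12,11,12,13,2,4,5,12,4,13,6,10], [12,11,10,12,13,5,10,12,2,1,6,9,13,12,4,3,5], 5, [([], 2821, [])], []⟩
def c2823 : Clm := ⟨6, 6, true, [12,11,10,12,13,5,10,12,2,6,9,13,12,4,5], [1,12,13,5,10,12,11,12,13,2,4,5,12,4,13,6,10], 5, [([], 2822, [])], []⟩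
def c2824 : Clm := ⟨6, 6, true, [10,13,12,9,13,5,13,5,2,7,13,4,6,8,13], [3,8,11,10,12,9,12,11,12,8,2,4,6,13,3,7,7], 13, [([], 188, [11,13,12,8,13,12,9,13]), ([110,104,96], 201, [5,12,9,13,3,12]), ([373], 2307, [1,5,11,12,11,13,12,9,13])], []⟩
def c2825 : Clm := ⟨6, 6, true, [3,8,11,10,12,9,12,11,12,8,2,1,4,6,13,7,7], [10,13,12,9,13,5,13,5,2,7,13,4,6,8,13], 5, [([], 2824, [])], []⟩
def c2826 : Clm := ⟨6, 6, true, [5,9,11,5,12,11,12,8,2,4,3,12,4,12,11,2], [5,9,12,8,13,5,10,11,12,2,4,12,6,5,13,12,9], 13, [([], 188, [10,13,5,10,12,13,10,12]), ([111,170,104], 201, [9,12,9,11,3,12]), ([372,370], 2529, [3,9,11,12,11,13,12,8])], []⟩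
def c2827 : Clm := ⟨6, 6, true, [5,9,10,12,8,13,3,5,2,1,13,12,4,6,9,13,12], [5,9,11,5,12,11,12,8,2,4,3,12,4,12,11,2], 5, [([], 2826, [])], []⟩
def c2828 : Clm := ⟨6, 6, true, [3,11,10,12,11,13,12,9,2,7,13,2,7,5,4,13], [13,10,13,12,9,12,11,13,2,13,7,9,12,4], 13, [([], 704, [9,13,5,12,13,12]), ([111,104,98], 201, [1,3,5,8,10,12]), ([], 446, [10,11,10,12,13,10,12,8])], []⟩
def c2829 : Clm := ⟨6, 6, true, [13,10,13,12,9,12,11,13,2,1,13,7,9,12,4,3], [3,11,10,12,11,13,12,9,2,7,13,2,7,5,4,13], 5, [([], 2828, [])], []⟩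
def c2830 : Clm := ⟨6, 6, true, [8,12,9,13,12,11,13,2,13,4,6,9,13,7,12], [13,10,13,12,9,12,11,13,2,1,13,7,9,12,4,3], 5, [([], 2829, [])], []⟩
def c2831 : Clm := ⟨6, 6, true, [1,10,12,11,12,9,12,11,2,13,5,6,5,4], [5,9,10,11,12,11,13,5,2,1,13,5,7,12,4,13], 13, [([], 1296, [10,13,3,5,12,9,11]), ([98,170,110], 201, [3,13,10,12,8,11,12,11]), ([], 460, [9,11,12,11,12,8])], []⟩
def c2832 : Clm := ⟨6, 6, true, [8,13,12,13,10,11,12,8,13,2,1,7,13,2,12,13,10], [1,10,12,11,12,9,12,11,2,13,5,6,5,4], 5, [([], 2831, [])], []⟩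
def c2833 : Clm := ⟨6, 6, true, [5,8,10,11,12,8,13,10,2,1,13,5,6,5,4], [5,9,12,13,12,11,10,13,2,4,13,6,5,6,10,13], 13, [([], 1296, [10,13,12,9,13,5]), ([98,170,110], 201, [3,13,10,12,8,11,12]), ([], 2529, [3,8,11,12,11,12,9,13])], []⟩
def c2834 : Clm := ⟨6, 6, true, [5,9,12,13,3,5,12,2,4,12,6,13,6,13,12], [5,8,10,11,12,8,13,10,2,1,13,5,6,5,4], 5, [([], 2833, [])], []⟩
def c2835 : Clm := ⟨6, 6, true, [1,9,12,8,11,13,10,2,7,7,13,4,7,12,7], [12,13,5,2,7,11,13,2,12,13], 13, [([], 791, [1,8,11,12,11,10,13,12,9]), ([102], 201, [10,12,11,3,12]), ([373,370], 1440, [3,12,11,12,9,11,10,12])], []⟩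
def c2836 : Clm := ⟨6, 6, true, [5,11,10,12,11,10,12,2,7,13,4,12,13], [1,9,12,8,11,13,10,2,7,7,13,4,7,12,7], 5, [([], 2835, [])], []⟩
def c2837 : Clm := ⟨6, 6, true, [3,5,10,13,5,12,8,11,10,2,11,5,4,12,11,2], [3,8,12,9,13,12,13,10,11,2,1,6,9,13,12,9], 13, [([], 188, [1,10,11,12,9,13,10,12]), ([110,104,96], 201, [5,9,12,8,13,3,12]), ([], 2553, [1,9,12,11,13,12,8,13])], []⟩
def c2838 : Clm := ⟨6, 6, true, [5,8,12,9,11,10,12,13,2,6,9,13,12,9], [3,5,10,13,5,12,8,11,10,2,11,5,4,12,11,2], 5, [([], 2837, [])], []⟩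
def c2839 : Clm := ⟨6, 6, true, [8,10,13,12,11,12,8,2,6,9,11,13,12,4,3], [13,10,12,8,13,10,12,9,2,4,7,7,13,4], 13, [([], 1296, [3,5,10,12,11,13]), ([98,170,110], 201, [3,8,13,10,12,9,11,12]), ([373], 1440, [10,11,12,9,13,12])], []⟩
def c2840 : Clm := ⟨6, 6, true, [13,10,12,8,13,12,9,2,4,7,7,13,4], [8,10,13,12,11,12,8,2,6,9,11,13,12,4,3], 5, [([], 2839, [])], []⟩
def c2841 : Clm := ⟨6, 6, true, [8,10,13,12,11,12,8,2,1,6,9,11,13,12,4], [13,10,12,8,13,12,9,2,4,7,7,13,4], 5, [([], 2840, [])], []⟩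
def c2842 : Clm := ⟨6, 6, true, [9,12,11,12,9,13,2,4,7,7,13,10,12,8], [13,5,10,13,12,9,13,2,4,3,5,12,4,5], 13, [([], 2738, [5,9,10,12,11,12,8,13]), ([], 201, [3,13,5,10,12,13]), ([372], 1097, [3,12,11,12,8,13,10])], []⟩
def c2843 : Clm := ⟨6, 6, true, [12,9,11,12,11,13,10,2,4,3,5,12,7,11,5], [9,12,11,12,9,13,2,4,7,7,13,10,12,8], 5, [([], 2842, [])], []⟩
def c2844 : Clm := ⟨6, 6, true, [5,8,10,11,12,9,13,10,12,2,6,13,5,6,5,4], [5,8,12,13,12,11,10,13,12,2,6,13,4,6,13,6], 13, [([], 1296, [12,8,11,13,10]), ([98,170,110], 201, [5,12,9,11,3,10,12]), ([], 459, [10,13,12,13,5,10,12,11])], []⟩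
def c2845 : Clm := ⟨6, 6, true, [3,10,13,12,8,12,11,5,11,2,7,13,12,13,4], [5,8,10,11,12,9,13,10,12,2,6,13,5,6,5,4], 5, [([], 2844, [])], []⟩
def c2846 : Clm := ⟨6, 6, true, [9,11,12,8,11,13,5,12,9,2,1,4,6,13,6,6,5], [13,12,8,11,12,11,13,2,4,7,12,11,10], 13, [([], 791, [10,11,12,13,12,8,12]), ([102], 201, [3,9,13,10,12,13,10]), ([373], 2307, [1,5,8,12,11,12,8])], []⟩
def c2847 : Clm := ⟨6, 6, true, [11,3,10,12,8,12,11,12,2,4,6,13,7,7], [9,11,12,8,11,13,5,12,9,2,1,4,6,13,6,6,5], 5, [([], 2846, [])], []⟩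
def c2848 : Clm := ⟨6, 6, true, [12,9,11,5,11,12,13,10,2,7,13,2,6,12,6], [11,3,10,12,8,12,11,12,2,4,6,13,7,7], 5, [([], 2847, [])], []⟩
def c2849 : Clm := ⟨6, 6, true, [13,3,10,13,12,9,11,13,2,1,13,12,4,5,7], [5,9,12,13,5,10,12,11,12,2,11,5,4,7,13,6], 13, [([], 2738, [10,13,5]), ([], 201, [1,10,13,5,10,12,11]), ([370], 235, [3,12,9,11,13,10,12,11])], []⟩
def c2850 : Clm := ⟨6, 6, true, [3,11,12,11,13,12,9,13,2,1,13,2,7,13,6], [13,3,10,13,12,9,11,13,2,1,13,12,4,5,7], 5, [([], 2849, [])], []⟩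
def c2851 : Clm := ⟨6, 6, true, [13,3,10,13,12,9,11,13,2,13,12,4,3,5,7], [3,11,12,11,13,12,9,13,2,1,13,2,7,13,6], 5, [([], 2850, [])], []⟩
def c2852 : Clm := ⟨6, 6, true, [10,13,5,10,12,13,12,2,1,4,12,7,13,10,2], [3,5,10,13,10,12,11,10,2,6,11,12,4,12,11,2], 13, [([], 1296, [11,12,11,5,10,13,12,8]), ([98,170,110], 201, [8,12,8,11,3,10,12]), ([], 454, [5,11,13,12,13,12,8,12])], []⟩
def c2853 : Clm := ⟨6, 6, true, [12,11,13,10,12,11,2,13,5,7,12,13,4], [10,13,5,10,12,13,12,2,1,4,12,7,13,10,2], 5, [([], 2852, [])], []⟩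
def c2854 : Clm := ⟨6, 6, true, [10,13,5,10,12,13,12,2,1,4,12,7,13,2], [12,11,13,10,12,11,2,13,5,7,12,13,4], 5, [([], 2853, [])], []⟩
def c2855 : Clm := ⟨6, 6, true, [12,13,5,10,13,12,9,13,2,4,5,13,6,12,8], [3,5,9,12,13,10,12,9,13,2,1,7,13,7,12,4,8], 13, [([], 791, [8,10,13,3,12,9,11,13]), ([102], 201, [3,13,5,12,13,10]), ([], 454, [13,3,12,9,11,13,12,8])], []⟩
def c2856 : Clm := ⟨6, 6, true, [1,10,13,5,12,11,13,2,7,11,12,9,13,4,13], [12,13,5,10,13,12,9,13,2,4,5,13,6,12,8], 5, [([], 2855, [])], []⟩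
def c2857 : Clm := ⟨6, 6, true, [8,11,10,13,12,13,12,8,2,7,13,2,7,13,6], [12,9,12,11,10,12,9,2,4,5,12,8,13,6,10], 13, [([], 334, [11,3,12,13,10,13]), ([102,170,110,96], 201, [12,8,13,3,10,12,11]), ([373], 1440, [5,8,11,12,11,10,12,13])], []⟩
def c2858 : Clm := ⟨6, 6, true, [12,9,11,12,11,12,2,4,12,6,11,12,13], [8,11,10,13,12,13,12,8,2,7,13,2,7,13,6], 5, [([], 2857, [])], []⟩
def c2859 : Clm := ⟨6, 6, true, [10,11,5,12,11,13,12,2,13,2,6,13,3,12,6], [5,9,12,13,3,5,10,2,4,5,6,13,12,4], 13, [([], 2738, [5,10,11,12,11,12,9,13]), ([], 201, [3,9,13,10,12,9,11,12]), ([], 2529, [8,10,13,3,12,9,13,10])], []⟩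
def c2860 : Clm := ⟨6, 6, true, [8,13,10,12,8,11,5,2,1,7,7,13,12,11,2], [10,11,5,12,11,13,12,2,13,2,6,13,3,12,6], 5, [([], 2859, [])], []⟩
def c2861 : Clm := ⟨6, 6, true, [3,8,11,12,13,10,12,11,2,13,7,5,8,10,11], [10,13,3,12,9,11,13,12,2,1,6,9,13,10,12,11], 45, [([], 200, [1,8,12,9,13,12,8,13,12]), ([98,171,111,96], 201, [3,13,5]), ([], 401, [12,13,5,13])], []⟩
def c2862 : Clm := ⟨6, 6, true, [10,13,3,12,9,11,13,12,2,6,9,13,10,12,11], [3,8,11,12,13,10,12,11,2,13,7,5,8,10,11], 5, [([], 2861, [])], []⟩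
def c2863 : Clm := ⟨6, 6, true, [3,8,11,12,13,10,12,11,2,1,13,7,5,8,10,11], [10,13,3,12,9,11,13,12,2,6,9,13,10,12,11], 5, [([], 2862, [])], []⟩
def c2864 : Clm := ⟨6, 6, true, [5,8,10,11,12,11,13,12,8,2,1,13,6,5,10,11], [5,10,13,3,12,9,12,2,13,6,5,8,10,13], 47, [([], 2862, [1,12,8,12,11,13,12,9]), ([], 200, [1,8,11,13,12,8,13,5,12]), ([171,110,171], 201, [1,3,5,12])], []⟩
def c2865 : Clm := ⟨6, 6, true, [3,11,5,10,13,12,2,6,11,10,12,13,6], [5,8,10,11,12,11,13,12,8,2,1,13,6,5,10,11], 5, [([], 2864, [])], []⟩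
def c2866 : Clm := ⟨6, 6, true, [5,8,10,11,12,11,13,12,8,2,13,6,5,10,11], [3,11,5,10,13,12,2,6,11,10,12,13,6], 5, [([], 2865, [])], []⟩
def c2867 : Clm := ⟨6, 6, true, [9,12,11,10,13,12,13,10,2,1,7,11,12,4,12,8], [8,12,9,13,12,8,13,12,2,7,13,2,7,13,10], 45, [([], 361, [1,8,12,11,12]), ([110,104,100], 201, [3,13,10,12,8]), ([372,370], 534, [3,12,13,12,9,13])], []⟩
def c2868 : Clm := ⟨6, 6, true, [5,12,13,5,10,11,12,8,2,7,13,2,7,5,11], [9,12,11,10,13,12,13,10,2,1,7,11,12,4,12,8], 5, [([], 2867, [])], []⟩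
def c2869 : Clm := ⟨6, 6, true, [1,8,13,12,9,11,10,12,13,2,13,4,6,13,2,4], [5,12,13,5,10,11,12,8,2,7,13,2,7,5,11], 5, [([], 2868, [])], []⟩
def c2870 : Clm := ⟨6, 6, true, [3,5,8,11,12,13,2,13,2,7,13,12,8], [3,8,12,11,10,12,9,11,2,1,11,12,4,3,7,9], 47, [([], 2854, [3,8,12,9,13,12,8,13,10]), ([], 704, [8,11,5,11,12,11,12,9]), ([170,96], 201, [3,8,13,10,12,8])], []⟩
def c2871 : Clm := ⟨6, 6, true, [3,8,12,11,10,12,9,11,2,11,12,4,7,9], [3,5,8,11,12,13,2,13,2,7,13,12,8], 5, [([], 2870, [])], []⟩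
def c2872 : Clm := ⟨6, 6, true, [1,12,11,5,10,12,11,12,9,2,4,13,7,10,13,7,8], [1,13,10,12,9,13,2,6,13,2,1,12,9], 45, [([], 701, [9,10,12,13,3,5,12,9]), ([170,110,104], 201, [1,3,8,10,12,9]), ([373,370], 1151, [3,9,11,12,9,13,12,13])], []⟩
def c2873 : Clm := ⟨6, 6, true, [1,5,9,12,11,13,10,12,11,2,4,7,13,5,12,9], [1,12,11,5,10,12,11,12,9,2,4,13,7,10,13,7,8], 5, [([], 2872, [])], []⟩
def c2874 : Clm := ⟨6, 6, true, [3,9,10,11,5,12,2,4,3,13,12,11,2,3], [3,8,11,12,11,10,12,11,12,2,1,11,12,4,3,7,9], 47, [([], 621, [10,11,12,8,13,12,13,12]), ([104,171], 2555, [8,13,10,11,12,11,5]), ([104,171,111,96], 201, [1,3,9,10,12,8])], []⟩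
def c2875 : Clm := ⟨6, 6, true, [3,8,11,12,11,10,12,11,12,2,11,12,4,7,9], [3,9,10,11,5,12,2,4,3,13,12,11,2,3], 5, [([], 2874, [])], []⟩
def c2876 : Clm := ⟨6, 6, true, [3,9,10,11,5,12,2,4,3,13,12,11,2,1], [3,8,11,12,11,10,12,11,12,2,11,12,4,7,9], 5, [([], 2875, [])], []⟩
def c2877 : Clm := ⟨6, 6, true, [5,9,10,12,8,11,13,12,2,11,12,4,6,5,6], [1,9,12,11,13,10,12,9,11,2,6,11,12,4,9,13,3], 47, [([], 2873, [1,12,8,12,11,13,12,9]), ([373,370], 701, [8,13,12,9,12,11,10]), ([171,111,104], 201, [3,8,13,10,12,9,12])], []⟩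
def c2878 : Clm := ⟨6, 6, true, [1,9,12,11,13,10,12,9,11,2,1,6,11,12,4,9,13], [5,9,10,12,8,11,13,12,2,11,12,4,6,5,6], 5, [([], 2877, [])], []⟩
def c2879 : Clm := ⟨6, 6, true, [3,5,8,10,13,10,12,8,13,2,13,4,7,5,4,8], [8,12,13,10,12,9,2,4,6,12,13,3,6,9], 7, [([], 1439, [3,11,13,10,12,8,12,11]), ([372], 200, [5,10,12]), ([102,100,96], 2737, [1,8,10,12,13,12,9,11])], []⟩
def c2880 : Clm := ⟨6, 6, true, [8,12,13,10,12,9,2,1,4,6,12,13,6,9], [3,5,8,10,13,10,12,8,13,2,13,4,7,5,4,8], 5, [([], 2879, [])], []⟩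
def c2881 : Clm := ⟨6, 6, true, [5,9,11,5,11,12,8,13,10,2,4,12,13,2,7,13,3], [8,12,13,10,12,9,2,1,4,6,12,13,6,9], 5, [([], 2880, [])], []⟩
def c2882 : Clm := ⟨6, 6, true, [1,11,12,9,13,10,12,9,11,2,4,3,7,7,13,12,7], [11,13,12,11,13,2,4,7,5,7,13,5], 17, [([], 2746, [1]), ([], 200, [1,5,9,10,13,5,12]), ([98,171], 745, [10,11,12,9,11,12,8])], []⟩
def c2883 : Clm := ⟨6, 6, true, [11,13,12,9,11,13,12,8,2,4,3,6,12,13,4], [1,11,12,9,13,10,12,9,11,2,4,3,7,7,13,12,7], 5, [([], 2882, [])], []⟩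
def c2884 : Clm := ⟨6, 5, true, [1,9,11,12,11,10,13,12,8,2,6,13,2,7,13,6], [1,8,10,13,12,13,12,2,4,12,6,13,2,6], 17, [([], 2272, [11,10,12,9,12,11,13,12]), ([370], 200, [5,9,12,13,10]), ([96,111,170], 157, [1,5,8,12,13,10,12,9,12,11])], []⟩
def c2885 : Clm := ⟨5, 6, true, [5,10,13,3,12,8,12,13,10,2,1,13,4,5,7,13,7], [1,9,11,12,11,10,13,12,8,2,6,13,2,7,13,6], 5, [([], 2884, [])], []⟩
def c2886 : Clm := ⟨6, 6, true, [9,11,5,11,12,13,10,13,2,1,6,6,13,2,7,13], [3,8,11,12,11,12,2,4,5,11,12,13,4], 17, [([], 2036, [8,11,13,12,13,5,10,13]), ([], 200, [9,13,10,12]), ([102,96], 649, [1,13,10,12,9])], []⟩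
def c2887 : Clm := ⟨6, 6, true, [3,10,12,8,11,12,13,10,2,13,2,7,12,11,5], [9,11,5,11,12,13,10,13,2,1,6,6,13,2,7,13], 5, [([], 2886, [])], []⟩
def c2888 : Clm := ⟨6, 6, true, [13,5,12,13,10,12,8,2,1,13,7,13,2,1], [3,12,9,11,10,12,8,11,2,4,7,12,13,5,7,12], 17, [([], 2766, [1,11]), ([], 200, [11,10,12,13]), ([170,110,102], 745, [8,10,13,10,12,11,12,9])], []⟩
def c2889 : Clm := ⟨6, 6, true, [12,9,11,12,8,11,10,2,4,7,13,7,12,13,10], [13,5,12,13,10,12,8,2,1,13,7,13,2,1], 5, [([], 2888, [])], []⟩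
def c2890 : Clm := ⟨6, 6, true, [3,11,10,12,8,12,11,2,7,13,6,12,4,7], [1,12,9,11,13,12,8,11,13,2,4,6,9,13,7,5,9], 13, [([], 2306, [9,11,12,11,5,12,9,11]), ([372], 200, [8,11,10,12,13]), ([171,110,98,96], 754, [8,13,5,10,12,13,12])], []⟩
def c2891 : Clm := ⟨6, 6, true, [5,8,11,10,12,9,11,12,8,2,4,3,12,4,6,5,10], [3,11,10,12,8,12,11,2,7,13,6,12,4,7], 5, [([], 2890, [])], []⟩
def c2892 : Clm := ⟨6, 6, true, [5,13,10,12,8,12,13,2,6,11,13,12,4], [5,8,11,10,12,9,11,12,8,2,4,3,12,4,6,5,10], 5, [([], 2891, [])], []⟩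
def c2893 : Clm := ⟨6, 6, true, [3,12,13,10,12,11,12,2,6,13,5,10,12,4], [3,8,13,5,10,13,12,9,2,13,7,5,7,10], 7, [([], 203, [5,9,12,8,11,5,11,12,11,13]), ([171,111,98], 204, [3,8,13,12]), ([], 401, [11,3,12,9,11,13,12])], []⟩
def c2894 : Clm := ⟨6, 6, true, [3,5,8,10,13,5,12,9,2,1,13,7,5,7,10], [3,12,13,10,12,11,12,2,6,13,5,10,12,4], 5, [([], 2893, [])], []⟩
def c2895 : Clm := ⟨6, 6, true, [1,13,5,12,9,11,5,12,2,4,13,12,6,13,7], [3,11,12,11,10,12,8,11,2,1,11,12,4], 9, [([], 2479, [9,11,5,10,12,13,12,13]), ([372], 621, [8,13,10,11,12,13,10]), ([171,102,98], 204, [1,3,5,8,10,12])], []⟩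
def c2896 : Clm := ⟨6, 6, true, [3,11,12,11,10,12,8,11,2,11,12,4,3], [1,13,5,12,9,11,5,12,2,4,13,12,6,13,7], 5, [([], 2895, [])], []⟩
def c2897 : Clm := ⟨6, 6, true, [13,12,9,13,12,11,13,10,2,13,2,6,12,13,7], [3,11,12,11,10,12,8,11,2,11,12,4,3], 5, [([], 2896, [])], []⟩
def c2898 : Clm := ⟨6, 6, true, [5,8,12,11,10,12,9,11,12,2,1,4,12,9,11,5], [1,10,11,5,12,11,12,9,2,4,7,12,13,7], 9, [([], 621, [3,5,8,10,13,12,11,10,13]), ([171,102,98], 204, [1,3,5,8,10,12]), ([372,370], 1493, [3,5,11,12,13,10,12,8])], []⟩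
def c2899 : Clm := ⟨6, 6, true, [1,10,11,5,12,11,12,9,2,4,3,7,12,13,7], [5,8,12,11,10,12,9,11,12,2,1,4,12,9,11,5], 5, [([], 2898, [])], []⟩
def c2900 : Clm := ⟨5, 6, true, [8,11,10,12,9,13,12,2,4,12,6,5,11,5], [9,10,12,13,12,8,11,10,2,4,3,7,9,13,12,8], 15, [([], 156, [12,11,12,8,11,5]), ([171,104], 204, [5,11,13,10,12]), ([], 1466, [9,11,12,11,13,5,12,9])], []⟩
def c2901 : Clm := ⟨6, 5, true, [9,10,12,13,12,8,11,10,2,4,7,9,13,12,8], [8,11,10,12,9,13,12,2,4,12,6,5,11,5], 5, [([], 2900, [])], []⟩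
def c2902 : Clm := ⟨5, 6, true, [5,8,10,12,11,12,8,11,2,13,7,12,4,3,5], [1,8,10,12,8,13,12,9,2,13,6,12,4,8,12], 15, [([], 156, [8,10,11,12,11,10,13,12,8]), ([102,170,110,96], 204, [11,3,10,12]), ([], 1246, [5,12,8,13,3,12,11,10])], []⟩
def c2903 : Clm := ⟨6, 5, true, [12,9,11,5,11,5,12,13,2,13,2,7,13,2,12], [5,8,10,12,11,12,8,11,2,13,7,12,4,3,5], 5, [([], 2902, [])], []⟩
def c2904 : Clm := ⟨6, 6, true, [10,11,3,12,9,13,10,13,2,4,6,12,13,6,9], [3,11,5,10,13,2,1,6,13,12,4,8,7], 15, [([], 746, [3,9,13,10,12,9,13,12,8]), ([96,170], 204, [1,9,11,5,11,12]), ([], 2894, [1,12,9,11,12,9,11,12,11])], []⟩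
def c2905 : Clm := ⟨6, 6, true, [3,8,11,5,10,13,12,8,2,13,12,13,4,6,9], [10,11,3,12,9,13,10,13,2,4,6,12,13,6,9], 5, [([], 2904, [])], []⟩
def c2906 : Clm := ⟨6, 6, true, [10,11,3,12,9,13,10,13,2,4,3,6,12,13,6,9], [3,8,11,5,10,13,12,8,2,13,12,13,4,6,9], 5, [([], 2905, [])], []⟩
def c2907 : Clm := ⟨6, 6, true, [11,12,8,12,11,13,12,2,7,13,2,6,5,6,11], [3,10,13,5,12,8,11,12,8,2,4,12,11,5,6,11,5], 15, [([], 1094, [12,8,12,13,12,9]), ([170,111,170], 204, [10,13,3,5]), ([], 1114, [3,12,9,12,11,12,13])], []⟩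
def c2908 : Clm := ⟨6, 6, true, [8,12,9,11,12,9,11,5,2,1,7,13,12,4,5,12], [11,12,8,12,11,13,12,2,7,13,2,6,5,6,11], 5, [([], 2907, [])], []⟩
def c2909 : Clm := ⟨5, 6, true, [5,8,13,5,10,11,12,9,11,2,1,13,2,5], [5,11,5,12,8,11,10,12,2,1,6,11,12,4,13,5], 15, [([], 116, [5,9,10,13,12,8,13]), ([96,171,111], 204, [9,11,3,10,13,12]), ([], 1364, [3,12,8,13,10,12,13,12])], []⟩
def c2910 : Clm := ⟨6, 5, true, [13,5,12,8,13,10,2,1,4,12,11,13,7,12], [5,8,13,5,10,11,12,9,11,2,1,13,2,5], 5, [([], 2909, [])], []⟩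
def c2911 : Clm := ⟨6, 6, true, [9,12,13,10,13,10,13,2,13,4,6,5,4,3,8], [10,11,12,9,2,6,9,13,4,6,9], 15, [([], 816, [1,5,8,11,5,12,13,10]), ([111,170,102], 204, [9,11,3,13,12]), ([], 451, [8,11,13,12,8,11,13,12,9])], []⟩
def c2912 : Clm := ⟨6, 6, true, [3,12,11,12,2,11,12,7,11,2,3], [9,12,13,10,13,10,13,2,13,4,6,5,4,3,8], 5, [([], 2911, [])], []⟩
def c2913 : Clm := ⟨6, 6, true, [8,11,13,12,9,12,11,10,2,7,9,13,10,12,9], [3,8,13,12,13,10,12,9,13,2,11,12,4,5,11,13], 15, [([], 791, [11,13,5,12,8,13,12,8]), ([170,111,100], 204, [13,3,10,11,12]), ([372,370], 1466, [12,9,13,12,9,11,12])], []⟩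
def c2914 : Clm := ⟨6, 6, true, [5,8,12,11,5,10,12,9,13,2,1,11,12,4,13,5], [8,11,13,12,9,12,11,10,2,7,9,13,10,12,9], 5, [([], 2913, [])], []⟩
def c2915 : Clm := ⟨6, 6, true, [9,11,10,13,12,9,13,10,2,1,6,11,10,12,13,4], [5,8,12,11,5,10,12,9,13,2,1,11,12,4,13,5], 5, [([], 2914, [])], []⟩
def c2916 : Clm := ⟨5, 6, true, [1,13,12,8,11,12,9,11,2,13,12,13,4,6,5,9], [1,8,11,12,13,10,11,12,9,2,11,12,8,11,13,6], 15, [([], 169, [8,10,13,3,5]), ([102,170,96], 204, [5,9,11,10,12,13]), ([], 1364, [3,5,8,12,13,10])], []⟩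
def c2917 : Clm := ⟨6, 5, true, [1,8,11,10,12,8,11,12,9,2,4,12,13,12,4,6], [1,13,12,8,11,12,9,11,2,13,12,13,4,6,5,9], 5, [([], 2916, [])], []⟩
def c2918 : Clm := ⟨5, 6, true, [1,9,12,8,11,13,12,13,5,2,1,4,12,6,13,12,9,12], [1,8,11,10,12,8,11,12,9,2,4,12,13,12,4,6], 5, [([], 2917, [])], []⟩
def c2919 : Clm := ⟨6, 6, true, [1,12,11,10,12,13,12,9,2,1,4,6,12,4,13], [3,12,11,12,11,10,13,12,4,10,2,12,4,5,7], 15, [([], 1616, [3,8,13,12,9,13]), ([102,170], 204, [3,11,5,10,12]), ([372,370], 1466, [1,9,12,11,5,11,12,9])], []⟩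
def c2920 : Clm := ⟨6, 6, true, [9,12,8,13,3,10,11,12,2,1,7,13,12,4,10,11], [3,8,13,5,10,13,2,6,13,4,7,7], 15, [([], 698, [9,11,5,12,13,12,8,12]), ([96,171,98], 204, [1,9,11,13,5,12]), ([], 2894, [1,12,9,11,12,9,11,12])], []⟩
def c2921 : Clm := ⟨6, 6, true, [3,5,8,13,5,10,2,6,13,4,7,7,10], [9,12,8,13,3,10,11,12,2,1,7,13,12,4,10,11], 5, [([], 2920, [])], []⟩
def c2922 : Clm := ⟨6, 6, true, [9,12,8,13,3,10,11,12,2,7,13,12,4,10,11], [3,5,8,13,5,10,2,6,13,4,7,7,10], 5, [([], 2921, [])], []⟩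
def c2923 : Clm := ⟨6, 6, true, [9,11,13,10,12,8,2,4,6,13,7,5,13,7], [3,8,12,11,10,12,9,11,10,2,6,9,13,4,6,9], 15, [([], 597, [3,9,13,10,12,11,10]), ([171,111,104], 204, [5,11,5,12,13]), ([], 553, [3,8,11,12,8,11,12,9])], []⟩
def c2924 : Clm := ⟨6, 6, true, [8,10,11,10,12,11,10,2,11,12,7,11,2,3], [9,11,13,10,12,8,2,4,6,13,7,5,13,7], 5, [([], 2923, [])], []⟩
def c2925 : Clm := ⟨5, 6, true, [10,12,9,11,12,9,11,2,4,3,6,12,13,7,9], [1,8,12,9,11,12,9,13,2,13,2,11,12,7,13], 15, [([], 163, [1,5,11,12,9,11,12,8]), ([100,170], 204, [13,3,5,10,12,13,12]), ([372,370], 1114, [13,12,9,12,11,12])], []⟩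
def c2926 : Clm := ⟨6, 5, true, [1,13,10,13,10,12,9,13,12,2,1,13,4,5,12,7,13], [10,12,9,11,12,9,11,2,4,3,6,12,13,7,9], 5, [([], 2925, [])], []⟩
def c2927 : Clm := ⟨5, 6, true, [10,12,9,11,12,9,11,2,4,6,12,13,7,9], [1,13,10,13,10,12,9,13,12,2,1,13,4,5,12,7,13], 5, [([], 2926, [])], []⟩
def c2928 : Clm := ⟨6, 6, true, [12,8,11,3,12,11,10,2,6,13,6,5,4,10,12], [8,11,10,12,13,12,2,4,5,13,12,7,8,13], 15, [([], 599, [11,12,8,12,13,5,12,8,11]), ([98,96], 204, [3,13,5,12,8,13,10,12]), ([], 2897, [8,12,11,3,13,12,9,13])], []⟩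
def c2929 : Clm := ⟨6, 6, true, [8,11,10,12,13,10,12,8,2,13,4,7,5,7,13], [12,8,11,3,12,11,10,2,6,13,6,5,4,10,12], 5, [([], 2928, [])], []⟩
def c2930 : Clm := ⟨6, 6, true, [9,11,13,5,12,11,12,9,2,13,2,12,13,4,7], [8,11,10,12,13,10,12,8,2,13,4,7,5,7,13], 5, [([], 2929, [])], []⟩
def c2931 : Clm := ⟨6, 6, true, [3,8,10,11,12,9,11,12,13,2,13,4,6,13,10,12], [8,11,12,11,12,9,12,11,10,2,11,13,6,12,11,2], 15, [([], 203, [1,5,13,10,12,8,11,12,9]), ([111,98,96], 204, [13,3,10,12,13,12]), ([], 1432, [9,10,11,10,12,13,5,12,8])], []⟩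
def c2932 : Clm := ⟨6, 6, true, [1,12,8,11,5,12,11,13,12,2,4,13,7,13,12,4,9], [3,8,10,11,12,9,11,12,13,2,13,4,6,13,10,12], 5, [([], 2931, [])], []⟩
def c2933 : Clm := ⟨6, 6, true, [9,12,9,13,12,9,2,13,4,6,5,11,12], [1,12,8,11,5,12,11,13,12,2,4,13,7,13,12,4,9], 5, [([], 2932, [])], []⟩
def c2934 : Clm := ⟨5, 6, true, [12,8,13,12,9,12,13,2,13,12,4,6,12,11,3], [13,5,12,13,10,12,8,2,11,13,6,12,11], 15, [([], 169, [9,12,11,10,13,12,8,12]), ([171,98,96], 204, [3,12,9,11,10,12]), ([], 1364, [1,9,10,12,9,13,10])], []⟩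
def c2935 : Clm := ⟨6, 5, true, [5,11,5,12,11,10,12,8,2,11,13,12,6,11], [12,8,13,12,9,12,13,2,13,12,4,6,12,11,3], 5, [([], 2934, [])], []⟩
def c2936 : Clm := ⟨6, 6, true, [8,10,11,3,10,12,9,11,2,11,12,13,4,10,12,13], [1,5,12,8,11,12,8,13,12,2,7,11,12,11,2], 15, [([], 761, [1,12,8,13,5,10,12,9,11]), ([110,104,100], 204, [1,11,13,5,12]), ([], 414, [3,9,11,12,8,11,12,9])], []⟩
def c2937 : Clm := ⟨6, 6, true, [1,8,12,11,5,10,12,9,13,2,6,9,13,7,13,4], [8,10,11,3,10,12,9,11,2,11,12,13,4,10,12,13], 5, [([], 2936, [])], []⟩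
def c2938 : Clm := ⟨6, 6, true, [13,10,12,8,11,10,12,2,11,12,4,13,6,10], [3,9,13,5,10,13,2,1,7,13,12,4,9], 15, [([], 621, [3,5,12,11,12,9,13]), ([110,104,98], 204, [3,9,13,5,12]), ([], 2894, [1,8,11,5,11,12,11,13,12])], []⟩
def c2939 : Clm := ⟨6, 6, true, [3,9,13,5,10,13,2,7,13,12,4,3,9], [13,10,12,8,11,10,12,2,11,12,4,13,6,10], 5, [([], 2938, [])], []⟩
def c2940 : Clm := ⟨6, 6, true, [5,9,10,12,11,5,12,2,4,5,6,13,6,10,12], [13,10,11,12,9,2,7,11,12,4,8,13], 15, [([], 682, [10,12,8,11,3,13,12,11]), ([104], 204, [1,9,11,12]), ([], 451, [5,13,12,8,11,13,12,11,12])], []⟩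
def c2941 : Clm := ⟨6, 6, true, [10,11,2,1,7,13,7,12,13,4], [5,9,10,12,11,5,12,2,4,5,6,13,6,10,12], 5, [([], 2940, [])], []⟩
def c2942 : Clm := ⟨6, 6, true, [3,12,13,10,11,12,13,2,4,3,13,12,4,9,12], [10,11,2,1,7,13,7,12,13,4], 5, [([], 2941, [])], []⟩
def c2943 : Clm := ⟨6, 6, true, [9,10,11,10,12,8,13,12,2,1,13,2,7,13,2,7], [3,10,13,5,12,9,11,10,2,13,4,7,5,7], 15, [([], 334, [9,12,13,3,10,11,12,11]), ([104,98], 204, [3,13,5,10]), ([372,370], 1114, [12,9,11,12,11,12])], []⟩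
def c2944 : Clm := ⟨6, 6, true, [1,5,10,11,5,12,8,11,2,13,2,11,12,7,8], [9,10,11,10,12,8,13,12,2,1,13,2,7,13,2,7], 5, [([], 2943, [])], []⟩
def c2945 : Clm := ⟨6, 6, true, [8,13,10,12,9,2,13,4,6,6,12,4,3], [1,5,10,11,5,12,8,11,2,13,2,11,12,7,8], 5, [([], 2944, [])], []⟩
def c2946 : Clm := ⟨6, 6, true, [11,3,12,8,11,12,9,11,2,13,12,13,4,6,12], [5,8,11,5,11,12,11,12,9,2,4,13,12,6,11,13,10], 15, [([], 791, [5,12,11,5,10,12]), ([100,170], 204, [9,13,3,10,11,12]), ([], 1404, [1,13,12,8,11,10,12,9])], []⟩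
def c2947 : Clm := ⟨6, 6, true, [10,12,13,10,13,12,11,12,2,7,11,12,4,5,12,13], [11,3,12,8,11,12,9,11,2,13,12,13,4,6,12], 5, [([], 2946, [])], []⟩
def c2948 : Clm := ⟨6, 6, true, [1,8,10,13,12,9,2,1,13,12,13,2,6,11], [8,10,11,12,8,2,6,9,13,4,6,13], 15, [([], 337, [3,5,8,12,11,10,12,9]), ([110,98,96], 204, [1,13,12,8,13,5,12]), ([], 451, [10,12,9,11,12,11,5,10])], []⟩
def c2949 : Clm := ⟨6, 6, true, [10,11,10,12,9,2,13,7,9,12,13,4], [1,8,10,13,12,9,2,1,13,12,13,2,6,11], 5, [([], 2948, [])], []⟩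
def c2950 : Clm := ⟨6, 6, true, [1,12,8,11,12,8,11,12,8,2,4,7,5,7,13,5,7], [10,11,10,12,9,2,13,7,9,12,13,4], 5, [([], 2949, [])], []⟩
def c2951 : Clm := ⟨6, 6, true, [3,5,10,13,12,9,12,11,2,13,7,13,2,5,7], [3,8,11,12,11,10,12,11,2,1,4,12,6,13,6,5], 15, [([], 1312, [1,9,12,8,11,13,12,9,11]), ([96,171,111], 204, [1,11,13,12]), ([], 553, [3,9,11,12,9,11,12,11])], []⟩
def c2952 : Clm := ⟨6, 6, true, [3,8,11,12,11,10,12,11,12,2,13,12,13,4,6,6], [3,5,10,13,12,9,12,11,2,13,7,13,2,5,7], 5, [([], 2951, [])], []⟩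
def c2953 : Clm := ⟨6, 6, true, [10,12,9,13,12,9,13,2,4,6,13,12,6,11,13], [11,13,10,12,8,13,2,4,6,13,12,11,2], 15, [([], 656, [9,10,11,12,9,11,13,5]), ([171,111,104], 204, [1,9,13,5,13,12]), ([], 2894, [9,10,13,3,12,9,11,10])], []⟩
def c2954 : Clm := ⟨6, 6, true, [11,13,10,12,8,13,2,4,6,13,12,11,10,2], [10,12,9,13,12,9,13,2,4,6,13,12,6,11,13], 5, [([], 2953, [])], []⟩
def c2955 : Clm := ⟨6, 6, true, [3,11,12,8,12,13,10,2,1,13,12,4,6,12,6], [11,13,10,12,8,13,2,4,6,13,12,11,10,2], 5, [([], 2954, [])], []⟩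
def c2956 : Clm := ⟨6, 6, true, [5,8,12,13,5,2,4,13,7,13,12,9], [9,10,11,10,12,2,7,11,12,4,8,13], 15, [([], 1312, [11,5,12,11,12,8,12,13]), ([102,170,110], 204, [1,9,13,12]), ([], 451, [10,12,13,12,8,11,10])], []⟩
def c2957 : Clm := ⟨6, 6, true, [8,10,11,12,9,2,1,7,13,7,12,13,4], [5,8,12,13,5,2,4,13,7,13,12,9], 5, [([], 2956, [])], []⟩
def c2958 : Clm := ⟨5, 6, true, [11,3,12,8,11,10,2,1,13,4,7,12,11,13], [10,13,12,8,11,10,12,13,10,2,4,3,12,8,13,12,4], 15, [([], 163, [10,11,13,12,9,13,12]), ([170,111,111], 204, [5,8,11,5,10,12,11]), ([372,370], 2897, [11,13])], []⟩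
def c2959 : Clm := ⟨6, 5, true, [9,11,5,12,11,12,11,2,4,3,12,4,5,7], [11,3,12,8,11,10,2,1,13,4,7,12,11,13], 5, [([], 2958, [])], []⟩
def c2960 : Clm := ⟨6, 6, true, [1,11,13,10,12,8,12,11,13,2,1,7,13,2,7,5], [13,10,13,12,8,13,10,12,2,1,7,9,13,4,7,5], 15, [([], 682, [5,9,10,11,12,11,13,12,13]), ([96,170], 204, [3,13,10]), ([], 1432, [10,11,13,12,11,10,13])], []⟩
def c2961 : Clm := ⟨6, 6, true, [3,8,10,12,8,11,12,8,2,13,6,6,13,2,5], [1,11,13,10,12,8,12,11,13,2,1,7,13,2,7,5], 5, [([], 2960, [])], []⟩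
def c2962 : Clm := ⟨6, 6, true, [8,10,11,12,8,13,10,11,2,1,6,13,2,7,12,13], [9,12,13,3,10,11,12,11,2,4,12,11,3,5,7], 15, [([], 791, [1,9,13,12,9,11,12,13]), ([98,171,111], 204, [3,5,10]), ([], 1114, [12,9,11,13,12,11,12])], []⟩
def c2963 : Clm := ⟨6, 6, true, [9,12,13,3,10,11,12,11,2,1,4,12,11,5,7], [8,10,11,12,8,13,10,11,2,1,6,13,2,7,12,13], 5, [([], 2962, [])], []⟩
def c2964 : Clm := ⟨6, 6, true, [1,12,8,13,5,13,12,2,4,12,11,13,5,7,7], [8,10,12,8,11,12,8,13,2,13,12,4,3,2,6], 15, [([], 243, [12,13,3,10,12,8,12,11]), ([111,96], 204, [5,11,5,10,12,11]), ([372,370], 1466, [8,13,12,13,5,12])], []⟩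
def c2965 : Clm := ⟨6, 6, true, [3,9,10,11,12,8,13,10,12,2,13,12,4,3,10,4], [1,12,8,13,5,13,12,2,4,12,11,13,5,7,7], 5, [([], 2964, [])], []⟩
def c2966 : Clm := ⟨6, 6, true, [1,12,13,5,13,12,8,12,2,6,13,4,6,6,12,4], [3,9,10,11,12,8,13,10,12,2,13,12,4,3,10,4], 5, [([], 2965, [])], []⟩
def c2967 : Clm := ⟨6, 6, true, [5,10,11,12,11,10,12,2,4,13,6,12,4,7,13], [3,8,11,10,12,9,12,13,2,1,6,9,11,12,7], 15, [([], 698, [1,10,11,12,13,10]), ([111,100], 204, [8,10,13,5,12]), ([372,370], 1493, [3,10,12,8,12,11,13,12])], []⟩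
def c2968 : Clm := ⟨6, 6, true, [1,5,9,13,12,8,13,10,13,2,6,9,11,12,7], [5,10,11,12,11,10,12,2,4,13,6,12,4,7,13], 5, [([], 2967, [])], []⟩
def c2969 : Clm := ⟨6, 6, true, [3,11,12,9,13,12,2,13,2,6,5,6,8,13], [1,5,9,13,12,8,13,10,13,2,6,9,11,12,7], 5, [([], 2968, [])], []⟩
def c2970 : Clm := ⟨6, 6, true, [3,13,10,11,12,8,13,2,7,7,13,12,6,5], [1,5,8,12,11,10,12,13,12,2,1,7,11,12,4,8,13], 15, [([], 621, [1,9,11,5,10,12,11,12,13]), ([170,110,96], 204, [5,8,11,3,5,12]), ([], 2863, [9,12,8,13,3,12])], []⟩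
def c2971 : Clm := ⟨6, 6, true, [3,9,12,11,12,13,10,11,2,7,13,7,12,13,4], [3,13,10,11,12,8,13,2,7,7,13,12,6,5], 5, [([], 2970, [])], []⟩
def c2972 : Clm := ⟨5, 6, true, [1,12,8,12,13,5,13,12,2,4,12,6,11,10,12], [11,13,12,8,11,10,2,13,12,8,13,2,13], 15, [([], 163, [12,9,11,3,10,13]), ([102,170,110,96], 204, [5,8,10,11,13,12]), ([372,370], 1493, [1,12,11,12,8,12,11,10])], []⟩
def c2973 : Clm := ⟨6, 5, true, [10,11,12,9,12,13,12,11,2,13,2,12,13,3,7,5], [1,12,8,12,13,5,13,12,2,4,12,6,11,10,12], 5, [([], 2972, [])], []⟩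
def c2974 : Clm := ⟨6, 6, true, [1,5,9,12,13,12,8,12,11,2,6,13,4,12,6,5], [1,8,11,12,13,10,11,12,2,13,6,12,4,5], 15, [([], 599, [12,13,10,12,13,10,13]), ([96,170,111,96], 204, [9,13,3,5,10,12]), ([], 1364, [5,8,12,11,5,10])], []⟩
def c2975 : Clm := ⟨6, 6, true, [1,8,11,10,12,11,2,4,12,7,13,12], [1,5,9,12,13,12,8,12,11,2,6,13,4,12,6,5], 5, [([], 2974, [])], []⟩
def c2976 : Clm := ⟨6, 6, true, [9,12,11,3,12,8,12,13,2,4,5,6,13,4,12,6], [1,8,11,10,12,11,2,4,12,7,13,12], 5, [([], 2975, [])], []⟩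
def c2977 : Clm := ⟨6, 6, true, [8,11,12,11,13,12,13,2,13,6,6,10,13,2], [11,5,11,12,13,10,13,12,2,4,3,12,8,13,10], 15, [([], 361, [12,11,3,5,10,12]), ([170,110,96], 204, [8,11,3,12,13,10]), ([], 1114, [13,12,8,11])], []⟩
def c2978 : Clm := ⟨6, 6, true, [11,5,11,12,13,10,13,12,2,4,12,8,13,10], [8,11,12,11,13,12,13,2,13,6,6,10,13,2], 5, [([], 2977, [])], []⟩
def c2979 : Clm := ⟨6, 6, true, [5,8,13,12,9,12,11,12,2,1,13,6,5,4,7,12,8], [5,11,13,12,13,5,12,9,2,4,12,11,3,10], 15, [([], 656, [10,11,12,8,13,12,11]), ([171,110,171], 204, [5,12,11,3,12]), ([], 215, [9,12,13,3,5,12,8])], []⟩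
def c2980 : Clm := ⟨6, 6, true, [5,11,13,12,13,5,12,9,2,1,4,12,11,10], [5,8,13,12,9,12,11,12,2,1,13,6,5,4,7,12,8], 5, [([], 2979, [])], []⟩
def c2981 : Clm := ⟨6, 6, true, [9,10,11,10,12,9,13,10,2,1,13,12,11,10], [1,8,10,12,9,11,10,12,13,2,4,12,4,12,13,12,9], 15, [([], 191, [5,12,13,3,10,12,9,12]), ([171,100], 204, [3,8,13,10,12]), ([372,370], 2897, [1,3])], []⟩
def c2982 : Clm := ⟨6, 6, true, [3,9,11,13,12,8,13,10,2,11,12,4,12,9,13,4], [9,10,11,10,12,9,13,10,2,1,13,12,11,10], 5, [([], 2981, [])], []⟩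
def c2983 : Clm := ⟨6, 6, true, [9,10,11,10,12,9,13,2,1,13,12,11,10], [3,9,11,13,12,8,13,10,2,11,12,4,12,9,13,4], 5, [([], 2982, [])], []⟩
def c2984 : Clm := ⟨6, 6, true, [10,11,12,8,11,12,8,13,10,2,1,13,6,10,12,4,13], [3,12,11,5,10,12,11,2,4,13,12,11,2], 11, [([], 1845, [5,10,11,12,9,13,10,12,8]), ([], 2738, [1,5,8,11,5,12,13,12,8]), ([98,170], 204, [1,5,12,11,5,13])], []⟩
def c2985 : Clm := ⟨6, 6, true, [3,12,11,5,10,12,11,2,4,13,12,11,10,2], [10,11,12,8,11,12,8,13,10,2,1,13,6,10,12,4,13], 5, [([], 2984, [])], []⟩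
def c2986 : Clm := ⟨6, 6, true, [5,10,12,8,13,12,9,11,10,2,1,4,12,13,4,7,13], [3,12,11,10,12,8,2,1,11,10,12,11,2], 11, [([], 1477, [1,5,9,12,11,10,12]), ([], 656, [9,12,13,5,12,9,11,10]), ([104,100], 204, [1,8,11,12])], []⟩
def c2987 : Clm := ⟨6, 6, true, [12,11,12,2,1,6,13,2,7,8], [5,10,12,8,13,12,9,11,10,2,1,4,12,13,4,7,13], 5, [([], 2986, [])], []⟩
def c2988 : Clm := ⟨6, 6, true, [8,11,3,13,12,9,13,10,12,2,4,5,6,11,12,4,3], [3,10,13,12,11,13,10,2,6,13,4,7,8,13], 11, [([], 2479, [9,10,12,9,11,13,12,11]), ([372], 621, [12,11,13,5,12,9,11]), ([170,111,102], 204, [8,11,3,12,13])], []⟩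
def c2989 : Clm := ⟨6, 6, true, [3,12,11,12,8,11,2,11,12,11,2,13,3], [8,11,3,13,12,9,13,10,12,2,4,5,6,11,12,4,3], 5, [([], 2988, [])], []⟩
def c2990 : Clm := ⟨6, 6, true, [9,10,12,8,13,10,12,11,2,13,2,13,6,12,4], [3,12,11,12,8,11,2,11,12,11,2,13,3], 5, [([], 2989, [])], []⟩
def c2991 : Clm := ⟨6, 6, true, [5,9,13,2,1,13,2,6,5,6,13], [11,13,5,12,13,12,2,4,5,11,12,11,2], 11, [([], 618, [1,5,9,12,8,13,12,9]), ([], 816, [11,3,12,9,12,11,10]), ([171,104,96], 204, [5,13,3,5,12])], []⟩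
def c2992 : Clm := ⟨6, 6, true, [11,13,5,12,13,12,2,4,5,11,12,11,10,2], [5,9,13,2,1,13,2,6,5,6,13], 5, [([], 2991, [])], []⟩
def c2993 : Clm := ⟨5, 6, true, [1,9,12,13,10,13,12,11,12,2,4,3,13,12,9], [3,5,12,13,12,9,11,2,13,2,12,13,3,4], 11, [([], 178, [1,11,13,12,8,11,10,12,13]), ([252,228,253,227], 163, [8,11,10,13]), ([102,170,96], 204, [3,9,13,5,12,13,10])], []⟩
def c2994 : Clm := ⟨6, 5, true, [11,12,11,12,8,12,2,4,6,9,12,13,6,9], [1,9,12,13,10,13,12,11,12,2,4,3,13,12,9], 5, [([], 2993, [])], []⟩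
def c2995 : Clm := ⟨5, 6, true, [1,9,12,13,10,13,12,11,12,2,4,13,12,9], [11,12,11,12,8,12,2,4,6,9,12,13,6,9], 5, [([], 2994, [])], []⟩
def c2996 : Clm := ⟨6, 6, true, [5,8,11,13,12,13,10,2,7,11,12,13,2,11,5], [1,5,11,12,9,11,12,13,2,4,3,7,9,12,11], 11, [([], 1411, [5,9,10,13,10,12,11]), ([373,370], 599, [10,12,13,5,10,12,9]), ([104,102,98], 204, [3,8,12,11,12,13,10])], []⟩
def c2997 : Clm := ⟨6, 6, true, [1,5,11,12,9,11,12,13,2,4,7,9,12,11], [5,8,11,13,12,13,10,2,7,11,12,13,2,11,5], 5, [([], 2996, [])], []⟩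
def c2998 : Clm := ⟨6, 6, true, [1,12,13,10,12,13,10,12,9,2,13,7,13,4,6,13], [5,8,12,11,13,10,12,9,2,1,13,4,5], 11, [([], 1883, [1,9,10,11,13,12,9,11,13]), ([], 768, [8,12,11,3,10,12,8,13]), ([170], 204, [3,5,10,13,12,13])], []⟩
def c2999 : Clm := ⟨6, 6, true, [5,8,12,11,13,12,9,2,4,5,13], [1,12,13,10,12,13,10,12,9,2,13,7,13,4,6,13], 5, [([], 2998, [])], []⟩
def c3000 : Clm := ⟨6, 6, true, [1,12,13,10,12,9,13,12,2,13,7,5,4,6], [5,8,12,11,13,12,9,2,4,5,13], 5, [([], 2999, [])], []⟩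
def c3001 : Clm := ⟨6, 6, true, [8,12,11,10,12,13,12,8,2,13,4,12,4,3,7], [10,11,12,9,2,6,13,4,7,8,13], 11, [([], 870, [1,9,11,12,9,11,13,12]), ([372,370], 337, [3,13,10,12,9,11,13,12,8]), ([111,170,100], 204, [3,11,12,13])], []⟩
def c3002 : Clm := ⟨6, 6, true, [3,12,11,12,2,11,12,11,2,13,3], [8,12,11,10,12,13,12,8,2,13,4,12,4,3,7], 5, [([], 3001, [])], []⟩
def c3003 : Clm := ⟨6, 6, true, [11,13,5,12,9,13,12,9,13,2,6,13,2,6,13,6,6], [3,12,11,5,10,13,12,8,13,2,4,6,13,5,6,9,13], 11, [([], 358, [8,11,5,10,13,12,13,12]), ([226,253,227], 119, [9,12,9,13,10,13,12,8,11]), ([171,104], 204, [5,11,13,10,12,13])], []⟩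
def c3004 : Clm := ⟨6, 6, true, [11,12,11,12,8,13,2,7,13,2,6,9,13], [11,13,5,12,9,13,12,9,13,2,6,13,2,6,13,6,6], 5, [([], 3003, [])], []⟩
def c3005 : Clm := ⟨6, 6, true, [3,12,13,10,11,12,8,2,6,11,10,12,4,8], [9,13,12,13,12,9,2,13,4,12,4,3], 11, [([], 1925, [8,13,3,12,9,11,13]), ([373,370], 361, [11,13,10,12]), ([170,98], 204, [3,8,10,13,10,12])], []⟩
def c3006 : Clm := ⟨6, 6, true, [9,13,12,13,12,9,2,1,13,4,12,4], [3,12,13,10,11,12,8,2,6,11,10,12,4,8], 5, [([], 3005, [])], []⟩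
def c3007 : Clm := ⟨6, 6, true, [12,9,11,12,8,11,12,2,1,13,2,12,8,11,12], [3,12,11,10,12,11,12,2,1,13,12,13,4,10,4], 11, [([], 2927, [8,10,13,3,10]), ([253,226], 163, [1,8,11,13,12,9,12,11,12]), ([100,170], 204, [1,13,10,12,11,5,12])], []⟩
def c3008 : Clm := ⟨6, 6, true, [1,11,12,9,11,5,12,2,1,4,5,12,13,7,8], [12,9,11,12,8,11,12,2,1,13,2,12,8,11,12], 5, [([], 3007, [])], []⟩
def c3009 : Clm := ⟨6, 6, true, [5,12,9,11,5,11,12,11,10,2,1,13,4,6,13,5], [10,11,12,11,10,12,8,11,2,4,3,7,9,12,11], 11, [([], 2950, [8,10,13,12,13,5,12,8,13]), ([373,370], 788, [11,10,12,9,11,13,5]), ([170,110,100], 204, [12,11,3,10,12])], []⟩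
def c3010 : Clm := ⟨6, 6, true, [10,11,12,11,10,12,8,11,2,4,7,9,12,11], [5,12,9,11,5,11,12,11,10,2,1,13,4,6,13,5], 5, [([], 3009, [])], []⟩
def c3011 : Clm := ⟨6, 6, true, [5,12,9,11,5,11,12,11,2,13,4,6,5,11,13], [10,11,12,11,10,12,8,11,2,4,7,9,12,11], 5, [([], 3010, [])], []⟩
def c3012 : Clm := ⟨6, 6, true, [9,11,12,9,11,5,12,13,2,6,13,2,6,13,12], [9,12,13,3,5,10,12,9,13,2,1,13,2,5], 11, [([], 2627, [10,11,12,9,11,12,13,10]), ([372,370], 337, [1,9,12,13,10,13,12]), ([98,170,96], 204, [3,5,8,10,13,12])], []⟩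
def c3013 : Clm := ⟨6, 6, true, [9,11,12,13,12,9,2,13,2,13], [9,11,12,9,11,5,12,13,2,6,13,2,6,13,12], 5, [([], 3012, [])], []⟩
def c3014 : Clm := ⟨6, 6, true, [9,12,11,12,8,11,5,10,13,2,1,4,12,6,13,5,12,8], [8,13,12,13,5,10,12,9,13,2,1,13,12,4,6,13], 11, [([], 2686, [11,3,12,9,11,12,8]), ([373,370], 761, [11,12,9,12,11,13,10]), ([111,98,170], 204, [3,12,11,5])], []⟩
def c3015 : Clm := ⟨6, 6, true, [1,9,11,12,11,10,13,12,2,13,7,9,12,13,4], [1,9,12,13,10,12,9,2,1,11,13], 11, [([], 2146, [1,12,11,10,12,9,13,5,12]), ([372], 334, [1,5,11,12,8,11,13,12]), ([104,102], 204, [8,10,11,3,12,13])], []⟩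
def c3016 : Clm := ⟨6, 6, true, [1,9,12,13,12,9,2,1,11,13], [1,9,11,12,11,10,13,12,2,13,7,9,12,13,4], 5, [([], 3015, [])], []⟩
def c3017 : Clm := ⟨6, 6, true, [8,11,5,11,12,9,12,11,13,12,2,13,2,13,12,6,9], [10,12,8,12,11,5,12,2,4,12,11,13,5,6,6], 17, [([], 698, [11,10,13,12,8,12,13,12,13]), ([111,96], 204, [13,3,5,10,12,11,12]), ([372], 2509, [3,10,12,8,13,12,11,10])], []⟩
def c3018 : Clm := ⟨6, 6, true, [5,8,10,12,13,12,8,2,6,9,13,2,7,11,13], [8,11,5,11,12,9,12,11,13,12,2,13,2,13,12,6,9], 5, [([], 3017, [])], []⟩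
def c3019 : Clm := ⟨6, 6, true, [3,8,13,10,12,13,12,9,2,1,13,2,6,12,9], [5,8,10,12,13,12,8,2,6,9,13,2,7,11,13], 5, [([], 3018, [])], []⟩
def c3020 : Clm := ⟨5, 6, true, [5,12,8,11,10,12,9,11,12,2,4,3,5,7,13,7], [8,12,11,13,2,13,4,6,6,12,4,3], 17, [([], 156, [8,11,10,12,9,11,12,8]), ([171,100], 204, [1,13,10,12,11,5]), ([], 2594, [5,9,10,12,13,10,12,11,10])], []⟩
def c3021 : Clm := ⟨6, 5, true, [3,5,10,11,12,8,13,10,12,2,1,13,2,7,13,2,7], [5,12,8,11,10,12,9,11,12,2,4,3,5,7,13,7], 5, [([], 3020, [])], []⟩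
def c3022 : Clm := ⟨6, 6, true, [3,8,11,13,12,9,11,10,12,2,1,4,6,12,8,13], [8,10,13,12,8,13,10,13,2,4,12,4,13,3], 11, [([], 724, [8,12,13,12,13,10,13]), ([253,227,252], 119, [1,9,13,5,10,13,12,8,11]), ([171,110,110,96], 204, [1,9,13,10,13,10,12])], []⟩
def c3023 : Clm := ⟨6, 6, true, [8,10,13,12,8,13,10,13,2,1,4,12,4,13], [3,8,11,13,12,9,11,10,12,2,1,4,6,12,8,13], 5, [([], 3022, [])], []⟩
def c3024 : Clm := ⟨5, 6, true, [5,8,12,9,13,5,13,12,8,2,4,6,5,6,13,3], [5,12,13,3,10,12,13,12,2,13,12,13,4,10,4], 11, [([], 805, [1,5,10,13,5]), ([373,370], 788, [13,5,12,11,13]), ([110,104,102], 204, [3,10,12,11,5,12])], []⟩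
def c3025 : Clm := ⟨6, 5, true, [5,11,12,9,13,12,2,4,5,12,11,13,7,8], [5,8,12,9,13,5,13,12,8,2,4,6,5,6,13,3], 5, [([], 3024, [])], []⟩
def c3026 : Clm := ⟨6, 6, true, [5,8,13,12,9,12,11,13,12,9,2,7,13,4,6,6,5], [3,12,11,10,12,9,2,1,11,10,12,11,2], 11, [([], 2525, [8,11,12,9,11,13,5,12,11]), ([], 597, [1,5,9,10,12,13,12,9]), ([96,170,110], 204, [1,9,11,12])], []⟩
def c3027 : Clm := ⟨6, 6, true, [9,13,12,13,10,13,10,12,2,4,7,12,11,5,7], [1,8,10,13,10,12,11,2,4,13,5,7,13,6], 11, [([], 1647, [3,13,12,9,11,10,12]), ([], 337, [5,12,8,11,3,12,8,13]), ([170,100], 204, [1,5,11,10,12,8,13,12])], []⟩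
def c3028 : Clm := ⟨6, 6, true, [8,10,13,12,13,10,13,2,13,2,7,13,6], [9,13,12,13,10,13,10,12,2,4,7,12,11,5,7], 5, [([], 3027, [])], []⟩
def c3029 : Clm := ⟨6, 6, true, [9,13,5,10,12,13,12,8,13,2,6,13,4,12,7,7], [9,11,12,13,12,9,13,10,2], 11, [([], 420, [3,9,12,8,13,12,13,10,11]), ([373], 2738, [3,5,11,12,13]), ([104,171,111], 204, [8,10,11,3,5,12])], []⟩
def c3030 : Clm := ⟨6, 6, true, [9,11,12,13,12,9,13,2], [9,13,5,10,12,13,12,8,13,2,6,13,4,12,7,7], 5, [([], 3029, [])], []⟩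
def c3031 : Clm := ⟨6, 6, true, [5,9,13,5,10,12,13,12,8,2,6,13,4,10,12,7,7], [9,11,12,13,12,9,13,2], 5, [([], 3030, [])], []⟩
def c3032 : Clm := ⟨6, 6, true, [3,5,8,12,11,5,12,8,2,4,3,5,12,13], [8,11,10,13,12,8,13,10,2,4,3,5,12,13,4], 13, [([], 1079, [5,8,12,11,5,12,8,11,13]), ([], 746, [12,13,12,9,11,12,8,11]), ([111,98,96], 204, [1,9,10,13,10,12])], []⟩
def c3033 : Clm := ⟨6, 6, true, [5,11,13,12,9,11,13,12,11,2,4,5,7,12,13,5], [3,5,8,12,11,5,12,8,2,4,3,5,12,13], 5, [([], 3032, [])], []⟩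
def c3034 : Clm := ⟨6, 6, true, [1,8,11,5,12,11,10,2,4,13,5,7,13,5], [12,13,5,10,11,12,13,10,2,7,13,7,10,12,9], 11, [([], 656, [1,13,5,10,12,11,12,8,12]), ([98,170,110,96], 204, [3,10,11,10,12]), ([370], 3000, [3,5,10,11])], []⟩
def c3035 : Clm := ⟨6, 6, true, [3,12,13,10,13,12,9,11,2,13,5,10,12,13,7], [1,8,11,5,12,11,10,2,4,13,5,7,13,5], 5, [([], 3034, [])], []⟩
def c3036 : Clm := ⟨6, 6, true, [5,10,13,5,12,11,2,1,4,12,8,13,6,13], [10,13,3,12,9,12,13,10,2,4,3,12,13,4], 13, [([], 1194, [11,13,12,8,11,12,8]), ([373,370], 698, [10,11,10,12,13,5,12,8]), ([170,111], 204, [9,11,3,10,13,12])], []⟩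
def c3037 : Clm := ⟨6, 6, true, [3,10,12,8,11,12,9,13,10,2,4,6,12,9,13,5], [5,10,13,5,12,11,2,1,4,12,8,13,6,13], 5, [([], 3036, [])], []⟩
def c3038 : Clm := ⟨6, 6, true, [9,13,12,9,13,12,13,10,2,4,3,12,6,13,6,9], [3,5,11,5,12,11,12,9,2,4,12,9,11,5,4,10], 11, [([], 746, [11,12,8,13,12,9,11]), ([111,98,96], 204, [9,13,3,10,13,12]), ([373], 3023, [3,5,9])], []⟩
def c3039 : Clm := ⟨6, 6, true, [8,11,3,10,12,8,11,12,2,4,7,7,13,6,5,9], [9,13,12,9,13,12,13,10,2,4,3,12,6,13,6,9], 5, [([], 3038, [])], []⟩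
def c3040 : Clm := ⟨6, 6, true, [9,13,12,9,13,12,13,10,2,4,12,6,13,6,9], [8,11,3,10,12,8,11,12,2,4,7,7,13,6,5,9], 5, [([], 3039, [])], []⟩
def c3041 : Clm := ⟨6, 6, true, [5,8,12,9,13,12,9,13,2,1,13,7,5,4,10,13], [10,12,8,13,5,12,11,5,2,4,13,3,12,4,5,11], 11, [([], 621, [9,10,13,12,9,13]), ([171,102,98], 204, [1,8,10,13,5,12]), ([372,370], 1898, [3,5,8,13,10])], []⟩
def c3042 : Clm := ⟨6, 6, true, [10,12,8,13,5,12,11,5,2,4,13,12,4,13,5,13], [5,8,12,9,13,12,9,13,2,1,13,7,5,4,10,13], 5, [([], 3041, [])], []⟩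
def c3043 : Clm := ⟨6, 6, true, [1,10,11,12,13,10,11,12,8,2,6,13,2,6,6,12,13], [3,10,12,9,13,5,12,2,11,5,12,13,2,13,3], 11, [([], 656, [1,9,10,13,12,9,13,10]), ([98,170,110,96], 204, [5,13,3,5,10,12]), ([], 3011, [3,5,10,13,12,11,10,13])], []⟩
def c3044 : Clm := ⟨6, 6, true, [3,8,10,11,12,8,11,2,4,13,5,6,13,12,4], [1,10,11,12,13,10,11,12,8,2,6,13,2,6,6,12,13], 5, [([], 3043, [])], []⟩
def c3045 : Clm := ⟨6, 6, true, [5,8,12,11,10,12,11,10,2,4,12,4,13,12,11,13], [5,10,13,10,12,2,1,11,5,11,12,11,2], 11, [([], 621, [5,11,5,11,12,9,13]), ([171,110,110], 204, [1,10,13,10]), ([372,370], 248, [1,8,10,11,5,12])], []⟩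
def c3046 : Clm := ⟨6, 6, true, [5,9,11,12,13,12,8,13,5,4,5,10,2,12,4,5], [5,8,12,11,10,12,11,10,2,4,12,4,13,12,11,13], 5, [([], 3045, [])], []⟩
def c3047 : Clm := ⟨6, 6, true, [3,9,11,5,10,13,12,9,2,1,4,7,13,12,6,13], [10,12,8,13,12,13,12,8,2,13,2,12,13,6,5], 13, [([], 3019, [5,9,10,12,11,13,12,8]), ([], 698, [1,12,13,5,10,13,12,8,11]), ([170,111], 204, [3,5,9,11,10,12])], []⟩
def c3048 : Clm := ⟨6, 6, true, [9,10,12,9,11,12,8,13,10,2,4,13,5,12,13,6,5], [3,9,11,5,10,13,12,9,2,1,4,7,13,12,6,13], 5, [([], 3047, [])], []⟩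
def c3049 : Clm := ⟨6, 6, true, [1,8,11,10,13,12,11,2,4,12,13,7,9,12,11], [1,12,8,11,13,12,9,12,2,4,7,9,13,10,12], 11, [([], 599, [10,13,12,13,5,13,5]), ([110,110,104], 204, [13,3,5,10,12,11,12]), ([372], 849, [1,13,10,11,12,13,12])], []⟩
def c3050 : Clm := ⟨6, 6, true, [3,5,8,13,10,12,13,12,9,2,4,7,5,9,11,12], [1,8,11,10,13,12,11,2,4,12,13,7,9,12,11], 5, [([], 3049, [])], []⟩
def c3051 : Clm := ⟨6, 6, true, [3,9,12,8,11,10,13,12,13,2,4,7,13,12,4,12,13], [3,5,8,13,10,12,13,12,9,2,4,7,5,9,11,12], 5, [([], 3050, [])], []⟩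
def c3052 : Clm := ⟨6, 6, true, [9,10,11,3,13,12,9,13,2,13,2,12,13,2,3,6], [1,8,10,11,12,13,10,12,9,2,6,13,12,7,7], 11, [([], 599, [3,11,12,13,10,12,9,13]), ([110,110,104], 204, [8,11,3,13,12,13,10]), ([372], 2509, [1,5,10,13,5,12,13,10,12])], []⟩
def c3053 : Clm := ⟨6, 6, true, [10,12,8,13,5,12,9,13,10,2,11,13,7,12,13], [9,10,11,3,13,12,9,13,2,13,2,12,13,2,3,6], 5, [([], 3052, [])], []⟩
def c3054 : Clm := ⟨6, 6, true, [11,12,9,11,10,13,12,9,2,13,2,12,13,2,4], [10,12,8,13,5,12,9,13,10,2,11,13,7,12,13], 5, [([], 3053, [])], []⟩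
def c3055 : Clm := ⟨6, 6, true, [5,8,10,13,10,12,9,11,2,4,6,13,6,5,6,13], [1,13,10,13,12,9,11,12,13,2,6,13,4,6,9], 11, [([], 746, [10,13,12,13,10,13]), ([111,98,96], 204, [5,9,13,3,10,12]), ([372,370], 2457, [5,8,13,3,12,11,10])], []⟩
def c3056 : Clm := ⟨6, 6, true, [9,13,5,10,12,13,12,9,12,2,1,7,13,6,13,4], [5,8,10,13,10,12,9,11,2,4,6,13,6,5,6,13], 5, [([], 3055, [])], []⟩
def c3057 : Clm := ⟨6, 6, true, [8,12,9,11,12,11,5,11,2,1,13,12,4,12,4,7], [9,13,5,10,12,13,12,9,12,2,1,7,13,6,13,4], 5, [([], 3056, [])], []⟩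
def c3058 : Clm := ⟨6, 6, true, [11,12,13,10,13,12,13,2,4,12,13,2,6,12,6], [11,5,12,13,12,11,10,2,4,5,11], 13, [([], 2651, [1,12,11,13,10,12,9,11]), ([], 621, [11,5,11,12,9,13]), ([171,110,110], 204, [3,13,10])], []⟩
def c3059 : Clm := ⟨6, 6, true, [1,11,5,12,13,10,12,2,4,13,10], [11,12,13,10,13,12,13,2,4,12,13,2,6,12,6], 5, [([], 3058, [])], []⟩
def c3060 : Clm := ⟨6, 6, true, [8,12,9,13,5,12,11,5,2,4,6,5,6,13,7,12], [1,11,5,12,13,10,12,2,4,13,10], 5, [([], 3059, [])], []⟩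
def c3061 : Clm := ⟨6, 6, true, [8,10,13,12,13,12,9,2,1,13,2,12,6,5], [11,5,11,5,12,8,13,10,2,13,2,12,7,13], 13, [([], 1499, [1,13,10,12,11,12,9,12]), ([373], 621, [9,13,12,13,5,10,11,12,9]), ([171,110,110], 204, [3,8,12,11,5,10])], []⟩
def c3062 : Clm := ⟨6, 6, true, [11,12,11,12,8,13,10,2,4,5,11,12,4], [8,10,13,12,13,12,9,2,1,13,2,12,6,5], 5, [([], 3061, [])], []⟩
def c3063 : Clm := ⟨6, 6, true, [5,10,13,12,8,11,13,12,13,2,1,11,10,12,13,2,6,11], [3,10,12,11,12,8,12,11,2,6,9,13,6,13,2,5], 11, [([], 656, [3,9,10,13,12,9,11,10]), ([98,170,110,96], 204, [3,11,10,12]), ([372,370], 1998, [9,10,11,3,13,12,11,10])], []⟩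
def c3064 : Clm := ⟨6, 6, true, [3,9,10,13,12,8,11,10,2,1,7,13,12,7,11,2], [5,10,13,12,8,11,13,12,13,2,1,11,10,12,13,2,6,11], 5, [([], 3063, [])], []⟩
def c3065 : Clm := ⟨6, 6, true, [1,10,13,12,9,12,11,2,4,5,7,13,2,11,12,7], [3,11,13,12,13,12,8,12,11,2,4,3,13,12,9,11,12], 11, [([], 621, [11,3,10,13,12,8,13]), ([171,102,98], 204, [3,5,8,10,13,12]), ([], 3031, [5,13,5,13])], []⟩
def c3066 : Clm := ⟨6, 6, true, [3,11,13,12,13,12,8,12,11,2,1,4,13,12,9,11,12], [1,10,13,12,9,12,11,2,4,5,7,13,2,11,12,7], 5, [([], 3065, [])], []⟩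
def c3067 : Clm := ⟨6, 6, true, [9,11,3,12,8,11,12,9,11,2,1,4,12,13,4,6,12], [8,12,11,12,9,11,12,11,13,2,4,6,9,13,12,6], 13, [([], 2802, [1,13,5,10,11,12,13]), ([370], 698, [1,10,11,12,11,12,8]), ([170,111], 204, [3,9,13,5,10,12])], []⟩
def c3068 : Clm := ⟨6, 6, true, [8,12,11,12,9,11,12,11,13,2,4,3,6,9,13,12,6], [9,11,3,12,8,11,12,9,11,2,1,4,12,13,4,6,12], 5, [([], 3067, [])], []⟩
def c3069 : Clm := ⟨6, 6, true, [3,5,12,8,13,5,12,2,13,7,12,8,11], [5,12,9,13,12,9,11,10,13,2,13,2,13,12,13,2], 13, [([], 621, [1,10,11,12,8,13,10,11]), ([171,102,98], 204, [3,13,12,8,11,10,12,11]), ([], 1246, [13,12,13,10,12,11])], []⟩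
def c3070 : Clm := ⟨6, 6, true, [5,8,11,5,11,12,9,11,13,12,2,4,6,12,8,13,12,13], [3,5,12,8,13,5,12,2,13,7,12,8,11], 5, [([], 3069, [])], []⟩
def c3071 : Clm := ⟨6, 6, true, [3,10,12,9,12,13,12,2,6,11,12,13,2], [3,5,10,12,13,12,8,12,2,4,12,8,11,5,6], 13, [([], 621, [1,13,10,11,12,8,13,10]), ([171,102,98], 204, [3,13,12,8,11,10,12,13]), ([372,370], 1466, [1,8,13,10,11,12,9,13,10])], []⟩
def c3072 : Clm := ⟨6, 6, true, [3,5,10,12,13,12,8,12,2,4,3,12,8,11,5,6], [3,10,12,9,12,13,12,2,6,11,12,13,2], 5, [([], 3071, [])], []⟩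
def c3073 : Clm := ⟨6, 6, true, [11,3,12,8,11,12,9,13,10,2,4,6,13,12,8,11,10], [1,9,13,12,13,5,10,13,12,2,6,11,5,12,4,12,13], 13, [([], 788, [1,9,11,10,12,8,11,10,12]), ([111,102], 204, [3,8,13,10,12,9,12,13,12]), ([372,370], 1246, [9,10,12,9,11,5,12,11])], []⟩
def c3074 : Clm := ⟨6, 6, true, [10,11,12,9,11,12,11,12,2,13,4,12,13,7,5,13], [11,3,12,8,11,12,9,13,10,2,4,6,13,12,8,11,10], 5, [([], 3073, [])], []⟩
def c3075 : Clm := ⟨6, 6, true, [3,8,11,12,9,12,13,12,2,1,4,12,13,5,4,12], [1,5,13,10,12,8,12,13,12,2,4,13,6,9,10,12], 13, [([], 656, [9,10,11,3,5,12,13]), ([98,170,110,96], 204, [3,8,13,10,12,8,11,12]), ([372,370], 1404, [1,8,13,12,11,10,13,12,9])], []⟩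
def c3076 : Clm := ⟨6, 6, true, [13,12,8,11,12,2,4,5,6,9,11,12], [3,8,11,12,9,12,13,12,2,1,4,12,13,5,4,12], 5, [([], 3075, [])], []⟩
def c3077 : Clm := ⟨6, 6, true, [3,13,10,12,9,13,10,12,8,2,13,4,12,11], [1,5,8,11,5,12,13,12,2,11,12,7,11,2], 13, [([], 621, [12,11,5,11,12,11,10]), ([171,110,110], 204, [9,12,13,3,10]), ([], 2894, [5,10,11,5,12,8,11,10])], []⟩
def c3078 : Clm := ⟨6, 6, true, [1,12,11,5,10,12,9,13,12,2,6,9,13,6,13,4], [3,13,10,12,9,13,10,12,8,2,13,4,12,11], 5, [([], 3077, [])], []⟩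
def c3079 : Clm := ⟨6, 6, true, [3,13,5,10,12,13,2,4,5,6,6,13,3,2], [10,11,12,9,11,12,8,11,2,4,5,7,9,13,7,12], 13, [([], 599, [8,10,11,10,12,8,11,12,8]), ([110,110,104], 204, [10,12,11,3,10]), ([372,370], 1246, [5,10,12,8,11,5,13])], []⟩
def c3080 : Clm := ⟨6, 6, true, [9,10,13,5,12,11,10,2,13,4,6,13,2,7], [3,13,5,10,12,13,2,4,5,6,6,13,3,2], 5, [([], 3079, [])], []⟩
def c3081 : Clm := ⟨6, 6, true, [3,10,11,12,9,11,12,8,13,2,1,4,12,7,13,12,9], [1,9,12,9,11,5,11,12,2,1,13,7,13,5,10], 13, [([], 698, [9,13,12,9,11,12]), ([170,111], 204, [9,11,3,10,12,13]), ([372,370], 1432, [10,13,10,13,12,11,12,8])], []⟩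
def c3082 : Clm := ⟨6, 6, true, [1,9,10,12,9,11,13,12,2,1,13,7,13,5,10], [3,10,11,12,9,11,12,8,13,2,1,4,12,7,13,12,9], 5, [([], 3081, [])], []⟩
def c3083 : Clm := ⟨6, 6, true, [1,9,11,13,12,8,13,10,13,2,1,13,6,12,4,5,9], [1,9,10,12,9,11,13,12,2,1,13,7,13,5,10], 5, [([], 3082, [])], []⟩
def c3084 : Clm := ⟨6, 6, true, [5,12,9,11,5,2,4,6,13,5,6,13,12], [3,5,12,13,10,12,13,12,2,13,7,9,12,4], 13, [([], 788, [8,10,12,8,13,5,12,13]), ([111,102], 204, [5,8,13,10,12]), ([], 2863, [12,8,11,13,12,9,12,11,5])], []⟩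
def c3085 : Clm := ⟨6, 6, true, [3,5,12,13,10,12,13,12,2,1,13,7,9,12,4,3], [5,12,9,11,5,2,4,6,13,5,6,13,12], 5, [([], 3084, [])], []⟩
def c3086 : Clm := ⟨6, 6, true, [1,11,10,12,9,13,5,12,13,2,7,13,2,6,13,12], [3,5,12,13,10,12,13,12,2,1,13,7,9,12,4,3], 5, [([], 3085, [])], []⟩
def c3087 : Clm := ⟨6, 6, true, [5,9,12,13,12,9,13,2,4,5,6,13,3,2], [3,10,11,12,9,11,10,12,2,4,13,7,10,13,4,12], 13, [([], 746, [12,11,12,9,13,10,13,10]), ([111,98,96], 204, [3,8,13,5,10,12,9,13,12]), ([372,370], 1246, [1,11,10,12,13,5,10,12,8])], []⟩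
def c3088 : Clm := ⟨6, 6, true, [10,11,12,9,11,12,11,10,2,4,5,7,13,3,4,12], [5,9,12,13,12,9,13,2,4,5,6,13,3,2], 5, [([], 3087, [])], []⟩
def c3089 : Clm := ⟨6, 6, true, [10,11,12,8,11,10,13,2,1,4,5,7,13,5], [10,11,12,9,11,12,11,10,2,4,5,7,13,3,4,12], 5, [([], 3088, [])], []⟩
def c3090 : Clm := ⟨6, 6, true, [10,13,10,12,13,10,13,2,11,5,4,12,9,11,2], [3,9,12,13,10,13,12,8,2,13,7,12,9,11], 13, [([], 209, [9,11,12,9,11,13,12,11]), ([171,111,100], 204, [3,11,13,12,8,12,13,12]), ([372,370], 2897, [5,8,11,5,12,11,12,9])], []⟩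
def c3091 : Clm := ⟨6, 6, true, [5,9,10,12,11,5,12,8,2,13,7,12,9,11], [10,13,10,12,13,10,13,2,11,5,4,12,9,11,2], 5, [([], 3090, [])], []⟩
def c3092 : Clm := ⟨6, 6, true, [3,9,11,5,10,13,2,4,12,13,6,6,5,13], [1,9,11,12,11,2,4,3,12,4,5,8,6], 13, [([], 209, [5,12,8,11,12,11,13,5]), ([170,110], 204, [3,9,11,13,12,11]), ([372,370], 1114, [8,11,12,11,12,9,12,13])], []⟩
def c3093 : Clm := ⟨6, 6, true, [1,9,11,12,8,11,5,12,2,1,7,13,4,12,13,6], [3,9,11,5,10,13,2,4,12,13,6,6,5,13], 5, [([], 3092, [])], []⟩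
def c3094 : Clm := ⟨6, 6, true, [11,10,12,8,11,10,12,11,2,4,5,11,12,4,3,12], [3,8,13,10,12,9,2,1,13,4,12,13,2,7], 13, [([], 746, [3,10,13,12,9,11,12,13,10]), ([111,98,96], 204, [3,8,13,5,10,12,9,11,12]), ([], 1466, [9,10,13,10,12,9,11,10])], []⟩
def c3095 : Clm := ⟨6, 6, true, [10,12,8,11,12,13,10,2,4,7,13,7,12,9], [11,10,12,8,11,10,12,11,2,4,5,11,12,4,3,12], 5, [([], 3094, [])], []⟩
def c3096 : Clm := ⟨6, 6, true, [5,11,10,12,8,11,10,12,2,4,6,5,13], [10,13,5,13,12,9,12,11,2,1,13,2,12,4,7,5], 13, [([], 599, [11,5,10,12,9]), ([110,110,104], 204, [3,8,13,5,10,12,11,12]), ([], 2897, [11,12,9,13,12,13,12,8,12])], []⟩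
def c3097 : Clm := ⟨6, 6, true, [8,11,5,11,12,9,11,10,12,2,4,7,12,9,13,5,12], [5,11,10,12,8,11,10,12,2,4,6,5,13], 5, [([], 3096, [])], []⟩
def c3098 : Clm := ⟨6, 6, true, [5,12,9,11,10,12,4,10,2,12,4,7,5], [1,10,13,5,12,11,13,2,4,13,6,6,12,13,12], 13, [([], 788, [1,5,12,9,11,5,12,13,10]), ([111,102], 204, [9,12,9,13,3,10,12]), ([], 553, [9,12,13,12,8,12,11,5])], []⟩
def c3099 : Clm := ⟨6, 6, true, [13,3,10,13,12,11,13,2,1,13,7,13,4,13,6], [5,12,9,11,10,12,4,10,2,12,4,7,5], 5, [([], 3098, [])], []⟩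
def c3100 : Clm := ⟨6, 6, true, [9,12,11,5,10,12,9,11,5,2,4,13,12,9,11,2], [8,11,3,13,12,9,13,2,4,3,12,9,11,12,6], 13, [([], 209, [1,12,8,11,12,9,11,5]), ([98], 204, [5,8,11,3,12]), ([372,370], 2897, [3,11,13])], []⟩
def c3101 : Clm := ⟨6, 6, true, [8,11,3,13,12,9,13,2,4,12,9,11,12,6], [9,12,11,5,10,12,9,11,5,2,4,13,12,9,11,2], 5, [([], 3100, [])], []⟩
def c3102 : Clm := ⟨6, 6, true, [3,12,11,10,12,11,10,2,4,7,13,7,12,13,12], [3,8,13,10,12,9,12,11,13,2,1,4,6,12,9,11,12], 13, [([], 209, [1,5,8,13,12,9,12,11]), ([98], 204, [5,8,13,3,12]), ([], 1493, [1,12,11,12,8,12,11,10])], []⟩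
def c3103 : Clm := ⟨6, 6, true, [3,8,13,10,12,9,12,11,13,2,4,6,12,9,11,3,12], [3,12,11,10,12,11,10,2,4,7,13,7,12,13,12], 5, [([], 3102, [])], []⟩
def c3104 : Clm := ⟨6, 6, true, [12,9,11,3,10,13,12,13,2,6,9,13,2,7,11,13], [1,9,12,8,13,5,13,12,2,4,12,11,5,6,6], 13, [([], 656, [3,13,12,9,11,10,12,9,13]), ([98,170,110,96], 204, [3,13,5,10,12,11]), ([372,370], 1432, [3,10,13,10,12,11,13,12])], []⟩
def c3105 : Clm := ⟨6, 6, true, [1,9,12,8,13,5,13,12,2,4,3,12,11,5,6,6], [12,9,11,3,10,13,12,13,2,6,9,13,2,7,11,13], 5, [([], 3104, [])], []⟩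
def c3106 : Clm := ⟨6, 6, true, [12,9,11,12,11,10,13,2,6,9,13,2,1,7,5], [12,13,10,13,12,9,11,12,2,1,4,12,6,5,11,12], 13, [([], 698, [1,10,11,12,13,10,11,12,9]), ([170,111], 204, [3,13,10,12,8,13,12]), ([372,370], 1493, [5,11,5,12,13,10,12,8])], []⟩
def c3107 : Clm := ⟨6, 6, true, [12,13,10,13,12,9,11,12,2,4,12,6,5,11,3,12], [12,9,11,12,11,10,13,2,6,9,13,2,1,7,5], 5, [([], 3106, [])], []⟩
def c3108 : Clm := ⟨6, 6, true, [1,11,13,12,9,11,12,13,2,4,5,6,9,13,12], [1,9,11,12,8,11,2,13,4,6,12,9,12], 13, [([], 656, [10,11,12,8,11,12,11]), ([98,170,110,96], 204, [3,13,5,10,12,13]), ([], 1114, [3,12,9,12,13,12])], []⟩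
def c3109 : Clm := ⟨6, 6, true, [3,5,13,12,8,12,13,10,2,13,2,6,11,5,6,8], [1,11,13,12,9,11,12,13,2,4,5,6,9,13,12], 5, [([], 3108, [])], []⟩
def c3110 : Clm := ⟨6, 6, true, [5,12,9,11,12,2,1,4,13,12,6,5,13], [8,10,11,13,12,8,11,2,13,7,5,4,9,12], 13, [([], 788, [1,10,11,12,9,12,11,12,11]), ([111,102], 204, [10,12,8,13,3,10,12]), ([372,370], 1404, [1,10,12,9,13,12,9,13])], []⟩
def c3111 : Clm := ⟨6, 6, true, [8,11,13,10,12,13,10,12,2,4,12,7,13,12,7,7], [5,12,9,11,12,2,1,4,13,12,6,5,13], 5, [([], 3110, [])], []⟩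
def c3112 : Clm := ⟨6, 6, true, [1,10,13,12,9,12,11,13,2,6,13,12,4], [13,10,12,13,10,12,9,13,2,1,4,13,7,12,13], 13, [([], 209, [8,11,12,8,11,12,9,12]), ([98], 204, [9,12,8,13,3,12]), ([], 1246, [5,10,11,12,8,11,13,5])], []⟩
def c3113 : Clm := ⟨6, 6, true, [1,5,8,12,9,11,10,12,9,13,2,4,3,7,13,12,11], [3,11,12,11,10,12,11,12,2,1,11,12,4,6,8], 13, [([], 698, [1,5,12,8,13]), ([170,111], 204, [12,9,11,3,10,12]), ([], 2863, [3,5,8,13,12,8])], []⟩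
def c3114 : Clm := ⟨6, 6, true, [9,11,3,2,1,6,9,13,2,7], [1,5,8,12,9,11,10,12,9,13,2,4,3,7,13,12,11], 5, [([], 3113, [])], []⟩
def c3115 : Clm := ⟨6, 6, true, [1,5,8,12,9,11,10,12,9,13,2,1,4,7,13,12,11], [9,11,3,2,1,6,9,13,2,7], 5, [([], 3114, [])], []⟩
def c3116 : Clm := ⟨6, 6, true, [8,11,3,12,9,13,10,12,2,13,4,7,12,8], [3,9,12,8,13,10,13,12,13,2,4,3,12,9,13,12,8], 45, [([], 788, [5,13,5,12,11,10,12]), ([171,110,104], 204, [1,3,10,12,8]), ([372], 1336, [10,12,9,11,12,9,13,10])], []⟩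
def c3117 : Clm := ⟨6, 6, true, [3,9,12,8,13,10,13,12,13,2,4,12,9,13,12,8], [8,11,3,12,9,13,10,12,2,13,4,7,12,8], 5, [([], 3116, [])], []⟩
def c3118 : Clm := ⟨6, 6, true, [12,9,12,11,13,10,12,9,2,7,13,2,12,7,7,7], [3,11,5,10,12,8,11,12,9,2,13,2,7,13,12], 45, [([], 682, [1,9,10,11,5,13,12]), ([96,170,110], 204, [1,3,9,10,12,8]), ([], 608, [13,12,9,12,11,5,12,11])], []⟩
def c3119 : Clm := ⟨6, 6, true, [1,5,10,12,9,13,12,8,2,4,13,5,7,13,12], [12,9,12,11,13,10,12,9,2,7,13,2,12,7,7,7], 5, [([], 3118, [])], []⟩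
def c3120 : Clm := ⟨6, 5, true, [3,9,12,11,5,12,9,2,13,12,4,3,10,11], [8,10,11,12,9,2,1,7,13,4,7], 17, [([], 3037, [1,9,10,11,12,8,11,10]), ([], 203, [5,12,8,11,10,12]), ([110,170,96], 117, [5,9,10,12,8,13,12,13])], []⟩
def c3121 : Clm := ⟨5, 6, true, [8,10,13,5,10,12,9,13,10,2,7,11,13,2,7], [3,9,12,11,5,12,9,2,13,12,4,3,10,11], 5, [([], 3120, [])], []⟩
def c3122 : Clm := ⟨6, 6, true, [5,8,12,13,10,12,9,2,4,12,13,2,6,5,11], [9,12,8,11,10,12,8,2,4,3,12,13,10,12], 17, [([], 3059, [1]), ([], 203, [11,5,10]), ([171,96], 681, [1,8,10,11,12,11,13,12])], []⟩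
def c3123 : Clm := ⟨6, 6, true, [9,12,8,11,10,12,8,2,4,12,13,10,12], [5,8,12,13,10,12,9,2,4,12,13,2,6,5,11], 5, [([], 3122, [])], []⟩
def c3124 : Clm := ⟨6, 6, true, [10,11,3,12,9,13,12,9,2,4,12,7,13,10,12,7,7], [1,5,12,11,10,12,11,2,6,13,2,12,11,12], 15, [([], 203, [1,13,10,12,9,13,12]), ([96,171,102], 168, [8,11,10,12,13,5,10]), ([227], 1714, [8,13,10,12,11,5,12,8])], []⟩
def c3125 : Clm := ⟨6, 6, true, [3,9,13,12,8,11,12,2,13,4,12,7,13,10], [10,11,3,12,9,13,12,9,2,4,12,7,13,10,12,7,7], 5, [([], 3124, [])], []⟩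
def c3126 : Clm := ⟨6, 6, true, [8,13,10,13,12,13,12,2,11,13,12,4,3,12,4], [3,9,13,12,8,11,12,2,13,4,12,7,13,10], 5, [([], 3125, [])], []⟩
def c3127 : Clm := ⟨6, 6, true, [8,10,13,12,13,10,11,12,8,2,4,5,7,12,13,5], [12,8,13,12,11,12,9,12,2,6,9,13,2,1,7,5], 15, [([], 203, [8,10,13,12,13]), ([111,170,110], 168, [13,5,10,12,8,13,12,9]), ([226,253,228], 548, [1,9,11,10,12,13,12,8,11])], []⟩
def c3128 : Clm := ⟨6, 6, true, [1,10,12,9,11,13,12,9,2,4,7,7,13,12,8,7], [8,10,13,12,13,10,11,12,8,2,4,5,7,12,13,5], 5, [([], 3127, [])], []⟩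
def c3129 : Clm := ⟨6, 6, true, [12,13,3,10,2,7,9,13,2,6,12], [12,9,11,13,5,12,11,2,4,6,6,13,12,4,7], 15, [([], 203, [1,8,11,10,12]), ([98,171,110,96], 600, [13,12,11,10,12,11]), ([], 3050, [8,10,11,3,10,12,9,11,10])], []⟩
def c3130 : Clm := ⟨6, 6, true, [3,12,11,10,12,11,10,12,2,7,11,12,4,9], [11,12,9,12,13,5,12,11,2,7,13,2,7,13], 13, [([], 2862, [3,13,12,8,11,12,9]), ([], 203, [9,11,12,11]), ([170,111,111], 620, [3,12,9,13,10,12,13,12])], []⟩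
def c3131 : Clm := ⟨6, 6, true, [3,13,10,11,12,9,13,12,2,4,6,13,5,7,13], [3,12,11,10,12,11,10,12,2,7,11,12,4,9], 5, [([], 3130, [])], []⟩
def c3132 : Clm := ⟨6, 6, true, [3,12,8,12,13,12,8,13,4,7,9,10,2], [9,12,11,10,12,11,10,2,1,11,5,4], 9, [([], 1659, [1,9,11,13,5,10,12,13,12,9]), ([372,370], 2205, [9,11,12,8,11,13,10]), ([372], 207, [11,3,10])], []⟩
def c3133 : Clm := ⟨6, 6, true, [1,5,9,12,13,5,12,2,1,13,2], [3,12,8,12,13,12,8,13,4,7,9,10,2], 5, [([], 3132, [])], []⟩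
def c3134 : Clm := ⟨6, 6, true, [3,12,8,12,13,12,8,13,2,4,7,9], [1,5,9,12,13,5,12,2,1,13,2], 5, [([], 3133, [])], []⟩
def c3135 : Clm := ⟨6, 5, true, [8,13,12,8,13,12,8,13,4,6,10,12,9,12,4], [11,12,9,13,10,12,13,2,6,13,6,12,4,7], 9, [([], 207, [1,3,8,10,12]), ([], 2332, [1,10,12,11,5,12,9]), ([370], 1629, [9,12,11,10,13,12,13,12])], []⟩
def c3136 : Clm := ⟨5, 6, true, [1,8,11,13,10,12,11,12,9,2,7,9,11,13,12,4], [8,13,12,8,13,12,8,13,4,6,10,12,9,12,4], 5, [([], 3135, [])], []⟩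
def c3137 : Clm := ⟨6, 5, true, [9,10,13,10,12,13,12,11,2,4,13,6,6,13,2], [1,8,11,13,10,12,11,12,9,2,7,9,11,13,12,4], 5, [([], 3136, [])], []⟩
def c3138 : Clm := ⟨6, 6, true, [8,11,3,12,9,12,13,12,2,13,2,7,13,2,1], [9,11,12,11,10,12,9,11,2,13,12,4,13], 9, [([], 2385, [3,8,12,9,13,5,10,12,13]), ([372], 2304, [1,5,9,10,12,8,11,12,8]), ([], 207, [3,9,11,13,10,12])], []⟩
def c3139 : Clm := ⟨6, 6, true, [11,10,13,12,8,11,13,12,2,11,5,12,4,3], [8,11,3,12,9,12,13,12,2,13,2,7,13,2,1], 5, [([], 3138, [])], []⟩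
def c3140 : Clm := ⟨6, 6, true, [1,5,8,11,10,12,8,13,2,1,13,6,12,4,8], [11,10,13,12,8,11,13,12,2,11,5,12,4,3], 5, [([], 3139, [])], []⟩
def c3141 : Clm := ⟨6, 5, true, [11,13,10,12,13,12,2,7,13,10,13], [3,8,13,10,12,11,13,2,13,12,4,10,4,13], 7, [([], 207, [11,3,10,12]), ([372], 2851, [9,12,8,11,12,11,10,12]), ([373,370], 2995, [3,12,8,13,12,9,12,11,10])], []⟩
def c3142 : Clm := ⟨5, 6, true, [1,8,12,9,11,13,10,12,2,4,5,12,13,7,8], [11,13,10,12,13,12,2,7,13,10,13], 5, [([], 3141, [])], []⟩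
def c3143 : Clm := ⟨6, 5, true, [1,9,12,13,10,12,8,12,13,2,7,11,5,10], [1,8,12,9,11,13,10,12,2,4,5,12,13,7,8], 5, [([], 3142, [])], []⟩
def c3144 : Clm := ⟨4, 6, true, [1,9,13,12,8,13,12,11,2,7,13,5,12,13,2], [8,13,5,10,11,12,9,13,10,2,1,13,2,7,12,4,6], 15, [([], 474, [10,11,3,12,9,11,13,10]), ([], 207, [8,10,13,5,12]), ([], 2332, [5,9,11,5,12,11,10])], []⟩
def c3145 : Clm := ⟨6, 4, true, [5,12,13,10,12,9,13,2,4,7,12,8,13,7,12], [1,9,13,12,8,13,12,11,2,7,13,5,12,13,2], 5, [([], 3144, [])], []⟩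
def c3146 : Clm := ⟨6, 6, true, [12,13,10,13,10,12,13,2,4,12,6,13,7,7,5], [1,13,12,9,13,12,8,13,2,4,3,12,11,5,6,8], 15, [([], 545, [8,13,3,10,12,9,12,13,12]), ([], 207, [3,11,13,12,13,10]), ([372,370], 3134, [10,13,12,13,10])], []⟩
def c3147 : Clm := ⟨6, 6, true, [1,13,12,9,13,12,8,13,2,4,12,11,5,6,8], [12,13,10,13,10,12,13,2,4,12,6,13,7,7,5], 5, [([], 3146, [])], []⟩
def c3148 : Clm := ⟨6, 6, true, [5,12,13,12,8,11,10,2,4,7,13,7,5,8,13], [3,9,12,13,12,8,13,2,6,6,13,2], 15, [([], 2481, [9,10,12,9,11,3,5]), ([], 207, [8,10,11,3,12]), ([372,370], 2332, [3,9,10,11,5])], []⟩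
def c3149 : Clm := ⟨6, 6, true, [3,9,12,13,12,8,13,2,6,6,13,10,2], [5,12,13,12,8,11,10,2,4,7,13,7,5,8,13], 5, [([], 3148, [])], []⟩
def c3150 : Clm := ⟨6, 6, true, [1,10,13,12,9,13,12,11,10,2,1,4,5,6,6], [3,11,5,12,8,13,10,12,2,1,4,12,13,7,5,9], 15, [([], 2202, [11,12,11,10,12,9,11]), ([], 207, [1,9,10,11,13,12,13]), ([], 3140, [5,13,3,5])], []⟩
def c3151 : Clm := ⟨6, 6, true, [1,12,9,11,10,13,12,8,13,2,4,12,4,13,7,10], [1,10,13,12,9,13,12,11,10,2,1,4,5,6,6], 5, [([], 3150, [])], []⟩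
def c3152 : Clm := ⟨6, 5, true, [8,11,5,12,13,12,9,12,13,4,6,12,4,10,4], [9,12,11,5,11,5,12,2,7,13,2,6,13,5,6], 13, [([], 207, [1,12,11,13,5,12]), ([370], 212, [12,11,5,12,8,13]), ([110,100], 162, [9,10,12,11,5])], []⟩
def c3153 : Clm := ⟨5, 6, true, [5,8,13,12,9,11,10,2,13,2,7,12,9,11,13], [8,11,5,12,13,12,9,12,13,4,6,12,4,10,4], 5, [([], 3152, [])], []⟩
def c3154 : Clm := ⟨6, 6, true, [9,12,9,13,10,12,11,10,4,6,6,10,2], [5,13,12,8,11,10,12,9,2,1,4,5,12,13,12,4], 13, [([], 207, [3,10,12,9,13,12]), ([], 2332, [3,8,10,12,11,5,12]), ([370], 1424, [3,8,13,10,11,12,13])], []⟩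
def c3155 : Clm := ⟨6, 6, true, [11,12,8,13,2,1,11,12,4,9,13,5], [9,12,9,13,10,12,11,10,4,6,6,10,2], 5, [([], 3154, [])], []⟩
def c3156 : Clm := ⟨6, 6, true, [10,11,13,12,9,11,12,8,2,4,3,6,13], [1,9,12,8,11,12,8,2,1,4,12,13,4,13,6], 13, [([], 207, [3,5,11,10,12]), ([372], 2851, [8,10,12,9,13,5,13]), ([372], 2079, [3,5,12,9,11,10,12,9,11])], []⟩
def c3157 : Clm := ⟨6, 6, true, [3,9,10,11,13,12,8,13,2,1,6,13,2,12,8], [10,11,13,12,9,11,12,8,2,4,3,6,13], 5, [([], 3156, [])], []⟩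
def c3158 : Clm := ⟨6, 5, true, [8,11,12,8,13,12,8,13,4,6,12,4,10,4], [5,12,8,11,3,10,12,9,2,7,13,4,7,13,10,12], 13, [([], 207, [11,3,5]), ([370], 212, [9,10,11,12,9,13,10,13]), ([171,110,102], 168, [12,8,11,12,11,12,9,13])], []⟩
def c3159 : Clm := ⟨5, 6, true, [5,12,8,11,10,12,9,11,2,4,12,11,5,10,12,11], [8,11,12,8,13,12,8,13,4,6,12,4,10,4], 5, [([], 3158, [])], []⟩
def c3160 : Clm := ⟨6, 6, true, [3,10,12,8,12,13,12,2,6,6,13,4,7,12], [1,13,12,9,13,12,13,10,4,6,5,10,12,4], 15, [([], 493, [1,10,12,8,11,12,13,10,12]), ([], 207, [5,12,11,5,13]), ([], 1038, [1,8,13,5,12,13])], []⟩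
def c3161 : Clm := ⟨6, 6, true, [1,9,11,10,12,9,11,12,8,4,6,10,12,13,4], [3,10,12,8,12,13,12,2,6,6,13,4,7,12], 5, [([], 3160, [])], []⟩
def c3162 : Clm := ⟨6, 6, true, [11,10,12,11,12,8,11,2,13,12,13,2,3,6], [1,9,11,10,12,9,11,12,8,4,6,10,12,13,4], 5, [([], 3161, [])], []⟩
def c3163 : Clm := ⟨6, 6, true, [9,13,3,12,9,13,12,11,2,4,12,13,4,10], [12,9,11,5,10,13,12,2,4,3,7,13,12,11,10], 15, [([], 1002, [5,8,12,11,13,10,12,8,11]), ([372], 207, [3,11,5,10,12]), ([370], 2851, [1,8,10,12,9,11,5])], []⟩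
def c3164 : Clm := ⟨6, 6, true, [12,9,11,5,10,13,12,2,1,4,7,13,12,11,10], [9,13,3,12,9,13,12,11,2,4,12,13,4,10], 5, [([], 3163, [])], []⟩
def c3165 : Clm := ⟨6, 6, true, [3,12,11,12,8,11,12,11,2,6,6,13,2,13,12], [10,13,10,12,9,13,4,6,5,10,12,4], 15, [([], 1490, [3,9,10,12,9,13,12,11,10]), ([], 207, [3,5,11,5,12]), ([], 1038, [1,13,12,9,13,12,9,11])], []⟩
def c3166 : Clm := ⟨6, 6, true, [1,11,13,10,12,11,10,12,9,4,6,10,12,13,4], [3,12,11,12,8,11,12,11,2,6,6,13,2,13,12], 5, [([], 3165, [])], []⟩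
def c3167 : Clm := ⟨6, 6, true, [13,10,12,11,10,12,8,13,2,4,3,6,12,13,6,5], [12,11,10,12,11,2,1,4,12,13,5,6,13], 15, [([], 2757, [1,9,10,13,5,12]), ([370], 207, [1,8,10,12,11,5,13]), ([], 2332, [1,10,13,5,12,13,12,9])], []⟩
def c3168 : Clm := ⟨6, 6, true, [12,11,10,12,11,2,1,13,4,6,12,11,13], [13,10,12,11,10,12,8,13,2,4,3,6,12,13,6,5], 5, [([], 3167, [])], []⟩
def c3169 : Clm := ⟨6, 6, true, [13,10,12,11,10,12,8,13,2,4,6,12,13,6,5], [12,11,10,12,11,2,1,13,4,6,12,11,13], 5, [([], 3168, [])], []⟩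
def c3170 : Clm := ⟨6, 6, true, [1,8,12,9,11,13,10,12,9,2,1,13,6,12,9,11], [1,10,13,5,10,12,11,2,4,13,5,7,13,6], 11, [([], 2325, [3,12,8,13,10,12,9,13,10]), ([], 2726, [5,12,9,11,10,12,8,13]), ([], 207, [10,12,8,11,3,5,12])], []⟩
def c3171 : Clm := ⟨6, 6, true, [3,11,10,13,12,13,10,2,13,2,7,13,6], [1,8,12,9,11,13,10,12,9,2,1,13,6,12,9,11], 5, [([], 3170, [])], []⟩
def c3172 : Clm := ⟨6, 6, true, [1,8,12,9,11,13,12,9,2,1,13,6,12,9,11], [3,11,10,13,12,13,10,2,13,2,7,13,6], 5, [([], 3171, [])], []⟩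
def c3173 : Clm := ⟨6, 5, true, [1,5,10,12,13,5,12,8,2,4,13,7,7,13,2], [1,5,13,5,12,11,10,12,8,2,1,13,12,13,2,6,9], 15, [([], 207, [5,9,13,3,5,12]), ([], 2325, [5,9,11,12,13,12,8,13,5]), ([372], 2401, [11,3,13,12,9,13,12,8,13])], []⟩
def c3174 : Clm := ⟨5, 6, true, [11,5,12,8,13,10,2,6,13,12,9,12,11,2], [1,5,10,12,13,5,12,8,2,4,13,7,7,13,2], 5, [([], 3173, [])], []⟩
def c3175 : Clm := ⟨6, 6, true, [1,8,10,11,12,11,12,13,10,2,4,3,12,9,11,5,6], [8,12,13,5,10,12,9,13,5,2,1,13,2,5], 11, [([], 2001, [3,9,11,5,10,12,11,12,9]), ([373,370], 2481, [1,10,12,8,12,11]), ([], 207, [5,8,10,13,3,5,12])], []⟩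
def c3176 : Clm := ⟨6, 6, true, [3,8,13,12,13,12,9,2,13,2,13], [1,8,10,11,12,11,12,13,10,2,4,3,12,9,11,5,6], 5, [([], 3175, [])], []⟩
def c3177 : Clm := ⟨6, 6, true, [3,5,12,13,12,9,12,2,4,7,12,7,11,13,2], [5,9,13,12,11,10,12,2,1,6,11,12,9,11], 15, [([], 207, [8,11,3,10,12]), ([373], 2623, [1,5,8,13,12,9,11,13,12,9]), ([373,370], 1621, [1,12,9,11,12])], []⟩
def c3178 : Clm := ⟨6, 6, true, [5,9,13,12,11,12,2,1,6,11,12,9,11], [3,5,12,13,12,9,12,2,4,7,12,7,11,13,2], 5, [([], 3177, [])], []⟩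
def c3179 : Clm := ⟨5, 6, true, [5,9,10,13,10,12,9,13,2,4,12,11,13,5,12,8], [5,13,5,10,12,13,12,8,2,7,13,7], 17, [([], 780, [3,8,12,9,11,10,13]), ([], 207, [13,3,10,12,8,11,12]), ([372], 3169, [1,9,12,8,11,10,12,11])], []⟩
def c3180 : Clm := ⟨6, 5, true, [1,11,12,13,10,13,12,8,2,1,7,13,7], [5,9,10,13,10,12,9,13,2,4,12,11,13,5,12,8], 5, [([], 3179, [])], []⟩
def c3181 : Clm := ⟨6, 6, true, [1,9,11,13,5,10,2,4,12,9,13,2,12], [5,8,11,5,12,9,11,13,2,13,2,7,11,13,10], 17, [([], 482, [1,13,5,12,11,13]), ([372], 207, [3,11,5,10]), ([370], 2823, [1,13,10,11,12,8,13,12,11])], []⟩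
def c3182 : Clm := ⟨6, 6, true, [3,8,13,12,9,13,2,1,11,5,4,7,5,11], [1,9,11,13,5,10,2,4,12,9,13,2,12], 5, [([], 3181, [])], []⟩
def c3183 : Clm := ⟨6, 6, true, [3,5,9,12,13,5,12,2,4,12,9,11,13,2], [3,12,8,13,12,11,10,12,2,13,2,12,13,6], 15, [([], 207, [9,11,3,10,13,12,13]), ([373,370], 623, [3,9,12,11,10,12,8,13]), ([372], 1934, [1,9,11,12,9,11,12,8])], []⟩
def c3184 : Clm := ⟨6, 6, true, [9,12,9,13,5,12,11,2,4,13,5,12,13,6], [3,5,9,12,13,5,12,2,4,12,9,11,13,2], 5, [([], 3183, [])], []⟩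
def c3185 : Clm := ⟨6, 6, true, [12,13,12,9,12,11,12,13,2,4,3,12,9,13,4,10], [9,12,9,13,5,12,11,2,4,13,5,12,13,6], 5, [([], 3184, [])], []⟩
def c3186 : Clm := ⟨6, 6, true, [1,5,9,10,12,11,5,2,13,12,4,10,12,4], [1,5,9,12,13,5,10,12,8,2,13,2,13,12,13,4], 11, [([], 1771, [1,9,10,12,9,11,10,12,9]), ([373,370], 2043, [1,5,11,13,12,9,11,13]), ([], 207, [3,8,12,13,10])], []⟩
def c3187 : Clm := ⟨6, 6, true, [3,9,11,12,11,12,8,13,10,2,4,5,11,12,11,13,4], [1,5,9,10,12,11,5,2,13,12,4,10,12,4], 5, [([], 3186, [])], []⟩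
def c3188 : Clm := ⟨6, 6, true, [10,12,13,5,13,12,9,2,6,13,6,5,8,10], [10,13,12,9,13,12,9,11,10,2,4,7,13,7,10,13], 11, [([], 2617, [3,11,13,12,9,11,13]), ([373,370], 3040, [10,12,11,10,12,8,13]), ([], 207, [9,12,13,10,12,11,13])], []⟩
def c3189 : Clm := ⟨6, 6, true, [1,10,13,12,8,11,10,13,12,2,4,6,5,12,13,2], [10,12,13,5,13,12,9,2,6,13,6,5,8,10], 5, [([], 3188, [])], []⟩
def c3190 : Clm := ⟨6, 6, true, [9,13,12,13,12,9,12,11,2,11,5,7,13,2,13], [1,12,11,13,12,9,2,4,12,4,3], 11, [([], 1861, [1,5,11,10,12,13,12,8]), ([373,370], 1817, [1,12,8,13,10,11,12,13]), ([], 207, [3,10,13,10,12,13])], []⟩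
def c3191 : Clm := ⟨6, 6, true, [1,12,11,13,12,9,2,1,4,12,4], [9,13,12,13,12,9,12,11,2,11,5,7,13,2,13], 5, [([], 3190, [])], []⟩
def c3192 : Clm := ⟨6, 6, true, [13,10,13,12,9,11,12,13,2,13,5,7,7,10], [1,5,10,11,12,8,13,10,12,2,13,12,4,10,13,4,7], 15, [([], 207, [1,8,12,13,5]), ([370], 2346, [5,13,12,8,11,12,11,12,9]), ([373,370], 1665, [5,13,12,8,12,13,10])], []⟩
def c3193 : Clm := ⟨6, 6, true, [8,13,12,13,5,10,12,8,11,2,13,2,7,12,9,13,6], [13,10,13,12,9,11,12,13,2,13,5,7,7,10], 5, [([], 3192, [])], []⟩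
def c3194 : Clm := ⟨6, 6, true, [3,9,12,13,10,12,8,12,11,2,6,6,13,2,7,12,13], [9,11,13,12,11,10,12,2,1,11,12,11,2], 11, [([], 2942, [8,13,12,9,11,13,5,12]), ([370], 1608, [1,8,11,10,12,11,13]), ([370], 207, [13,3,10,12])], []⟩
def c3195 : Clm := ⟨6, 6, true, [9,11,13,12,11,10,12,2,1,11,12,11,10,2], [3,9,12,13,10,12,8,12,11,2,6,6,13,2,7,12,13], 5, [([], 3194, [])], []⟩
def c3196 : Clm := ⟨6, 6, true, [10,12,13,10,13,12,8,2,7,13,7,5,6,10], [3,12,9,12,11,12,8,2,4,12,6,11,5,11,5], 17, [([], 1820, [8,12,9,11,5,10,12]), ([], 207, [3,5,10,13]), ([372,370], 1814, [1,12,9,11,5,11,12])], []⟩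
def c3197 : Clm := ⟨6, 6, true, [5,8,13,12,9,13,12,8,2,4,3,5,7,9,13,2], [10,12,13,10,13,12,8,2,7,13,7,5,6,10], 5, [([], 3196, [])], []⟩
def c3198 : Clm := ⟨6, 6, true, [5,12,8,11,3,12,2,11,5,10,12,13,7], [5,8,13,12,9,13,12,8,2,4,3,5,7,9,13,2], 5, [([], 3197, [])], []⟩
def c3199 : Clm := ⟨6, 6, true, [3,10,13,5,12,11,2,1,4,6,12,13,7,7], [11,12,9,13,12,8,11,10,2,4,7,12,11,5,6], 17, [([], 1979, [3,10,12,11,13,5]), ([372], 207, [9,10,11,3,12,13]), ([373], 974, [3,8,12,13,10,12,13,12])], []⟩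
def c3200 : Clm := ⟨6, 6, true, [3,5,9,12,8,11,5,2,13,12,4,12,11], [3,10,13,5,12,11,2,1,4,6,12,13,7,7], 5, [([], 3199, [])], []⟩
def c3201 : Clm := ⟨6, 6, true, [10,13,5,12,9,11,5,12,2,6,6,13,2,12,13], [1,11,12,11,10,13,2,7,13,7,5,7,10], 17, [([], 1638, [5,12,13,3,5,10,12,11]), ([372], 207, [5,10,13,3]), ([372], 1771, [1,13,12,9,13,12,8,13,5])], []⟩
def c3202 : Clm := ⟨6, 6, true, [1,11,5,10,12,11,2,1,7,13,7,5,7,10], [10,13,5,12,9,11,5,12,2,6,6,13,2,12,13], 5, [([], 3201, [])], []⟩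
def c3203 : Clm := ⟨6, 5, true, [3,9,12,9,13,5,10,12,13,2,1,13,5,7,7,13,4], [3,9,11,10,12,8,13,12,13,2,1,11,13,12,4,12,4], 15, [([], 207, [5,9,11,3,12,13,10]), ([373], 1469, [3,9,10,12,11,10,12,13,5]), ([], 807, [5,9,11,12,11,13,5,12,8])], []⟩
def c3204 : Clm := ⟨5, 6, true, [3,12,13,5,10,12,9,11,13,2,4,13,7,12,8,13,7], [3,9,12,9,13,5,10,12,13,2,1,13,5,7,7,13,4], 5, [([], 3203, [])], []⟩
def c3205 : Clm := ⟨6, 5, true, [3,11,13,10,12,13,10,12,8,2,13,7,12,4,6,13], [3,12,13,5,10,12,9,11,13,2,4,13,7,12,8,13,7], 5, [([], 3204, [])], []⟩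
def c3206 : Clm := ⟨6, 6, true, [13,10,13,12,9,11,10,12,2,11,12,4,13,5,6], [10,11,13,12,11,12,2,1,4,12,4,7,13], 17, [([], 2933, [3,10,13,12,8,12,13,12]), ([], 207, [5,9,13,3,5,10,12]), ([372], 3004, [1,8,10,13,12,9,11,12,11])], []⟩
def c3207 : Clm := ⟨6, 6, true, [10,11,13,12,11,12,2,4,12,4,7,13,3], [13,10,13,12,9,11,10,12,2,11,12,4,13,5,6], 5, [([], 3206, [])], []⟩
def c3208 : Clm := ⟨6, 6, true, [12,9,11,5,11,12,11,13,12,2,13,2,12,4,12,8], [10,12,9,13,3,12,8,13,12,2,13,2,13,12,13,4], 11, [([], 418, [3,10,11,12,9,13,12,9]), ([252,227], 677, [1,5,12,11,10]), ([], 207, [8,11,3,12,13,10])], []⟩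
def c3209 : Clm := ⟨6, 6, true, [3,9,13,12,11,10,12,8,2,4,5,11,12,11,13,4], [12,9,11,5,11,12,11,13,12,2,13,2,12,4,12,8], 5, [([], 3208, [])], []⟩
def c3210 : Clm := ⟨6, 5, true, [13,3,10,12,9,13,12,13,2,1,4,6,9,13,7,12,13], [1,11,12,8,13,10,11,12,9,2,1,13,12,7,13,4,10], 17, [([], 3191, [3,13,5,10,13]), ([], 207, [8,12,13,3,10,12,13]), ([372,370], 358, [8,11,12,13,10,13,12,8,13])], []⟩
def c3211 : Clm := ⟨5, 6, true, [1,11,10,12,9,11,10,12,2,4,12,13,10,12,8,6], [13,3,10,12,9,13,12,13,2,1,4,6,9,13,7,12,13], 5, [([], 3210, [])], []⟩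
def c3212 : Clm := ⟨6, 6, true, [5,9,11,3,5,2,1,4,12,8,13,2], [1,9,11,13,12,8,13,12,13,2,7,13,2,12,7,13], 15, [([], 207, [3,10,11,12]), ([373], 212, [3,5,10,13,10,12,8]), ([170,96], 787, [3,8,13,5,10,12,11,12,8])], []⟩
def c3213 : Clm := ⟨6, 6, true, [3,8,12,13,12,9,11,2,4,6,5,11,12,4], [5,9,11,3,5,2,1,4,12,8,13,2], 5, [([], 3212, [])], []⟩
def c3214 : Clm := ⟨6, 6, true, [11,3,10,12,9,11,12,8,2,11,12,7,9,11], [5,9,12,11,12,9,11,10,13,2,7,13,4,6,9,13], 11, [([], 1667, [9,10,11,10,12,9,11,12,9]), ([373,370], 719, [10,13,10,12,9,13,10]), ([], 207, [5,8,11,13,12,13])], []⟩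
def c3215 : Clm := ⟨6, 6, true, [8,10,13,5,10,12,9,11,13,2,11,12,13,4,13,6], [11,3,10,12,9,11,12,8,2,11,12,7,9,11], 5, [([], 3214, [])], []⟩
def c3216 : Clm := ⟨6, 6, true, [10,12,8,13,5,12,9,11,13,2,11,12,7,9,11], [8,10,13,5,10,12,9,11,13,2,11,12,13,4,13,6], 5, [([], 3215, [])], []⟩
def c3217 : Clm := ⟨6, 6, true, [3,12,8,13,10,13,12,9,2,13,5,7,5,9], [10,13,10,13,12,9,11,12,2,11,12,4,3,5,11,2], 17, [([], 207, [5,12,8,13,3,10,12]), ([373,370], 2623, [5,8,10,11,12,8,13,10,12]), ([372], 2820, [3,9,12,8,13,12,13,10,11])], []⟩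
def c3218 : Clm := ⟨6, 6, true, [1,12,8,12,11,5,12,8,13,2,1,13,12,11,2,13,5], [3,12,8,13,10,13,12,9,2,13,5,7,5,9], 5, [([], 3217, [])], []⟩
def c3219 : Clm := ⟨6, 6, true, [5,10,12,8,11,5,12,9,2,1,13,5,7,5,9], [1,12,8,12,11,5,12,8,13,2,1,13,12,11,2,13,5], 5, [([], 3218, [])], []⟩
def c3220 : Clm := ⟨5, 6, true, [1,5,13,12,9,11,12,11,10,2,7,13,4,12,6,13,12], [1,8,11,13,5,10,12,2,11,5,6,6,10,13], 11, [([], 3180, [10,11,12,9,13,10,12,8]), ([], 207, [11,3,13,12,9,11,10,12]), ([373,370], 1653, [11,5,12,11,12,11,10])], []⟩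
def c3221 : Clm := ⟨6, 5, true, [3,8,11,13,10,12,2,13,10,13,6,6,13], [1,5,13,12,9,11,12,11,10,2,7,13,4,12,6,13,12], 5, [([], 3220, [])], []⟩
def c3222 : Clm := ⟨5, 6, true, [5,9,10,13,10,12,13,12,2,7,13,12,4,5,6], [3,8,11,13,10,12,2,13,10,13,6,6,13], 5, [([], 3221, [])], []⟩
def c3223 : Clm := ⟨6, 6, true, [5,8,12,11,12,9,11,10,13,2,11,12,4,7,13,3], [1,11,12,11,13,5,12,9,2,4,12,6,13,2,3,7], 11, [([], 578, [5,11,10,12,9,13,12,13]), ([], 207, [8,12,11,3,5]), ([372,370], 3216, [5,13,5,13])], []⟩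
def c3224 : Clm := ⟨6, 6, true, [9,13,12,9,11,12,9,11,2,4,5,6,9,11,13,7], [5,8,12,11,12,9,11,10,13,2,11,12,4,7,13,3], 5, [([], 3223, [])], []⟩
def c3225 : Clm := ⟨6, 6, true, [3,5,10,11,12,11,13,2,13,12,13,4,7], [1,10,12,8,13,12,11,10,2,4,12,6,13,6,6,5], 11, [([], 578, [1,5,12,9,11,10]), ([], 207, [1,8,13,5,12]), ([372], 2567, [3,12,8,11,5,10,13,12,8])], []⟩
def c3226 : Clm := ⟨6, 6, true, [1,10,13,10,12,13,12,8,12,2,1,6,6,13,2,12,4,6], [3,5,10,11,12,11,13,2,13,12,13,4,7], 5, [([], 3225, [])], []⟩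
def c3227 : Clm := ⟨6, 5, true, [10,13,5,13,12,13,10,2,1,7,11,13,12,11], [8,12,9,13,10,11,12,13,2,4,5,7,9,13,5,6], 17, [([], 207, [1,3,10]), ([], 1814, [1,12,9,11,13,5,12,11]), ([370], 839, [10,13,12,13,10,11,12,11])], []⟩
def c3228 : Clm := ⟨5, 6, true, [9,13,5,10,13,12,13,2,1,13,12,13,4,12,4], [10,13,5,13,12,13,10,2,1,7,11,13,12,11], 5, [([], 3227, [])], []⟩
def c3229 : Clm := ⟨6, 5, true, [10,13,5,13,12,13,2,7,11,13,12,11], [9,13,5,10,13,12,13,2,1,13,12,13,4,12,4], 5, [([], 3228, [])], []⟩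
def c3230 : Clm := ⟨6, 6, true, [1,5,10,11,12,8,2,13,2,7,13,7,12], [1,10,11,12,9,11,12,13,2,1,13,7,12,9,11,2], 11, [([], 578, [1,5,10,13,5,12,13,12,8]), ([], 207, [12,9,13,3,12]), ([372], 2346, [12,9,11,5])], []⟩
def c3231 : Clm := ⟨6, 6, true, [8,11,12,9,11,12,8,2,6,13,6,13,4,12], [1,5,10,11,12,8,2,13,2,7,13,7,12], 5, [([], 3230, [])], []⟩
def c3232 : Clm := ⟨6, 6, true, [1,8,10,11,12,9,13,10,11,2,4,5,6,13,5,6,8], [8,11,5,12,11,12,9,11,10,2,1,4,5], 13, [([], 2791, [10,12,13,3,12,8,12]), ([372], 3219, [1,5,9,13,10,12,8,11]), ([], 207, [3,8,13,10,11,12])], []⟩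
def c3233 : Clm := ⟨6, 6, true, [8,11,5,12,11,12,9,11,10,2,4,3,5], [1,8,10,11,12,9,13,10,11,2,4,5,6,13,5,6,8], 5, [([], 3232, [])], []⟩
def c3234 : Clm := ⟨6, 6, true, [3,13,12,13,12,8,12,13,2,4,5,6,9,13,3], [3,8,13,12,13,12,9,2,1,4,5,12,13,4], 13, [([], 1572, [5,8,10,13,12,8,11,12,11]), ([], 3219, [8,11,13,12,13,10,11,12,9]), ([], 207, [8,10,13,3,10,12])], []⟩
def c3235 : Clm := ⟨6, 6, true, [3,8,13,12,13,12,9,2,4,5,12,11,13,4], [3,13,12,13,12,8,12,13,2,4,5,6,9,13,3], 5, [([], 3234, [])], []⟩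
def c3236 : Clm := ⟨6, 6, true, [12,9,11,3,10,12,9,11,2,4,7,12,13,2,1,7], [3,13,10,11,12,8,13,2,4,6,12,8,13,5,12], 11, [([], 2258, [1,11,5,11,12,8,13,10,12,11]), ([372], 207, [3,10,11,12]), ([372], 2869, [1,9,13,10,12,13,10,12])], []⟩
def c3237 : Clm := ⟨6, 6, true, [5,8,11,10,12,9,11,12,13,2,4,3,12,9,13,4,12], [12,9,11,3,10,12,9,11,2,4,7,12,13,2,1,7], 5, [([], 3236, [])], []⟩
def c3238 : Clm := ⟨5, 6, true, [5,8,11,10,12,13,12,8,2,13,2,6,12,13,5], [11,13,10,12,11,12,2,1,13,12,4,12,7,8], 11, [([], 3229, [8,10,12,11,3,10,12,9]), ([], 207, [10,12,13,3,12]), ([373], 1469, [3,12,11,10,12,8,11,13,12])], []⟩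
def c3239 : Clm := ⟨6, 5, true, [13,10,12,8,13,12,11,13,2,4,3,12,4,6,5,11], [5,8,11,10,12,13,12,8,2,13,2,6,12,13,5], 5, [([], 3238, [])], []⟩
def c3240 : Clm := ⟨6, 5, true, [5,10,11,12,11,12,8,13,12,2,4,12,4,7,13,7], [9,13,3,10,12,11,10,12,8,2,4,5,7,13,12,8], 11, [([], 2205, [9,12,11,12,13,10,13]), ([372], 207, [8,11,3,13,12,13,10]), ([372,370], 1241, [11,3,12,11,10])], []⟩
def c3241 : Clm := ⟨5, 6, true, [3,12,8,13,12,8,13,12,2,13,4,6,9,13,2], [5,10,11,12,11,12,8,13,12,2,4,12,4,7,13,7], 5, [([], 3240, [])], []⟩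
def c3242 : Clm := ⟨6, 6, true, [5,11,3,10,12,8,12,13,2,13,12,8,13,4,12,4], [10,13,3,12,8,13,10,2,1,4,12,13,4], 13, [([], 2830, [9,10,12,11,3,10,12,13]), ([370], 2304, [1,8,12,11,5,10,12,13]), ([], 207, [3,9,10,13,5,12])], []⟩
def c3243 : Clm := ⟨6, 6, true, [10,13,3,12,8,13,10,2,4,12,11,13,4], [5,11,3,10,12,8,12,13,2,13,12,8,13,4,12,4], 5, [([], 3242, [])], []⟩
def c3244 : Clm := ⟨6, 6, true, [1,5,10,11,12,9,13,12,13,2,4,12,4,12,11,12,13], [10,13,3,12,8,13,10,2,4,12,11,13,4], 5, [([], 3243, [])], []⟩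
def c3245 : Clm := ⟨6, 5, true, [8,12,13,12,9,12,11,5,2,11,13,12,4,9,12], [5,9,11,13,12,8,13,10,2,4,5,13,7,5,8,13], 11, [([], 2205, [1,9,11,12,9,11,12,11]), ([372], 207, [3,9,11,13,12,13,10]), ([372], 757, [1,12,8,13,12,9,13,12,8])], []⟩
def c3246 : Clm := ⟨5, 6, true, [3,11,13,12,8,12,13,2,13,4,7,12,7,13], [8,12,13,12,9,12,11,5,2,11,13,12,4,9,12], 5, [([], 3245, [])], []⟩
def c3247 : Clm := ⟨6, 5, true, [1,13,12,8,13,5,2,4,12,13,2,6,5,8], [3,11,13,12,8,12,13,2,13,4,7,12,7,13], 5, [([], 3246, [])], []⟩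
def c3248 : Clm := ⟨5, 6, true, [5,12,8,13,12,9,12,2,4,5,6,13,7,7], [5,11,12,9,12,11,13,12,2,4,5,13,6,12,11], 11, [([], 3137, [1,9,11,5,12,11,13,10,12]), ([], 207, [3,11,13,10,12,9,13,12]), ([372,370], 1962, [1,12,9,11,10])], []⟩
def c3249 : Clm := ⟨6, 5, true, [12,13,3,10,11,12,9,13,2,13,4,12,6,11], [5,12,8,13,12,9,12,2,4,5,6,13,7,7], 5, [([], 3248, [])], []⟩
def c3250 : Clm := ⟨5, 6, true, [5,9,10,13,10,12,9,13,2,1,4,12,8,13,10,4], [3,10,12,8,12,11,5,2,1,4,6,6,12,11], 11, [([], 3180, [8,10,12,9,13,5,10]), ([], 207, [3,9,13,10,11,12]), ([], 771, [5,13,5,10,11,12,11])], []⟩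
def c3251 : Clm := ⟨6, 5, true, [3,10,12,8,12,11,5,2,4,6,6,12,11,3], [5,9,10,13,10,12,9,13,2,1,4,12,8,13,10,4], 5, [([], 3250, [])], []⟩
def c3252 : Clm := ⟨6, 6, true, [1,8,12,8,13,10,12,8,13,2,1,6,13,4,6,5,11], [1,8,12,11,12,8,12,13,2,4,6,9,13,12,6], 13, [([], 1611, [10,11,13,12,13,5,12,8]), ([372], 2304, [13,12,8,13,5,12,13,12,13]), ([], 207, [3,5,9,10,12])], []⟩
def c3253 : Clm := ⟨6, 6, true, [1,8,12,11,12,8,12,13,2,4,3,6,9,13,12,6], [1,8,12,8,13,10,12,8,13,2,1,6,13,4,6,5,11], 5, [([], 3252, [])], []⟩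
def c3254 : Clm := ⟨5, 6, true, [3,13,10,12,9,13,12,11,2,4,7,5,7,13,3], [1,9,12,11,10,12,8,12,13,2,13,4,6,13,6], 11, [([], 3180, [8,12,9,11,5,11,5]), ([], 207, [9,13,3,10,11,12]), ([372,370], 1773, [3,9,12,8,11,12,11])], []⟩
def c3255 : Clm := ⟨6, 5, true, [11,3,5,10,12,9,11,12,8,2,7,7,13,12,13,4], [3,13,10,12,9,13,12,11,2,4,7,5,7,13,3], 5, [([], 3254, [])], []⟩
def c3256 : Clm := ⟨6, 6, true, [3,9,13,12,9,13,12,13,10,2,4,6,13,12,13,4,7], [13,12,9,11,13,12,2,1,4,13,6,13,5,6], 13, [([], 3136, [8,12,9,11,12,8,11,10]), ([227,252,226], 3143, [1,3,10]), ([], 207, [11,3,10,12])], []⟩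
def c3257 : Clm := ⟨6, 6, true, [13,12,9,11,13,12,2,4,3,13,6,13,5,6], [3,9,13,12,9,13,12,13,10,2,4,6,13,12,13,4,7], 5, [([], 3256, [])], []⟩
def c3258 : Clm := ⟨5, 6, true, [3,5,8,10,13,12,13,2,1,11,5,12,13,2,1], [9,12,13,10,11,12,13,2,1,7,7,13,7,10], 11, [([], 3143, [3,9,11,12,13,10,12,8]), ([], 207, [3,10,11,10,12]), ([373], 2869, [1,8,12,9,13,5,13,12,9])], []⟩
def c3259 : Clm := ⟨6, 5, true, [5,11,12,11,13,12,9,12,2,7,7,13,7,10], [3,5,8,10,13,12,13,2,1,11,5,12,13,2,1], 5, [([], 3258, [])], []⟩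
def c3260 : Clm := ⟨5, 6, true, [3,5,8,10,13,12,13,2,1,11,5,12,13,2,3], [5,11,12,11,13,12,9,12,2,7,7,13,7,10], 5, [([], 3259, [])], []⟩
def c3261 : Clm := ⟨6, 6, true, [9,11,10,12,8,11,13,5,2,11,12,13,2,4,3,5], [9,12,11,5,12,2,13,12,13,2,11,3,5], 13, [([], 477, [10,12,13,10,13,12]), ([227,252,226], 3143, [11,13,10]), ([], 207, [3,5,13,5,10,12])], []⟩
def c3262 : Clm := ⟨6, 6, true, [1,11,12,11,13,12,8,13,2,4,12,8,11,13,12,4], [9,11,10,12,8,11,13,5,2,11,12,13,2,4,3,5], 5, [([], 3261, [])], []⟩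
def c3263 : Clm := ⟨5, 6, true, [5,12,13,12,9,12,2,4,12,6,5,11,13], [12,9,11,10,12,2,13,2,6,12,4,12], 11, [([], 3137, [1,11,5,10]), ([], 207, [3,8,10,12]), ([372,370], 2512, [1,13,12,13,5,10,11])], []⟩
def c3264 : Clm := ⟨6, 5, true, [3,10,12,8,11,12,8,13,10,2,1,6,13,4,12,4,10], [5,12,13,12,9,12,2,4,12,6,5,11,13], 5, [([], 3263, [])], []⟩
def c3265 : Clm := ⟨6, 6, true, [3,13,5,12,9,11,10,12,2,1,4,12,6,13,6,9], [8,11,12,9,11,13,12,2,4,12,13,4,7,12], 11, [([], 2304, [8,10,12,13,5,10]), ([], 207, [9,10,11,3,5,12]), ([372,370], 3172, [5,8,10,13,3,12,8,11,10])], []⟩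
def c3266 : Clm := ⟨6, 6, true, [13,10,13,12,11,12,8,2,7,9,13,2,7,11], [3,13,5,12,9,11,10,12,2,1,4,12,6,13,6,9], 5, [([], 3265, [])], []⟩
def c3267 : Clm := ⟨5, 6, true, [8,11,3,10,12,9,13,2,1,4,5,12,9,13,7], [9,10,11,13,12,8,13,10,2,4,7,13,12,6,11,2], 11, [([], 3229, [13,3,10,13]), ([], 207, [3,10]), ([370], 1771, [1,5,11,12,9,11,12,8])], []⟩
def c3268 : Clm := ⟨6, 5, true, [5,8,12,9,11,5,11,12,13,2,4,12,11,13,2,7,13], [8,11,3,10,12,9,13,2,1,4,5,12,9,13,7], 5, [([], 3267, [])], []⟩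
def c3269 : Clm := ⟨6, 6, true, [1,8,12,9,13,12,8,2,11,10,12,7,11,12], [12,8,13,12,13,12,8,2,1,6,11,10,12,13,4], 13, [([], 2304, [1,10,12,11,12,8,12]), ([], 207, [5,9,10,12,13,3]), ([372,370], 3134, [8,11,12,11,13,12])], []⟩
def c3270 : Clm := ⟨6, 6, true, [1,13,5,12,8,11,12,11,2,4,6,6,13,7], [5,10,11,12,9,12,13,2,6,13,12,13,4,13], 13, [([], 2304, [1,5,9,10,12,8,11,12,8]), ([], 207, [3,9,11,13,10,12,13]), ([], 3134, [8,11,5,12,13,5,13,12])], []⟩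
def c3271 : Clm := ⟨6, 6, true, [12,8,13,12,9,13,10,2,4,12,9,13,7,12,13], [1,13,5,12,8,11,12,11,2,4,6,6,13,7], 5, [([], 3270, [])], []⟩
def c3272 : Clm := ⟨6, 6, true, [9,13,3,5,12,11,2,13,4,7,12,13,2], [9,12,11,12,8,11,10,12,4,6,10,12,4,9], 13, [([], 3219, [3,10,11,12,11,5,11,12]), ([], 207, [12,8,12,13,3,10,12]), ([], 988, [3,5,12,8,11,12,8,13])], []⟩
def c3273 : Clm := ⟨6, 6, true, [1,9,11,13,10,12,13,4,12,4,10,13,4], [9,13,3,5,12,11,2,13,4,7,12,13,2], 5, [([], 3272, [])], []⟩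
def c3274 : Clm := ⟨6, 6, true, [3,12,13,12,9,13,12,11,2,11,5,6,6,10,13], [3,12,8,13,12,8,13,2,13,6,5,10,13,6], 13, [([], 2304, [9,11,13,10,12,8,11,13,12]), ([], 207, [8,10,12,9,11,3,12]), ([370], 2851, [3,13,10,12,8,11,10,12,9])], []⟩
def c3275 : Clm := ⟨6, 6, true, [1,5,11,12,9,11,13,12,11,2,6,13,10,12,6,5], [3,12,13,12,9,13,12,11,2,11,5,6,6,10,13], 5, [([], 3274, [])], []⟩
def c3276 : Clm := ⟨6, 6, true, [5,12,11,5,10,12,9,11,12,2,7,11,12,4,13,6], [12,8,11,10,13,12,8,11,2,11,13,2,7], 13, [([], 578, [5,13,3,5,12,13]), ([], 207, [9,12,8,11,3,12]), ([370], 2851, [9,10,12,8,11,12,11,13])], []⟩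
def c3277 : Clm := ⟨6, 6, true, [3,10,12,13,12,9,12,11,2,1,13,4,7], [5,12,11,5,10,12,9,11,12,2,7,11,12,4,13,6], 5, [([], 3276, [])], []⟩
def c3278 : Clm := ⟨6, 6, true, [3,5,9,10,11,12,11,13,2,13,7,7,13,4,13], [3,10,12,13,12,9,12,11,2,1,13,4,7], 5, [([], 3277, [])], []⟩
def c3279 : Clm := ⟨6, 6, true, [1,12,8,11,5,12,13,2,11,10,12,13,6], [12,8,13,10,13,10,12,13,2,13,6,5,10,13,12], 13, [([], 2258, [5,12,11,12,8,13,10,13]), ([372], 207, [5,11,13,10,12,13]), ([], 3134, [11,12,11,13,12])], []⟩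
def c3280 : Clm := ⟨6, 6, true, [1,9,12,8,11,12,11,5,11,4,6,12,4,10,4], [3,9,10,12,8,13,12,11,2,13,6,12,9,12,11], 43, [([], 207, [1,3,10]), ([], 1706, [1,5,9,10,13,12,8,11,10]), ([], 528, [3,11,12,11,12,9,12,11,10])], []⟩
def c3281 : Clm := ⟨6, 6, true, [3,9,10,12,8,13,12,11,10,2,13,6,12,9,12,11], [1,9,12,8,11,12,11,5,11,4,6,12,4,10,4], 5, [([], 3280, [])], []⟩
def c3282 : Clm := ⟨6, 6, true, [9,11,3,10,13,12,11,10,4,7,5,8], [1,10,11,12,13,10,13,12,4,5,7,12], 43, [([], 207, [1,3,9,12,8]), ([], 1044, [9,12,9,11]), ([], 238, [10,12,13,12,8,11,10,12])], []⟩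
def c3283 : Clm := ⟨6, 6, true, [10,11,12,13,10,13,12,11,4,5,7,12], [9,11,3,10,13,12,11,10,4,7,5,8], 5, [([], 3282, [])], []⟩
def c3284 : Clm := ⟨6, 6, true, [5,10,11,5,12,13,12,8,2,6,13,12,4,6,5,7], [5,12,11,5,11,12,11,2,11,13,2,7,9], 47, [([], 1383, [5,8,13,5,10,12]), ([370], 1773, [5,8,12,11,5,12,9,11]), ([], 207, [3,13,10,12])], []⟩
def c3285 : Clm := ⟨6, 6, true, [10,12,11,13,12,13,5,2,1,13,4,7,9], [5,10,11,5,12,13,12,8,2,6,13,12,4,6,5,7], 5, [([], 3284, [])], []⟩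
def c3286 : Clm := ⟨6, 6, true, [8,11,12,8,13,12,8,13,4,5,7,7,10,4], [10,13,12,8,11,2,6,13,6,12,9], 43, [([], 207, [9,11,3,10,12,8]), ([372,370], 3166, [8,13,10,12,13,10,12,8,12]), ([372,370], 2707, [5,9,12,11,13,12,13])], []⟩
def c3287 : Clm := ⟨6, 6, true, [5,10,11,12,13,12,2,11,5,6,11,13], [8,11,12,8,13,12,8,13,4,5,7,7,10,4], 5, [([], 3286, [])], []⟩
def c3288 : Clm := ⟨6, 6, true, [5,9,12,13,5,12,8,11,2,4,12,13,2,5], [9,13,10,13,2,13,12,13,4,13,2], 13, [([], 206, [5,9,10,11,5,12]), ([372,370], 3136, [1,5,9,12,13,5,12,8]), ([226,253,226], 2785, [3,13,12,9,11,13,12,8])], []⟩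
def c3289 : Clm := ⟨6, 6, true, [3,5,9,11,5,10,2,1,13,2,12,13,2,11], [5,9,12,13,5,12,8,11,2,4,12,13,2,5], 5, [([], 3288, [])], []⟩
def c3290 : Clm := ⟨6, 6, true, [3,8,12,13,12,9,13,10,2,4,5,13,12,4], [3,5,9,11,5,10,2,1,13,2,12,13,2,11], 5, [([], 3289, [])], []⟩
def c3291 : Clm := ⟨5, 6, true, [3,13,12,13,10,12,9,11,2,4,6,13,6,10,12,8], [13,5,10,12,13,12,13,2,4,12,13,3,6,12,4], 17, [([], 2240, [5,9,13,12,9,13,12]), ([370], 206, [1,8,10,12,11,5]), ([370], 3169, [12,13,12,9,12,13,10])], []⟩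
def c3292 : Clm := ⟨6, 5, true, [12,9,11,3,12,11,13,10,2,13,12,4,5,8,7], [3,13,12,13,10,12,9,11,2,4,6,13,6,10,12,8], 5, [([], 3291, [])], []⟩
def c3293 : Clm := ⟨6, 6, true, [8,10,12,11,10,12,9,13,2,1,6,13,2,1,12,9], [1,8,11,12,8,11,12,11,10,2,4,7,12,13,2,1,7], 17, [([], 3290, [5,11,3,5]), ([], 206, [9,10,13,3,12]), ([], 1703, [1,5,10,11,5,13])], []⟩
def c3294 : Clm := ⟨6, 6, true, [5,13,3,12,9,11,10,12,11,2,13,12,4,12,4,10], [8,10,12,11,10,12,9,13,2,1,6,13,2,1,12,9], 5, [([], 3293, [])], []⟩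
def c3295 : Clm := ⟨6, 6, true, [1,8,11,12,9,11,5,10,2,6,11,5,4,12,9], [5,13,3,12,9,11,10,12,11,2,13,12,4,12,4,10], 5, [([], 3294, [])], []⟩
def c3296 : Clm := ⟨6, 6, true, [1,10,13,12,8,11,12,11,5,2,4,13,7,5,9], [1,8,10,12,13,12,11,10,2,7,13,2,1,12,9], 17, [([], 3235, [1,11]), ([], 206, [9,13,10,13,12,13]), ([373,370], 1138, [8,10,12,9,13,5,10])], []⟩
def c3297 : Clm := ⟨6, 6, true, [1,5,9,10,13,5,12,13,12,9,2,4,6,13,5,12,9], [1,10,13,12,8,11,12,11,5,2,4,13,7,5,9], 5, [([], 3296, [])], []⟩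
def c3298 : Clm := ⟨6, 6, true, [1,10,13,12,8,11,12,11,5,2,4,3,13,7,5,9], [1,5,9,10,13,5,12,13,12,9,2,4,6,13,5,12,9], 5, [([], 3297, [])], []⟩
def c3299 : Clm := ⟨6, 6, true, [8,11,12,11,12,9,2,11,5,6,10,13,5], [1,8,12,8,4,5,6,5,10,4], 13, [([], 3133, [1,8,10,13,5,12,13,10]), ([], 206, [5,9,12,13,10]), ([373], 1141, [3,5,9,13,12,11])], []⟩
def c3300 : Clm := ⟨6, 6, true, [1,12,9,13,5,12,11,13,4,5,6,10,13,4], [8,11,12,11,12,9,2,11,5,6,10,13,5], 5, [([], 3299, [])], []⟩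
def c3301 : Clm := ⟨6, 6, true, [1,8,11,13,5,12,9,13,10,2,11,13,6,5,13,10], [9,12,8,11,5,11,12,9,4,5,6,5,10,4], 13, [([], 2333, [3,9,10,12,13,12,9]), ([], 206, [9,11,13,5,10,12]), ([373], 1141, [1,12,11,5,11,12,9,12])], []⟩
def c3302 : Clm := ⟨6, 6, true, [1,5,11,13,12,9,13,12,4,5,6,10,13,4], [1,8,11,13,5,12,9,13,10,2,11,13,6,5,13,10], 5, [([], 3301, [])], []⟩
def c3303 : Clm := ⟨6, 6, true, [5,8,11,10,12,13,2,4,6,12,8,13,6,10], [12,11,10,12,8,11,10,2,7,13,4,7,5,7,10], 15, [([], 816, [3,11,13,12,13,10,12,9,12]), ([170,111,111,96], 210, [10,11,3,5,12]), ([373,370], 2339, [1,8,12,8,13,10,11,12])], []⟩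
def c3304 : Clm := ⟨6, 6, true, [3,12,11,12,8,11,10,2,7,13,4,7,5,7], [5,8,11,10,12,13,2,4,6,12,8,13,6,10], 5, [([], 3303, [])], []⟩
def c3305 : Clm := ⟨5, 6, true, [3,5,8,12,9,13,12,2,11,12,4,12,4,3], [12,8,11,3,12,8,2,1,4,13,12,7,11,13], 15, [([], 171, [5,9,11,5,13,12,8]), ([102,170], 210, [5,11,10,12,8,13,12]), ([370], 2483, [1,11,5,12,8,13,5,12])], []⟩
def c3306 : Clm := ⟨6, 5, true, [12,11,3,5,10,12,9,2,11,12,4,12,7,11], [3,5,8,12,9,13,12,2,11,12,4,12,4,3], 5, [([], 3305, [])], []⟩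
def c3307 : Clm := ⟨6, 6, true, [13,3,5,12,8,11,10,2,1,7,13,5,7,12], [5,11,12,13,12,8,13,10,12,2,1,11,13,7,12,4,5], 15, [([], 606, [5,12,13]), ([170,96], 210, [3,13,5,10,12]), ([373], 2339, [3,9,10,12,13,10,12,13])], []⟩
def c3308 : Clm := ⟨6, 6, true, [1,5,11,13,12,8,13,10,2,1,11,5,4,6,13,5], [13,3,5,12,8,11,10,2,1,7,13,5,7,12], 5, [([], 3307, [])], []⟩
def c3309 : Clm := ⟨6, 6, true, [5,9,12,11,12,13,2,4,12,13,7,12,13,10], [12,8,11,3,5,10,12,2,1,4,12,13,5], 15, [([], 1094, [12,8,12,13,10,13,12,8]), ([110,110,96], 210, [9,11,13,5,10,12]), ([372], 2483, [8,11,12,9,11,13,12,11])], []⟩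
def c3310 : Clm := ⟨6, 6, true, [12,8,11,3,5,10,12,2,4,12,13,3,5], [5,9,12,11,12,13,2,4,12,13,7,12,13,10], 5, [([], 3309, [])], []⟩
def c3311 : Clm := ⟨5, 6, true, [11,12,9,13,10,12,2,1,4,13,6,5,13,6], [11,3,12,8,11,10,12,2,1,7,11,13,12,11], 15, [([], 122, [8,13,10,12,11,12,11,5]), ([96,170,110,96], 210, [11,3,10,12]), ([373], 2339, [9,13,3,10,11,12,11,13])], []⟩
def c3312 : Clm := ⟨6, 5, true, [11,3,12,8,11,12,2,7,11,13,12,11], [11,12,9,13,10,12,2,1,4,13,6,5,13,6], 5, [([], 3311, [])], []⟩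
def c3313 : Clm := ⟨5, 6, true, [3,8,12,11,10,12,8,11,2,11,12,4,5,10,4], [11,3,12,8,11,12,2,7,11,13,12,11], 5, [([], 3312, [])], []⟩
def c3314 : Clm := ⟨6, 6, true, [11,10,13,12,9,13,10,12,2,7,13,7,5,13], [3,11,10,12,8,2,1,4,6,12,11,5,10], 15, [([], 606, [1,12,13,10,12,9,11,5]), ([96,171,98], 210, [5,13,3,5,10,12]), ([373], 2339, [9,13,3,10,11,12])], []⟩
def c3315 : Clm := ⟨6, 6, true, [5,11,12,13,12,8,13,10,2,1,4,6,12,13,10,4], [11,10,13,12,9,13,10,12,2,7,13,7,5,13], 5, [([], 3314, [])], []⟩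
def c3316 : Clm := ⟨6, 6, true, [1,13,12,8,11,10,12,8,13,2,1,13,7,13,4,13,6], [13,5,12,11,12,9,2,4,7,7,13,12,13], 15, [([], 777, [8,11,3,12,11,10,13,12]), ([111,104,96], 210, [1,13,12,13,10,13,10]), ([372,370], 2806, [1,12,9,13,12,13,5])], []⟩
def c3317 : Clm := ⟨6, 6, true, [13,5,12,11,12,9,2,4,7,7,13,3,12,13], [1,13,12,8,11,10,12,8,13,2,1,13,7,13,4,13,6], 5, [([], 3316, [])], []⟩
def c3318 : Clm := ⟨6, 6, true, [3,8,13,12,9,11,2,4,13,7,12,13,10], [9,10,12,8,13,12,9,11,2,13,2,7,13,3,5], 15, [([], 777, [1,12,8,11,13,12,9,12]), ([170,111,111,96], 210, [3,13,10,11,12]), ([372,370], 2806, [11,5,12,9,11,12])], []⟩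
def c3319 : Clm := ⟨6, 6, true, [9,10,12,8,13,12,9,11,2,13,2,1,7,13,5], [3,8,13,12,9,11,2,4,13,7,12,13,10], 5, [([], 3318, [])], []⟩
def c3320 : Clm := ⟨6, 6, true, [8,13,3,10,12,9,2,4,12,13,5,7,12], [9,10,12,8,13,12,9,11,2,13,2,1,7,13,5], 5, [([], 3319, [])], []⟩
def c3321 : Clm := ⟨6, 6, true, [11,10,12,8,13,10,12,2,6,11,13,2,12,7], [1,12,11,13,12,9,2,11,12,11,2], 11, [([], 2881, [12,8,13,5,13]), ([373,370], 1312, [11,12,9,11,13,12,8]), ([96,170,110], 210, [1,3,9,12])], []⟩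
def c3322 : Clm := ⟨6, 6, true, [1,12,11,13,12,9,2,11,12,11,10,2], [11,10,12,8,13,10,12,2,6,11,13,2,12,7], 5, [([], 3321, [])], []⟩
def c3323 : Clm := ⟨6, 5, true, [13,10,13,12,11,12,8,12,2,6,13,4,7,13,2], [8,11,5,13,12,2,4,12,4,13,3], 17, [([], 334, [1,10,12,9,13,12,13,12,9]), ([171,102], 210, [8,10,12,13,3]), ([], 721, [3,8,10,11,5,12,11])], []⟩
def c3324 : Clm := ⟨5, 6, true, [8,11,5,13,12,2,1,4,12,4,13], [13,10,13,12,11,12,8,12,2,6,13,4,7,13,2], 5, [([], 3323, [])], []⟩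
def c3325 : Clm := ⟨6, 6, true, [1,9,12,11,5,10,2,1,13,4,7,5,7,11], [5,10,11,5,12,11,13,2,1,13,2,5], 11, [([], 3072, [12,11,10,12,13,10]), ([372], 816, [13,5,10,13,12,9,13,12]), ([170,111,111,96], 210, [3,5,10,13,12])], []⟩
def c3326 : Clm := ⟨6, 6, true, [10,13,12,13,10,13,2,13,2,13], [1,9,12,11,5,10,2,1,13,4,7,5,7,11], 5, [([], 3325, [])], []⟩
def c3327 : Clm := ⟨6, 6, true, [9,11,3,12,13,10,11,12,9,2,13,2,7,12,9,11], [5,9,13,3,12,2,4,7,13,7,13,12,13], 17, [([], 391, [3,11,12,9,11,13,12,13,12]), ([111,102,170], 210, [3,5,9,11,10,12,11]), ([372,370], 1485, [1,10,12,11,10,12,11])], []⟩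
def c3328 : Clm := ⟨6, 6, true, [5,9,13,3,10,2,6,11,13,6,5,4,12], [9,11,3,12,13,10,11,12,9,2,13,2,7,12,9,11], 5, [([], 3327, [])], []⟩
def c3329 : Clm := ⟨6, 6, true, [3,5,9,10,13,12,8,2,1,4,5,7,5,13], [8,12,9,11,3,5,12,13,2,4,3,5,12,7,11], 11, [([], 2955, [11,5,12,9,13,12,9]), ([373], 1616, [5,8,11,13,10,12,9]), ([110,104,96], 210, [13,3,10,13,12,13])], []⟩
def c3330 : Clm := ⟨6, 6, true, [1,10,13,12,13,10,2,4,3,5,12,4], [3,5,9,10,13,12,8,2,1,4,5,7,5,13], 5, [([], 3329, [])], []⟩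
def c3331 : Clm := ⟨6, 6, true, [3,5,12,11,5,12,11,2,4,3,13,7,12,8], [1,8,11,10,13,12,2,4,3,13,12,6,11,5,6], 17, [([], 627, [10,11,12,8,12,11,12,9]), ([100,98], 210, [3,5,10,13,5,12]), ([372], 1761, [9,12,8,11,13,10,12,9])], []⟩
def c3332 : Clm := ⟨6, 6, true, [3,11,5,10,12,11,12,9,2,13,4,6,9,10,13,2], [3,5,12,11,5,12,11,2,4,3,13,7,12,8], 5, [([], 3331, [])], []⟩
def c3333 : Clm := ⟨6, 6, true, [5,11,5,10,12,11,12,2,13,7,13,4,6,13], [9,12,11,12,11,5,10,2,1,13,4,5], 11, [([], 1191, [5,12,9,11,12,8,11,10]), ([373,370], 1094, [8,13,10,12,11,12,11,10]), ([111,98,170,96], 210, [3,9,10,11,12,11,5])], []⟩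
def c3334 : Clm := ⟨6, 6, true, [9,12,11,12,11,5,2,4,5,13], [5,11,5,10,12,11,12,2,13,7,13,4,6,13], 5, [([], 3333, [])], []⟩
def c3335 : Clm := ⟨6, 6, true, [5,8,12,13,10,12,9,13,2,13,4,7,5,9,11], [8,10,11,5,12,9,2,1,6,13,12,4,9], 11, [([], 2522, [11,10,12,11,12,8,11,10]), ([373], 682, [8,10,13,3,12,9,11,12,11]), ([104,100], 210, [1,9,12,13])], []⟩
def c3336 : Clm := ⟨6, 6, true, [8,10,11,5,12,9,2,6,13,12,4,3,9], [5,8,12,13,10,12,9,13,2,13,4,7,5,9,11], 5, [([], 3335, [])], []⟩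
def c3337 : Clm := ⟨6, 6, true, [8,11,3,12,9,11,10,13,2,1,7,13,7,5,7,10], [1,8,13,10,11,12,9,2,1,6,13,12,4,9], 11, [([], 1845, [12,9,11,5,11,12,11,13]), ([], 2738, [1,5,12,13,5,12,11]), ([110,110,96], 210, [1,9,11,12,13])], []⟩
def c3338 : Clm := ⟨6, 6, true, [1,8,13,10,11,12,9,2,6,13,12,4,3,9], [8,11,3,12,9,11,10,13,2,1,7,13,7,5,7,10], 5, [([], 3337, [])], []⟩
def c3339 : Clm := ⟨6, 6, true, [1,5,12,8,11,12,9,11,2,1,4,12,11,5], [11,12,11,13,10,12,11,2,11,12,13,4,10,4], 11, [([], 1937, [3,9,13,10,13,12,8]), ([], 606, [1,12,13,5,10,12,9,11]), ([96,171,98], 210, [3,11,10,12,13])], []⟩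
def c3340 : Clm := ⟨6, 6, true, [12,11,3,13,12,9,2,6,13,2,7,8,13], [1,5,12,8,11,12,9,11,2,1,4,12,11,5], 5, [([], 3339, [])], []⟩
def c3341 : Clm := ⟨6, 6, true, [1,10,12,9,13,5,10,12,2,4,3,12,8,11,5,4], [8,12,13,3,10,12,11,12,2,13,12,4,10,4], 11, [([], 783, [1,11,12,9,11,12,8]), ([370], 644, [8,10,12,8,11]), ([171,104], 210, [3,8,10,11,13,12])], []⟩
def c3342 : Clm := ⟨6, 6, true, [11,12,11,5,11,12,9,11,2,4,5,7,13,2,6,9], [1,10,12,9,13,5,10,12,2,4,3,12,8,11,5,4], 5, [([], 3341, [])], []⟩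
def c3343 : Clm := ⟨5, 6, true, [1,11,5,12,9,13,12,11,2,4,5,12,8,13,6,9], [5,12,11,13,10,12,2,1,13,4,5], 11, [([], 476, [12,13,10,12,8,13,10,13]), ([373], 650, [12,8,11,10,12,13,5]), ([110,104], 210, [3,13,5,10])], []⟩
def c3344 : Clm := ⟨6, 5, true, [5,12,11,13,12,2,4,5,13], [1,11,5,12,9,13,12,11,2,4,5,12,8,13,6,9], 5, [([], 3343, [])], []⟩
def c3345 : Clm := ⟨6, 6, true, [5,8,12,13,3,10,12,9,2,4,13,6,10,12,11,10], [1,12,11,13,12,9,13,10,2,1,11,12,11,2], 11, [([], 3294, [3,10,12,8,13,10,12,8]), ([370], 495, [10,13,12,11,12,8,12]), ([111,96], 210, [3,9,11,13,10,12])], []⟩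
def c3346 : Clm := ⟨6, 6, true, [1,12,11,13,12,9,13,10,2,1,11,12,11,10,2], [5,8,12,13,3,10,12,9,2,4,13,6,10,12,11,10], 5, [([], 3345, [])], []⟩
def c3347 : Clm := ⟨6, 6, true, [1,8,11,12,9,12,11,13,2,4,3,7,13,12,11,2], [1,12,11,13,12,9,13,10,2,1,11,12,11,10,2], 5, [([], 3346, [])], []⟩
def c3348 : Clm := ⟨6, 6, true, [1,12,9,12,11,12,8,2,4,3,12,11,13,6], [3,13,12,9,13,12,8,13,2,1,13,10,12,13,7], 11, [([], 682, [3,9,12,13,5,10,12,8,13]), ([104,171,111], 210, [10,13,5,13,12]), ([373,370], 1842, [8,12,13,12,8,11,10,12])], []⟩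
def c3349 : Clm := ⟨6, 6, true, [9,10,13,3,12,8,11,10,13,2,13,10,12,13,4], [1,12,9,12,11,12,8,2,4,3,12,11,13,6], 5, [([], 3348, [])], []⟩
def c3350 : Clm := ⟨6, 6, true, [1,12,9,12,11,12,8,2,1,4,12,11,13,6], [9,10,13,3,12,8,11,10,13,2,13,10,12,13,4], 5, [([], 3349, [])], []⟩
def c3351 : Clm := ⟨6, 6, true, [12,8,12,13,10,12,13,2,13,4,12,4,5,10], [10,11,10,12,2,1,6,11,12,4,8,13], 13, [([], 2484, [8,10,12,11,12,9,13,10]), ([370], 209, [3,8,10,13,10,13,12]), ([170,110,100], 210, [1,13,12,8,13,5,12])], []⟩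
def c3352 : Clm := ⟨6, 6, true, [10,11,10,12,2,6,11,12,4,8,13,3], [12,8,12,13,10,12,13,2,13,4,12,4,5,10], 5, [([], 3351, [])], []⟩
def c3353 : Clm := ⟨6, 6, true, [3,8,12,11,10,12,9,12,11,2,4,5,6,13,3,10], [1,8,13,12,9,11,13,12,2,1,4,12,13,4,13,6], 11, [([], 337, [3,12,8,13,10,12,9,13,10]), ([171,98,96], 210, [10,12,8,11,3,5,12]), ([372], 1739, [10,12,8,13,10,12,9,12])], []⟩
def c3354 : Clm := ⟨6, 6, true, [1,9,10,13,2,1,6,13,2,12,8], [3,8,12,11,10,12,9,12,11,2,4,5,6,13,3,10], 5, [([], 3353, [])], []⟩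
def c3355 : Clm := ⟨6, 6, true, [3,8,12,13,10,12,13,12,2,1,4,6,9,13,12,11], [8,12,13,12,8,12,2,4,6,9,13,12,6], 13, [([], 2789, [3,11,13,12,8,13,10,12,8]), ([372,370], 2738, [12,9,13,3,12,11,10,13,12]), ([171,104], 210, [5,8,11,13,10,12])], []⟩
def c3356 : Clm := ⟨6, 6, true, [8,12,13,12,8,12,2,4,3,6,9,13,12,6], [3,8,12,13,10,12,13,12,2,1,4,6,9,13,12,11], 5, [([], 3355, [])], []⟩
def c3357 : Clm := ⟨6, 6, true, [8,13,10,12,11,10,12,9,2,4,6,6,12,13,10], [11,10,13,12,13,10,2,4,3,5,12,13,4], 13, [([], 2929, [9,10,11,12,11,12,9]), ([373,370], 682, [3,9,12,8,11,5,10,12,11]), ([104,171,111], 210, [1,5,10,11,12])], []⟩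
def c3358 : Clm := ⟨6, 6, true, [1,5,8,13,12,9,13,12,13,2,4,5,7,12,13,5], [8,13,10,12,11,10,12,9,2,4,6,6,12,13,10], 5, [([], 3357, [])], []⟩
def c3359 : Clm := ⟨6, 5, true, [8,10,13,5,13,12,9,13,12,4,5,7,10,12,11,2], [1,10,12,13,5,12,9,2,7,11,13,12,9], 11, [([], 2738, [1,11,10,12,11,10,12,9]), ([171,104], 210, [1,8,12,13,10,13,10]), ([], 721, [8,10,11,12,11,5])], []⟩
def c3360 : Clm := ⟨5, 6, true, [1,10,12,13,5,10,12,9,2,7,11,13,12,9], [8,10,13,5,13,12,9,13,12,4,5,7,10,12,11,2], 5, [([], 3359, [])], []⟩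
def c3361 : Clm := ⟨6, 6, true, [1,9,12,13,10,12,8,11,13,2,4,6,12,11,12,9], [5,11,13,12,9,11,10,12,11,2,4,12,8,13,3,5], 11, [([], 597, [1,8,12,13,5,10,13,12,9]), ([96], 210, [12,13,3,10,12]), ([370], 3115, [12,9,11,10,12,9,13,5,12])], []⟩
def c3362 : Clm := ⟨6, 6, true, [5,11,13,12,9,11,10,12,11,2,1,4,12,8,13,5], [1,9,12,13,10,12,8,11,13,2,4,6,12,11,12,9], 5, [([], 3361, [])], []⟩
def c3363 : Clm := ⟨6, 6, true, [1,11,5,11,2,11,12,6,13,4,5,10], [5,9,12,13,12,11,10,2,1,4,5], 13, [([], 3091, [1,8,13,12,13,10,11,12,8]), ([373], 337, [3,12,11,10,12,9,12,13,10]), ([171,98,96], 210, [3,9,10,11,12])], []⟩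
def c3364 : Clm := ⟨6, 6, true, [5,9,12,13,12,11,10,2,4,3,5], [1,11,5,11,2,11,12,6,13,4,5,10], 5, [([], 3363, [])], []⟩
def c3365 : Clm := ⟨6, 6, true, [10,13,10,12,11,12,9,2,4,5,7,13,12,4,13], [1,12,13,12,8,12,11,13,2,4,6,9,13,12,6], 13, [([], 2246, [3,9,10,11,10,12,11]), ([373,370], 597, [8,13,10,12,9,13]), ([96], 210, [3,11,5,10,12])], []⟩
def c3366 : Clm := ⟨6, 6, true, [1,12,13,12,8,12,11,13,2,4,3,6,9,13,12,6], [10,13,10,12,11,12,9,2,4,5,7,13,12,4,13], 5, [([], 3365, [])], []⟩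
def c3367 : Clm := ⟨6, 6, true, [8,12,8,13,10,12,9,2,7,11,12,4,3,5,11], [5,9,11,5,11,12,11,12,9,2,11,5,6,6,13,2,11], 11, [([], 2738, [5,13,12,13,10,12,8]), ([110,171,104], 210, [9,12,13,3,10]), ([], 2625, [3,8,12,8,11,5,12,13])], []⟩
def c3368 : Clm := ⟨6, 6, true, [9,11,12,13,10,13,12,13,2,4,5,6,9,13,5,7], [8,12,8,13,10,12,9,2,7,11,12,4,3,5,11], 5, [([], 3367, [])], []⟩
def c3369 : Clm := ⟨6, 6, true, [1,8,11,12,8,11,13,10,12,2,7,13,12,13,2,13,7], [8,12,13,12,8,11,12,2,4,6,9,13,12,6], 13, [([], 3278, [1,13,12,9,11,13,12,8]), ([373,370], 1312, [3,10,12,9,11,13,12]), ([102], 210, [8,13,3,5,10,12])], []⟩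
def c3370 : Clm := ⟨6, 6, true, [8,12,13,12,8,11,12,2,4,3,6,9,13,12,6], [1,8,11,12,8,11,13,10,12,2,7,13,12,13,2,13,7], 5, [([], 3369, [])], []⟩
def c3371 : Clm := ⟨6, 6, true, [5,9,10,11,5,12,11,10,12,2,7,9,13,2,7,12,11], [1,8,12,13,12,8,12,2,4,6,9,13,12,6], 13, [([], 2897, [3,9,11,12,8,13,10,12]), ([], 1312, [1,5,12,9,11,13,12,13,10]), ([102], 210, [3,8,13,5,10,12])], []⟩
def c3372 : Clm := ⟨6, 6, true, [1,8,12,13,12,8,12,2,4,3,6,9,13,12,6], [5,9,10,11,5,12,11,10,12,2,7,9,13,2,7,12,11], 5, [([], 3371, [])], []⟩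
def c3373 : Clm := ⟨6, 6, true, [3,5,9,10,12,13,10,2,13,7,12,4,8], [11,5,11,12,13,10,12,8,2,4,12,9,13,5,7,9], 11, [([], 816, [1,10,12,13,10,12,8,11,13]), ([111,111,104], 210, [9,10,13,5,13,12]), ([370], 965, [3,5,11,12,13,10,13,12])], []⟩
def c3374 : Clm := ⟨6, 6, true, [3,9,10,13,10,12,8,11,2,6,9,13,2,12,13,3], [3,5,9,10,12,13,10,2,13,7,12,4,8], 5, [([], 3373, [])], []⟩
def c3375 : Clm := ⟨6, 6, true, [3,5,9,10,12,13,10,2,1,13,7,12,4,3,8], [3,9,10,13,10,12,8,11,2,6,9,13,2,12,13,3], 5, [([], 3374, [])], []⟩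
def c3376 : Clm := ⟨6, 6, true, [3,9,13,5,10,13,12,13,2,4,5,6,9,13,7,5], [10,13,12,11,10,13,2,13,12,13,2,13,5], 13, [([], 382, [1,9,10,11,10]), ([], 712, [5,10,13,12,8,12,11,10]), ([98], 210, [3,13,5,10,12,11,12])], []⟩
def c3377 : Clm := ⟨6, 6, true, [3,13,10,13,12,11,13,2,1,11,12,4,10,13,4], [3,9,13,5,10,13,12,13,2,4,5,6,9,13,7,5], 5, [([], 3376, [])], []⟩
def c3378 : Clm := ⟨6, 6, true, [5,8,11,12,13,12,13,2,4,12,4,13,12,13,4], [10,13,12,13,10,11,2,1,4,5,12,13,4], 13, [([], 3060, [3,9,12,13,10,12,11,10]), ([370], 597, [5,13,10,12,11]), ([96], 210, [10,13,3,10,12])], []⟩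
def c3379 : Clm := ⟨6, 6, true, [10,13,12,13,10,11,2,4,5,12,11,13,4], [5,8,11,12,13,12,13,2,4,12,4,13,12,13,4], 5, [([], 3378, [])], []⟩
def c3380 : Clm := ⟨6, 6, true, [5,10,12,8,11,2,13,7,13,2,12,11], [3,8,12,13,10,12,11,10,2,4,5,12,13,10,12,4], 13, [([], 1962, [13,12,9,11,13]), ([372], 1312, [1,11,10,12,9,11,13,12]), ([102], 210, [5,12,8,11,3,10,12])], []⟩
def c3381 : Clm := ⟨6, 6, true, [1,8,12,8,13,5,12,2,4,7,12,13,7,9,12], [5,10,12,8,11,2,13,7,13,2,12,11], 5, [([], 3380, [])], []⟩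
def c3382 : Clm := ⟨6, 6, true, [1,9,12,9,13,12,9,13,2,7,7,13,2,4,6], [8,12,9,11,3,12,2,13,2,13,6,5], 13, [([], 597, [10,12,11,5,12,9]), ([96], 210, [3,13,10,12,8,12,11,12]), ([372], 684, [3,8,12,11,12,13,10])], []⟩
def c3383 : Clm := ⟨6, 6, true, [3,13,12,8,11,10,12,9,11,2,1,13,2,5,6,5], [1,9,12,9,13,12,9,13,2,7,7,13,2,4,6], 5, [([], 3382, [])], []⟩
def c3384 : Clm := ⟨6, 6, true, [5,8,10,13,12,9,12,13,2,13,5,10,12,8,11], [11,12,13,10,13,12,11,2,4,6,13,6,12,9], 13, [([], 712, [1,10,11,12,8,12,13]), ([98], 210, [3,13,5,10,12,11,12]), ([], 2806, [10,12,13,12,9,11,10,12])], []⟩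
def c3385 : Clm := ⟨6, 6, true, [11,12,13,10,13,12,11,2,4,3,6,13,6,12,9], [5,8,10,13,12,9,12,13,2,13,5,10,12,8,11], 5, [([], 3384, [])], []⟩
def c3386 : Clm := ⟨6, 6, true, [9,11,13,5,2,4,7,7,13,5,6,9], [3,5,13,10,12,9,2,1,13,6,5,4,9,12], 13, [([], 597, [8,11,3,12,13,10,11]), ([96], 210, [3,13,10,12,9,12,11,12]), ([372], 2483, [13,3,12,8,13,12,9,13])], []⟩
def c3387 : Clm := ⟨6, 6, true, [1,5,9,10,11,5,2,4,13,10,12,13,7,9], [9,11,13,5,2,4,7,7,13,5,6,9], 5, [([], 3386, [])], []⟩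
def c3388 : Clm := ⟨6, 6, true, [1,9,12,8,11,13,12,9,11,2,4,3,13,12,7,9,11], [12,11,5,10,12,8,11,13,12,2,1,4,12,13,2,5,12,4], 13, [([], 2738, [13,12,11,12,8]), ([110,171,104], 210, [9,10,12,13,3,10]), ([372], 488, [3,5,9,12,8,11,12])], []⟩
def c3389 : Clm := ⟨6, 6, true, [12,9,11,3,13,12,8,2,1,13,6,5,4,7,12,8], [1,9,12,8,11,13,12,9,11,2,4,3,13,12,7,9,11], 5, [([], 3388, [])], []⟩
def c3390 : Clm := ⟨6, 6, true, [1,11,12,8,13,12,13,2,4,3,13,7,12,4], [12,9,11,3,13,12,8,2,1,13,6,5,4,7,12,8], 5, [([], 3389, [])], []⟩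
def c3391 : Clm := ⟨6, 6, true, [3,13,12,11,12,9,12,13,10,2,13,2,12,4,13,6], [10,12,13,5,13,2,4,6,6,13,7,9,12], 13, [([], 1312, [9,12,8,11,13,12,9]), ([102], 210, [12,8,11,3,10,13,12]), ([372], 488, [11,12,11,13,12,8,12,11])], []⟩
def c3392 : Clm := ⟨6, 6, true, [3,12,13,5,10,12,9,2,4,12,4,12,11,10,12], [3,13,12,11,12,9,12,13,10,2,13,2,12,4,13,6], 5, [([], 3391, [])], []⟩
def c3393 : Clm := ⟨6, 6, true, [12,9,11,12,13,10,2,7,13,6,6,10,12], [3,5,11,12,8,13,12,13,2,13,12,4,12,9,11], 13, [([], 712, [8,10,11,12,9,13,12]), ([98], 210, [8,12,11,3,10,13]), ([372], 684, [1,9,10,13,12,8,11,12,8])], []⟩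
def c3394 : Clm := ⟨6, 6, true, [3,12,9,13,10,11,12,13,2,4,12,8,11,5,12], [12,9,11,12,13,10,2,7,13,6,6,10,12], 5, [([], 3393, [])], []⟩
def c3395 : Clm := ⟨6, 6, true, [3,8,12,8,11,12,13,2,11,5,6,10,13,5], [3,12,9,13,10,11,12,13,2,4,12,8,11,5,12], 5, [([], 3394, [])], []⟩
def c3396 : Clm := ⟨6, 6, true, [5,10,11,12,13,10,12,8,13,2,4,5,13,6,13,10,12,9], [1,8,13,5,12,13,2,4,3,5,12,4,10], 45, [([], 682, [1,13,12,9,11,10,12,8,11]), ([98,96], 210, [3,9,13,5,10]), ([372], 1859, [10,11,12,11,13,12,8,13])], []⟩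
def c3397 : Clm := ⟨6, 6, true, [9,11,10,12,8,11,12,9,2,4,7,13,7,9], [5,10,11,12,13,10,12,8,13,2,4,5,13,6,13,10,12,9], 5, [([], 3396, [])], []⟩
def c3398 : Clm := ⟨6, 6, true, [11,5,12,8,11,12,9,11,2,1,4,12,11,5], [3,11,12,8,13,12,11,2,4,5,7,9,13,6], 15, [([], 3340, [3,11,13]), ([], 209, [13,5,10,12]), ([170,110,104], 681, [8,12,11,10,12,9,11,10])], []⟩
def c3399 : Clm := ⟨6, 6, true, [3,11,12,8,13,12,11,2,4,3,5,7,9,13,6], [11,5,12,8,11,12,9,11,2,1,4,12,11,5], 5, [([], 3398, [])], []⟩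
def c3400 : Clm := ⟨6, 6, true, [11,5,12,8,11,12,9,11,2,4,12,11,3,5], [3,11,12,8,13,12,11,2,4,3,5,7,9,13,6], 5, [([], 3399, [])], []⟩
def c3401 : Clm := ⟨6, 6, true, [1,9,12,9,13,12,9,11,13,2,1,4,13,6,13,10,4], [1,11,5,10,12,11,12,8,12,2,4,6,12,8,13,6,10], 17, [([], 3358, [11]), ([], 209, [1,10,13,12]), ([110], 496, [9,12,11,10,12,8,12,11,5])], []⟩
def c3402 : Clm := ⟨6, 6, true, [9,11,10,13,12,11,13,2,7,11,12,4,5,10,4], [1,9,12,9,13,12,9,11,13,2,1,4,13,6,13,10,4], 5, [([], 3401, [])], []⟩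
def c3403 : Clm := ⟨6, 6, true, [8,12,11,3,10,12,11,2,13,12,4,3,7,9], [3,11,10,12,13,10,12,8,11,2,6,6,13,2,12,11,3], 15, [([], 209, [5,13,5,13,12,13]), ([96,111,98], 760, [8,12,9,13,10,12,8,11,12]), ([373,370], 2685, [3,8,10,11,13,12,9,13])], []⟩
def c3404 : Clm := ⟨6, 6, true, [3,11,10,12,13,10,12,8,11,2,6,6,13,2,1,12,11], [8,12,11,3,10,12,11,2,13,12,4,3,7,9], 5, [([], 3403, [])], []⟩
def c3405 : Clm := ⟨6, 5, true, [8,13,3,12,13,10,13,12,2,1,13,12,4,6,10,2], [1,10,11,12,9,12,11,12,2,1,13,6,13,5], 17, [([], 973, [8,11,3,12,13,10,13]), ([372], 209, [10,12,11,10,12]), ([171,100,111,96], 172, [12,9,12,13,10,11])], []⟩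
def c3406 : Clm := ⟨5, 6, true, [11,13,12,11,12,9,12,13,2,1,13,6,13,5], [8,13,3,12,13,10,13,12,2,1,13,12,4,6,10,2], 5, [([], 3405, [])], []⟩
def c3407 : Clm := ⟨6, 6, true, [13,12,13,12,8,12,11,13,2,4,12,4,13,12,4,5], [1,11,12,8,11,10,12,13,2,13,2,13,12,9,11], 11, [([], 487, [8,12,9,11,12,13,10]), ([370], 209, [1,8,11,5,10,12,11,5]), ([171,110,102], 390, [3,13,12,8,12,11,12,11])], []⟩
def c3408 : Clm := ⟨6, 6, true, [11,12,8,11,12,13,2,4,13,10,12,9,11], [13,12,13,12,8,12,11,13,2,4,12,4,13,12,4,5], 5, [([], 3407, [])], []⟩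
def c3409 : Clm := ⟨6, 6, true, [1,12,8,12,13,5,10,11,2,4,3,5,12,7], [1,9,11,13,10,12,8,11,13,2,6,6,13,2,11], 15, [([], 512, [5,12,9,13,10,12,11,10]), ([171,110], 213, [8,10,13,5,12]), ([], 3008, [9,10,12,11,12,8,13,12])], []⟩
def c3410 : Clm := ⟨6, 6, true, [5,11,12,9,13,12,8,13,12,11,2,6,6,13,2,4], [1,12,8,12,13,5,10,11,2,4,3,5,12,7], 5, [([], 3409, [])], []⟩
def c3411 : Clm := ⟨6, 6, true, [1,11,12,8,11,12,11,10,13,2,1,4,5,12,4], [5,11,12,9,13,12,8,13,12,11,2,6,6,13,2,4], 5, [([], 3410, [])], []⟩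
def c3412 : Clm := ⟨6, 6, true, [5,11,13,10,12,9,11,12,9,2,13,6,12,9,13,4,5], [12,8,11,12,9,11,13,2,1,6,6,11,5,11], 15, [([], 768, [5,9,12,11,13,10,12,9]), ([170,100], 213, [10,13,5,13]), ([370], 2471, [12,11,13,10,12,13,10])], []⟩
def c3413 : Clm := ⟨6, 6, true, [12,8,11,12,9,11,13,10,2,1,6,6,11,5,11], [5,11,13,10,12,9,11,12,9,2,13,6,12,9,13,4,5], 5, [([], 3412, [])], []⟩
def c3414 : Clm := ⟨6, 6, true, [3,12,13,12,9,11,10,12,2,13,12,4,5,10,4], [1,8,10,13,10,12,8,11,12,2,1,13,4,12,7,13,12], 15, [([], 495, [3,11,12,13,12]), ([98,170,110,96], 213, [5,9,13,3,10,12]), ([370], 3033, [3,12,9,13,12,8,13,10,12])], []⟩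
def c3415 : Clm := ⟨6, 6, true, [9,13,12,13,5,10,11,12,11,2,6,13,2,12,11,3,10], [3,12,13,12,9,11,10,12,2,13,12,4,5,10,4], 5, [([], 3414, [])], []⟩
def c3416 : Clm := ⟨6, 6, true, [1,9,12,9,11,5,10,12,2,1,4,13,7,12,4], [11,5,10,12,13,2,13,2,13,12,13,4], 11, [([], 1485, [9,12,13,10,12,13,12,9]), ([373], 791, [13,10,12,11,5,12]), ([110,171,96], 213, [12,13,3,10])], []⟩
def c3417 : Clm := ⟨6, 6, true, [11,12,13,10,13,10,2,4,5,11,12,11,13,4], [1,9,12,9,11,5,10,12,2,1,4,13,7,12,4], 5, [([], 3416, [])], []⟩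
def c3418 : Clm := ⟨6, 6, true, [10,13,5,12,9,11,12,9,2,13,4,12,6,13,4], [1,5,13,12,8,11,10,12,2,4,5,7,13,3,6,6], 17, [([], 656, [10,13,3,5,12,8,13]), ([170,111], 213, [5,9,10,12,13,3]), ([370], 2661, [5,12,11,12,9,12,13,10,13])], []⟩
def c3419 : Clm := ⟨6, 6, true, [3,5,10,13,5,12,9,11,12,2,13,2,6,13,6,9], [10,13,5,12,9,11,12,9,2,13,4,12,6,13,4], 5, [([], 3418, [])], []⟩
def c3420 : Clm := ⟨6, 6, true, [9,10,13,3,12,9,11,12,11,2,13,12,4,7,9,12,11], [8,11,10,12,9,11,13,12,2,11,12,11,13,4,6], 11, [([], 922, [10,12,11,3,13,12,9]), ([], 688, [1,13,5,13,12,9,13,10]), ([171,100], 213, [1,11,5,11,12,13])], []⟩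
def c3421 : Clm := ⟨6, 6, true, [8,11,10,12,9,11,13,12,2,1,11,12,13,4,6], [9,10,13,3,12,9,11,12,11,2,13,12,4,7,9,12,11], 5, [([], 3420, [])], []⟩
def c3422 : Clm := ⟨6, 6, true, [1,5,9,10,13,12,9,11,12,2,6,13,4,6,5,12], [11,13,12,9,13,5,12,2,1,13,4,12,9,11], 17, [([], 1616, [8,11,3,12,13,10,11]), ([170,110], 213, [3,5,12,8,11,10,12]), ([373], 1875, [8,10,13,12,13,12,9,12,13])], []⟩
def c3423 : Clm := ⟨6, 6, true, [1,10,12,9,12,11,12,13,10,2,13,4,10,12,9,11], [1,5,9,10,13,12,9,11,12,2,6,13,4,6,5,12], 5, [([], 3422, [])], []⟩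
def c3424 : Clm := ⟨6, 6, true, [10,12,8,11,13,12,13,12,9,2,6,13,12,6,11,13], [11,12,9,12,11,12,13,2,1,4,12,11,10,12,11], 17, [([], 1094, [1,12,8,13,5,12,11,10]), ([100,98], 213, [3,11,10,13,12]), ([], 2795, [1,12,8,11,13,5,12,13])], []⟩
def c3425 : Clm := ⟨6, 6, true, [12,8,12,11,10,12,11,2,4,6,5,13,7,8], [10,12,8,11,13,12,13,12,9,2,6,13,12,6,11,13], 5, [([], 3424, [])], []⟩
def c3426 : Clm := ⟨6, 6, true, [11,10,13,12,13,10,12,9,2,1,13,4,7,5,9,11], [1,11,10,12,11,10,2,13,2,12,11,5,4], 11, [([], 2990, [11,12,13,10,13,10,12]), ([373], 1282, [1,9,11,5,10]), ([170,111,96], 213, [3,12,11,5,10,13])], []⟩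
def c3427 : Clm := ⟨6, 6, true, [1,9,13,12,8,13,5,10,2,4,3,12,4,12,11,10], [11,10,13,12,13,10,12,9,2,1,13,4,7,5,9,11], 5, [([], 3426, [])], []⟩
def c3428 : Clm := ⟨6, 6, true, [11,10,13,12,13,10,12,8,2,4,12,8,13,5,7,9], [1,9,13,12,8,13,5,10,2,4,3,12,4,12,11,10], 5, [([], 3427, [])], []⟩
def c3429 : Clm := ⟨6, 6, true, [1,9,13,12,11,10,13,12,11,2,1,4,12,9,13,2,3], [1,11,10,12,8,13,10,2,4,12,13,2,5], 11, [([], 709, [1,3,5,9,12,8]), ([228,226], 163, [5,9,13,12,13,10,13,12,8]), ([171,98,96], 213, [1,8,11,10,13,12])], []⟩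
def c3430 : Clm := ⟨6, 6, true, [9,10,12,13,5,10,12,9,2,4,5,13,12,4], [1,9,13,12,11,10,13,12,11,2,1,4,12,9,13,2,3], 5, [([], 3429, [])], []⟩
def c3431 : Clm := ⟨5, 6, true, [3,9,12,9,11,5,12,11,10,4,5,10,12,4,8], [3,5,10,12,13,10,12,9,11,2,13,12,4,13,6], 11, [([], 977, [8,12,9,11,5,10,13,12]), ([373], 644, [11,12,8,12,11,12,9,11]), ([110,104,98], 213, [1,9,11,13,5,12])], []⟩
def c3432 : Clm := ⟨6, 5, true, [11,12,13,10,13,2,1,7,13,2,6,9], [3,9,12,9,11,5,12,11,10,4,5,10,12,4,8], 5, [([], 3431, [])], []⟩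
def c3433 : Clm := ⟨6, 6, true, [9,12,9,11,10,12,11,13,5,2,4,3,7,13,7,5,13], [1,11,10,12,13,2,13,2,13,12,13,4], 11, [([], 1807, [1,12,11,13,10,12,8,11]), ([370], 777, [9,12,9,11,13]), ([110,104,98], 213, [13,3,12,13,10])], []⟩
def c3434 : Clm := ⟨6, 6, true, [3,5,13,10,12,13,2,4,5,11,12,11,13,4], [9,12,9,11,10,12,11,13,5,2,4,3,7,13,7,5,13], 5, [([], 3433, [])], []⟩
def c3435 : Clm := ⟨6, 6, true, [9,13,12,9,11,12,2,13,4,6,13,2], [5,13,5,10,12,9,13,2,1,11,10,12,11,2], 11, [([], 1996, [1,11,13,10,12,8,13,12,9]), ([373,370], 777, [10,11,3,13,12,9,12]), ([100,98], 213, [1,9,11,13,12])], []⟩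
def c3436 : Clm := ⟨6, 6, true, [11,12,8,13,10,13,2,1,6,13,2,7,8], [9,13,12,9,11,12,2,13,4,6,13,2], 5, [([], 3435, [])], []⟩
def c3437 : Clm := ⟨6, 6, true, [11,10,12,13,12,2,4,12,13,2,6,12,6], [9,12,8,11,5,11,5,12,13,2,4,7,13,12,7,11,2], 11, [([], 627, [1,10,12,13,12,8,13]), ([110,98,96], 159, [5,9,11,5,12,13,12,9]), ([96,171,98], 213, [12,13,3,5])], []⟩
def c3438 : Clm := ⟨6, 6, true, [3,8,11,10,12,9,11,13,5,2,4,12,11,13,12,6], [11,10,12,13,12,2,4,12,13,2,6,12,6], 5, [([], 3437, [])], []⟩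
def c3439 : Clm := ⟨6, 6, true, [1,9,13,10,13,10,12,8,13,2,1,13,12,11,2,3,13], [8,10,12,9,11,3,12,2,4,3,7,9,12,11], 11, [([], 1259, [8,12,9,11,13,12,13,5]), ([], 826, [1,5,8,10,13,12,11,12,9]), ([110,104,96], 213, [3,9,13,12,11,10,12])], []⟩
def c3440 : Clm := ⟨6, 6, true, [8,10,12,9,11,3,12,2,4,7,9,12,11], [1,9,13,10,13,10,12,8,13,2,1,13,12,11,2,3,13], 5, [([], 3439, [])], []⟩
def c3441 : Clm := ⟨6, 6, true, [1,9,13,10,13,10,12,8,13,2,1,13,12,11,2,13], [8,10,12,9,11,3,12,2,4,7,9,12,11], 5, [([], 3440, [])], []⟩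
def c3442 : Clm := ⟨6, 6, true, [3,9,13,10,12,8,13,2,4,5,12,13,3,10,12], [3,9,10,12,9,13,12,2,4,3,5,12,7,11], 11, [([], 658, [1,10,12,11,12,8,13,12,9]), ([228,226], 171, [3,9,10,13,10,12,8,11,13]), ([111,102,170], 213, [3,8,10,13,12,13])], []⟩
def c3443 : Clm := ⟨6, 6, true, [3,9,10,12,13,5,12,9,2,4,3,5,12,4], [3,9,13,10,12,8,13,2,4,5,12,13,3,10,12], 5, [([], 3442, [])], []⟩
def c3444 : Clm := ⟨6, 6, true, [1,11,12,8,11,12,11,10,13,2,4,12,11,3,13], [10,12,9,11,12,13,10,2,1,6,13,12,4,6], 17, [([], 512, [3,12,9,11,10,12,11,10]), ([171,110], 213, [3,5,8,10,11,12,13]), ([372,370], 2668, [5,11,12,8,11,13])], []⟩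
def c3445 : Clm := ⟨6, 6, true, [5,10,11,3,12,8,12,11,10,2,13,12,8,13,4], [1,11,12,8,11,12,11,10,13,2,4,12,11,3,13], 5, [([], 3444, [])], []⟩
def c3446 : Clm := ⟨6, 6, true, [5,11,13,12,13,5,12,9,2,1,13,12,4,10,11], [3,8,10,12,9,13,5,12,2,4,12,8,11,5,10], 17, [([], 512, [12,11,3,10,12,8]), ([171,111,104], 213, [3,9,13,5,10,12,13,12]), ([370], 2500, [12,13,10,12,8,12,11,12])], []⟩
def c3447 : Clm := ⟨6, 6, true, [11,3,12,9,11,12,11,2,4,6,13,7,5,9], [5,11,13,12,13,5,12,9,2,1,13,12,4,10,11], 5, [([], 3446, [])], []⟩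
def c3448 : Clm := ⟨6, 6, true, [1,8,10,11,10,12,11,12,9,2,4,6,5,13,6,5,4], [12,8,13,12,13,10,12,8,2,4,12,11,5,11,12,9], 11, [([], 1616, [12,8,11,10,12,8,13]), ([111,98,96], 213, [3,8,11,12,13,10]), ([370], 1949, [12,11,12,8,11,12,13,10])], []⟩
def c3449 : Clm := ⟨6, 6, true, [12,8,13,12,13,12,2,6,13,4,6,13,5], [1,8,10,11,10,12,11,12,9,2,4,6,5,13,6,5,4], 5, [([], 3448, [])], []⟩
def c3450 : Clm := ⟨5, 6, true, [1,8,12,9,11,12,8,13,10,2,4,3,6,13,7,12,9], [9,12,13,5,12,13,2,6,13,5,10,12,8], 11, [([], 163, [1,11,5,10,12,8,13,12,9]), ([110,110], 213, [11,3,10,13,12]), ([373], 1795, [3,5,10,13,5,12,9,13])], []⟩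
def c3451 : Clm := ⟨6, 5, true, [8,12,8,13,12,8,11,2,6,13,6,5,10,13], [1,8,12,9,11,12,8,13,10,2,4,3,6,13,7,12,9], 5, [([], 3450, [])], []⟩
def c3452 : Clm := ⟨6, 6, true, [8,12,11,5,12,9,11,13,10,2,13,6,13,12,4,6], [12,9,11,12,9,13,2,13,2,12,13,7], 13, [([], 3445, [1,5,12,8,13,5,12,11,10]), ([373,370], 495, [13,3,10,13,12,9,11,13]), ([110,100], 213, [9,12,9,11,3,10,12])], []⟩
def c3453 : Clm := ⟨6, 6, true, [1,12,9,11,12,9,11,5,10,2,4,13,5,12,13,7], [8,12,11,5,12,9,11,13,10,2,13,6,13,12,4,6], 5, [([], 3452, [])], []⟩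
def c3454 : Clm := ⟨6, 6, true, [3,8,11,12,11,12,13,2,1,6,13,7,9,12,4], [1,12,9,11,12,9,11,5,10,2,4,13,5,12,13,7], 5, [([], 3453, [])], []⟩
def c3455 : Clm := ⟨6, 6, true, [13,3,10,11,12,2,7,9,11,12,4], [3,9,10,12,8,11,13,12,11,2,4,7,12,13,3,12,7], 13, [([], 217, [13,3,5,12,8,13]), ([96,170], 213, [12,8,12,13,3,12]), ([373,370], 3008, [1,5,9,11,12,8,13,10,12])], []⟩
def c3456 : Clm := ⟨6, 6, true, [3,9,10,12,8,11,13,12,11,2,1,4,7,12,13,12,7], [13,3,10,11,12,2,7,9,11,12,4], 5, [([], 3455, [])], []⟩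
def c3457 : Clm := ⟨4, 6, true, [5,9,13,12,11,10,12,13,2,4,12,13,6,6,5], [1,5,8,11,10,12,13,12,8,2,6,11,12,13,4], 13, [([], 107, [3,12,8,11,12,13]), ([171,104], 213, [9,11,3,13,12]), ([373], 3033, [10,12,9,11,12,13,12,8,12])], []⟩
def c3458 : Clm := ⟨6, 4, true, [3,5,12,9,11,10,12,11,2,7,13,6,5,4,7], [5,9,13,12,11,10,12,13,2,4,12,13,6,6,5], 5, [([], 3457, [])], []⟩
def c3459 : Clm := ⟨4, 6, true, [11,12,11,5,10,12,8,13,2,11,12,13,4,6,8], [3,5,12,9,11,10,12,11,2,7,13,6,5,4,7], 5, [([], 3458, [])], []⟩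
def c3460 : Clm := ⟨6, 6, true, [9,12,8,13,10,13,10,12,2,6,13,6,9,10,13], [8,13,3,12,9,12,11,12,8,2,7,9,13,2,12,11,3], 45, [([], 1094, [3,11,13,10,12,9,12,11]), ([110,104,96], 213, [1,3,9,10]), ([373], 3231, [5,9,11,5])], []⟩
def c3461 : Clm := ⟨6, 6, true, [11,13,12,11,10,12,9,12,11,2,4,12,9,13,6,9,10], [9,12,8,13,10,13,10,12,2,6,13,6,9,10,13], 5, [([], 3460, [])], []⟩
def c3462 : Clm := ⟨6, 6, true, [1,8,12,9,13,10,12,8,11,2,11,10,12,4,8,13], [11,13,12,11,10,12,9,12,11,2,4,12,9,13,6,9,10], 5, [([], 3461, [])], []⟩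
def c3463 : Clm := ⟨6, 6, true, [11,10,12,8,11,12,11,5,2,1,4,12,8,13,6,8], [1,5,9,10,13,12,11,12,2,11,13,2,7,9], 47, [([], 2772, [11,13,5,12,8,13,12]), ([373], 272, [10,11,13,12,9,12,11,5,10]), ([104,102], 213, [3,8,13,10,12])], []⟩
def c3464 : Clm := ⟨6, 6, true, [1,9,12,13,10,13,12,13,2,1,13,4,7,9], [11,10,12,8,11,12,11,5,2,1,4,12,8,13,6,8], 5, [([], 3463, [])], []⟩
def c3465 : Clm := ⟨6, 6, true, [11,10,12,8,11,12,11,5,2,4,12,8,13,3,6,8], [1,9,12,13,10,13,12,13,2,1,13,4,7,9], 5, [([], 3464, [])], []⟩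
def c3466 : Clm := ⟨6, 6, true, [8,10,13,10,12,9,11,13,5,2,1,13,6,5,9,10], [5,12,13,5,10,12,9,11,2,7,13,7,7,10], 9, [([], 436, [8,11,3,12,8,13,12,13]), ([372], 215, [1,8,12,9,11,13,12,9,13]), ([373], 435, [11,13,12,8,12,11,12,11])], []⟩
def c3467 : Clm := ⟨6, 6, true, [5,12,13,12,9,11,10,13,2,1,7,13,7,7,10], [8,10,13,10,12,9,11,13,5,2,1,13,6,5,9,10], 5, [([], 3466, [])], []⟩
def c3468 : Clm := ⟨6, 6, true, [3,5,9,12,11,5,12,9,2,11,12,11,2,13], [1,12,9,11,12,11,13,12,13,2,1,4,7,12,9,11], 13, [([], 215, [1,9,10,13,5,12,13,10,12]), ([], 457, [1,13,5,12,8,11,12,11]), ([373], 1981, [10,13,12,8,13,12,8])], []⟩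
def c3469 : Clm := ⟨6, 6, true, [1,12,9,11,12,11,13,12,13,2,4,7,12,9,11,3], [3,5,9,12,11,5,12,9,2,11,12,11,2,13], 5, [([], 3468, [])], []⟩
def c3470 : Clm := ⟨6, 6, true, [12,13,12,9,13,10,13,10,2,1,13,4,5,7,9], [1,11,12,8,11,12,2,4,5,6,13,3,6], 15, [([], 2978, [9,13,5,10,11,12,8,13,10]), ([370], 215, [9,11,3,10,13]), ([373], 1344, [12,9,11,3,12,13,10,11])], []⟩
def c3471 : Clm := ⟨6, 6, true, [1,11,12,8,11,12,2,1,4,5,6,13,6], [12,13,12,9,13,10,13,10,2,1,13,4,5,7,9], 5, [([], 3470, [])], []⟩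
def c3472 : Clm := ⟨6, 6, true, [5,9,11,5,10,12,11,2,7,9,13,2,7], [12,9,13,12,11,10,12,8,2,1,4,12,11,5,7,9], 15, [([], 2404, [3,8,12,13,5,12,13,10]), ([], 215, [1,9,10,13,5,12,13,12]), ([], 1769, [8,11,3,12,13,10,13])], []⟩
def c3473 : Clm := ⟨6, 6, true, [9,12,13,10,11,12,11,2,1,7,13,2,6,6,12], [5,9,11,5,10,12,11,2,7,9,13,2,7], 5, [([], 3472, [])], []⟩
def c3474 : Clm := ⟨6, 6, true, [11,5,12,2,4,12,13,2,6], [1,8,10,13,10,12,11,13,12,2,11,12,4,7,9], 15, [([], 2891, [5,9,11,12,11,13,12,9,13]), ([372], 215, [1,13,5,12,9,13,12,9,13]), ([], 565, [9,12,9,11,3])], []⟩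
def c3475 : Clm := ⟨6, 6, true, [1,8,10,13,10,12,11,13,12,2,1,11,12,4,3,7,9], [11,5,12,2,4,12,13,2,6], 5, [([], 3474, [])], []⟩
def c3476 : Clm := ⟨6, 6, true, [3,13,10,13,12,11,10,2,1,4,12,13,6,12,6], [12,11,13,5,12,8,11,2,4,12,13,2,3,7,13], 15, [([], 2760, [13,12,9,11,13,12,13]), ([372], 215, [8,12,11,10,12,11,12,8]), ([373], 1344, [3,8,10,12,8,11,13,12])], []⟩
def c3477 : Clm := ⟨6, 6, true, [12,11,13,5,12,8,11,2,4,12,13,2,7,13], [3,13,10,13,12,11,10,2,1,4,12,13,6,12,6], 5, [([], 3476, [])], []⟩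
def c3478 : Clm := ⟨6, 6, true, [12,13,5,10,12,8,13,5,2,4,5,7,7,13,12,8], [3,13,5,10,13,12,8,11,12,2,1,13,5,6,5,6], 13, [([], 215, [13,12,9,11,12,9,11,5]), ([], 565, [9,12,9,11,3,13]), ([373], 2703, [1,9,10,13,5,12,13])], []⟩
def c3479 : Clm := ⟨6, 6, true, [1,9,11,12,8,11,12,8,11,5,2,13,5,6,5,6], [12,13,5,10,12,8,13,5,2,4,5,7,7,13,12,8], 5, [([], 3478, [])], []⟩
def c3480 : Clm := ⟨6, 6, true, [11,12,11,12,9,12,13,10,11,2,7,11,12,4,13,6], [9,11,10,12,11,12,8,11,5,2,1,13,4,5,12,7], 15, [([], 2048, [9,13,10,13,10,12,13,10]), ([370], 215, [12,9,11,12,9,11,10]), ([373], 1466, [11,5,12,8,11,13,10,12])], []⟩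
def c3481 : Clm := ⟨6, 6, true, [5,8,12,9,11,5,11,12,11,2,4,5,13,12,7], [11,12,11,12,9,12,13,10,11,2,7,11,12,4,13,6], 5, [([], 3480, [])], []⟩
def c3482 : Clm := ⟨6, 6, true, [5,11,13,12,9,13,12,11,2,13,4,7,5,11,2], [1,9,12,8,11,13,10,12,8,2,6,13,12,9,12], 17, [([], 2233, [1,5,9,13,12,9]), ([], 215, [9,13,10,13,10]), ([372], 2814, [5,13,5,12,8,13,12,13])], []⟩
def c3483 : Clm := ⟨6, 6, true, [1,9,12,8,11,13,12,8,2,1,6,13,12,9,12], [5,11,13,12,9,13,12,11,2,13,4,7,5,11,2], 5, [([], 3482, [])], []⟩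
def c3484 : Clm := ⟨6, 6, true, [9,11,12,8,11,5,12,9,2,11,13,2,7,13,2], [1,9,12,8,11,13,12,8,2,1,6,13,12,9,12], 5, [([], 3483, [])], []⟩
def c3485 : Clm := ⟨6, 6, true, [5,12,8,13,12,8,11,13,2,6,13,2,7], [5,9,13,12,11,10,2,4,6,13,7,5,13,7], 17, [([], 855, [13,10,12,9,11,13,12,8]), ([372], 215, [1,5,9,12,11,13,10,12]), ([370], 2669, [8,11,13,10,12,9,12,11,13])], []⟩
def c3486 : Clm := ⟨6, 6, true, [5,9,13,12,11,10,2,4,7,7,13,12,6,11], [5,12,8,13,12,8,11,13,2,6,13,2,7], 5, [([], 3485, [])], []⟩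
def c3487 : Clm := ⟨5, 6, true, [5,12,8,11,12,11,10,2,4,5,7,13,6,6], [3,9,12,11,5,10,12,8,2,4,5,7,12], 17, [([], 912, [10,12,9,13,3,12,13]), ([370], 215, [1,9,10,12,13,12,13]), ([372,370], 1651, [3,5,9,13,12,8,11,10,13])], []⟩
def c3488 : Clm := ⟨6, 5, true, [3,9,12,11,5,10,12,8,4,5,7,10,2,12], [5,12,8,11,12,11,10,2,4,5,7,13,6,6], 5, [([], 3487, [])], []⟩
def c3489 : Clm := ⟨6, 6, true, [8,10,12,9,13,12,8,2,13,2,7,13,2,12,11], [3,5,8,10,11,12,9,11,2,4,12,11,5,7], 17, [([], 2378, [3,8,10,11,5]), ([], 215, [1,9,13,10,13,10]), ([], 1070, [3,11,10,13])], []⟩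
def c3490 : Clm := ⟨6, 6, true, [3,5,8,10,11,12,9,11,2,4,3,12,11,5,7], [8,10,12,9,13,12,8,2,13,2,7,13,2,12,11], 5, [([], 3489, [])], []⟩
def c3491 : Clm := ⟨6, 6, true, [3,9,11,12,13,12,8,4,7,10,12,4], [8,12,11,3,12,4,7,10,12,4,6], 31, [([], 2866, [5,8,11,12,9,13,12]), ([], 215, [1,9,10,13,10,12,9,13,10]), ([], 3467, [8,13,12,8,13,5,12,11,13]), ([], 566, [12,8,11,5,12,11]), ([], 460, [3,12,11,12,9,12,11]), ([], 557, [12,13,12,9,12,13]), ([], 2894, [12,9,13,12,13,12,9,12])], []⟩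
def c3492 : Clm := ⟨6, 6, true, [1,10,11,12,8,12,11,10,4,5,7,7,10,13,4], [3,9,11,12,13,12,8,4,7,10,12,4], 5, [([], 3491, [])], []⟩
def c3493 : Clm := ⟨6, 6, true, [10,13,2,1,4,13,6,5,13,6], [13,5,10,11,12,13,12,9,2,7,11,12,11,13,2,4], 45, [([], 2963, [11,12,11,12,9,12,11]), ([370], 215, [1,9,13,5,10,11,12,13]), ([373,370], 2275, [3,13,10,12,9,13,10,12,8])], []⟩
def c3494 : Clm := ⟨6, 6, true, [3,12,8,11,13,12,2,7,13,12,4,8,12,6], [10,13,2,1,4,13,6,5,13,6], 5, [([], 3493, [])], []⟩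
def c3495 : Clm := ⟨6, 6, true, [12,11,12,9,11,5,10,13,2,4,12,13,12,7,9], [5,12,11,13,10,12,9,2,4,13,12,13,4], 43, [([], 215, [1,9,10,13,10,12,13,12]), ([370], 670, [9,10,13,12,11,10,13,12,11]), ([], 3494, [1,12,8,12,11,13,12,9])], []⟩
def c3496 : Clm := ⟨6, 6, true, [5,12,11,13,10,12,9,2,1,4,13,12,11,13,4], [12,11,12,9,11,5,10,13,2,4,12,13,12,7,9], 5, [([], 3495, [])], []⟩
def c3497 : Clm := ⟨6, 6, true, [12,8,12,11,13,2,1,4,12,13,2,7], [5,12,11,13,10,12,9,2,1,4,13,12,11,13,4], 5, [([], 3496, [])], []⟩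
def c3498 : Clm := ⟨6, 6, true, [10,12,9,11,12,11,5,2,1,4,12,7,8,11,12], [5,9,12,11,12,9,12,2,13,4,12,4,3,7], 15, [([], 2738, [1,5,9,12,13,5,10]), ([171,104,96], 218, [8,11,3,13,12,13,10]), ([], 1353, [9,10,13,12,13,10,13])], []⟩
def c3499 : Clm := ⟨6, 6, true, [9,12,9,13,10,13,12,2,11,12,7,9,13,4], [8,10,11,3,5,12,9,2,7,13,7,12,4,9], 15, [([], 1094, [8,13,12,13,10,12]), ([96,171,110], 218, [1,12,8,11,12]), ([], 1036, [1,11,12,8,11,5,11])], []⟩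
def c3500 : Clm := ⟨6, 6, true, [9,13,3,10,11,2,11,12,7,11,12,4], [9,12,9,13,10,13,12,2,11,12,7,9,13,4], 5, [([], 3499, [])], []⟩
def c3501 : Clm := ⟨6, 6, true, [3,11,10,12,9,11,13,5,2,7,13,7,12,4,5], [11,3,12,9,13,10,12,9,2,7,7,13,6,8], 15, [([], 656, [3,13,12,11,10,12,11,12]), ([110,170,104], 218, [3,5,10,12,13,12]), ([372,370], 1353, [3,8,12,13,12,9,11])], []⟩
def c3502 : Clm := ⟨6, 6, true, [11,3,12,9,13,12,9,2,1,7,7,13,6,8], [3,11,10,12,9,11,13,5,2,7,13,7,12,4,5], 5, [([], 3501, [])], []⟩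
def c3503 : Clm := ⟨6, 6, true, [11,12,11,12,8,13,12,2,4,13,6,10,13,12], [1,12,13,10,12,8,11,13,12,2,13,7,9], 15, [([], 361, [9,10,12,8,11,12,13]), ([111,171,102], 218, [3,9,12,11,5,10]), ([], 1367, [8,11,5,11,12,11,12])], []⟩
def c3504 : Clm := ⟨6, 6, true, [5,11,12,11,12,8,13,12,2,1,13,7,9], [11,12,11,12,8,13,12,2,4,13,6,10,13,12], 5, [([], 3503, [])], []⟩
def c3505 : Clm := ⟨6, 6, true, [1,10,13,12,8,12,13,12,13,2,13,2,13,6,13,12], [5,11,12,11,12,8,13,12,2,1,13,7,9], 5, [([], 3504, [])], []⟩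
def c3506 : Clm := ⟨6, 6, true, [3,11,10,12,13,10,12,13,2,1,4,5,12,11], [9,13,5,10,13,2,6,11,12,11,13,4], 11, [([], 387, [5,9,13,12,9,13]), ([372,370], 243, [1,9,10,12,13,10,12,11,12]), ([96,171,110], 218, [5,12,9,13,3,12])], []⟩
def c3507 : Clm := ⟨6, 6, true, [9,13,5,10,13,2,1,6,11,12,13,4], [3,11,10,12,13,10,12,13,2,1,4,5,12,11], 5, [([], 3506, [])], []⟩
def c3508 : Clm := ⟨5, 6, true, [1,8,10,12,13,12,2,4,6,13,5,12,11], [3,11,13,12,13,10,12,9,2,13,2,13,12,13,4], 11, [([], 722, [3,13,12,9,11,12,11,12]), ([373,370], 361, [11,10,13,12,9,11,12,8]), ([104,171,96], 218, [3,9,11,13,12,13,10])], []⟩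
def c3509 : Clm := ⟨6, 5, true, [3,10,12,13,10,13,12,9,2,4,5,11,12,11,13,4], [1,8,10,12,13,12,2,4,6,13,5,12,11], 5, [([], 3508, [])], []⟩
def c3510 : Clm := ⟨5, 6, true, [9,12,13,3,10,13,12,9,2,7,13,2,12,11], [3,10,12,13,10,13,12,9,2,4,5,11,12,11,13,4], 5, [([], 3509, [])], []⟩
def c3511 : Clm := ⟨6, 6, true, [9,11,13,10,12,13,2,4,7,12,13,2,5,7], [1,5,12,11,5,12,9,2,11,5,12,11,2], 11, [([], 1841, [1,10,11,10,12,9,13]), ([373,370], 627, [11,12,9,13,12,8,11]), ([98,170,111,96], 218, [1,3,5,9,12])], []⟩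
def c3512 : Clm := ⟨6, 6, true, [5,12,11,3,5,12,8,2,6,13,7,8,13,2], [9,11,13,10,12,13,2,4,7,12,13,2,5,7], 5, [([], 3511, [])], []⟩
def c3513 : Clm := ⟨6, 6, true, [9,10,13,5,12,11,2,1,6,13,7,13,2,13], [5,12,11,3,5,12,8,2,6,13,7,8,13,2], 5, [([], 3512, [])], []⟩
def c3514 : Clm := ⟨6, 6, true, [13,12,9,13,5,13,12,13,2,13,6,5,10,13,4], [9,11,10,13,12,8,11,12,13,2,11,5,6,13,2,4], 11, [([], 1296, [1,9,12,11,13,5,10,12]), ([], 218, [8,10,13,5,13,12]), ([373], 2722, [8,13,12,9,12,11,13,12])], []⟩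
def c3515 : Clm := ⟨6, 6, true, [3,10,12,8,13,5,12,9,11,2,4,13,5,6,13,2,4], [13,12,9,13,5,13,12,13,2,13,6,5,10,13,4], 5, [([], 3514, [])], []⟩
def c3516 : Clm := ⟨6, 6, true, [1,5,13,12,13,10,13,12,9,2,7,13,2,12,11,12,9], [1,11,12,8,13,10,12,2,4,12,7,13,7,8,10], 11, [([], 768, [12,8,13,12,9,13]), ([98,171], 218, [3,10,11,5,12]), ([373,370], 2571, [5,11,10,12,11,12,8])], []⟩
def c3517 : Clm := ⟨6, 6, true, [5,13,12,13,10,12,9,11,2,11,5,12,4,10,12,4], [1,5,13,12,13,10,13,12,9,2,7,13,2,12,11,12,9], 5, [([], 3516, [])], []⟩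
def c3518 : Clm := ⟨6, 6, true, [3,9,11,10,12,11,2,7,9,11,12,4,13,5], [5,13,12,13,10,12,9,11,2,11,5,12,4,10,12,4], 5, [([], 3517, [])], []⟩
def c3519 : Clm := ⟨6, 6, true, [9,10,11,12,11,5,11,2,1,13,7,9,12,4], [1,12,13,10,12,11,12,13,2,1,4,5], 13, [([], 1883, [3,9,11,13,12,11]), ([372], 826, [3,5,9,10,11,12,11,13]), ([110,104,102], 218, [3,13,10,11,12])], []⟩
def c3520 : Clm := ⟨6, 6, true, [1,12,13,10,12,11,12,13,2,4,3,5], [9,10,11,12,11,5,11,2,1,13,7,9,12,4], 5, [([], 3519, [])], []⟩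
def c3521 : Clm := ⟨6, 5, true, [1,5,12,9,11,13,12,13,2,4,12,4,13,6], [13,10,13,10,13,12,8,4,6,12,4,10,4], 13, [([], 1312, [13,10,12,9,12,13,10]), ([100], 218, [3,8,11,13,12,13,10]), ([], 976, [1,13,5,13,12,9,12])], []⟩
def c3522 : Clm := ⟨5, 6, true, [1,5,10,13,5,12,8,4,6,12,4,10,4,3], [1,5,12,9,11,13,12,13,2,4,12,4,13,6], 5, [([], 3521, [])], []⟩
def c3523 : Clm := ⟨5, 6, true, [5,9,12,11,12,8,13,10,13,2,7,11,5,4,6,13], [3,9,10,11,12,9,13,10,2,6,13,6,5,4,10,12], 13, [([], 116, [5,9,12,8,11,13,12,13,5,13]), ([96,171,111], 218, [8,13,3,12]), ([372,370], 1405, [9,10,13,12,13,10,11])], []⟩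
def c3524 : Clm := ⟨6, 5, true, [5,8,11,13,10,12,13,12,2,13,2,12,13,4,7], [5,9,12,11,12,8,13,10,13,2,7,11,5,4,6,13], 5, [([], 3523, [])], []⟩
def c3525 : Clm := ⟨6, 6, true, [3,8,10,12,11,12,9,2,4,3,6,12,13,6], [3,8,12,11,12,9,11,2,11,13,2,7,9], 47, [([], 1590, [3,9,12,11,12,8,11]), ([373], 650, [3,11,10,12,9,13]), ([], 218, [1,3,9,10,12])], []⟩
def c3526 : Clm := ⟨6, 6, true, [5,8,12,13,3,5,10,12,9,11,2,1,13,4,7,9], [3,8,10,12,11,12,9,2,4,3,6,12,13,6], 5, [([], 3525, [])], []⟩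
def c3527 : Clm := ⟨6, 6, true, [12,9,12,11,3,5,12,2,13,2,12,4,8,12,8], [11,10,13,12,9,11,2,1,7,9,13,12,13], 15, [([], 1299, [5,11,5,12,9,11,13,12,8]), ([370], 217, [1,5,13,5,10,12]), ([100,170,102], 767, [5,11,13,10,12,13])], []⟩
def c3528 : Clm := ⟨6, 6, true, [11,10,13,12,9,11,10,2,1,7,9,13,12,13], [12,9,12,11,3,5,12,2,13,2,12,4,8,12,8], 5, [([], 3527, [])], []⟩
def c3529 : Clm := ⟨6, 6, true, [1,9,10,12,13,10,12,9,2,7,7,13,12,11,10,2], [8,11,12,11,5,11,5,12,8,13,2,7,11,12,7,11,2], 15, [([], 2341, [11,13,12,8,12,11,12,11]), ([], 221, [9,13,12]), ([370], 3492, [3,8,11,12,8,11,12,9])], []⟩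
def c3530 : Clm := ⟨6, 6, true, [8,11,5,11,5,12,11,13,12,8,2,13,7,7,13,2], [1,9,10,12,13,10,12,9,2,7,7,13,12,11,10,2], 5, [([], 3529, [])], []⟩
def c3531 : Clm := ⟨6, 6, true, [5,12,13,12,11,10,13,12,2,6,13,12,4,9], [13,12,8,13,12,9,13,2,1,13,6,12,11,2,1], 13, [([], 221, [5,11,3,5,12]), ([370], 563, [12,8,11,13,12,13,5]), ([373], 3427, [8,10,13,10,13,12,11,12,9])], []⟩
def c3532 : Clm := ⟨6, 6, true, [3,10,12,9,11,12,8,2,6,6,13,4,12,7], [5,12,13,12,11,10,13,12,2,6,13,12,4,9], 5, [([], 3531, [])], []⟩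
def c3533 : Clm := ⟨6, 5, true, [5,8,10,13,3,2,7,13,12,4,6,6], [9,10,13,12,13,10,12,8,2,1,13,4,12,8,11], 13, [([], 221, [8,11,3,13,12]), ([370], 2865, [1,11,13,5,12,8,13,12,13]), ([372,370], 662, [1,10,12,9,12,13,10,12,13])], []⟩
def c3534 : Clm := ⟨5, 6, true, [1,8,13,12,9,11,13,5,12,2,13,4,10,12,8,11], [5,8,10,13,3,2,7,13,12,4,6,6], 5, [([], 3533, [])], []⟩
def c3535 : Clm := ⟨6, 6, true, [1,12,13,5,13,2,7,13,2,6,11,13], [9,12,9,11,10,13,12,11,2,13,4,6,9,12,13,7], 15, [([], 624, [10,11,12,13,10,12,13,12,11]), ([370], 221, [8,13,3,10,12]), ([], 2560, [9,11,12,11,5,11,5,12,13])], []⟩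
def c3536 : Clm := ⟨6, 6, true, [12,13,12,13,5,10,13,12,2,11,5,6,10,13,2,13], [1,12,13,5,13,2,7,13,2,6,11,13], 5, [([], 3535, [])], []⟩
def c3537 : Clm := ⟨6, 6, true, [3,10,12,9,13,10,12,11,13,2,13,2,12,13,6], [8,13,3,5,10,12,2,6,9,13,2,7,12,13], 17, [([], 1927, [3,9,12,8,13,10,11,12,11]), ([], 221, [3,12,9,11,10,13,12]), ([372], 612, [1,11,10,12,8,11,12,9,13])], []⟩
def c3538 : Clm := ⟨6, 6, true, [9,10,13,10,12,8,13,2,1,4,12,4,13,12,7,7], [3,10,12,9,13,10,12,11,13,2,13,2,12,13,6], 5, [([], 3537, [])], []⟩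
def c3539 : Clm := ⟨6, 6, true, [1,9,2,4,3,12,13,2], [9,12,9,13,5,10,12,2,4,12,11,13,5], 15, [([], 221, [3,13,5,10,13,12]), ([372], 1748, [3,5,13,5,10,12,8,11,12]), ([373], 2666, [1,8,11,10,12,9,13,10])], []⟩
def c3540 : Clm := ⟨6, 6, true, [9,12,9,13,5,10,12,2,1,4,5,12,11,13], [1,9,2,4,3,12,13,2], 5, [([], 3539, [])], []⟩
def c3541 : Clm := ⟨6, 6, true, [5,12,11,5,12,9,11,13,2,4,3,12,11,5,4], [9,12,9,13,5,10,12,2,1,4,5,12,11,13], 5, [([], 3540, [])], []⟩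
def c3542 : Clm := ⟨6, 6, true, [8,13,12,9,13,12,8,13,5,2,7,9,11,12,4,12], [3,10,12,11,5,12,9,2,4,12,7,13,2,5,7], 11, [([], 2627, [1,9,12,13,10,12,8]), ([372], 829, [3,10,12,8,13,10,12,11]), ([372], 221, [10,12,9,11,3,5,12])], []⟩
def c3543 : Clm := ⟨6, 6, true, [9,10,13,5,12,11,12,2,1,6,13,4,12,4,7], [8,13,12,9,13,12,8,13,5,2,7,9,11,12,4,12], 5, [([], 3542, [])], []⟩
def c3544 : Clm := ⟨6, 6, true, [1,8,12,8,13,5,13,12,9,2,6,13,2,7,7,13,7], [5,9,11,13,10,2,1,13,6,5,10,11], 17, [([], 1358, [8,11,13,12,8,11,13]), ([], 221, [5,12,13,10]), ([], 2597, [8,13,12,9,12,13,12,13])], []⟩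
def c3545 : Clm := ⟨6, 6, true, [5,9,11,13,10,2,13,6,5,10,11], [1,8,12,8,13,5,13,12,9,2,6,13,2,7,7,13,7], 5, [([], 3544, [])], []⟩
def c3546 : Clm := ⟨6, 6, true, [13,12,8,12,13,12,9,2,7,13,4,12], [11,5,12,11,12,11,2,4,12,6,13,7,7,5], 17, [([], 1435, [3,5,13,5,10,12,9,11]), ([372], 221, [3,8,12,11,5,10,13]), ([370], 2489, [3,8,10,12,11,10])], []⟩
def c3547 : Clm := ⟨6, 6, true, [1,11,5,11,12,11,2,1,13,12,13,4,7,12], [13,12,8,12,13,12,9,2,7,13,4,12], 5, [([], 3546, [])], []⟩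
def c3548 : Clm := ⟨6, 6, true, [3,5,8,10,11,12,9,13,12,2,13,12,8,13,2,4], [1,11,5,12,9,13,2,1,11,12,11,2], 11, [([], 773, [11,10,12,8,13,12,9,13,5]), ([252], 3247, [9,10,13,5,13,12,9]), ([], 221, [9,13,3,10,12])], []⟩
def c3549 : Clm := ⟨6, 6, true, [1,11,5,12,9,13,2,1,11,12,11,10,2], [3,5,8,10,11,12,9,13,12,2,13,12,8,13,2,4], 5, [([], 3548, [])], []⟩
def c3550 : Clm := ⟨6, 6, true, [9,12,11,3,13,12,13,10,2,4,12,6,5,13,2], [9,12,9,13,12,8,13,10,2,4,6,12,11,13,5], 11, [([], 1579, [11,13,5,12,8,11,12]), ([370], 2675, [1,5,12,9,11,10,12,13]), ([372], 221, [3,5,9,12,11,12,13,10])], []⟩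
def c3551 : Clm := ⟨6, 6, true, [8,10,12,11,5,12,13,2,13,4,12,4,8], [9,12,11,3,13,12,13,10,2,4,12,6,5,13,2], 5, [([], 3550, [])], []⟩
def c3552 : Clm := ⟨6, 5, true, [8,10,12,13,12,9,13,5,2,7,7,13,2,11,12,6], [1,5,8,11,13,10,12,9,13,10,2,1,7,11,12,4], 17, [([], 1896, [13,5,10,13,12,8,11]), ([], 221, [3,9,13,10,13,12]), ([372], 1655, [3,8,10,13,10,12,13,12])], []⟩
def c3553 : Clm := ⟨5, 6, true, [1,5,8,11,13,10,12,9,13,10,2,7,11,12,4,3], [8,10,12,13,12,9,13,5,2,7,7,13,2,11,12,6], 5, [([], 3552, [])], []⟩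
def c3554 : Clm := ⟨6, 6, true, [13,12,8,12,11,5,11,12,2,4,6,13,10,12,8], [5,10,12,9,13,10,12,8,13,2,11,12,7,13,2,1,7], 17, [([], 3443, [1,8,12,13,5,10,11]), ([370], 221, [5,10,12,13,3,12]), ([370], 2181, [11,13,5,12,11,10])], []⟩
def c3555 : Clm := ⟨6, 6, true, [5,8,10,11,13,12,11,2,6,6,13,4,6,5,9], [13,12,8,12,11,5,11,12,2,4,6,13,10,12,8], 5, [([], 3554, [])], []⟩
def c3556 : Clm := ⟨6, 5, true, [1,13,12,9,13,12,8,11,13,2,13,2,12,8], [3,13,12,11,10,12,9,12,11,2,1,6,13,6,8,12], 11, [([], 2752, [12,13,10,12,9,11,12,13]), ([], 221, [1,11,13,5,10,12]), ([373,370], 2125, [3,5,12,9,13,12,11,10])], []⟩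
def c3557 : Clm := ⟨5, 6, true, [1,8,12,11,10,12,8,12,11,2,6,13,6,8,12], [1,13,12,9,13,12,8,11,13,2,13,2,12,8], 5, [([], 3556, [])], []⟩
def c3558 : Clm := ⟨6, 6, true, [3,10,13,12,13,5,10,2,4,13,6,12,13], [1,8,12,9,13,12,8,11,2,11,12,6,13], 11, [([], 2718, [12,9,13,12,9,11,10,12]), ([], 221, [3,8,11,13,12,13,10]), ([373], 1383, [5,9,12,13,10,12,9,12,11])], []⟩
def c3559 : Clm := ⟨6, 6, true, [1,8,12,9,13,12,8,11,10,2,11,12,6,13], [3,10,13,12,13,5,10,2,4,13,6,12,13], 5, [([], 3558, [])], []⟩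
def c3560 : Clm := ⟨6, 6, true, [12,9,11,12,11,13,10,2,1,13,2,6,5,6], [9,10,13,12,13,12,9,2,1,4,13,12,13,6,12], 11, [([], 2679, [1,12,9,13,12,9,11,10,12]), ([], 221, [3,8,11,12,13,10]), ([373], 1350, [5,9,12,13,10,12,9,12,11])], []⟩
def c3561 : Clm := ⟨6, 6, true, [10,12,8,11,3,13,12,11,2,11,12,13,2,11,12], [12,9,11,12,11,13,10,2,1,13,2,6,5,6], 5, [([], 3560, [])], []⟩
def c3562 : Clm := ⟨6, 5, true, [3,5,12,9,13,5,10,12,11,2,6,13,4,12,6,9], [8,12,11,3,5,12,2,1,11,5,12,13,2], 11, [([], 1219, [1,9,11,12,8,11,12,8]), ([370], 221, [5,8,10,11,13,12,11]), ([373], 2228, [11,10,12,9,13,10,12])], []⟩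
def c3563 : Clm := ⟨5, 6, true, [8,12,11,3,5,12,2,1,11,5,12,13,10,2], [3,5,12,9,13,5,10,12,11,2,6,13,4,12,6,9], 5, [([], 3562, [])], []⟩
def c3564 : Clm := ⟨6, 6, true, [5,9,12,13,10,12,11,2,4,12,4,13,12,11,12], [10,12,8,13,12,9,11,10,2,11,12,13,4,6,12,9], 11, [([], 2679, [3,5,9,12,11,10,12,9]), ([], 221, [8,11,3,12,13,10]), ([370], 412, [3,10,13,10,12,8])], []⟩
def c3565 : Clm := ⟨6, 6, true, [5,11,13,12,13,12,9,12,11,2,4,5,7,13,12,4], [5,9,12,13,10,12,11,2,4,12,4,13,12,11,12], 5, [([], 3564, [])], []⟩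
def c3566 : Clm := ⟨6, 6, true, [1,12,13,10,12,8,13,10,2,4,12,11,5,6,11,5], [10,11,3,13,2,7,13,7,5,7], 11, [([], 2679, [3,9,13,10,12,11,13,12]), ([], 221, [10,12,11,5,12,11,13]), ([370], 2181, [11,13,12,13,5,10])], []⟩
def c3567 : Clm := ⟨6, 6, true, [13,5,13,2,1,7,13,7,5,7], [1,12,13,10,12,8,13,10,2,4,12,11,5,6,11,5], 5, [([], 3566, [])], []⟩
def c3568 : Clm := ⟨6, 6, true, [1,12,8,13,5,10,12,13,2,6,13,2,6,11,13,4], [9,12,8,13,5,12,11,2,13,2,12,7,13], 13, [([], 2471, [5,9,11,12,11,10,13]), ([372,370], 2718, [5,8,13,12,13,10,12,8]), ([], 221, [1,13,5,13,12,13,10])], []⟩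
def c3569 : Clm := ⟨6, 6, true, [11,3,12,13,2,4,5,11,12,4], [1,12,8,13,5,10,12,13,2,6,13,2,6,11,13,4], 5, [([], 3568, [])], []⟩
def c3570 : Clm := ⟨6, 6, true, [1,11,12,8,11,12,9,13,10,2,4,13,5,7,12,13,5], [3,12,13,12,8,12,13,2,4,3,13,7,5,9], 15, [([], 650, [12,9,13,5,10,11,12]), ([170,110,102], 224, [3,8,10,11,5,12]), ([372,370], 957, [8,11,12,11,13,12,9])], []⟩
def c3571 : Clm := ⟨6, 6, true, [3,12,13,12,8,12,13,2,4,13,7,5,9], [1,11,12,8,11,12,9,13,10,2,4,13,5,7,12,13,5], 5, [([], 3570, [])], []⟩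
def c3572 : Clm := ⟨6, 6, true, [5,12,8,13,5,12,13,2,4,13,7,9,10,12,13], [11,3,13,12,8,12,11,12,2,4,3,5,12,7,11], 11, [([], 3518, [1,5,12,13,5,10,12,9,11]), ([370], 1091, [1,13,12,9,11,13,5,10]), ([96,170,110], 224, [8,13,3,10,13,12,13])], []⟩
def c3573 : Clm := ⟨5, 6, true, [1,9,10,13,12,8,13,2,4,13,10,12,11], [5,8,10,12,13,10,12,8,2,4,5,7,13,2,7,12], 17, [([], 122, [8,10,13,3,12,9,11,12,11]), ([111,98,170], 224, [8,10,12,11,3,5]), ([373], 2098, [1,9,12,8,13,12,9,11,10])], []⟩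
def c3574 : Clm := ⟨6, 5, true, [3,13,12,13,10,12,9,13,2,13,4,12,6,11,5], [1,9,10,13,12,8,13,2,4,13,10,12,11], 5, [([], 3573, [])], []⟩
def c3575 : Clm := ⟨6, 6, true, [3,12,9,11,12,11,10,12,8,2,4,3,6,12,8,13,4], [5,11,13,12,13,12,8,2,13,2,1,12,13,4], 11, [([], 3198, [8,12,11,10,12,8,12,13,10]), ([372,370], 1282, [1,12,9,13,12,11,10,13,12]), ([110,110,104], 224, [3,8,13,12,13,10,13])], []⟩
def c3576 : Clm := ⟨6, 6, true, [5,11,13,12,13,12,8,2,13,2,12,11,13,4], [3,12,9,11,12,11,10,12,8,2,4,3,6,12,8,13,4], 5, [([], 3575, [])], []⟩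
def c3577 : Clm := ⟨6, 6, true, [9,12,8,11,3,12,8,4,7,5,10,4], [10,11,3,12,11,13,12,2,7,11,12,4,12,8], 13, [([], 269, [5,12,8,13,5,12,13]), ([104], 224, [13,3,12]), ([373,370], 1856, [10,13,12,8,11,12,9,13])], []⟩
def c3578 : Clm := ⟨6, 6, true, [1,8,12,11,5,10,12,11,2,4,12,13,6,5,6,11], [9,12,8,11,3,12,8,4,7,5,10,4], 5, [([], 3577, [])], []⟩
def c3579 : Clm := ⟨6, 6, true, [3,8,13,10,12,8,13,12,9,2,6,13,5,10], [1,8,12,11,5,10,12,11,2,4,12,13,6,5,6,11], 5, [([], 3578, [])], []⟩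
def c3580 : Clm := ⟨6, 6, true, [3,5,9,10,13,10,2,4,6,12,13,2,3,7], [13,12,8,13,5,12,11,13,2,1,13,12,6,13,6], 9, [([], 2265, [5,9,13,12,8,11,12,11,12]), ([], 227, [1,3,5,8,12]), ([], 2454, [5,10,11,12,13,10,12,13])], []⟩
def c3581 : Clm := ⟨6, 6, true, [3,10,11,5,12,9,11,12,9,2,1,13,12,6,13,6], [3,5,9,10,13,10,2,4,6,12,13,2,3,7], 5, [([], 3580, [])], []⟩
def c3582 : Clm := ⟨6, 5, true, [10,13,3,12,9,11,12,11,10,2,7,13,5,6,6], [13,10,12,13,10,12,9,11,2,4,7,12,9,11,12,13], 9, [([], 2190, [8,10,13,10,12,9,11,10,12]), ([], 227, [1,3,5,9,12]), ([373], 2608, [9,12,8,13,12,9,11])], []⟩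
def c3583 : Clm := ⟨5, 6, true, [3,13,10,12,13,12,8,2,4,6,5,6,13,6,10], [10,13,3,12,9,11,12,11,10,2,7,13,5,6,6], 5, [([], 3582, [])], []⟩
def c3584 : Clm := ⟨6, 6, true, [8,13,10,12,11,12,2,1,4,12,13,7,10,12], [9,13,5,10,13,12,8,11,13,2,4,12,13,4,6], 15, [([], 2529, [1,11,13,12,11,13]), ([372,370], 227, [11,5,11,12]), ([372], 1727, [1,10,12,9,13,10,12,13])], []⟩
def c3585 : Clm := ⟨6, 6, true, [11,5,11,12,9,13,10,12,8,2,4,12,13,4,6,10], [8,13,10,12,11,12,2,1,4,12,13,7,10,12], 5, [([], 3584, [])], []⟩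
def c3586 : Clm := ⟨6, 6, true, [3,8,11,13,10,12,11,12,8,2,1,13,7,9,13,2,13], [11,5,11,12,9,13,10,12,8,2,4,12,13,4,6,10], 5, [([], 3585, [])], []⟩
def c3587 : Clm := ⟨6, 6, true, [11,13,12,9,11,10,12,9,2,1,4,7,13,12,7], [9,10,12,11,5,2,4,12,7,13,12,7,8], 13, [([], 227, [5,8,10,11,3,12]), ([], 707, [10,11,10,12,11,10]), ([370], 1663, [10,13,12,13,10,12,11])], []⟩
def c3588 : Clm := ⟨6, 6, true, [9,10,12,11,10,12,9,2,13,6,9,12,4,12], [11,13,12,9,11,10,12,9,2,1,4,7,13,12,7], 5, [([], 3587, [])], []⟩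
def c3589 : Clm := ⟨5, 6, true, [3,5,12,11,10,12,8,2,13,6,12,4,13,2], [12,13,10,13,10,12,2,4,7,13,12,13,4,13], 15, [([], 3205, [5,8,11,12,8,13,10,12]), ([372], 227, [12,9,13,3,12]), ([], 2454, [1,8,12,8,11,13,12,13,5])], []⟩
def c3590 : Clm := ⟨6, 5, true, [12,8,13,10,13,12,8,2,4,5,7,5,13,7,8], [3,5,12,11,10,12,8,2,13,6,12,4,13,2], 5, [([], 3589, [])], []⟩
def c3591 : Clm := ⟨6, 5, true, [1,9,13,5,10,12,11,12,13,2,6,11,5,11,12,11], [3,5,12,8,11,5,10,2,11,12,4,13,3], 15, [([], 2876, [1,12,8,11,10,12,13]), ([373,370], 227, [3,9,12,13,10]), ([373,370], 255, [3,10,12,8,11,12,9])], []⟩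
def c3592 : Clm := ⟨5, 6, true, [3,5,12,8,11,5,10,2,1,11,12,4,13], [1,9,13,5,10,12,11,12,13,2,6,11,5,11,12,11], 5, [([], 3591, [])], []⟩
def c3593 : Clm := ⟨6, 6, true, [8,10,11,12,8,13,2,11,12,13,4,13], [5,9,10,12,8,11,5,13,2,4,5,13,7,5,13,7], 13, [([], 227, [11,3,12,13,10]), ([373], 277, [1,8,11,12,11,5,10]), ([226,252,252], 967, [1,10,12,9,13,10,12,13,10,12])], []⟩
def c3594 : Clm := ⟨6, 6, true, [9,12,8,13,5,13,5,2,13,2,4,7,5,13,7], [8,10,11,12,8,13,2,11,12,13,4,13], 5, [([], 3593, [])], []⟩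
def c3595 : Clm := ⟨6, 6, true, [1,13,10,13,12,11,13,4,7,10,12,4,5], [3,9,10,12,8,11,2,4,5,12,8,13,3,7,9], 15, [([], 1954, [3,10,13,12,9,11,10,12]), ([372,370], 227, [5,9,10,11,3,12]), ([], 1104, [5,8,10,13,12,8,11,10,13])], []⟩
def c3596 : Clm := ⟨6, 6, true, [10,12,11,3,13,12,8,13,2,6,9,13,2,7,13,6], [1,13,10,13,12,11,13,4,7,10,12,4,5], 5, [([], 3595, [])], []⟩
def c3597 : Clm := ⟨6, 6, true, [1,8,12,9,11,10,12,13,10,2,4,13,12,4,13,6], [11,12,13,12,9,12,11,12,2,4,6,6,13,6,12,11], 13, [([], 227, [3,9,13,10,13,12]), ([], 733, [1,10,11,12,9,12,11,10]), ([226,252,228], 430, [1,10,12,11,10,12,9])], []⟩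
def c3598 : Clm := ⟨6, 6, true, [5,9,12,13,5,10,12,2,7,7,13,2,12,6,11], [1,8,12,9,11,10,12,13,10,2,4,13,12,4,13,6], 5, [([], 3597, [])], []⟩
def c3599 : Clm := ⟨6, 6, true, [3,8,12,9,13,10,11,12,11,2,1,4,13,7,12], [1,9,10,12,11,10,12,9,13,2,1,4,12,13,2,13,7], 13, [([], 227, [10,12,9,11,3,5,12]), ([], 797, [11,12,13,12,9,12,11,12]), ([373,370], 3390, [3,5,9,11,12,13,10,12,8])], []⟩
def c3600 : Clm := ⟨6, 6, true, [8,12,8,11,10,12,9,2,4,12,11,13,2,3,7], [3,8,12,9,13,10,11,12,11,2,1,4,13,7,12], 5, [([], 3599, [])], []⟩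
def c3601 : Clm := ⟨6, 6, true, [9,10,11,12,13,12,9,13,2,4,12,13,3,4,12,9,13], [3,10,11,12,9,13,12,9,2,13,6,5,4,8,12,11], 13, [([], 227, [9,12,13,3,10,12]), ([], 733, [1,5,9,13,5,11]), ([227,252,227], 2769, [5,12,13,10,12,9,11,12])], []⟩
def c3602 : Clm := ⟨6, 6, true, [5,9,11,5,11,12,13,10,2,1,4,12,7,13,2,3,12], [9,10,11,12,13,12,9,13,2,4,12,13,3,4,12,9,13], 5, [([], 3601, [])], []⟩
def c3603 : Clm := ⟨6, 6, true, [3,12,8,13,10,12,9,13,2,7,13,12,13,4,6,12], [5,9,11,5,11,12,13,10,2,1,4,12,7,13,2,3,12], 5, [([], 3602, [])], []⟩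
def c3604 : Clm := ⟨6, 5, true, [3,8,10,11,12,11,13,10,2,1,13,4,12,11,2], [9,12,9,13,3,12,8,13,10,2,1,13,2,6,13,5,12], 13, [([], 227, [8,13,3,5,12]), ([], 2454, [3,12,8,13,12,13,12,9]), ([373], 2426, [8,10,12,9,11,3,12,13])], []⟩
def c3605 : Clm := ⟨5, 6, true, [5,11,5,10,12,9,11,12,13,2,11,5,4,6,13,5,12], [3,8,10,11,12,11,13,10,2,1,13,4,12,11,2], 5, [([], 3604, [])], []⟩
def c3606 : Clm := ⟨6, 5, true, [3,10,12,11,13,12,8,2,6,13,6,8,13,4], [9,13,10,12,11,5,12,9,2,13,2,12,11,10], 15, [([], 241, [5,8,11,5,12,11]), ([373], 227, [5,9,12,11,3,5]), ([], 793, [12,11,10,12,13,10,12,9])], []⟩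
def c3607 : Clm := ⟨5, 6, true, [1,12,8,11,13,10,12,11,2,4,13,5,12,11,10], [3,10,12,11,13,12,8,2,6,13,6,8,13,4], 5, [([], 3606, [])], []⟩
def c3608 : Clm := ⟨6, 5, true, [9,10,11,3,10,12,9,13,2,7,7,13,10,2,12], [10,12,13,12,9,12,2,13,2,1,7,13], 13, [([], 227, [10,12,8,11,3,12]), ([], 1104, [5,9,12,11,5,12,8,11,13]), ([373,370], 3510, [3,8,10,11,12])], []⟩
def c3609 : Clm := ⟨5, 6, true, [10,12,13,12,9,12,2,13,2,7,13,3], [9,10,11,3,10,12,9,13,2,7,7,13,10,2,12], 5, [([], 3608, [])], []⟩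
def c3610 : Clm := ⟨6, 5, true, [9,10,11,3,10,12,9,13,2,7,7,13,2,12], [10,12,13,12,9,12,2,13,2,7,13,3], 5, [([], 3609, [])], []⟩
def c3611 : Clm := ⟨6, 6, true, [5,11,12,9,11,13,12,13,12,2,6,13,7,5,13,4], [13,3,10,11,12,8,11,13,2,11,12,6,13,2], 13, [([], 227, [5,10,12,13,3,12]), ([373], 277, [5,9,10,11,13,12,13,12,9]), ([252,227,253], 393, [5,8,13,12,9,13,12,13])], []⟩
def c3612 : Clm := ⟨6, 6, true, [13,3,10,11,12,8,11,13,2,11,12,6,13,10,2], [5,11,12,9,11,13,12,13,12,2,6,13,7,5,13,4], 5, [([], 3611, [])], []⟩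
def c3613 : Clm := ⟨6, 6, true, [3,9,12,13,10,13,2,1,13,2,6,9,12], [3,10,13,12,9,11,12,13,10,2,4,5,12,11,13], 15, [([], 401, [5,10,13,12,9,11,12,11]), ([373], 227, [3,5,9,11,10,12]), ([], 630, [5,9,10,11,12,13,10,13])], []⟩
def c3614 : Clm := ⟨6, 6, true, [3,10,13,12,9,11,12,13,10,2,1,4,12,11,13,5], [3,9,12,13,10,13,2,1,13,2,6,9,12], 5, [([], 3613, [])], []⟩
def c3615 : Clm := ⟨6, 6, true, [1,11,12,9,11,10,13,2,1,4,7,13,12,7], [3,11,5,12,9,11,10,12,9,2,4,13,6,9,10,12,13], 13, [([], 227, [3,5,13,5,10,12]), ([], 1089, [8,12,11,5,11,5,12]), ([370], 3310, [1,5,12,8,11,10,12,8,13])], []⟩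
def c3616 : Clm := ⟨6, 6, true, [9,12,13,3,10,12,9,12,2,13,2,13,6,9,12,13], [1,11,12,9,11,10,13,2,1,4,7,13,12,7], 5, [([], 3615, [])], []⟩
def c3617 : Clm := ⟨6, 6, true, [10,13,10,12,9,13,10,2,6,13,12,8,13], [10,13,10,2,11,12,13,4,10,4], 11, [([], 2475, [10,12,8,13,3,10,12,9]), ([372,370], 3513, [10,11,10,12,11,13,12]), ([373], 227, [12,13,10,13,10])], []⟩
def c3618 : Clm := ⟨6, 6, true, [9,13,5,13,2,6,13,2,7,8,13], [10,13,10,12,9,13,10,2,6,13,12,8,13], 5, [([], 3617, [])], []⟩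
def c3619 : Clm := ⟨6, 6, true, [8,13,12,11,13,5,2,1,4,13,7,9,12], [8,10,11,3,12,8,11,13,10,2,4,5,7,7,13,12,8], 11, [([], 2355, [3,11,13,12,8,12,13]), ([372], 1837, [8,12,9,13,12,8,13]), ([373,370], 227, [1,13,12,13])], []⟩
def c3620 : Clm := ⟨6, 6, true, [5,9,12,13,5,10,12,8,2,4,7,12,11,5,7], [10,13,3,12,11,10,13,2,4,5,12,4,13,3], 11, [([], 2220, [13,12,8,13,10,13,12]), ([372,370], 3404, [1,12,8,11,10]), ([], 227, [3,5,10,11,12])], []⟩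
def c3621 : Clm := ⟨6, 6, true, [10,13,3,12,11,10,13,2,1,4,5,12,4,13], [5,9,12,13,5,10,12,8,2,4,7,12,11,5,7], 5, [([], 3620, [])], []⟩
def c3622 : Clm := ⟨6, 6, true, [1,5,13,12,9,12,13,2,1,13,2,6,6,13], [1,10,13,12,2,13,12,4,3,10,4], 11, [([], 2401, [3,5,8,12,13,12,9,11,10,13]), ([226,253,228,226], 2366, [13,12,13,12,8,12,11,13]), ([370], 227, [1,11,5,10,12,11,5,12])], []⟩
def c3623 : Clm := ⟨6, 6, true, [1,8,12,13,10,12,9,13,2,13,12,4,3,2,6], [1,5,13,12,9,12,13,2,1,13,2,6,6,13], 5, [([], 3622, [])], []⟩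
def c3624 : Clm := ⟨6, 6, true, [1,9,13,5,12,11,2,6,13,2,4,7,7], [9,10,12,8,13,12,11,2,4,12,13,7,5,9], 17, [([], 1687, [1,9,10,13,5,12,11]), ([370], 227, [8,10,13,3,12,13]), ([], 3089, [3,11,10,12,8,11,13,12,11])], []⟩
def c3625 : Clm := ⟨6, 6, true, [3,13,5,10,12,13,12,9,2,1,4,12,13,2,5,7], [1,9,13,5,12,11,2,6,13,2,4,7,7], 5, [([], 3624, [])], []⟩
def c3626 : Clm := ⟨6, 6, true, [1,8,12,9,11,13,12,11,13,10,2,13,2,12,8,13,4,6], [12,11,12,11,10,13,12,2,4,7,13,7,12,13,12], 11, [([], 3028, [3,12,11,12,8,13,10,12]), ([372,370], 1797, [1,10,13,12,13,12,8,12,11]), ([370], 227, [9,12,8,11,3,5,12])], []⟩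
def c3627 : Clm := ⟨6, 6, true, [3,9,10,11,12,8,11,13,10,2,6,11,13,6,12,4], [1,8,12,9,11,13,12,11,13,10,2,13,2,12,8,13,4,6], 5, [([], 3626, [])], []⟩
def c3628 : Clm := ⟨6, 6, true, [1,9,12,11,13,12,9,12,2,1,4,7,12,11,12], [1,5,8,12,11,13,10,12,9,2,7,13,2,4,6,9], 11, [([], 3484, [9,12,13,10,13,12,11,10]), ([373,370], 377, [9,13,10,13,12,11,10]), ([373,370], 227, [3,9,10,12,13,5])], []⟩
def c3629 : Clm := ⟨6, 6, true, [13,5,13,2,7,13,2,6,9,11], [1,9,12,11,13,12,9,12,2,1,4,7,12,11,12], 5, [([], 3628, [])], []⟩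
def c3630 : Clm := ⟨6, 6, true, [10,11,13,12,8,12,11,10,2,1,7,13,2,7,7], [13,5,13,2,7,13,2,6,9,11], 5, [([], 3629, [])], []⟩
def c3631 : Clm := ⟨6, 6, true, [1,9,11,12,8,11,12,13,10,2,1,13,6,13,4,12,9], [1,9,10,13,5,2,13,12,4,10,4], 11, [([], 2271, [10,11,5,12,13,10,12]), ([], 3603, [3,5,10,13,5,12,11,10]), ([], 227, [3,9,11,5,10,12])], []⟩
def c3632 : Clm := ⟨6, 6, true, [11,3,2,4,5,7,13,2,6,9], [1,9,11,12,8,11,12,13,10,2,1,13,6,13,4,12,9], 5, [([], 3631, [])], []⟩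
def c3633 : Clm := ⟨6, 5, true, [9,12,11,12,8,13,10,12,11,2,1,6,13,2,1], [3,9,11,10,12,11,13,5,12,2,4,3,6,5,6,13,12], 11, [([], 908, [9,10,13,3,5,12,11]), ([372,370], 227, [9,12,13,3,10]), ([372], 1563, [1,13,10,12,9,12,13,5])], []⟩
def c3634 : Clm := ⟨5, 6, true, [3,9,11,10,12,11,13,5,12,2,4,6,5,6,13,12], [9,12,11,12,8,13,10,12,11,2,1,6,13,2,1], 5, [([], 3633, [])], []⟩
def c3635 : Clm := ⟨6, 6, true, [3,12,8,11,12,13,10,2,1,4,7,12,4,13,10], [10,12,9,11,12,8,11,13,2,1,4,12,7,13,2,3], 11, [([], 1173, [1,11,5,11,12,8,12,13,10]), ([373,370], 227, [3,9,10,13,5,12]), ([372], 1160, [12,9,11,13,12,11])], []⟩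
def c3636 : Clm := ⟨6, 6, true, [3,5,13,5,10,2,4,7,9,13,12,4,7], [9,12,11,3,10,13,12,9,2,1,4,12,13,2,5], 11, [([], 423, [5,8,10,13,12,11,12,9]), ([372], 227, [1,13,10,13,10,12]), ([372], 2354, [5,13,12,9,13,12,8,11])], []⟩
def c3637 : Clm := ⟨6, 6, true, [1,13,10,12,8,13,12,13,2,1,4,12,4,13,10], [3,5,13,5,10,2,4,7,9,13,12,4,7], 5, [([], 3636, [])], []⟩
def c3638 : Clm := ⟨6, 6, true, [3,8,12,9,13,12,13,10,11,2,4,13,12,6,13,5,12], [1,9,10,12,11,12,13,2,11,13,12,4,12,4], 13, [([], 2892, [11,13,12,8,11,13]), ([373], 1985, [3,12,8,13,10,12,9,13,10]), ([370], 227, [12,9,11,3,10,12])], []⟩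
def c3639 : Clm := ⟨6, 6, true, [3,10,12,11,12,9,12,2,4,12,4,13,12,13,10], [3,8,12,9,13,12,13,10,11,2,4,13,12,6,13,5,12], 5, [([], 3638, [])], []⟩
def c3640 : Clm := ⟨6, 6, true, [8,11,5,10,12,9,13,12,2,4,13,10,12,8,11], [11,5,11,12,8,11,12,2,4,12,6,11,13,2], 47, [([], 3428, [9,10,12,11,12]), ([372], 1239, [1,12,9,11,5]), ([373,370], 227, [1,3,9,10,12,9])], []⟩
def c3641 : Clm := ⟨6, 6, true, [8,10,13,10,12,8,2,1,13,6,9,12,4], [8,11,5,10,12,9,13,12,2,4,13,10,12,8,11], 5, [([], 3640, [])], []⟩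
def c3642 : Clm := ⟨6, 6, true, [9,13,10,11,12,11,12,9,2,4,3,6,12,13,2], [10,13,10,12,8,2,13,6,9,13,5,4], 47, [([], 1326, [1,12,8,13,10,12,8,13,12]), ([372,370], 3471, [3,5,9,13,10,12,9,13,12]), ([372,370], 227, [1,3,5,8,10,12,9])], []⟩
def c3643 : Clm := ⟨6, 6, true, [10,13,12,8,2,13,6,5,4,9,13], [9,13,10,11,12,11,12,9,2,4,3,6,12,13,2], 5, [([], 3642, [])], []⟩
def c3644 : Clm := ⟨6, 5, true, [1,8,11,10,13,12,8,11,2,4,3,13,12,13,10,2], [8,12,11,10,12,11,12,13,2,7,11,12,4,5,11,12], 17, [([], 2550, [1,5,11,13,12,8,11,13,12]), ([372], 226, [8,10,11,13,5,12]), ([372], 748, [8,11,12,13,10,12,13,12])], []⟩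
def c3645 : Clm := ⟨5, 6, true, [1,5,8,13,12,9,12,2,13,2,6,13,12,8,7], [1,8,11,10,13,12,8,11,2,4,3,13,12,13,10,2], 5, [([], 3644, [])], []⟩
def c3646 : Clm := ⟨6, 6, true, [8,11,3,12,9,12,11,10,2,1,4,12,7,13,7,13], [3,12,9,12,13,12,9,13,10,2,1,4,5,12,11], 11, [([], 3322, [12,8,11,12,13,10,12]), ([], 2562, [5,9,13,5,10,11,12,11]), ([372], 226, [9,12,13,5])], []⟩
def c3647 : Clm := ⟨6, 6, true, [3,12,9,12,13,12,9,13,10,2,4,5,12,11,3], [8,11,3,12,9,12,11,10,2,1,4,12,7,13,7,13], 5, [([], 3646, [])], []⟩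
def c3648 : Clm := ⟨6, 6, true, [8,11,3,12,9,12,11,10,2,4,3,12,7,13,7,13], [3,12,9,12,13,12,9,13,10,2,4,5,12,11,3], 5, [([], 3647, [])], []⟩
def c3649 : Clm := ⟨6, 6, true, [12,9,13,12,13,12,2,4,12,11,5], [1,11,12,8,13,2,7,11,5,4], 11, [([], 670, [1,8,10,12,11,13,12]), ([], 226, [1,8,11,13,10,12]), ([373,370], 2068, [8,11,12,13,10,11,12,9,13])], []⟩
def c3650 : Clm := ⟨6, 6, true, [10,12,13,3,10,12,8,11,13,2,1,7,13,2,1], [12,9,13,12,13,12,2,4,12,11,5], 5, [([], 3649, [])], []⟩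
def c3651 : Clm := ⟨6, 6, true, [1,10,11,10,12,8,13,10,13,2,11,5,11,12,11,2], [9,11,12,13,10,13,10,12,9,2,6,9,13,2,6,13,3], 13, [([], 230, [1,3,5,12]), ([370], 2497, [5,9,11,13,12,8,13,12]), ([373], 485, [8,10,11,3,10,12,9,13,10])], []⟩
def c3652 : Clm := ⟨6, 6, true, [9,12,11,5,10,12,8,11,5,2,4,6,12,8,13,7,9], [1,10,11,10,12,8,13,10,13,2,11,5,11,12,11,2], 5, [([], 3651, [])], []⟩
def c3653 : Clm := ⟨6, 6, true, [10,11,3,12,8,11,13,10,2,1,4,12,13,2,5], [3,5,10,13,12,9,11,13,2,1,4,13,6,13,5,12], 13, [([], 230, [3,5,10,12]), ([], 693, [1,5,8,10,11,12,13,10]), ([], 2156, [10,11,5,12,11,13])], []⟩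
def c3654 : Clm := ⟨6, 6, true, [5,10,13,12,9,13,10,12,2,11,12,4,10,12,6], [10,11,3,12,8,11,13,10,2,1,4,12,13,2,5], 5, [([], 3653, [])], []⟩
def c3655 : Clm := ⟨6, 6, true, [10,11,12,8,11,5,11,5,2,1,13,2,12,11,2], [3,9,10,13,2,4,12,9,13,5,6], 13, [([], 230, [1,5,13,12]), ([370], 2497, [11,13,5,12,9,13,12,8]), ([], 2244, [9,11,13,12,11,13,10])], []⟩
def c3656 : Clm := ⟨6, 6, true, [3,8,10,12,11,10,12,8,13,2,1,11,13,7,12,11,2], [9,12,9,13,5,13,2,4,12,13,6,5,10,12], 15, [([], 230, [1,13,12,9,11,12]), ([372], 1554, [1,9,12,9,11,12,11,13,10]), ([373,370], 2041, [5,13,12,8,12,11,13])], []⟩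
def c3657 : Clm := ⟨6, 6, true, [5,13,10,12,9,2,1,11,12,9,13,2,4], [3,8,10,12,11,10,12,8,13,2,1,11,13,7,12,11,2], 5, [([], 3656, [])], []⟩
def c3658 : Clm := ⟨6, 6, true, [5,8,12,11,5,10,12,8,2,7,7,11,5,11], [1,8,13,12,13,10,11,12,2,1,7], 17, [([], 2429, [10,12,9,13,3,10,12,13,10]), ([372,370], 230, [5,8,10,12,13,3,5,12]), ([373], 1985, [1,8,11,13,12,11,10,13])], []⟩
def c3659 : Clm := ⟨6, 6, true, [11,3,12,11,10,13,12,9,2,11,13,2,12,7], [1,8,12,8,13,12,8,11,13,2,1,6,13,2,1,7,12], 11, [([], 1638, [8,11,10,12,9,13,5,12]), ([372], 230, [3,10,12,8,11,12]), ([373], 2009, [5,8,11,13,12,9,13,10])], []⟩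
def c3660 : Clm := ⟨6, 6, true, [8,11,12,9,11,12,11,10,2,6,13,4,12,13], [1,9,11,12,9,11,12,13,10,2,4,7,5,8], 11, [([], 1638, [5,11,13,12,9,11,10,12,11]), ([372], 230, [3,9,11,13,10,12]), ([372], 1839, [9,13,12,9,13,12,13])], []⟩
def c3661 : Clm := ⟨6, 6, true, [1,9,11,12,9,11,12,13,10,4,7,5,8,10,2], [8,11,12,9,11,12,11,10,2,6,13,4,12,13], 5, [([], 3660, [])], []⟩
def c3662 : Clm := ⟨5, 6, true, [5,9,11,13,12,8,13,12,13,2,4,6,6,12,13,6,5], [3,10,12,8,11,12,13,2,4,5,6,13,7,13], 13, [([], 774, [13,10,13,12,9,12,11]), ([], 3549, [10,13,12,8,13,10,13]), ([373], 230, [11,3,12,8,11,10,12])], []⟩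
def c3663 : Clm := ⟨6, 5, true, [3,8,11,12,8,11,12,9,2,13,2,4,6,13,7], [5,9,11,13,12,8,13,12,13,2,4,6,6,12,13,6,5], 5, [([], 3662, [])], []⟩
def c3664 : Clm := ⟨6, 6, true, [1,9,11,5,10,12,2,6,13,2,12,4,8,13], [1,13,12,9,13,5,10,11,12,2,4,12,9,11,3,12], 33, [([], 2001, [11,3,12,9,13,12,9]), ([373,370], 1788, [8,10,12,8,11,13,12,9]), ([373], 2190, [9,13,12,8,13,12]), ([372,370], 230, [1,3,8]), ([373,370], 640, [12,13,10,12,9,11,5]), ([372,370], 2759, [8,10,12,8,13,12,8]), ([370], 2548, [8,12,9,11,10,13])], []⟩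
def c3665 : Clm := ⟨6, 6, true, [1,13,12,9,13,5,10,11,12,2,1,4,12,9,11,12], [1,9,11,5,10,12,2,6,13,2,12,4,8,13], 5, [([], 3664, [])], []⟩
def c3666 : Clm := ⟨5, 6, true, [5,10,12,8,11,12,13,2,1,6,11,13,6,13,2], [5,8,12,9,13,12,9,2,13,2,6,13,2,1], 15, [([], 3432, [9,13,12,9,13,12]), ([373,370], 229, [1,13,5,10,12]), ([], 2457, [13,10,13,12,13,12,9])], []⟩
def c3667 : Clm := ⟨6, 5, true, [1,10,11,10,12,9,13,12,13,2,1,13,6,5,4,7], [5,10,12,8,11,12,13,2,1,6,11,13,6,13,2], 5, [([], 3666, [])], []⟩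
def c3668 : Clm := ⟨5, 6, true, [1,5,9,12,13,5,2,7,9,13,12,4,13], [1,10,11,10,12,9,13,12,13,2,1,13,6,5,4,7], 5, [([], 3667, [])], []⟩
def c3669 : Clm := ⟨6, 6, true, [1,5,9,10,11,5,2,4,7,9,13,3,7,5], [3,5,10,11,2,4,5,7,13,4,10], 11, [([], 2208, [11,10,12,9,12,11,13]), ([], 229, [12,9,11,5,12]), ([], 2912, [1,12,9,12,11,13,12,8])], []⟩
def c3670 : Clm := ⟨6, 6, true, [13,12,11,10,13,12,2,1,4,7,12,9,13,4], [5,8,12,13,5,10,12,9,13,2,4,3,5,12,7,11], 13, [([], 1867, [11,3,12,8,12]), ([373,370], 251, [9,13,3,12,11]), ([373], 229, [1,9,12,13,10])], []⟩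
def c3671 : Clm := ⟨6, 6, true, [10,11,12,11,13,10,2,4,3,5,12,4], [13,12,11,10,13,12,2,1,4,7,12,9,13,4], 5, [([], 3670, [])], []⟩
def c3672 : Clm := ⟨6, 6, true, [1,10,11,12,8,13,10,2,1,13,2,12,11,2], [10,12,13,10,13,12,8,13,2,1,4,5,6,13,12], 13, [([], 233, [9,13,3,10,13,12]), ([], 783, [9,10,11,12,9,11,10,13]), ([372], 1993, [1,5,10,12,9,13,12])], []⟩
def c3673 : Clm := ⟨6, 6, true, [10,11,3,12,8,11,13,10,2,1,13,12,11,2], [1,8,10,11,5,2,13,2,13,6,13,12], 13, [([], 233, [9,13,5,13,12]), ([373], 1901, [9,11,12,11,5,10,13,12]), ([373,370], 1669, [3,9,10,12,8,11,10,12,13])], []⟩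
def c3674 : Clm := ⟨6, 6, true, [10,11,3,12,9,11,13,10,2,1,13,12,11,2], [3,9,10,13,10,12,9,11,2,11,12,4,8,10,13], 13, [([], 233, [8,13,5,13,12]), ([372], 1785, [3,8,13,5,10,12,13,12]), ([], 3018, [10,13,5,10,12,8,11,13])], []⟩
def c3675 : Clm := ⟨6, 6, true, [3,9,10,13,10,12,9,11,2,1,11,12,4,8,10,13], [10,11,3,12,9,11,13,10,2,1,13,12,11,2], 5, [([], 3674, [])], []⟩
def c3676 : Clm := ⟨6, 6, true, [3,12,11,5,10,2,4,12,8,13,3,7], [5,9,12,13,12,8,11,2,1,4,5,12,13,4], 17, [([], 2685, [1,12,9,11,10,12,8]), ([370], 233, [1,5,9,12,11,5]), ([], 3364, [1,5,8,11,5,12,13])], []⟩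
def c3677 : Clm := ⟨6, 6, true, [5,9,12,13,12,8,11,2,4,5,12,11,13,4], [3,12,11,5,10,2,4,12,8,13,3,7], 5, [([], 3676, [])], []⟩
def c3678 : Clm := ⟨6, 6, true, [1,9,13,5,13,2,4,7,12,13,5,12], [5,12,8,11,13,2,1,7,13,7,7,5,4], 17, [([], 2945, [5,9,12,13,3,10,12,8,12]), ([372,370], 233, [10,11,3,10,12]), ([373], 1888, [9,12,11,12,8,11,10,13])], []⟩
def c3679 : Clm := ⟨6, 6, true, [3,12,11,13,10,12,9,12,2,11,13,6,12,4,9], [1,9,13,5,13,2,4,7,12,13,5,12], 5, [([], 3678, [])], []⟩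
def c3680 : Clm := ⟨6, 6, true, [1,11,13,12,9,11,10,2,1,13,2,7,13,5,4], [3,12,11,13,10,12,9,12,2,11,13,6,12,4,9], 5, [([], 3679, [])], []⟩
def c3681 : Clm := ⟨6, 6, true, [3,10,11,13,12,9,11,12,8,2,1,4,13,7,12,8,13], [9,13,12,9,11,10,12,11,10,2,4,12,9,13,7,12,9], 13, [([], 3060, [3,11,12,11,12,9,12,13]), ([373,370], 1993, [5,11,5,12,9,11,10]), ([372,370], 233, [1,3,9,12])], []⟩
def c3682 : Clm := ⟨6, 6, true, [1,9,13,12,9,13,12,13,2,4,3,12,9,13,7], [13,12,9,12,11,10,2,4,12,4,12,13,7,9], 11, [([], 2930, [9,10,12,8,11,3,12,9]), ([373], 233, [11,3,5,10,12]), ([372,370], 880, [3,11,5,10,12,13,12,9])], []⟩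
def c3683 : Clm := ⟨4, 6, true, [5,9,11,5,12,13,12,2,1,13,2,12,13,2,11], [9,12,11,5,11,12,8,2,1,4,12,7,8,13], 15, [([], 469, [9,12,8,13,10,12,13,12]), ([373,370], 232, [12,8,11,5,12]), ([373], 3456, [8,10,12,11,13,5,12,11])], []⟩
def c3684 : Clm := ⟨6, 4, true, [9,12,11,5,11,12,8,2,4,12,7,8,13,3], [5,9,11,5,12,13,12,2,1,13,2,12,13,2,11], 5, [([], 3683, [])], []⟩
def c3685 : Clm := ⟨6, 6, true, [1,8,11,12,9,13,12,11,13,2,13,6,5,9,11], [5,13,12,8,12,11,12,9,11,4,10,12,9,13,2], 15, [([], 1794, [1,13,5,12,11,12,9,12,13]), ([372], 241, [9,11,3,10,12]), ([373,370], 2848, [1,10,12,9,13,10,12,8])], []⟩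
def c3686 : Clm := ⟨6, 6, true, [1,11,13,5,12,11,13,4,10,12,9,13,2], [1,8,11,12,9,13,12,11,13,2,13,6,5,9,11], 5, [([], 3685, [])], []⟩
def c3687 : Clm := ⟨6, 6, true, [12,13,3,10,11,12,8,13,2,11,12,4,10,12,4,3], [12,8,13,10,12,11,5,2,13,4,12,13], 13, [([], 2701, [3,9,12,8,13,10,12,13]), ([373], 2167, [1,8,12,13,10,13,12,8]), ([373,370], 241, [3,9,13,10,12])], []⟩
def c3688 : Clm := ⟨6, 6, true, [12,8,13,5,12,11,5,2,11,13,2,12,13], [12,13,3,10,11,12,8,13,2,11,12,4,10,12,4,3], 5, [([], 3687, [])], []⟩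
def c3689 : Clm := ⟨6, 6, true, [3,13,12,8,11,13,12,2,1,13,6,5,4,8,10], [12,11,5,11,12,8,2,4,3,5,7,12,11], 15, [([], 2691, [8,12,11,10,12,8,11,13,5]), ([370], 248, [3,9,13,5,10,12]), ([372,370], 3011, [11,5,10,12,11,5,12,9])], []⟩
def c3690 : Clm := ⟨6, 6, true, [13,12,13,10,12,13,12,2,4,13,6,6,12,13,7], [1,5,10,13,5,12,13,12,8,2,1,13,7,13,2,4], 15, [([], 251, [3,5,9,11,5,10,12]), ([373,370], 2317, [8,11,12,9,11,12,11,5,10]), ([], 2640, [3,9,12,9,11,10,12,8,13])], []⟩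
def c3691 : Clm := ⟨6, 6, true, [1,5,10,12,11,5,12,8,2,11,13,7,13,2,4], [13,12,13,10,12,13,12,2,4,13,6,6,12,13,7], 5, [([], 3690, [])], []⟩
def c3692 : Clm := ⟨2, 7, true, [2], [], 1, [], []⟩
def c3693 : Clm := ⟨7, 2, true, [1,3], [2], 5, [([], 3692, [])], []⟩
def c3694 : Clm := ⟨2, 7, true, [10,2], [1,3], 5, [([], 3693, [])], []⟩
def c3695 : Clm := ⟨7, 7, false, [], [5,10], 3, [([], 3692, []), ([88,49,53,51,40,54,89], 3692, [10])], []⟩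
def c3696 : Clm := ⟨7, 7, false, [], [8], 3, [([], 3692, []), ([61,55,49,54,60,50], 3692, [9])], []⟩
def c3697 : Clm := ⟨7, 4, true, [1,11,5,10,4], [5,8,10,13,10,4], 9, [([], 3694, [13,3,10]), ([61,61], 32, [5,9,13,3,5,10]), ([20], 98, [3,8,13,5,10,13])], []⟩
def c3698 : Clm := ⟨4, 7, true, [3,8,10,13,10,13,4], [1,11,5,10,4], 5, [([], 3697, [])], []⟩
def c3699 : Clm := ⟨7, 4, true, [3,10,13,10,4], [3,8,10,13,10,13,4], 5, [([], 3698, [])], []⟩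
def c3700 : Clm := ⟨7, 5, true, [13,5,10,12,4], [1,13,12,8,12,11,5,11,4,6,9], 9, [([], 3694, [11,3,10,12]), ([60,48,52], 264, [3,9,11,12,9,13]), ([], 285, [5,13,12,9])], []⟩
def c3701 : Clm := ⟨5, 7, true, [13,12,8,12,11,5,4,6,9], [13,5,10,12,4], 5, [([], 3700, [])], []⟩
def c3702 : Clm := ⟨7, 5, true, [13,3,5,10,12,11,4], [13,12,8,12,11,5,4,6,9], 5, [([], 3701, [])], []⟩
def c3703 : Clm := ⟨7, 4, true, [10,13,5,10,4,5], [3,8,13,5,10,13,4], 7, [([], 3694, [11,3,10]), ([61,61], 32, [5,9,11,10]), ([22], 98, [1,8,13,5,10,13])], []⟩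
def c3704 : Clm := ⟨4, 7, true, [3,5,8,13,5,10,4], [10,13,5,10,4,5], 5, [([], 3703, [])], []⟩
def c3705 : Clm := ⟨7, 4, true, [13,5,10,4,5], [3,5,8,13,5,10,4], 5, [([], 3704, [])], []⟩
def c3706 : Clm := ⟨7, 7, false, [10,13,5,10,4,5], [1,9,11,5,13,2,1], 3, [([], 3704, []), ([210,333,333,202], 3704, [3,5,8,11,5,10])], []⟩
def c3707 : Clm := ⟨7, 5, true, [3,11,5,10,12,11,4,5], [5,8,12,13,5,10,12,11,2,6,13,10,12,8,6], 7, [([], 3694, [13,3,10,12]), ([60,48,52], 264, [1,13,12,8,13,5,12,13]), ([], 324, [9,11,10,13,12,9,11,10])], []⟩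
def c3708 : Clm := ⟨5, 7, true, [12,11,5,10,12,9,13,12,2,11,10,12,4,12,7], [3,11,5,10,12,11,4,5], 5, [([], 3707, [])], []⟩
def c3709 : Clm := ⟨7, 5, true, [1,11,5,10,12,4,5], [12,11,5,10,12,9,13,12,2,11,10,12,4,12,7], 5, [([], 3708, [])], []⟩
def c3710 : Clm := ⟨7, 4, true, [10,11,2,11,10], [5,11,13,10,2,11,10], 13, [([], 3694, [1,3]), ([60,42,60,42], 3693, [5,8,13]), ([], 3704, [9,11,3,5])], []⟩
def c3711 : Clm := ⟨4, 7, true, [5,11,13,2,1,11,10], [10,11,2,11,10], 5, [([], 3710, [])], []⟩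
def c3712 : Clm := ⟨7, 4, true, [10,11,10,2,1,11,10], [5,11,13,2,1,11,10], 5, [([], 3711, [])], []⟩
def c3713 : Clm := ⟨7, 7, false, [10,11,2,11,10], [3,5,10,2,4,13,5], 3, [([], 3711, []), ([211,205,211,204,210,202], 3711, [10,13,3,5])], []⟩
def c3714 : Clm := ⟨7, 6, true, [1,11,5,12,11,2,11,10], [8,11,10,12,9,11,12,9,2,6,9,13,4,6], 13, [([], 3694, [13,3,10,12]), ([60,48,52], 264, [1,13,12,8,13,5,12]), ([372,370], 2385, [8,13,12,9,13])], []⟩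
def c3715 : Clm := ⟨6, 7, true, [5,11,13,12,9,11,10,12,2,6,9,13,4,6,10], [1,11,5,12,11,2,11,10], 5, [([], 3714, [])], []⟩
def c3716 : Clm := ⟨7, 6, true, [1,11,5,12,11,10,2,1,11,10], [5,11,13,12,9,11,10,12,2,6,9,13,4,6,10], 5, [([], 3715, [])], []⟩
def c3717 : Clm := ⟨7, 6, true, [11,5,12,11,2,11,10], [1,8,11,12,8,11,5,2,1,13,7,9,12,4], 13, [([], 3694, [3,13,10,12]), ([60,48,52], 264, [13,12,8,13,5,12,13]), ([373,370], 1659, [1,8,10,12,8,13,10,12,11])], []⟩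
def c3718 : Clm := ⟨6, 7, true, [1,8,11,12,8,11,5,2,13,7,9,12,4,3], [11,5,12,11,2,11,10], 5, [([], 3717, [])], []⟩
def c3719 : Clm := ⟨7, 5, true, [3,12,13,10,12,11,2,11,10], [3,9,11,5,10,13,2,7,13,12,4,6,9], 13, [([], 3694, [1,12,11,12]), ([60,42,60,42], 3693, [1,12,13,5,12,8]), ([], 3708, [11,12,11,5,11,12,9])], []⟩
def c3720 : Clm := ⟨5, 7, true, [5,8,13,5,10,11,12,2,1,7,13,12,13,4], [3,12,13,10,12,11,2,11,10], 5, [([], 3719, [])], []⟩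
def c3721 : Clm := ⟨7, 5, true, [3,12,13,10,12,11,10,2,1,11,10], [5,8,13,5,10,11,12,2,1,7,13,12,13,4], 5, [([], 3720, [])], []⟩
def c3722 : Clm := ⟨5, 7, true, [3,9,11,5,10,13,12,9,2,11,12,7,13,10,4], [5,8,11,5,12,9,11,13,12,11,4], 15, [([], 3709, [8,13,10,13,12,11,10]), ([7413,7427], 3694, [5,8,12,11,3,12]), ([60,48,46,42], 3693, [9,10,11,5,12,11,12,8])], []⟩
def c3723 : Clm := ⟨7, 5, true, [8,13,12,9,13,5,13,5,12,4], [3,9,11,5,10,13,12,9,2,11,12,7,13,10,4], 5, [([], 3722, [])], []⟩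
def c3724 : Clm := ⟨5, 7, true, [8,10,11,5,12,11,13,10,2,13,2,12,13,6,12], [8,13,12,9,13,5,13,5,12,4], 5, [([], 3723, [])], []⟩
def c3725 : Clm := ⟨7, 5, true, [1,5,11,5,12,11,2,11,10], [8,12,8,11,5,10,12,11,2,7,13,2,7,5,6], 13, [([], 3694, [5,13,3,10,12]), ([60,48,52], 264, [3,9,11,12,9,11,13]), ([], 3153, [8,10,13,10,12,9,12,13,10])], []⟩
def c3726 : Clm := ⟨5, 7, true, [10,11,12,9,11,5,12,13,2,1,4,6,9,13,12,8], [1,5,11,5,12,11,2,11,10], 5, [([], 3725, [])], []⟩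
def c3727 : Clm := ⟨7, 6, true, [13,12,11,2,11,10], [9,10,12,8,13,12,9,2,11,12,7,11,2], 13, [([], 3694, [11,3,5,10,12]), ([60,48,52], 264, [3,9,11,12,9,13]), ([], 1079, [1,8,10,12,11,10,12,11,13])], []⟩
def c3728 : Clm := ⟨6, 7, true, [1,11,12,8,11,12,9,13,2,6,9,13,6,13,4], [13,12,11,2,11,10], 5, [([], 3727, [])], []⟩
def c3729 : Clm := ⟨7, 5, true, [13,5,12,13,12,2,11,10], [5,12,9,11,5,10,12,2,4,7,12,13,2,7], 13, [([], 3694, [12,13,3,10,12]), ([60,48,52], 264, [9,10,13,12,13,10,12,9]), ([372,370], 1629, [13,12,9,12,13,10,12])], []⟩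
def c3730 : Clm := ⟨5, 7, true, [5,12,9,11,5,10,12,2,4,7,12,13,7,10,2], [13,5,12,13,12,2,11,10], 5, [([], 3729, [])], []⟩
def c3731 : Clm := ⟨7, 5, true, [3,10,13,12,11,2,11,10], [10,13,10,12,8,11,13,12,2,4,12,13,7,12,13,10], 13, [([], 3694, [13,3,10,13,12]), ([60,48,52], 264, [12,8,13,5,12,11,13]), ([373,370], 1068, [1,8,13,5,10,13,12,9])], []⟩
def c3732 : Clm := ⟨5, 7, true, [9,11,13,12,11,10,12,9,2,13,2,7,13,12,11], [3,10,13,12,11,2,11,10], 5, [([], 3731, [])], []⟩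
def c3733 : Clm := ⟨7, 6, true, [1,13,12,11,2,11,10], [3,12,9,13,12,11,10,13,2,6,9,13,4,7,9], 13, [([], 3694, [3,11,5,10,12]), ([60,48,52], 264, [9,11,3,12,9]), ([], 1530, [10,12,9,12,11,5,12,13])], []⟩
def c3734 : Clm := ⟨6, 7, true, [3,12,9,13,12,8,11,10,13,2,1,6,13,7,7,13,4], [1,13,12,11,2,11,10], 5, [([], 3733, [])], []⟩
def c3735 : Clm := ⟨7, 5, true, [10,13,3,12,11,2,11,10], [9,12,8,13,5,10,13,12,2,13,2,7,12,13,2], 13, [([], 3694, [3,13,10,13,12]), ([60,48,52], 264, [12,8,13,5,12,11]), ([372,370], 3159, [5,9,11,5,12,11,13,12,8])], []⟩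
def c3736 : Clm := ⟨5, 7, true, [8,12,9,13,10,12,11,13,2,1,7,13,12,4,6,12], [10,13,3,12,11,2,11,10], 5, [([], 3735, [])], []⟩
def c3737 : Clm := ⟨7, 5, true, [10,13,3,12,11,10,2,1,11,10], [8,12,9,13,10,12,11,13,2,1,7,13,12,4,6,12], 5, [([], 3736, [])], []⟩
def c3738 : Clm := ⟨7, 5, true, [1,11,12,11,13,2,11,10], [3,9,11,12,11,10,12,9,12,4,6,9], 13, [([], 3694, [5,11,3,12,13,10]), ([60,60], 3693, [8,13,3,12,13,10,13]), ([7393], 3701, [13,3])], []⟩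
def c3739 : Clm := ⟨5, 7, true, [3,9,10,13,12,9,11,12,13,4,6,9], [1,11,12,11,13,2,11,10], 5, [([], 3738, [])], []⟩
def c3740 : Clm := ⟨7, 3, true, [11,10,12,13,5,10,12,13,2,11,10], [1,13,5,10,12,9,13,5,12,4,5,10,4], 13, [([], 3694, [11,3,10,12,11,12]), ([61,61], 32, [12,9,11,5,11,12,13,10]), ([27,25,25], 46, [9,12,8,13,10,12,9,12])], []⟩
def c3741 : Clm := ⟨3, 7, true, [12,8,11,12,11,10,12,8,2,13,5,10], [11,10,12,13,5,10,12,13,2,11,10], 5, [([], 3740, [])], []⟩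
def c3742 : Clm := ⟨7, 3, true, [10,11,10,12,13,5,10,12,13,2,1,11,10], [12,8,11,12,11,10,12,8,2,13,5,10], 5, [([], 3741, [])], []⟩
def c3743 : Clm := ⟨7, 4, true, [5,11,12,13,10,13,12,11,2,11,10], [5,12,13,3,5,10,12,11,12,4,5,10,4], 13, [([], 3694, [3,11,10,12,11,12]), ([61,61], 32, [8,13,3,5,10,12,11,12,8]), ([24,26,24,24,22,20], 98, [1,12,13,5,10,12,11,12,13])], []⟩
def c3744 : Clm := ⟨4, 7, true, [13,12,13,10,12,13,12,13,2,13,5,10], [5,11,12,13,10,13,12,11,2,11,10], 5, [([], 3743, [])], []⟩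
def c3745 : Clm := ⟨7, 5, true, [5,10,12,13,5,2,13,5,10], [5,8,10,13,10,2,1,13,4], 15, [([], 3694, [1,12]), ([54], 61, [9,11,5,11,12,13,10,12,8]), ([111,102], 120, [3,5,8,11,5])], []⟩
def c3746 : Clm := ⟨5, 7, true, [1,8,11,13,2,11,13,2], [5,10,12,13,5,2,13,5,10], 5, [([], 3745, [])], []⟩
def c3747 : Clm := ⟨7, 5, true, [1,3,12,4,5,10,4], [1,8,11,13,2,11,13,2], 5, [([], 3746, [])], []⟩
def c3748 : Clm := ⟨7, 5, true, [3,10,12,13,5,2,13,5,10], [1,8,12,11,13,12,8,13,12,2,7,13,6,5,6,10,2], 15, [([], 3694, [1,3,5,12]), ([48,52,54], 3693, [5,9,12]), ([], 3724, [8,11,3,12,11,13,12])], []⟩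
def c3749 : Clm := ⟨5, 7, true, [1,8,12,11,13,12,8,13,12,2,7,13,2,6,5,6], [3,10,12,13,5,2,13,5,10], 5, [([], 3748, [])], []⟩
def c3750 : Clm := ⟨7, 6, true, [3,5,13,5,10,12,11,2,13,5,10], [1,8,12,11,13,5,10,12,8,13,2,1,6,13,4,6,6], 15, [([], 3694, [13,3,12]), ([88,61,49,42], 264, [3,13,12,8,11,12,11,12]), ([373], 1011, [3,12,8,11,12,9,12,13])], []⟩
def c3751 : Clm := ⟨6, 7, true, [1,5,13,5,2,6,9,13,7,13,2], [3,5,13,5,10,12,11,2,13,5,10], 5, [([], 3750, [])], []⟩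
def c3752 : Clm := ⟨7, 5, true, [10,12,13,5,2,13,5,10], [1,5,10,13,12,8,2,1,13,4], 15, [([], 3694, [1,5,12]), ([88,54,41], 61, [9,13,10,13,10,12,8,11]), ([111,100,96], 120, [5,10,13,3,12,8,11,10])], []⟩
def c3753 : Clm := ⟨5, 7, true, [10,11,12,8,11,10,13,2,11,13,2], [10,12,13,5,2,13,5,10], 5, [([], 3752, [])], []⟩
def c3754 : Clm := ⟨7, 5, true, [1,13,5,10,12,13,5,2,13,5,10], [1,9,11,13,12,11,2,7,13,2,1,6,13], 15, [([], 3694, [1,11,12]), ([50,44,40], 264, [3,11,5,10,13,12,9,13]), ([], 3159, [9,11,13])], []⟩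
def c3755 : Clm := ⟨5, 7, true, [1,9,11,13,12,11,2,7,13,2,6,13,3], [1,13,5,10,12,13,5,2,13,5,10], 5, [([], 3754, [])], []⟩
def c3756 : Clm := ⟨7, 5, true, [13,3,12,4,5,10,4], [1,9,11,13,12,11,2,7,13,2,6,13,3], 5, [([], 3755, [])], []⟩
def c3757 : Clm := ⟨7, 6, true, [3,13,5,10,12,11,2,13,5,10], [5,12,13,12,9,13,10,13,2,1,6,13,4,6,6], 15, [([], 3694, [5,13,3,12]), ([41,60,46,89], 264, [3,10,12,13,12,8,12,13,10]), ([373], 1011, [8,11,13,12,9])], []⟩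
def c3758 : Clm := ⟨6, 7, true, [3,10,11,10,12,13,5,10,2,6,9,13,7,13,2], [3,13,5,10,12,11,2,13,5,10], 5, [([], 3757, [])], []⟩
def c3759 : Clm := ⟨7, 5, true, [1,13,12,13,5,2,13,5,10], [1,9,13,5,12,11,10,12,9,2,1,4,6,13,6,12,9], 15, [([], 3694, [11,3,10,12]), ([46,44,40], 264, [3,8,13,10,11,12,8,11,5]), ([373,370], 1068, [5,11,5,10,12,9,13,12,13])], []⟩
def c3760 : Clm := ⟨5, 7, true, [11,12,9,12,13,12,9,2,7,13,2,12,6,9], [1,13,12,13,5,2,13,5,10], 5, [([], 3759, [])], []⟩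
def c3761 : Clm := ⟨7, 6, true, [10,11,13,5,12,11,2,13,5,10], [3,5,8,10,13,10,12,8,11,2,1,6,9,13,4,7], 15, [([], 3694, [11,3,13,12]), ([60,89,60,49,40], 264, [1,13,10,12,9,13,10]), ([], 1079, [1,11,5,10,12,9,11,12,8])], []⟩
def c3762 : Clm := ⟨6, 7, true, [3,5,8,10,13,10,12,11,2,13,7,13,4,6], [10,11,13,5,12,11,2,13,5,10], 5, [([], 3761, [])], []⟩
def c3763 : Clm := ⟨7, 5, true, [5,13,10,12,11,2,13,5,10], [1,10,13,12,9,12,13,12,2,6,13,2,12,9], 15, [([], 3694, [13,3,5,12]), ([42,89,50], 264, [1,9,10,11,12,8,13,12,8]), ([373], 1068, [8,13,5,10,12,9])], []⟩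
def c3764 : Clm := ⟨5, 7, true, [1,10,13,12,9,12,13,12,2,6,13,10,2,12,9], [5,13,10,12,11,2,13,5,10], 5, [([], 3763, [])], []⟩
def c3765 : Clm := ⟨7, 6, true, [11,3,5,10,12,11,2,13,5,10], [8,10,11,3,10,12,13,2,1,13,7,5,4,6], 15, [([], 3694, [1,5,11,12]), ([88,60,89,46], 264, [9,11,3,5,10]), ([372,370], 1079, [8,13,3,5,10,12,9,11])], []⟩
def c3766 : Clm := ⟨6, 7, true, [8,10,11,3,10,12,13,2,13,7,5,4,3,6], [11,3,5,10,12,11,2,13,5,10], 5, [([], 3765, [])], []⟩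
def c3767 : Clm := ⟨7, 6, true, [11,3,12,11,2,13,5,10], [1,10,13,12,8,13,12,11,12,2,6,9,13,4,6,9,13], 15, [([], 3694, [5,11,3,10,12]), ([61,50,48,42,40], 264, [5,9,10,13,3,5,12,13]), ([372,370], 1530, [3,5,10,12,8,11])], []⟩
def c3768 : Clm := ⟨6, 7, true, [1,11,12,9,13,12,11,10,13,2,13,7,5,7,13,4], [11,3,12,11,2,13,5,10], 5, [([], 3767, [])], []⟩
def c3769 : Clm := ⟨7, 5, true, [1,10,11,13,12,11,2,13,5,10], [5,12,8,11,3,12,8,2,4,6,13,7,12,4,3], 15, [([], 3694, [1,11,13,5,12]), ([54,88,46,52], 264, [5,13,10,12,11,10,12,9]), ([372,370], 3159, [1,5,12,8,11,12,8,11,12])], []⟩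
def c3770 : Clm := ⟨5, 7, true, [5,12,8,11,3,12,8,2,1,4,6,13,7,12,4], [1,10,11,13,12,11,2,13,5,10], 5, [([], 3769, [])], []⟩
def c3771 : Clm := ⟨7, 6, true, [13,10,12,11,2,13,5,10], [1,12,11,12,8,12,13,10,11,2,1,6,9,13,4,6,13], 15, [([], 3694, [5,13,3,5,12]), ([89,61,54,89,41], 264, [9,13,12,9,13,12,13,10]), ([], 1530, [8,10,11,3,12,8,13,12,13])], []⟩
def c3772 : Clm := ⟨6, 7, true, [1,10,12,11,12,11,10,2,1,4,7,12,13,2,6], [13,10,12,11,2,13,5,10], 5, [([], 3771, [])], []⟩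
def c3773 : Clm := ⟨7, 6, true, [5,11,5,12,4,5,10,4], [1,10,12,11,12,11,10,2,1,4,7,12,13,2,6], 5, [([], 3772, [])], []⟩
def c3774 : Clm := ⟨7, 6, true, [1,11,13,5,10,12,11,2,13,5,10], [8,10,12,13,3,10,12,11,13,2,1,6,9,13,4,6], 15, [([], 3694, [13,5,13,12]), ([61,52,40,89], 264, [10,12,9,13,10,12,9,11]), ([], 1530, [1,11,13,10,12,9,11])], []⟩
def c3775 : Clm := ⟨6, 7, true, [5,8,13,5,12,9,13,2,13,7,13,2,7], [1,11,13,5,10,12,11,2,13,5,10], 5, [([], 3774, [])], []⟩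
def c3776 : Clm := ⟨7, 5, true, [10,11,3,13,12,11,2,13,5,10], [8,12,8,11,12,9,12,4,6,5,10,4], 15, [([], 3694, [1,5,11,13,12]), ([50,52,89,49], 3693, [1,11,12,9,13,12,13,10]), ([], 3701, [3,9,12,13,12,9])], []⟩
def c3777 : Clm := ⟨5, 7, true, [11,12,8,11,10,12,13,10,2,7,13,5,10], [10,11,3,13,12,11,2,13,5,10], 5, [([], 3776, [])], []⟩
def c3778 : Clm := ⟨7, 6, true, [3,13,10,12,11,2,13,5,10], [1,12,13,12,8,2,7,11,12,8,11,2], 15, [([], 3694, [1,5,13,5,12]), ([54,88,61,48], 264, [5,10,11,5,12,11,10,12,9]), ([], 588, [1,12,9,11,12,8,13])], []⟩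
def c3779 : Clm := ⟨6, 7, true, [12,13,3,12,2,6,9,13,6,13,2], [3,13,10,12,11,2,13,5,10], 5, [([], 3778, [])], []⟩
def c3780 : Clm := ⟨7, 6, true, [3,13,5,12,11,2,13,5,10], [3,12,9,12,13,12,13,10,2,7,11,12,8,11,2], 15, [([], 3694, [5,13,3,5,10,12]), ([89,89,54,61], 264, [9,10,13,10,12,11,12,8,11]), ([372,370], 1079, [5,8,13,12,8,11,12,13,10])], []⟩
def c3781 : Clm := ⟨6, 7, true, [11,12,8,13,10,11,12,11,2,6,9,13,6,13,2], [3,13,5,12,11,2,13,5,10], 5, [([], 3780, [])], []⟩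
def c3782 : Clm := ⟨7, 6, true, [1,13,12,11,4,5,10], [5,8,10,12,9,11,12,11,13,2,1,11,13,12,13], 17, [([], 3694, [11,3,12]), ([89,61,54,89,41], 264, [3,11,10,12,8,13,12,13]), ([372], 2322, [1,8,11,12,11,10,13])], []⟩
def c3783 : Clm := ⟨6, 7, true, [13,10,12,9,12,13,12,8,2,11,13,12,13], [1,13,12,11,4,5,10], 5, [([], 3782, [])], []⟩
def c3784 : Clm := ⟨7, 6, true, [13,12,4,5,10], [13,10,12,9,12,13,12,8,2,11,13,12,13], 5, [([], 3783, [])], []⟩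
def c3785 : Clm := ⟨6, 7, true, [1,5,13,12,9,13,12,8,2,1,4,12,11,10], [8,11,5,12,9,11,12,11,2,11,10], 11, [([], 3784, [1,13,12,13,10,13,10]), ([], 3694, [5,11,3,5,12]), ([50,89,60,44], 3693, [1,5,12,8,11,12,9,13,10])], []⟩
def c3786 : Clm := ⟨7, 6, true, [3,12,8,13,10,12,9,11,13,2,1,11,10], [1,5,13,12,9,13,12,8,2,1,4,12,11,10], 5, [([], 3785, [])], []⟩
def c3787 : Clm := ⟨6, 7, true, [1,8,13,5,10,12,9,13,2,1,4], [1,9,12,13,5,2,11,10], 11, [([], 3784, [9,12,13,10,13,12,8]), ([], 3694, [5,12,11,3,5]), ([48,46], 3693, [1,9,10,11,5,13,12])], []⟩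
def c3788 : Clm := ⟨7, 6, true, [1,9,12,13,5,10,2,1,11,10], [1,8,13,5,10,12,9,13,2,1,4], 5, [([], 3787, [])], []⟩
def c3789 : Clm := ⟨6, 7, true, [8,13,5,10,12,9,13,10,12,2,4,13], [3,10,12,8,13,12,9,13,5,2,11,10], 11, [([], 3784, [3,12,8,11,12,9,11,12]), ([], 3694, [5,13,5,13,12]), ([89,89,61,42], 3693, [12,8,11,10,13,12,9])], []⟩
def c3790 : Clm := ⟨7, 6, true, [8,13,5,12,11,12,9,12,2,1,11,10], [8,13,5,10,12,9,13,10,12,2,4,13], 5, [([], 3789, [])], []⟩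
def c3791 : Clm := ⟨6, 7, true, [8,13,10,12,9,11,10,2,13,5,10], [10,12,13,10,13,4,5,10,4], 13, [([], 3784, [1,9,11,13,10,12,11,12,8]), ([], 3694, [12,11,3]), ([42], 3693, [3,12,11,5,10,13])], []⟩
def c3792 : Clm := ⟨7, 6, true, [1,12,11,13,2,13,5,10], [8,13,10,12,9,11,10,2,13,5,10], 5, [([], 3791, [])], []⟩
def c3793 : Clm := ⟨6, 7, true, [5,8,11,5,12,9,11,4,5,10,4], [1,12,11,13,2,13,5,10], 5, [([], 3792, [])], []⟩
def c3794 : Clm := ⟨6, 7, true, [1,9,13,12,8,11,13,5,12,4,12,4], [1,9,11,12,13,10,11,4,5,10,4], 13, [([], 3784, [10,13,5,11]), ([], 3694, [11,3,12,11]), ([61,61], 3693, [1,9,11,12,13,10])], []⟩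
def c3795 : Clm := ⟨7, 6, true, [9,11,10,12,11,13,5,2,13,5,10], [1,9,13,12,8,11,13,5,12,4,12,4], 5, [([], 3794, [])], []⟩
def c3796 : Clm := ⟨7, 6, true, [6], [12,11,13,12,8,13,12,13,4,5,6,9,10,13], 21, [([], 3694, [1,3]), ([60,50,42,40], 264, [5,9,12,11,5,10,12,9,11])], []⟩
def c3797 : Clm := ⟨6, 7, true, [8,10,12,13,5,12,13,10,4,5,6,9,10,13], [6], 5, [([], 3796, [])], []⟩
def c3798 : Clm := ⟨7, 7, true, [8,13,5,10,4,7,9], [1,11,10,12,13,12,9,13,4,5,7,9,10], 43, [([], 3694, [11,3,10]), ([40,61,89], 61, [8,10,12,11,3,12]), ([111,111], 3742, [5,8,11,5])], []⟩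
def c3799 : Clm := ⟨7, 7, true, [13,10,12,11,5,12,9,4,5,7,9,10], [8,13,5,10,4,7,9], 5, [([], 3798, [])], []⟩
def c3800 : Clm := ⟨4, 7, true, [12,8,13,10,12,11,12,13,2,4,12,11,10], [3,13,12,9,13,12,11,2,1,13,12,4,8,10,2], 13, [([], 3699, [5,11,3,10,12]), ([7427,7412], 3720, [3,10,11,12,8,11,10,13]), ([252,228], 3737, [8,12,9,11,3,12,11,10])], []⟩
def c3801 : Clm := ⟨7, 4, true, [3,13,12,9,13,12,11,2,1,13,2,12,4,8], [12,8,13,10,12,11,12,13,2,4,12,11,10], 5, [([], 3800, [])], []⟩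
def c3802 : Clm := ⟨4, 7, true, [12,8,13,10,12,11,12,13,2,4,3,12,11,10], [3,13,12,9,13,12,11,2,1,13,2,12,4,8], 5, [([], 3801, [])], []⟩
def c3803 : Clm := ⟨7, 6, true, [1,11,5,11,12,8,11,13,12,2,4,12,11,13,12,7,8], [5,9,11,13,12,8,13,12,2,1,13,4,12,11,10], 15, [([], 3744, [13,3,12,8,11,13]), ([211,333,211], 3699, [1,8,10,11,5,13,12]), ([7393,7390], 3793, [1,5,9,12,13,5,12,8,11])], []⟩
def c3804 : Clm := ⟨6, 7, true, [8,13,12,13,10,11,12,9,2,11,13,12,4,13], [1,11,5,11,12,8,11,13,12,2,4,12,11,13,12,7,8], 5, [([], 3803, [])], []⟩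
def c3805 : Clm := ⟨4, 7, true, [1,8,12,9,11,5,11,12,8,2,4,3,13], [10,12,8,11,3,12,8,13,2,4,5,13], 13, [([], 3699, [12,13,3,10,12]), ([7390,7427,7412], 3720, [12,11,12,8,11]), ([253,226,252], 3747, [5,12,11,5,10,12,9,13,12])], []⟩
def c3806 : Clm := ⟨7, 4, true, [3,8,11,12,8,11,12,11,13,2,1,13,4,5], [1,8,12,9,11,5,11,12,8,2,4,3,13], 5, [([], 3805, [])], []⟩
def c3807 : Clm := ⟨6, 7, true, [5,12,11,13,12,9,13,12,8,2,1,13,2,12,6,13,10], [1,8,11,5,10,4,12,4,10,4], 11, [([], 1613, [1,12,8,12,13,5,10,12,8]), ([370], 1640, [13,5,12,8,11,12,9,12]), ([210,202,333], 3699, [1,3,8,12])], []⟩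
def c3808 : Clm := ⟨7, 6, true, [5,12,8,13,10,12,11,12,4,12,4,10,4,3], [5,12,11,13,12,9,13,12,8,2,1,13,2,12,6,13,10], 5, [([], 3807, [])], []⟩
def c3809 : Clm := ⟨6, 7, true, [3,9,10,11,12,8,13,12,2,7,11,5,4,6,13,2], [3,5,9,13,10,4,12,4,10,4], 11, [([], 1350, [1,9,12,9,13,10,12,8]), ([373,370], 1355, [3,8,13,12,13,10,11,12,8]), ([210,204,202], 3699, [9,11,3,13,12])], []⟩
def c3810 : Clm := ⟨7, 6, true, [3,11,5,10,12,13,12,9,4,12,4,10,4,3], [3,9,10,11,12,8,13,12,2,7,11,5,4,6,13,2], 5, [([], 3809, [])], []⟩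
def c3811 : Clm := ⟨6, 7, true, [9,12,9,11,10,13,12,11,2,1,13,7,12,4,5,10], [9,13,10,13,12,8,4,5,10,12,4,6], 11, [([], 1590, [1,10,12,9,13,10,12]), ([373], 3459, [10,12,8,13,10,12,9,12]), ([333,211], 3699, [1,11,13,5,12])], []⟩
def c3812 : Clm := ⟨7, 6, true, [11,10,12,8,13,12,9,11,4,10,12,13,4,6], [9,12,9,11,10,13,12,11,2,1,13,7,12,4,5,10], 5, [([], 3811, [])], []⟩
def c3813 : Clm := ⟨6, 7, true, [9,11,13,10,12,9,13,2,6,9,13,4,6,5], [11,5,10,4,12,4,10,4], 11, [([], 3400, [1,5,8,10,12,9]), ([373,370], 801, [1,9,13,12,8,11,12,9]), ([332,210,202], 3699, [11,3,12])], []⟩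
def c3814 : Clm := ⟨7, 6, true, [5,8,13,10,12,13,12,9,4,12,4,10,4,3], [9,11,13,10,12,9,13,2,6,9,13,4,6,5], 5, [([], 3813, [])], []⟩
def c3815 : Clm := ⟨6, 7, true, [1,11,12,8,13,10,12,2,4,5,12,8,13,3], [5,8,13,3,10,4,12,4,10,4], 11, [([], 1072, [1,8,12,9,11,13,5,12,11]), ([372,370], 1016, [12,11,5,10,12,9,11,12]), ([333,333,211,202], 3699, [8,13,3,12])], []⟩
def c3816 : Clm := ⟨7, 6, true, [1,12,8,11,5,10,12,11,12,4,12,4,10,4,3], [1,11,12,8,13,10,12,2,4,5,12,8,13,3], 5, [([], 3815, [])], []⟩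
def c3817 : Clm := ⟨6, 7, true, [12,13,5,10,12,9,11,2,4,5,13,6,5,13,6], [1,9,10,13,10,12,13,12,9,2,4,12,11,10], 11, [([], 2375, [8,11,10,12,8,11,10,12]), ([370], 765, [12,8,11,3,12,8]), ([210,332], 3699, [8,11,13,10,12])], []⟩
def c3818 : Clm := ⟨7, 6, true, [1,9,10,13,10,12,13,12,9,2,4,3,12,11,10], [12,13,5,10,12,9,11,2,4,5,13,6,5,13,6], 5, [([], 3817, [])], []⟩
def c3819 : Clm := ⟨6, 7, true, [3,12,13,10,12,9,11,10,2,13,2,4,6,5,13,6], [1,9,10,13,10,12,13,12,9,2,4,3,12,11,10], 5, [([], 3818, [])], []⟩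
def c3820 : Clm := ⟨6, 7, true, [11,5,11,12,8,13,10,12,11,2,4,3,6,12,11,5,4], [1,8,10,13,10,12,8,4,5,10,12,4,6], 11, [([], 3462, [10,12,8,11,3,12,8]), ([], 679, [8,12,13,3,10,12,11]), ([211,332], 3699, [1,5,9,12])], []⟩
def c3821 : Clm := ⟨7, 6, true, [10,11,10,12,9,13,12,4,10,12,13,4,6], [11,5,11,12,8,13,10,12,11,2,4,3,6,12,11,5,4], 5, [([], 3820, [])], []⟩
def c3822 : Clm := ⟨6, 7, true, [3,5,9,10,13,10,2,4,5,6,13,4,10], [1,11,5,10,12,11,12,8,2,4,5,12,11,10], 11, [([], 637, [9,13,12,9,11]), ([373], 260, [11,13,10,12,9,12,13,10]), ([210,333], 3699, [1,3,5,8,10,12])], []⟩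
def c3823 : Clm := ⟨7, 6, true, [1,12,9,12,11,5,11,12,2,4,7,13,6,9], [3,5,9,10,13,10,2,4,5,6,13,4,10], 5, [([], 3822, [])], []⟩
def c3824 : Clm := ⟨6, 7, true, [13,5,12,8,11,5,11,12,11,2,4,6,12,11,13,5,12], [3,5,8,11,10,12,9,12,4,5,10,12,4,6], 11, [([], 1391, [3,5,9,13,5,10,12,11]), ([372,370], 591, [3,12,8,13,12,13,10,13]), ([204,332,202], 3699, [5,13,3,12])], []⟩
def c3825 : Clm := ⟨7, 6, true, [9,13,12,8,11,10,12,11,10,4,10,12,13,4,6], [13,5,12,8,11,5,11,12,11,2,4,6,12,11,13,5,12], 5, [([], 3824, [])], []⟩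
def c3826 : Clm := ⟨6, 7, true, [3,10,12,11,10,12,9,11,2,1,4,12,8,11,13], [8,11,3,13,12,11,10,2,4,12,11,10], 11, [([], 3691, [3,13,5,10,13,12]), ([], 765, [12,8,12,11,12,8,11]), ([332,202], 3699, [8,12,13,3,10])], []⟩
def c3827 : Clm := ⟨7, 6, true, [8,11,3,13,12,11,10,2,4,3,12,11,10], [3,10,12,11,10,12,9,11,2,1,4,12,8,11,13], 5, [([], 3826, [])], []⟩
def c3828 : Clm := ⟨6, 7, true, [3,10,12,11,10,12,9,11,2,4,3,12,8,11,13], [8,11,3,13,12,11,10,2,4,3,12,11,10], 5, [([], 3827, [])], []⟩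
def c3829 : Clm := ⟨6, 7, true, [3,13,12,8,11,10,12,8,13,2,4,5,12,8,13,3], [1,8,13,10,13,12,13,12,9,2,4,12,11,10], 11, [([], 3465, [1,10,13,12,8,11,13,5]), ([373], 1127, [5,10,13,12,9,13,10,12]), ([210,332,204,202], 3699, [1,11,10,12])], []⟩
def c3830 : Clm := ⟨7, 6, true, [1,8,13,10,13,12,13,12,9,2,4,3,12,11,10], [3,13,12,8,11,10,12,8,13,2,4,5,12,8,13,3], 5, [([], 3829, [])], []⟩
def c3831 : Clm := ⟨6, 7, true, [3,13,12,8,11,10,12,8,13,2,1,4,5,12,8,13], [1,8,13,10,13,12,13,12,9,2,4,3,12,11,10], 5, [([], 3830, [])], []⟩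
def c3832 : Clm := ⟨6, 7, true, [9,12,11,5,10,12,9,11,5,2,4,12,9,11,13,6], [5,9,10,11,13,12,11,10,2,4,12,11,10], 11, [([], 3691, [5,11,5,11,12,11,13]), ([], 765, [12,9]), ([205,211,332], 3699, [9,11,13,12,13,10])], []⟩
def c3833 : Clm := ⟨7, 6, true, [5,9,10,11,13,12,11,10,2,4,3,12,11,10], [9,12,11,5,10,12,9,11,5,2,4,12,9,11,13,6], 5, [([], 3832, [])], []⟩
def c3834 : Clm := ⟨6, 7, true, [10,13,10,12,11,10,12,9,2,6,13,5,6,5], [8,11,5,10,13,12,8,4,5,10,12,4,6], 11, [([], 2371, [10,13,12,11,10,13]), ([372], 646, [9,12,8,13,10,12,13,12]), ([332,202,333], 3699, [1,5,9,13,12])], []⟩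
def c3835 : Clm := ⟨7, 6, true, [11,10,13,12,9,13,12,4,10,12,13,4,6], [10,13,10,12,11,10,12,9,2,6,13,5,6,5], 5, [([], 3834, [])], []⟩
def c3836 : Clm := ⟨6, 7, true, [10,13,10,12,11,12,9,2,1,6,13,5,6,5], [11,10,13,12,9,13,12,4,10,12,13,4,6], 5, [([], 3835, [])], []⟩
def c3837 : Clm := ⟨6, 7, true, [1,5,13,12,11,10,13,12,8,2,4,6,12,4,13,7,12], [9,10,13,10,12,11,12,8,13,2,4,5,12,11,10], 11, [([], 2704, [1,10,12,8,11,5,12,11,13]), ([], 1133, [8,12,9,11,3,10,13,12,11]), ([211,332], 3699, [5,13,3,10,12])], []⟩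
def c3838 : Clm := ⟨7, 6, true, [1,12,8,13,5,13,12,2,4,7,13,6,9], [1,5,13,12,11,10,13,12,8,2,4,6,12,4,13,7,12], 5, [([], 3837, [])], []⟩
def c3839 : Clm := ⟨6, 7, true, [1,5,13,5,10,12,11,12,8,2,11,12,4,12,4,13,5], [1,12,8,13,5,13,12,2,4,7,13,6,9], 5, [([], 3838, [])], []⟩
def c3840 : Clm := ⟨6, 7, true, [5,8,11,3,5,12,9,2,1,13,7,9,13,2], [5,11,5,10,12,13,12,9,4,12,4,10,4], 11, [([], 1372, [1,12,8,11,12,8,11,5,10]), ([], 319, [5,8,13,10,12,9,13,12]), ([333], 3699, [5,9,11,5,11,12,11])], []⟩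
def c3841 : Clm := ⟨7, 6, true, [9,13,10,4,12,4,10,4,3], [5,8,11,3,5,12,9,2,1,13,7,9,13,2], 5, [([], 3840, [])], []⟩
def c3842 : Clm := ⟨6, 7, true, [1,11,12,9,11,5,10,2,1,6,6,13,4,5,6], [9,13,10,4,12,4,10,4,3], 5, [([], 3841, [])], []⟩
def c3843 : Clm := ⟨7, 6, true, [5,11,5,12,9,13,12,8,2,13,2,4,7,13,6], [1,13,12,13,10,13,12,2,1,4,12,6,13,6,8], 17, [([], 3802, [13,5,13,5]), ([], 3699, [1,13,5,10,12]), ([7426,7390], 3718, [1,13,5,10])], []⟩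
def c3844 : Clm := ⟨6, 7, true, [1,13,12,13,10,13,12,2,4,12,6,13,3,6,8], [5,11,5,12,9,13,12,8,2,13,2,4,7,13,6], 5, [([], 3843, [])], []⟩
def c3845 : Clm := ⟨7, 6, true, [10,13,3,12,8,11,12,9,2,4,5,7,13,6,13], [1,13,12,13,10,13,12,2,4,12,6,13,3,6,8], 5, [([], 3844, [])], []⟩
def c3846 : Clm := ⟨6, 7, true, [3,13,5,12,9,11,12,2,1,11,12,4,12,7,8], [9,12,8,11,13,5,12,9,2,4,3], 11, [([], 1653, [1,5,9,10,12,8,13,12,8]), ([370], 473, [1,10,12,11,10,12,8,11,10]), ([200,332,211], 3699, [9,11,12,13,12,13,10])], []⟩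
def c3847 : Clm := ⟨7, 6, true, [9,12,8,11,13,5,12,9,2,1,4], [3,13,5,12,9,11,12,2,1,11,12,4,12,7,8], 5, [([], 3846, [])], []⟩
def c3848 : Clm := ⟨6, 7, true, [3,5,13,12,9,12,2,1,7,11,5], [5,8,12,11,13,2,4,13,3], 11, [([], 637, [1,5,8]), ([373], 260, [9,13,3,5,10]), ([332,332,210,202], 3699, [8,13,10,13,10,12])], []⟩
def c3849 : Clm := ⟨7, 6, true, [5,8,12,11,13,2,1,4,13], [3,5,13,12,9,12,2,1,7,11,5], 5, [([], 3848, [])], []⟩
def c3850 : Clm := ⟨7, 6, true, [11,13,5,10,12,9,11,13,2,6,11,5,6,11,13], [3,9,10,12,13,10,12,13,2,1,13,6,5,12], 17, [([], 3744, [1,5,11,5,12,8,11]), ([211,333,211], 3699, [3,5,8,10,12,13]), ([7390,7426,7413], 3842, [5,13,5,10])], []⟩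
def c3851 : Clm := ⟨6, 7, true, [11,12,8,11,5,11,12,8,2,13,6,5,12], [11,13,5,10,12,9,11,13,2,6,11,5,6,11,13], 5, [([], 3850, [])], []⟩
def c3852 : Clm := ⟨6, 7, true, [1,8,12,13,5,10,12,8,13,2,13,2,12,4,3,7], [10,11,12,8,13,12,2,4,13,6,6,13,2], 47, [([], 1271, [13,3,5,10,12,11,12,9]), ([], 610, [3,10,12,9,11,10,12,11,10]), ([332,210,202], 3699, [1,8,13,10])], []⟩
def c3853 : Clm := ⟨7, 6, true, [1,12,9,12,13,10,11,4,6,10,12,9,12,4], [1,8,12,13,5,10,12,8,13,2,13,2,12,4,3,7], 5, [([], 3852, [])], []⟩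
def c3854 : Clm := ⟨6, 7, true, [8,12,13,10,12,11,2,11,5,10,12,4,5], [10,13,10,12,9,11,12,11,4,6,5,9], 47, [([], 197, [13,3,12,9,11,12]), ([], 319, [9,13,12,8,13,5,12,9,11]), ([210,204,202], 3699, [1,3,12,8])], []⟩
def c3855 : Clm := ⟨7, 6, true, [10,13,3,10,12,9,11,12,4,6,5,9], [8,12,13,10,12,11,2,11,5,10,12,4,5], 5, [([], 3854, [])], []⟩
def c3856 : Clm := ⟨6, 7, true, [5,8,10,13,12,9,11,10,12,4,5,12,8], [13,10,13,12,9,12,11,13,4,7,12,7], 47, [([], 195, [5,13,5,12,8,11,12,13]), ([], 1008, [8,12,11,13,12,9,13,5]), ([202], 3699, [1,3,12,9])], []⟩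
def c3857 : Clm := ⟨7, 6, true, [1,8,11,10,13,12,8,13,4,7,12,7], [5,8,10,13,12,9,11,10,12,4,5,12,8], 5, [([], 3856, [])], []⟩
def c3858 : Clm := ⟨6, 7, true, [13,12,9,13,12,11,12,8,4,5,12,8], [1,8,11,10,13,12,8,13,4,7,12,7], 5, [([], 3857, [])], []⟩
def c3859 : Clm := ⟨6, 7, true, [11,10,12,11,12,13,10,4,12,8], [5,12,8,11,5,10,12,4,5,7,12], 47, [([], 198, [1,10,13,12,13,10,12,8]), ([], 1019, [5,13,12,8,12,11,12]), ([202,204,211], 3699, [1,3,12,8,12])], []⟩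
def c3860 : Clm := ⟨7, 6, true, [1,12,8,13,5,10,12,13,5,4,5,7,12], [11,10,12,11,12,13,10,4,12,8], 5, [([], 3859, [])], []⟩
def c3861 : Clm := ⟨6, 7, true, [1,11,10,12,11,12,13,10,11,4,12,8], [1,12,8,13,5,10,12,13,5,4,5,7,12], 5, [([], 3860, [])], []⟩
def c3862 : Clm := ⟨7, 5, true, [1,11,5,10,4,6], [9,13,10,11,12,2,13,7,10,13,4,6], 21, [([], 3698, []), ([202,205,210], 145, [12,8,11,13,5,12,9,11])], []⟩
def c3863 : Clm := ⟨5, 7, true, [3,5,10,13,10,2,7,9,13,7,5,10], [1,11,5,10,4,6], 5, [([], 3862, [])], []⟩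
def c3864 : Clm := ⟨6, 7, true, [5,9,11,12,11,10,12,13,12,2,1,13,6,9,10,13], [13,3,5,10,12,11,4,12,4], 9, [([], 589, [1,13,12,9,12,11,5,12,9]), ([], 311, [9,11,3,12,8,13,12,13]), ([253], 3702, [1,3,5,12])], []⟩
def c3865 : Clm := ⟨7, 6, true, [3,11,12,8,11,12,9,11,10,4,12,4], [5,9,11,12,11,10,12,13,12,2,1,13,6,9,10,13], 5, [([], 3864, [])], []⟩
def c3866 : Clm := ⟨7, 6, true, [1,13,5,10,12,13,12,9,12,2,6,9,13,4,12,11], [3,12,9,11,12,9,2,4,7,7,13,12,6,13], 15, [([], 3726, [3,8,12,11,13,10,12,8]), ([252], 3702, [3,8,11,10,13,12]), ([7390], 3768, [10,11,12,9,12,11,10])], []⟩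
def c3867 : Clm := ⟨6, 7, true, [3,12,9,11,12,9,2,4,12,13,5,12,7,11], [1,13,5,10,12,13,12,9,12,2,6,9,13,4,12,11], 5, [([], 3866, [])], []⟩
def c3868 : Clm := ⟨7, 6, true, [1,13,5,10,12,9,13,5,2,4,3,5,12,9,13,4], [3,12,9,11,12,9,2,4,12,13,5,12,7,11], 5, [([], 3867, [])], []⟩
def c3869 : Clm := ⟨5, 7, true, [1,8,12,9,11,10,12,9,13,2,4,3,6,13,6,9], [9,13,10,11,12,9,13,12,2,1,13,4,12,11,10], 13, [([], 3702, [1,3,9,10,12]), ([7426,7390,7426], 3777, [1,8,12,11,13,5,10,12]), ([], 3702, [1,8,11,12,11,13,5,10])], []⟩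
def c3870 : Clm := ⟨7, 5, true, [3,10,13,12,8,13,5,2,11,13,12,4,13], [1,8,12,9,11,10,12,9,13,2,4,3,6,13,6,9], 5, [([], 3869, [])], []⟩
def c3871 : Clm := ⟨6, 7, true, [3,5,9,10,12,11,12,2,1,13,12,13,4,7], [1,5,11,10,12,9,11,12,8,4,5,10,12,4,6], 11, [([], 3461, [8,11,5,10,12,9]), ([372,370], 2125, [8,12,8,11,5,12,11,13,10]), ([253,228,252,226], 3702, [1,13,5,12])], []⟩
def c3872 : Clm := ⟨7, 6, true, [8,13,3,10,13,12,9,11,4,10,12,13,4,6], [3,5,9,10,12,11,12,2,1,13,12,13,4,7], 5, [([], 3871, [])], []⟩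
def c3873 : Clm := ⟨6, 7, true, [1,8,11,13,12,11,10,13,12,9,2,4,13,10,12,9,11,12], [9,10,12,8,11,12,9,11,2,4,6,13,3,7,13], 11, [([], 3654, [3,9,11,12,13]), ([373], 1130, [10,13,12,8,12,11,5]), ([227,252], 3702, [10,11,13,5,12,9,13])], []⟩
def c3874 : Clm := ⟨7, 6, true, [9,10,12,8,11,12,9,11,2,4,6,13,7,13], [1,8,11,13,12,11,10,13,12,9,2,4,13,10,12,9,11,12], 5, [([], 3873, [])], []⟩
def c3875 : Clm := ⟨6, 7, true, [11,3,10,12,11,10,12,9,2,1,13,4,5,6,13,2], [9,10,12,8,11,12,9,11,2,4,6,13,7,13], 5, [([], 3874, [])], []⟩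
def c3876 : Clm := ⟨6, 7, true, [10,13,5,12,11,12,9,12,2,1,13,12,4,6,12], [3,9,12,8,11,10,12,13,2,4,12,11,3,10], 11, [([], 2160, [1,8,11,12,9,12,13]), ([372], 1254, [1,5,8,11,13,10,12,13,12,9]), ([253], 3702, [12,9,13,3,10,11,12,8])], []⟩
def c3877 : Clm := ⟨7, 6, true, [3,9,12,8,11,10,12,13,2,1,4,12,11,10], [10,13,5,12,11,12,9,12,2,1,13,12,4,6,12], 5, [([], 3876, [])], []⟩
def c3878 : Clm := ⟨5, 7, true, [5,12,9,13,5,12,13,4,5,10,12,4,9], [9,10,13,10,12,11,4,7,9,10,12,4], 11, [([], 1053, [3,10,11,10,12,8]), ([], 1006, [3,9,10,11,12,11,10]), ([226], 3702, [1,11,12,8,13,12])], []⟩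
def c3879 : Clm := ⟨7, 5, true, [11,5,12,13,12,8,12,2,4,6,13,7,13,2], [5,12,9,13,5,12,13,4,5,10,12,4,9], 5, [([], 3878, [])], []⟩
def c3880 : Clm := ⟨5, 7, true, [5,10,13,12,8,12,11,12,13,2,11,10,12,11,12], [11,5,12,13,12,8,12,2,4,6,13,7,13,2], 5, [([], 3879, [])], []⟩
def c3881 : Clm := ⟨6, 7, true, [5,10,13,12,9,13,12,2,7,13,6,9,12], [1,13,5,12,9,11,12,11,10,2,4,5,12,11,10], 11, [([], 3827, [5,9,11,13,12,11,10]), ([7426,7413,7392], 3863, [9,11,12,9,11,13,10]), ([226,252,226], 3702, [5,9,11,3,12,13,10])], []⟩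
def c3882 : Clm := ⟨7, 6, true, [1,8,10,12,9,11,12,11,2,4,7,13,6,9], [5,10,13,12,9,13,12,2,7,13,6,9,12], 5, [([], 3881, [])], []⟩
def c3883 : Clm := ⟨6, 7, true, [9,12,8,13,5,12,11,13,2,7,11,13,12,11,2], [8,10,12,9,13,5,10,12,4,12,4,10,4], 11, [([], 351, [1,3,8,10]), ([], 375, [1,5,8,13,5,12,11,12,8]), ([227,253], 3702, [11,3,13,12,13])], []⟩
def c3884 : Clm := ⟨7, 6, true, [12,13,10,12,11,13,5,4,12,4,10,4,3], [9,12,8,13,5,12,11,13,2,7,11,13,12,11,2], 5, [([], 3883, [])], []⟩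
def c3885 : Clm := ⟨6, 7, true, [10,13,12,8,13,5,12,9,2,13,6,5,4,8,13,7], [8,12,9,11,3,12,11,10,2,11,13,12,13,4], 11, [([], 2476, [5,12,9,13,10,12,9,11]), ([373], 490, [9,12,9,13,5,10,13,12]), ([226,253,227], 3702, [10,12,9,13,12,8])], []⟩
def c3886 : Clm := ⟨7, 6, true, [5,9,12,8,11,10,12,11,2,1,4,5,12,11,10], [10,13,12,8,13,5,12,9,2,13,6,5,4,8,13,7], 5, [([], 3885, [])], []⟩
def c3887 : Clm := ⟨6, 7, true, [5,8,11,12,8,11,12,11,2,4,7,12,13,4,6,9], [3,10,11,10,12,8,11,13,4,12,4,10,4], 11, [([], 1962, [8,11,3,10,12,8,13,10]), ([372], 986, [9,11,3,12,13,10,13]), ([252,227,253], 3702, [8,11,12,9,12,13,12,8])], []⟩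
def c3888 : Clm := ⟨7, 6, true, [9,13,3,10,12,9,13,12,13,4,12,4,10,4,3], [5,8,11,12,8,11,12,11,2,4,7,12,13,4,6,9], 5, [([], 3887, [])], []⟩
def c3889 : Clm := ⟨6, 7, true, [11,12,8,11,12,9,11,13,2,13,2,6,6], [8,12,9,11,3,10,12,11,13,2,4,12,11,3,10], 11, [([], 3411, [10,13,3,10,12,11,10,12]), ([372], 1850, [3,8,13,12,8,11,13,10]), ([253,228,252,226], 3702, [12,8,13,3,10,11,12,9])], []⟩
def c3890 : Clm := ⟨7, 6, true, [8,12,9,11,3,10,12,11,13,2,1,4,12,11,10], [11,12,8,11,12,9,11,13,2,13,2,6,6], 5, [([], 3889, [])], []⟩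
def c3891 : Clm := ⟨6, 7, true, [1,10,12,8,11,12,8,2,4,3,6,5,12], [10,12,11,12,9,11,12,2,4,3], 11, [([], 3827, [9,10,13,12,9,13,12,11]), ([7412,7427,7390], 3770, [5,9,12,11,13,10,12,11,13]), ([253,228,252,226], 3702, [3,9,10,13,12,13])], []⟩
def c3892 : Clm := ⟨7, 6, true, [10,12,11,12,9,11,12,2,1,4], [1,10,12,8,11,12,8,2,4,3,6,5,12], 5, [([], 3891, [])], []⟩
def c3893 : Clm := ⟨6, 7, true, [8,13,5,13,12,9,12,2,4,13,12,9,13,6,12], [5,8,11,5,10,12,13,12,9,4,6,5,10,12,4], 11, [([], 638, [8,10,12,8,11,3,5,12]), ([], 3246, [5,11,10,12,11]), ([226,253], 3702, [8,12,9,11,3,5,12])], []⟩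
def c3894 : Clm := ⟨7, 6, true, [1,12,13,10,12,11,12,13,4,6,10,12,13,4], [8,13,5,13,12,9,12,2,4,13,12,9,13,6,12], 5, [([], 3893, [])], []⟩
def c3895 : Clm := ⟨6, 7, true, [8,10,12,9,11,3,13,12,2,1,13,4,6,9,12,13], [8,13,10,12,8,11,12,8,4,12,4,10,4], 11, [([], 890, [3,12,9,11,13,10,12,11,12]), ([373], 2294, [9,11,10,12,8,11,10]), ([253,228,252,226], 3702, [5,12,11,3,5])], []⟩
def c3896 : Clm := ⟨7, 6, true, [1,5,12,11,10,12,4,12,4,10,4,3], [8,10,12,9,11,3,13,12,2,1,13,4,6,9,12,13], 5, [([], 3895, [])], []⟩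
def c3897 : Clm := ⟨5, 7, true, [11,13,5,12,9,11,12,2,13,6,5,4,10], [10,13,12,13,12,8,12,2,4,3], 11, [([], 840, [8,11,12,13,10,13,12,9,11]), ([372], 2731, [1,8,11,13,12,8,11,10]), ([226,253,226], 3702, [3,8,10,13,12,13])], []⟩
def c3898 : Clm := ⟨7, 5, true, [10,13,12,13,12,8,12,2,1,4], [11,13,5,12,9,11,12,2,13,6,5,4,10], 5, [([], 3897, [])], []⟩
def c3899 : Clm := ⟨6, 7, true, [8,11,12,13,12,9,12,11,10,2,13,2,1,6,9], [1,8,10,12,13,10,12,9,11,4,5,10,12,4,6], 11, [([], 2372, [12,8,12,11,5,10,12,8,11]), ([373,370], 2918, [3,9,12,11,12,8,12]), ([226,252,227], 3702, [1,5,11,12])], []⟩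
def c3900 : Clm := ⟨7, 6, true, [1,8,13,10,12,9,12,13,12,4,10,12,13,4,6], [8,11,12,13,12,9,12,11,10,2,13,2,1,6,9], 5, [([], 3899, [])], []⟩
def c3901 : Clm := ⟨6, 7, true, [10,11,12,9,13,12,9,13,2,13,6,5,4,8,13,7], [9,12,8,11,10,13,12,13,2,4,12,11,3,10], 11, [([], 2969, [1,10,11,10,12,13,10]), ([373], 928, [1,5,8,11,13,12,9,13,10]), ([253], 3702, [3,5,13,5,10,12,11,12])], []⟩
def c3902 : Clm := ⟨7, 6, true, [9,12,8,11,10,13,12,13,2,1,4,12,11,10], [10,11,12,9,13,12,9,13,2,13,6,5,4,8,13,7], 5, [([], 3901, [])], []⟩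
def c3903 : Clm := ⟨6, 7, true, [3,8,11,12,8,11,13,12,11,2,4,6,12,6,11,13,2], [9,12,8,11,10,13,12,13,2,1,4,12,11,10], 5, [([], 3902, [])], []⟩
def c3904 : Clm := ⟨3, 7, true, [8,10,12,11,3,12,2,1,13,12,4,10,4,3], [1,13,10,12,11,12,9,12,4,5,10,12,4,6], 11, [([], 192, [3,12,11,10,13,12,9]), ([], 277, [1,5,9,11,5,12,13,12]), ([226], 3702, [9,13,5,13,12])], []⟩
def c3905 : Clm := ⟨7, 3, true, [1,10,13,10,12,13,12,9,12,4,10,12,13,4,6], [8,10,12,11,3,12,2,1,13,12,4,10,4,3], 5, [([], 3904, [])], []⟩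
def c3906 : Clm := ⟨3, 7, true, [8,10,12,11,3,12,2,1,13,12,4,3,10,4], [1,10,13,10,12,13,12,9,12,4,10,12,13,4,6], 5, [([], 3905, [])], []⟩
def c3907 : Clm := ⟨6, 7, true, [10,12,13,3,12,9,12,2,13,10,12,11], [1,11,10,12,8,12,11,12,9,2,4,5,12,11,10], 11, [([], 2410, [1,5,12,9,13,12,8,13]), ([373,370], 1988, [1,11,12,9,12,13,10,11,12]), ([226,252,227], 3702, [5,9,12,13,3,10,12,8,12])], []⟩
def c3908 : Clm := ⟨7, 6, true, [3,13,12,8,11,12,11,13,2,4,7,13,6,9], [10,12,13,3,12,9,12,2,13,10,12,11], 5, [([], 3907, [])], []⟩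
def c3909 : Clm := ⟨6, 7, true, [10,12,13,3,12,9,12,2,1,13,10,12,11], [3,13,12,8,11,12,11,13,2,4,7,13,6,9], 5, [([], 3908, [])], []⟩
def c3910 : Clm := ⟨6, 7, true, [11,12,13,10,13,12,13,2,1,7,11,12,4,3,8], [8,12,9,11,12,8,11,5,2,4,3], 11, [([], 1098, [9,12,11,12,8,11,5,10,13]), ([370], 2755, [5,11,5,12,11,12,9]), ([253], 3702, [5,8,10,11,3,12,13])], []⟩
def c3911 : Clm := ⟨7, 6, true, [8,12,9,11,12,8,11,5,2,1,4], [11,12,13,10,13,12,13,2,1,7,11,12,4,3,8], 5, [([], 3910, [])], []⟩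
def c3912 : Clm := ⟨6, 7, true, [1,5,12,11,10,12,9,13,12,2,13,7,12,4,3,5], [3,13,12,9,13,12,2,4,3,13], 11, [([], 510, [8,11,12,11,13,5,12,8]), ([372], 2995, [8,12,8,11,12,11,13]), ([252,226], 3702, [1,9,12,11,13,10,12,11,13])], []⟩
def c3913 : Clm := ⟨7, 6, true, [3,13,12,9,13,12,2,4,13], [1,5,12,11,10,12,9,13,12,2,13,7,12,4,3,5], 5, [([], 3912, [])], []⟩
def c3914 : Clm := ⟨5, 7, true, [10,12,9,13,12,8,13,2,1,4,6,12,9,13,10], [1,11,12,11,13,10,12,4,6,5,10,12,4], 11, [([], 1741, [3,11,10,13,12,8]), ([372,370], 2211, [3,8,12,13,10,12,8,12,11]), ([226,253], 3702, [8,10,12,9,13,12,11,10,12])], []⟩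
def c3915 : Clm := ⟨7, 5, true, [8,10,13,10,13,12,11,12,9,4,6,10,12,13,4], [10,12,9,13,12,8,13,2,1,4,6,12,9,13,10], 5, [([], 3914, [])], []⟩
def c3916 : Clm := ⟨6, 7, true, [1,11,12,9,13,12,9,2,4,12,7,13,5,7,7], [13,5,12,9,11,5,12,11,10,2,4,12,11,3,10], 11, [([], 3518, [3,9,10,11,12,9,11,12,11]), ([370], 418, [5,10,11,12,9,11,12,13]), ([252], 3702, [1,9,10,11,13,12,13,10])], []⟩
def c3917 : Clm := ⟨7, 6, true, [13,5,12,9,11,5,12,11,10,2,1,4,12,11,10], [1,11,12,9,13,12,9,2,4,12,7,13,5,7,7], 5, [([], 3916, [])], []⟩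
def c3918 : Clm := ⟨6, 7, true, [1,5,13,12,8,11,10,2,4,13,12,13,4,13,12], [13,5,12,9,11,5,12,11,10,2,1,4,12,11,10], 5, [([], 3917, [])], []⟩
def c3919 : Clm := ⟨5, 7, true, [10,13,5,12,9,11,5,2,1,7,7,13,12,4,8], [1,10,12,11,12,9,11,10,2,11,13,12,13,4], 11, [([], 340, [3,11,12,13,10,11,12,8]), ([372], 2768, [1,12,9,11,13,10,12,9]), ([226,253,227], 3702, [9,12,11,3,10,13,12])], []⟩
def c3920 : Clm := ⟨7, 5, true, [13,3,12,9,11,12,13,10,2,1,4,5,12,11,10], [10,13,5,12,9,11,5,2,1,7,7,13,12,4,8], 5, [([], 3919, [])], []⟩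
def c3921 : Clm := ⟨6, 7, true, [5,8,11,13,10,12,13,2,1,13,7,5,9,13,4], [3,8,12,9,11,10,12,11,13,4,12,4,10,4], 11, [([], 1635, [3,12,13,5,10,13,12,8]), ([227,252,226], 180, [3,12,9,11,12,13,12]), ([226,253,227], 3702, [13,12,8,12,13,12,9,13])], []⟩
def c3922 : Clm := ⟨7, 6, true, [10,12,11,10,12,4,12,4,10,4,3], [5,8,11,13,10,12,13,2,1,13,7,5,9,13,4], 5, [([], 3921, [])], []⟩
def c3923 : Clm := ⟨6, 7, true, [10,11,3,12,11,10,13,2,4,12,8,11,13], [3,13,12,9,13,12,11,10,13,2,4,5,12,11,10], 11, [([], 1731, [10,11,12,8,13]), ([], 477, [1,5,8,11,12,11,10,13]), ([227], 3702, [9,12,11,5,10])], []⟩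
def c3924 : Clm := ⟨7, 6, true, [13,12,8,13,12,9,12,2,4,7,13,6,9], [10,11,3,12,11,10,13,2,4,12,8,11,13], 5, [([], 3923, [])], []⟩
def c3925 : Clm := ⟨6, 7, true, [1,12,11,13,12,13,5,10,2,4,6,12,8,13,3,7], [12,13,5,12,9,11,12,2,4,13,3], 11, [([], 1956, [3,10,12,11,13,12,8,12]), ([370], 2211, [5,13,5,10,12,9,11,12,8]), ([227,253], 3702, [9,12,11,10,12,13,12])], []⟩
def c3926 : Clm := ⟨7, 6, true, [12,13,5,12,9,11,12,2,1,4,13], [1,12,11,13,12,13,5,10,2,4,6,12,8,13,3,7], 5, [([], 3925, [])], []⟩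
def c3927 : Clm := ⟨6, 7, true, [10,12,11,13,12,9,2,4,5,13,12,6,5,11], [1,11,13,12,13,10,13,12,9,2,4,12,11,3,10], 11, [([], 3821, [1,12,13,5,10,12,9,13,5]), ([7413,7427,7412], 3760, [3,12,9,12,13,5,12]), ([228,253,226], 3702, [9,10,12,11,3,10,12])], []⟩
def c3928 : Clm := ⟨7, 6, true, [1,11,13,12,13,10,13,12,9,2,1,4,12,11,10], [10,12,11,13,12,9,2,4,5,13,12,6,5,11], 5, [([], 3927, [])], []⟩
def c3929 : Clm := ⟨6, 7, true, [8,13,3,5,12,9,2,4,12,4,13,6,5,13], [12,13,12,9,13,12,8,2,4,6,13,3,7,9], 11, [([], 1916, [10,13,12,8,12,11,13]), ([], 1988, [1,11,12,9,11,10,13,12]), ([228,253,226], 3702, [11,10,12,9,12,13,10])], []⟩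
def c3930 : Clm := ⟨7, 6, true, [12,13,12,9,13,10,12,2,4,7,13,6,13], [8,13,3,5,12,9,2,4,12,4,13,6,5,13], 5, [([], 3929, [])], []⟩
def c3931 : Clm := ⟨6, 7, true, [13,12,13,5,10,11,12,9,2,13,7,5,4,9,13], [3,12,13,12,9,13,10,12,2,4,13,3], 11, [([], 2410, [1,12,8,13,10,12,11,10]), ([373], 3668, [5,11,12,8,11,12,9,11,13]), ([253,226,252,226], 3702, [9,12,11,5,10,12,11,12])], []⟩
def c3932 : Clm := ⟨7, 6, true, [3,12,13,12,9,13,10,12,2,1,4,13], [13,12,13,5,10,11,12,9,2,13,7,5,4,9,13], 5, [([], 3931, [])], []⟩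
def c3933 : Clm := ⟨7, 6, true, [3,5,8,12,9,13,10,12,2,7,13,4,12,7,8,13], [9,12,8,11,10,12,9,11,2,1,4,6,13,6,6,12,13], 17, [([], 3730, [8,10,11,3,13,12,8,13]), ([253,227], 3702, [3,9,11,12,11,10,12,8,12]), ([7413,7426,7413], 3875, [9,13,10,13,12,11,12,8])], []⟩
def c3934 : Clm := ⟨6, 7, true, [8,13,12,9,11,12,9,11,2,1,4,12,13,2,13,7,12], [3,5,8,12,9,13,10,12,2,7,13,4,12,7,8,13], 5, [([], 3933, [])], []⟩
def c3935 : Clm := ⟨6, 7, true, [1,8,11,12,11,13,5,12,8,11,4,5,10,12,4,8], [12,9,11,10,12,11,13,5,4,5,10,12,4,6], 11, [([], 237, [5,13,12,13,10,13,12,9]), ([], 255, [3,12,13,12,11]), ([227], 3702, [9,11,3,5,12,13])], []⟩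
def c3936 : Clm := ⟨7, 6, true, [11,10,12,8,11,12,8,4,10,12,13,4,6], [1,8,11,12,11,13,5,12,8,11,4,5,10,12,4,8], 5, [([], 3935, [])], []⟩
def c3937 : Clm := ⟨6, 7, true, [12,9,11,3,12,8,11,13,2,11,12,13,4,6,12], [10,11,3,10,12,8,11,13,4,12,4,10,4], 11, [([], 529, [8,12,9,11,13,10]), ([], 793, [12,8,13,10,11,12,11,13]), ([253,226], 3702, [1,5,9,12,8,13,12,8])], []⟩
def c3938 : Clm := ⟨7, 6, true, [3,9,13,10,12,9,13,12,13,4,12,4,10,4,3], [12,9,11,3,12,8,11,13,2,11,12,13,4,6,12], 5, [([], 3937, [])], []⟩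
def c3939 : Clm := ⟨6, 7, true, [3,10,11,12,9,11,10,13,2,4,5,7,13,12,4,8], [3,9,13,10,12,9,13,12,13,4,12,4,10,4,3], 5, [([], 3938, [])], []⟩
def c3940 : Clm := ⟨6, 7, true, [1,13,12,2,4,12,8], [3,8,12,13,10,12,8,12,2,4,12,11,3,10], 11, [([], 851, [3,12,13,5,12,9,13,10]), ([], 572, [3,8,12,13,10,13,12,11]), ([227,253,226], 3702, [1,9,11,13,5,10,12,13])], []⟩
def c3941 : Clm := ⟨7, 6, true, [3,8,12,13,10,12,8,12,2,1,4,12,11,10], [1,13,12,2,4,12,8], 5, [([], 3940, [])], []⟩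
def c3942 : Clm := ⟨6, 7, true, [1,9,12,9,13,12,2,1,4,12,8,13,7,5,7], [13,12,13,10,12,9,12,2,4,13,3], 11, [([], 3185, [3,11,12,13,10,12,9,12,13]), ([370], 1544, [13,10,12,13,10,13,12,8]), ([253,226], 3702, [1,9,12,11,5,10,12,11,12])], []⟩
def c3943 : Clm := ⟨7, 6, true, [13,12,13,10,12,9,12,2,1,4,13], [1,9,12,9,13,12,2,1,4,12,8,13,7,5,7], 5, [([], 3942, [])], []⟩
def c3944 : Clm := ⟨5, 7, true, [3,11,10,12,11,12,8,12,2,6,13,5,7,10], [8,13,10,12,11,4,10,12,13,4,6], 15, [([], 3702, [1,9,11,12,11,5]), ([7412,7390,7427], 3909, [1,9,12,9,13,12,8,11]), ([], 3860, [5,12,11,10,12,11])], []⟩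
def c3945 : Clm := ⟨7, 5, true, [8,12,11,5,10,12,11,13,4,5,10,12,4,6], [3,11,10,12,11,12,8,12,2,6,13,5,7,10], 5, [([], 3944, [])], []⟩
def c3946 : Clm := ⟨6, 7, true, [1,12,9,11,13,12,9,11,2,4,3,6,9,13,12,6], [11,3,12,9,11,12,8,11,10,4,12,4,10,4], 11, [([], 388, [1,8,12,8,11,5,11,12,13]), ([372], 403, [12,8,11,12,13,10,13,10,12]), ([253], 3702, [1,13,12,13])], []⟩
def c3947 : Clm := ⟨7, 6, true, [12,13,3,5,10,12,13,4,12,4,10,4,3], [1,12,9,11,13,12,9,11,2,4,3,6,9,13,12,6], 5, [([], 3946, [])], []⟩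
def c3948 : Clm := ⟨6, 7, true, [5,11,5,12,13,12,8,11,2,1,6,9,13,7,5,4], [11,12,8,11,2,11,13,12,13,4], 11, [([], 3505, [12,13,3,5]), ([372,370], 3313, [8,12,11,5,10,13,12,9]), ([227], 3702, [10,13,12,8,11,12,11,12])], []⟩
def c3949 : Clm := ⟨7, 6, true, [1,11,12,8,11,12,11,10,2,1,4,5,12,11,10], [5,11,5,12,13,12,8,11,2,1,6,9,13,7,5,4], 5, [([], 3948, [])], []⟩
def c3950 : Clm := ⟨6, 7, true, [5,11,5,12,13,12,8,11,2,6,9,13,7,5,4,3], [1,11,12,8,11,12,11,10,2,1,4,5,12,11,10], 5, [([], 3949, [])], []⟩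
def c3951 : Clm := ⟨6, 7, true, [3,8,12,11,10,12,9,13,2,1,11,12,8], [3,11,12,9,11,12,8,11,10,2,4,5,12,11,10], 11, [([], 2028, [13,10,12,11]), ([370], 2071, [8,11,12,11,12,9,12,13]), ([253,227], 3702, [10,11,3,13,12])], []⟩
def c3952 : Clm := ⟨7, 6, true, [5,12,13,12,8,13,10,12,2,4,7,13,6,9], [3,8,12,11,10,12,9,13,2,1,11,12,8], 5, [([], 3951, [])], []⟩
def c3953 : Clm := ⟨6, 7, true, [1,10,13,12,8,11,12,11,5,2,4,5,6,5,13,6,8], [8,12,9,13,12,13,12,2,11,13,12,13,4], 11, [([], 1731, [1,12,8,11,13,5,12,9]), ([373], 3136, [1,5,12,11,10,12,8,12,13]), ([253,226,252,226], 3702, [1,13,5,10,12,8,11,12,9])], []⟩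
def c3954 : Clm := ⟨7, 6, true, [1,8,12,9,13,12,11,13,10,2,1,4,5,12,11,10], [1,10,13,12,8,11,12,11,5,2,4,5,6,5,13,6,8], 5, [([], 3953, [])], []⟩
def c3955 : Clm := ⟨6, 7, true, [1,8,12,8,13,5,10,12,9,2,4,13,10,12,9,11,12], [1,9,12,8,13,12,9,13,5,2,4,6,13,3,7,13], 11, [([], 2208, [8,11,3,13,12,8,13,12,8]), ([], 3645, [8,10,12,11,3,10,12,9]), ([226], 3702, [3,11,10,12,9,13,12])], []⟩
def c3956 : Clm := ⟨7, 6, true, [1,9,12,8,13,12,9,13,5,2,4,6,13,7,13], [1,8,12,8,13,5,10,12,9,2,4,13,10,12,9,11,12], 5, [([], 3955, [])], []⟩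
def c3957 : Clm := ⟨6, 7, true, [8,10,13,10,2,7,11,12,13,4,10,11], [13,12,8,11,12,11,13,5,2,4,13,3], 11, [([], 1956, [8,10,12,13,3,10,12]), ([373], 3522, [9,10,12,8,11,3,12,9]), ([253,227], 3702, [1,8,13,10,13,10,12])], []⟩
def c3958 : Clm := ⟨7, 6, true, [13,12,8,11,12,11,13,5,2,1,4,13], [8,10,13,10,2,7,11,12,13,4,10,11], 5, [([], 3957, [])], []⟩
def c3959 : Clm := ⟨6, 7, true, [1,9,12,8,2,6,13,4,6,6,5], [3,11,5,12,8,13,10,2,4,13,3], 11, [([], 2156, [9,10,12,8,11,12,9,11]), ([372], 399, [12,11,13,5,12,8,11,12,11]), ([252,226], 3702, [10,11,12,8,11,13,5])], []⟩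
def c3960 : Clm := ⟨7, 6, true, [3,11,5,12,8,13,10,2,1,4,13], [1,9,12,8,2,6,13,4,6,6,5], 5, [([], 3959, [])], []⟩
def c3961 : Clm := ⟨6, 7, true, [1,8,10,12,8,13,12,9,13,4,5,7,10,13,2,4], [1,5,13,12,8,13,12,11,10,2,4,12,11,3,10], 11, [([], 3350, [3,9,12,8,11,13,10,12,9]), ([], 1557, [12,8,12,11,12,9,13]), ([226,252,227], 3702, [12,9,13,10,12,9,13,12])], []⟩
def c3962 : Clm := ⟨7, 6, true, [1,5,13,12,8,13,12,11,10,2,1,4,12,11,10], [1,8,10,12,8,13,12,9,13,4,5,7,10,13,2,4], 5, [([], 3961, [])], []⟩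
def c3963 : Clm := ⟨6, 7, true, [3,10,11,12,9,11,12,8,2,6,13,2,1,7,8], [3,8,13,10,12,8,13,12,9,2,1,4,12,13,5,10], 13, [([], 1289, [11,10,12,8,12,11,13]), ([], 2755, [10,11,3,12,8,11,12,11]), ([253,227,252], 3702, [3,8,10,13,10,13,12])], []⟩
def c3964 : Clm := ⟨7, 6, true, [10,13,5,12,8,11,2,11,13,12,4], [3,10,11,12,9,11,12,8,2,6,13,2,1,7,8], 5, [([], 3963, [])], []⟩
def c3965 : Clm := ⟨7, 7, true, [5,12,13,5,10,2,4,12,13,2,7,13,3], [13,10,4,6,10,12,4,9], 13, [([], 3836, [5,13,3,12,9,12,13,10]), ([370], 304, [3,5,12,11,5,10,12,9]), ([253], 3702, [1,9,12,11])], []⟩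
def c3966 : Clm := ⟨7, 5, true, [1,5,11,5,12,9,11,10,2,11,12,4,9], [11,12,9,11,5,12,11,10,2,4,3,13,12,13,10,12], 11, [([], 3726, [1,10,12,9,12,13]), ([227,253,226], 3702, [9,12,11,5,12,8,11,13,10]), ([7413,7426,7392], 3724, [1,8,10,13,10,12,11])], []⟩
def c3967 : Clm := ⟨5, 7, true, [11,12,9,11,5,12,11,10,2,4,12,13,12,13,10], [1,5,11,5,12,9,11,10,2,11,12,4,9], 5, [([], 3966, [])], []⟩
def c3968 : Clm := ⟨6, 7, true, [8,13,5,12,11,10,12,9,2,7,13,2,12,11,13], [5,8,12,9,13,5,10,12,13,2,1,13,4,12,11,10], 13, [([], 3892, [12,13,12,9]), ([7426,7390,7426], 3777, [1,9,10,13,5,10,12,11]), ([], 3702, [5,9,12,13,3,10,12,8,12])], []⟩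
def c3969 : Clm := ⟨7, 6, true, [8,12,9,11,5,12,13,12,2,11,13,12,4,13], [8,13,5,12,11,10,12,9,2,7,13,2,12,11,13], 5, [([], 3968, [])], []⟩
def c3970 : Clm := ⟨6, 7, true, [3,11,12,9,11,13,12,13,12,2,13,2,6,12,13,6,10], [1,8,10,11,10,12,8,11,4,6,10,12,4,9], 13, [([], 2418, [8,10,11,3,13,12,8,13]), ([370], 327, [5,8,11,3,12,13,10]), ([], 3702, [9,11,12,11,12,9,12])], []⟩
def c3971 : Clm := ⟨7, 6, true, [1,11,10,12,8,11,4,12,4,10,13,4], [3,11,12,9,11,13,12,13,12,2,13,2,6,12,13,6,10], 5, [([], 3970, [])], []⟩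
def c3972 : Clm := ⟨6, 7, true, [3,8,12,11,10,13,12,11,10,2,4,13,7,12,13,2], [1,13,5,12,8,11,5,12,2,11,13,2,12,11,10], 13, [([], 3086, [3,13,10,11,12,8,11,13]), ([370], 396, [13,10,12,11,10,12,9]), ([227], 3702, [3,8,10,12,13,10])], []⟩
def c3973 : Clm := ⟨7, 6, true, [13,12,8,13,5,10,2,11,5,11,12,4], [3,8,12,11,10,13,12,11,10,2,4,13,7,12,13,2], 5, [([], 3972, [])], []⟩
def c3974 : Clm := ⟨6, 7, true, [11,12,8,13,10,12,8,13,2,7,13,12,4,6], [1,13,10,11,12,9,13,12,4,6,10,12,4], 13, [([], 1571, [10,13,3,12,8,11,10,13,12]), ([], 327, [1,8,10,13,10,12,11,12,9]), ([], 3702, [1,12,9,11,5,12])], []⟩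
def c3975 : Clm := ⟨7, 6, true, [12,13,10,12,9,12,13,4,6,10,12,4,3], [11,12,8,13,10,12,8,13,2,7,13,12,4,6], 5, [([], 3974, [])], []⟩
def c3976 : Clm := ⟨7, 6, true, [3,10,13,10,12,8,12,11,12,2,6,13,7,9,10,2], [3,13,12,8,12,11,4,6,12,4,10,4], 13, [([], 3726, [8,13,5,10,12,13,12,9,13]), ([227,253,226], 3702, [9,11,3,10,12]), ([7393], 3861, [1,5])], []⟩
def c3977 : Clm := ⟨6, 7, true, [12,8,11,12,11,5,11,5,4,6,12,4,10,4,3], [3,10,13,10,12,8,12,11,12,2,6,13,7,9,10,2], 5, [([], 3976, [])], []⟩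
def c3978 : Clm := ⟨7, 6, true, [11,5,12,13,12,9,12,13,4,6,5,6], [5,8,10,12,13,2,6,13,10,12,6,11], 13, [([], 3777, [11,10,13,12,8,13,10]), ([], 3702, [12,8,11,3,10,12,13]), ([], 3768, [3,9,13,12,13,12])], []⟩
def c3979 : Clm := ⟨6, 7, true, [1,5,8,10,12,13,5,2,6,6,13,5,10,12], [11,5,12,13,12,9,12,13,4,6,5,6], 5, [([], 3978, [])], []⟩
def c3980 : Clm := ⟨6, 7, true, [8,10,11,3,10,12,8,2,1,13,7,5,7,10], [12,8,13,3,10,12,9,4,6,12,6], 47, [([], 979, [8,11,12,9,11,12,8,11,5]), ([372], 321, [8,11,5,12,11,13]), ([253], 3702, [1,3,5,12])], []⟩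
def c3981 : Clm := ⟨7, 6, true, [12,8,13,10,12,9,11,4,6,12,6], [8,10,11,3,10,12,8,2,1,13,7,5,7,10], 5, [([], 3980, [])], []⟩
def c3982 : Clm := ⟨7, 6, true, [3,9,13,10,12,9,11,12,8,2,4,5,12,11,10], [1,5,12,8,11,5,2,7,13,6,10], 13, [([], 3701, [8,13,10,12]), ([253], 2785, [8,11,3,13,12,13,10]), ([], 3294, [9,13,10,11,12,13,10])], []⟩
def c3983 : Clm := ⟨6, 7, true, [10,12,8,13,10,13,2,1,7,13,6,10], [3,9,13,10,12,9,11,12,8,2,4,5,12,11,10], 5, [([], 3982, [])], []⟩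
def c3984 : Clm := ⟨6, 7, true, [10,13,10,12,13,12,9,13,2,11,10,12,11,12], [1,8,13,12,9,11,12,11,2,4,5,12,8,13], 11, [([], 3860, [10,11,12,9,12,13,5]), ([7392], 3701, [3,12,9,13,12]), ([252,226,253], 3898, [1,8,11,12,9,12,11,13])], []⟩
def c3985 : Clm := ⟨7, 6, true, [1,8,13,12,9,11,12,11,2,4,3,5,12,8,13], [10,13,10,12,13,12,9,13,2,11,10,12,11,12], 5, [([], 3984, [])], []⟩
def c3986 : Clm := ⟨4, 7, true, [3,8,13,5,10,13,4,6], [13,10,12,11,5,12,8,4,6,10,12,9,12], 21, [([], 3705, [1,3]), ([7392], 3799, [8,12,8])], []⟩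
def c3987 : Clm := ⟨7, 4, true, [1,11,10,12,13,12,8,13,4,6,10,12,9,12], [3,8,13,5,10,13,4,6], 5, [([], 3986, [])], []⟩
def c3988 : Clm := ⟨7, 6, true, [11,13,5,12,9,11,2,1,13,12,13,6], [8,10,11,12,11,10,12,9,2,4,3,12,6,13,2,3], 15, [([], 3880, [3,8,11,10,12,8,13,12,13]), ([227,253,226], 3709, [1,13,12,9,12,13,10,12,8]), ([7390], 3734, [3,8,11,12,13,12,9,13])], []⟩
def c3989 : Clm := ⟨6, 7, true, [13,12,13,5,10,12,8,11,2,1,13,2,6,9,12,11], [11,13,5,12,9,11,2,1,13,12,13,6], 5, [([], 3988, [])], []⟩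
def c3990 : Clm := ⟨6, 7, true, [1,5,8,13,5,12,9,13,2,6,13,2,12,4,10], [1,8,10,13,10,12,11,12,4,5,10,12,4,6], 11, [([], 351, [1,11,12,8,11,13,12,11,13]), ([372], 375, [8,10,13,12,13,5,12,8]), ([], 3709, [8,12,11,5,11,5])], []⟩
def c3991 : Clm := ⟨7, 6, true, [3,8,12,13,10,12,13,12,4,10,12,13,4,6], [1,5,8,13,5,12,9,13,2,6,13,2,12,4,10], 5, [([], 3990, [])], []⟩
def c3992 : Clm := ⟨6, 7, true, [8,10,11,12,8,11,13,2,4,13,10,12,8,13,4], [3,8,12,13,10,12,13,12,4,10,12,13,4,6], 5, [([], 3991, [])], []⟩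
def c3993 : Clm := ⟨6, 7, true, [12,8,11,5,11,12,13,10,13,2,1,4,12,13,7,9,12,4], [8,13,10,11,12,9,11,5,4,5,10,12,4,6], 11, [([], 1963, [13,12,9,11,12,8,11,12,13]), ([370], 864, [1,13,12,8,11,10,12,8,13]), ([253,227], 3709, [5,13,5,13,12,13])], []⟩
def c3994 : Clm := ⟨7, 6, true, [9,12,13,3,10,12,8,12,13,4,10,12,13,4,6], [12,8,11,5,11,12,13,10,13,2,1,4,12,13,7,9,12,4], 5, [([], 3993, [])], []⟩
def c3995 : Clm := ⟨6, 7, true, [1,8,12,13,10,13,12,9,2,6,13,2,1,7], [3,11,5,10,12,11,12,8,4,5,10,12,4,6], 11, [([], 388, [3,12,11,5,10,13,12,9]), ([370], 2115, [1,12,8,11,12,13,10,13,12]), ([228,253,226], 3709, [1,3,8,12])], []⟩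
def c3996 : Clm := ⟨7, 6, true, [9,13,10,12,13,12,9,13,4,10,12,13,4,6], [1,8,12,13,10,13,12,9,2,6,13,2,1,7], 5, [([], 3995, [])], []⟩
def c3997 : Clm := ⟨6, 7, true, [1,8,12,9,13,10,13,2,1,4,12,11,12,6], [1,10,13,10,12,9,12,11,12,2,4,12,11,3,10], 11, [([], 492, [1,5,9,11,10,12,13,12]), ([372,370], 2294, [13,5,10,11,12,9,11,13,12]), ([227,252], 3709, [3,9,13,10,12,13])], []⟩
def c3998 : Clm := ⟨7, 6, true, [1,10,13,10,12,9,12,11,12,2,1,4,12,11,10], [1,8,12,9,13,10,13,2,1,4,12,11,12,6], 5, [([], 3997, [])], []⟩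
def c3999 : Clm := ⟨6, 7, true, [1,8,12,13,12,9,12,11,13,2,4,5,13,6,13,10,12,9], [9,10,12,8,13,3,10,12,2,4,5,12,11,10], 11, [([], 2028, [12,8,11,3,12,8,11,13]), ([372], 3260, [8,13,3,12,11,10]), ([252,227,253], 3709, [10,12,8,11,12,9,11])], []⟩
def c4000 : Clm := ⟨7, 6, true, [13,12,8,13,12,11,13,2,4,7,13,6,9], [1,8,12,13,12,9,12,11,13,2,4,5,13,6,13,10,12,9], 5, [([], 3999, [])], []⟩
def c4001 : Clm := ⟨6, 7, true, [5,8,11,2,4,12,4,13,3,7,7], [10,13,12,11,10,12,8,2,11,13,12,13,4], 11, [([], 2156, [5,8,12,11,5,10,12,13]), ([372], 807, [1,13,12,9,11,10,13]), ([253], 3709, [8,11,3,10,12,11,10,12])], []⟩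
def c4002 : Clm := ⟨7, 6, true, [1,11,5,12,8,13,12,13,10,2,1,4,5,12,11,10], [5,8,11,2,4,12,4,13,3,7,7], 5, [([], 4001, [])], []⟩
def c4003 : Clm := ⟨6, 7, true, [3,8,11,10,12,13,12,2,13,4,12,4,6,10], [1,12,8,13,5,10,12,9,11,4,5,10,12,4,6], 11, [([], 528, [3,5,11,10,12,11,12,9]), ([372,370], 2217, [11]), ([], 3709, [12,13,3])], []⟩
def c4004 : Clm := ⟨7, 6, true, [8,12,13,5,10,11,12,9,11,4,10,12,13,4,6], [3,8,11,10,12,13,12,2,13,4,12,4,6,10], 5, [([], 4003, [])], []⟩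
def c4005 : Clm := ⟨6, 7, true, [8,10,12,8,13,12,8,2,13,12,13,2,3,13,2], [3,5,11,12,8,13,10,12,2,4,7,13,3,6], 11, [([], 3195, [5,9,10,12,13,10,12,8]), ([373], 274, [1,9,10,12,9,11,5,12]), ([226,253,227], 3709, [1,10,12,8,11,5])], []⟩
def c4006 : Clm := ⟨7, 6, true, [3,5,11,12,8,13,10,12,2,1,4,7,13,6], [8,10,12,8,13,12,8,2,13,12,13,2,3,13,2], 5, [([], 4005, [])], []⟩
def c4007 : Clm := ⟨6, 7, true, [5,8,12,13,10,12,11,12,2,4,12,13,3,6,8], [3,13,12,8,11,10,12,8,2,4,13,3], 11, [([], 2461, [8,13,10,11]), ([372], 2031, [8,10,11,12,9,13,12,8,13]), ([253,227], 3709, [12,13,12,9,13,5,10,13])], []⟩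
def c4008 : Clm := ⟨7, 6, true, [3,13,12,8,11,10,12,8,2,1,4,13], [5,8,12,13,10,12,11,12,2,4,12,13,3,6,8], 5, [([], 4007, [])], []⟩
def c4009 : Clm := ⟨6, 7, true, [5,8,11,5,11,12,11,12,8,2,1,13,6,10,13,2,3], [8,11,5,10,4,5,7,10,12,4], 13, [([], 495, [1,12,13,10,11]), ([171,100,96], 117, [12,8,12,11,10,12]), ([], 3709, [5,8,11,3,5,12,11])], []⟩
def c4010 : Clm := ⟨7, 6, true, [1,9,12,11,5,11,12,9,2,6,6,13,5,7,10], [5,8,11,5,11,12,11,12,8,2,1,13,6,10,13,2,3], 5, [([], 4009, [])], []⟩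
def c4011 : Clm := ⟨6, 7, true, [5,8,11,5,11,12,11,12,8,2,1,13,6,10,13,2,1], [1,9,12,11,5,11,12,9,2,6,6,13,5,7,10], 5, [([], 4010, [])], []⟩
def c4012 : Clm := ⟨6, 7, true, [1,8,13,5,13,2,13,4,7,5,8,13], [8,11,5,11,12,9,11,12,11,2,4,3,5,12,7], 11, [([], 2451, [9,10,13,10,13,12,8,11]), ([372,370], 765, [1,12,8,11,10,12,8,13,5]), ([202,332,202], 3712, [3,10,13,5,12,13])], []⟩
def c4013 : Clm := ⟨7, 6, true, [3,10,11,5,12,11,10,2,1,4,5,12,4], [1,8,13,5,13,2,13,4,7,5,8,13], 5, [([], 4012, [])], []⟩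
def c4014 : Clm := ⟨7, 7, true, [13,12,8,13,12,13,10,13,2,6,9,13,4,12,13], [10,11,3,10,12,11,10,2,4,5,12,4,13,3], 11, [([], 3819, [1,8,13,10]), ([373,370], 1640, [3,8,12,9,13,10,11,12,11]), ([200,332], 3712, [3,10,13,12])], []⟩
def c4015 : Clm := ⟨6, 7, true, [1,5,8,11,13,10,2,4,5,7,5,13,12,7], [9,12,11,3,13,12,8,2,4,3,5,12,13,4], 13, [([], 3716, [5,10,11,3,12]), ([7412,7426,7412], 3736, [3,5,8,13,12,8,11,12]), ([228,253], 3721, [13,5,10,11,12])], []⟩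
def c4016 : Clm := ⟨7, 6, true, [9,12,8,11,3,13,2,4,5,7,12,13,5], [1,5,8,11,13,10,2,4,5,7,5,13,12,7], 5, [([], 4015, [])], []⟩
def c4017 : Clm := ⟨7, 6, true, [1,11,12,9,11,12,8,11,13,2,13,12,4,6], [1,9,13,10,11,12,11,12,2,4,12,4,7,13,4], 13, [([], 3715, [5,13,12]), ([373], 3133, [9,11,12,8,11,12,11,5,11]), ([372,370], 887, [1,12,9,12,13,10,13,12,11])], []⟩
def c4018 : Clm := ⟨6, 7, true, [9,13,5,10,13,12,13,12,2,4,5,7,13,4,12], [1,11,12,9,11,12,8,11,13,2,13,12,4,6], 5, [([], 4017, [])], []⟩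
def c4019 : Clm := ⟨2, 8, true, [6,2], [], 1, [], []⟩
def c4020 : Clm := ⟨8, 2, true, [1,3], [2,6], 5, [([], 4019, [])], []⟩
def c4021 : Clm := ⟨2, 8, true, [10,2,6], [1,3], 5, [([], 4020, [])], []⟩
def c4022 : Clm := ⟨8, 8, false, [], [5,10], 3, [([], 4019, []), ([60,41,43,53,61,42,40], 4019, [10])], []⟩
def c4023 : Clm := ⟨8, 6, true, [4], [12,9,11,13,12,13,10,2,7,11,10,12,9], 9, [([], 4021, [1,3]), ([50,88,46,42], 264, [9,10,12,13,3,10,12,11,12]), ([372,370], 1079, [3,8,12,13,5,10,12,9])], []⟩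
def c4024 : Clm := ⟨6, 8, true, [12,9,11,13,12,13,2,1,7,11,10,12,9], [4], 5, [([], 4023, [])], []⟩
def c4025 : Clm := ⟨8, 6, true, [1,11,4], [12,9,11,13,12,13,2,1,7,11,10,12,9], 5, [([], 4024, [])], []⟩
def c4026 : Clm := ⟨8, 5, true, [5,4], [3,8,11,12,11,13,10,2,7,13,4,10,12,7,13], 9, [([], 4021, [1,3,5]), ([48,54,40], 264, [1,8,10,13,5,10,12,11]), ([373,370], 1068, [8,12,11,10,12,9,11,13])], []⟩
def c4027 : Clm := ⟨5, 8, true, [1,5,8,13,10,12,13,2,1,7,13,4,12,7,13], [5,4], 5, [([], 4026, [])], []⟩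
def c4028 : Clm := ⟨8, 5, true, [1,5,11,4], [1,5,8,13,10,12,13,2,1,7,13,4,12,7,13], 5, [([], 4027, [])], []⟩
def c4029 : Clm := ⟨8, 6, true, [5,12,4], [3,8,13,10,12,9,11,10,2,11,5,10], 9, [([], 4021, [1,3,5,12]), ([48,89,61,46], 3693, [5,8,10,12,13]), ([7393,7390], 3783, [10,12,8,13,12,11,12,9,12])], []⟩
def c4030 : Clm := ⟨6, 8, true, [1,5,8,11,10,12,9,13,2,13,10,13], [5,12,4], 5, [([], 4029, [])], []⟩
def c4031 : Clm := ⟨8, 6, true, [1,5,12,11,4], [1,5,8,11,10,12,9,13,2,13,10,13], 5, [([], 4030, [])], []⟩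
def c4032 : Clm := ⟨8, 6, true, [9,12,4], [8,13,3,12,4,10,11], 9, [([], 4021, [1,3,8,12]), ([49,61,88,88], 4020, [10,12,9,13]), ([8044], 4030, [5,8,11,3,5])], []⟩
def c4033 : Clm := ⟨6, 8, true, [3,8,13,12,4,10,11], [9,12,4], 5, [([], 4032, [])], []⟩
def c4034 : Clm := ⟨8, 8, false, [9,12,4], [1,10,11,12,9,12,13,12,13,2,13,5,10,12,8,11], 3, [([], 4033, []), ([371,373], 4033, [8,12,9,11,13,12,11,13,10])], []⟩
def c4035 : Clm := ⟨8, 6, true, [8,12,4], [3,12,9,11,13,10,12,13,10,2,11,10,12,7], 9, [([], 4021, [1,3,9,12]), ([54,61,49,40], 264, [3,5,9,12,11,12,13,10]), ([372,370], 1530, [5,10,13,12,8,12,11,12,13])], []⟩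
def c4036 : Clm := ⟨6, 8, true, [3,12,9,11,13,10,12,13,2,1,11,10,12,7], [8,12,4], 5, [([], 4035, [])], []⟩
def c4037 : Clm := ⟨8, 6, true, [1,8,12,11,4], [3,12,9,11,13,10,12,13,2,1,11,10,12,7], 5, [([], 4036, [])], []⟩
def c4038 : Clm := ⟨8, 5, true, [1,11,5,10,4], [8,13,3,10,11,12,2,13,10,13], 9, [([], 4021, [13,3,10]), ([41,61,89], 61, [1,5,10,11,5,13]), ([111,104,98,96], 120, [3,8,10,11,5,12,11,10])], []⟩
def c4039 : Clm := ⟨5, 8, true, [3,8,10,11,12,2,11,5,10], [1,11,5,10,4], 5, [([], 4038, [])], []⟩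
def c4040 : Clm := ⟨8, 5, true, [5,9,12,4], [3,13,5,10,13,12,8,2,13,12,4,6,5,9], 9, [([], 4021, [1,3,5,8,12]), ([49,42,88,49], 3693, [5,8,12,9,13]), ([7392], 3724, [8,11,5,11,5,12,11,13,12,8])], []⟩
def c4041 : Clm := ⟨5, 8, true, [3,11,12,11,13,12,2,13,2,6,13,2,7,5], [5,9,12,4], 5, [([], 4040, [])], []⟩
def c4042 : Clm := ⟨8, 5, true, [5,8,12,4], [12,8,13,12,9,13,5,2,4,3,13,12,4,8], 9, [([], 4021, [1,3,5,9,12]), ([61,89,54,61,40], 264, [12,11,3,5,10,12]), ([], 3159, [1,10,11,12,8,11,10,13])], []⟩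
def c4043 : Clm := ⟨5, 8, true, [12,8,13,12,13,12,2,4,3,13,6,5,12,11], [5,8,12,4], 5, [([], 4042, [])], []⟩
def c4044 : Clm := ⟨8, 5, true, [13,5,10,12,4], [5,8,10,12,13,12,11,10,13,4,6,5], 9, [([], 4021, [11,3,10,12]), ([40,50,48], 3693, [13,3,10,12,8,12]), ([7392], 3701, [8])], []⟩
def c4045 : Clm := ⟨5, 8, true, [5,8,10,13,5,12,11,10,12,4,6,5], [13,5,10,12,4], 5, [([], 4044, [])], []⟩
def c4046 : Clm := ⟨8, 5, true, [13,3,5,10,12,11,4], [5,8,10,13,5,12,11,10,12,4,6,5], 5, [([], 4045, [])], []⟩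
def c4047 : Clm := ⟨8, 5, true, [1,11,5,10,12,4], [5,8,10,13,3,5,2,7,11,10,12,9], 9, [([], 4021, [13,3,10,12]), ([60,52,41,50], 264, [8,13,12,9,13,12]), ([], 324, [10,11,12,9,11,5,10])], []⟩
def c4048 : Clm := ⟨5, 8, true, [5,8,13,5,10,11,2,1,7,11,10,12,9], [1,11,5,10,12,4], 5, [([], 4047, [])], []⟩
def c4049 : Clm := ⟨8, 6, true, [1,9,11,5,10,12,4], [1,12,13,10,12,11,5,12,2,6,6,13,6,10,12], 9, [([], 4021, [8,13,3,10,12]), ([46,60,42,54], 264, [1,13,12,8,13,5]), ([], 588, [8,11,3,5,12,11])], []⟩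
def c4050 : Clm := ⟨6, 8, true, [11,10,12,11,13,12,13,2,11,10,12,4,7,12], [1,9,11,5,10,12,4], 5, [([], 4049, [])], []⟩
def c4051 : Clm := ⟨8, 6, true, [8,13,5,10,12,4], [5,10,13,5,12,2,1,7,13,10,12,8], 9, [([], 4021, [9,11,3,10,12]), ([40,61,50,61], 264, [8,12,8,13,5,12,13]), ([373], 1011, [1,11,5,12,9,11,12])], []⟩
def c4052 : Clm := ⟨6, 8, true, [13,5,10,13,12,2,7,13,10,12,8], [8,13,5,10,12,4], 5, [([], 4051, [])], []⟩
def c4053 : Clm := ⟨8, 6, true, [1,8,11,5,10,12,4], [8,10,11,3,12,9,2,1,7,11,10,12,9], 9, [([], 4021, [9,13,3,10,12]), ([89,61,88,41], 4020, [8,11,10,12,9,13,12,11]), ([], 4050, [3,12,13,12,9,11])], []⟩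
def c4054 : Clm := ⟨6, 8, true, [8,10,11,3,10,12,9,2,7,11,10,12,9], [1,8,11,5,10,12,4], 5, [([], 4053, [])], []⟩
def c4055 : Clm := ⟨8, 5, true, [1,12,11,4,5], [3,5,9,10,13,5,2,7,11,5,7,11], 7, [([], 4021, [1,3,12]), ([48,89,61,46], 3693, [5,8,10,12]), ([7392,7390], 3724, [8,11,3,12,11,13,12])], []⟩
def c4056 : Clm := ⟨5, 8, true, [3,9,13,5,10,13,2,7,11,5,7,11], [1,12,11,4,5], 5, [([], 4055, [])], []⟩
def c4057 : Clm := ⟨8, 8, false, [1,12,11,4,5], [9,12,8,11,12,8,13,2,13,12,11,13,10], 3, [([], 4056, []), ([], 4048, [3,8,12,9,11,10,12,9,11])], []⟩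
def c4058 : Clm := ⟨8, 5, true, [10,13,5,10,4,5], [5,8,10,13,12,11,10,4,10], 7, [([], 4021, [11,3,10]), ([41,61,89], 61, [10,11,3,13]), ([111,104,98], 120, [3,8,10,11,10,12,11,10])], []⟩
def c4059 : Clm := ⟨5, 8, true, [8,10,11,10,12,13,5,10,4,10], [10,13,5,10,4,5], 5, [([], 4058, [])], []⟩
def c4060 : Clm := ⟨8, 6, true, [9,13,3,5,10,12,11,4,5], [5,9,12,11,12,11,10,13,12,2,7,13,10,12,4], 7, [([], 4021, [8,11,3,10,12]), ([46,60,42,54], 264, [3,9,11,12,9,13,12,13]), ([373], 1011, [8,12,9,11,12,11,12,13])], []⟩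
def c4061 : Clm := ⟨6, 8, true, [3,5,12,11,12,9,13,10,13,2,1,7,13,10,12,7], [9,13,3,5,10,12,11,4,5], 5, [([], 4060, [])], []⟩
def c4062 : Clm := ⟨8, 6, true, [5,8,10,13,5,12,13,12,2,11,10], [5,8,13,10,12,13,12,9,2,7,13,12,4,6,13], 13, [([], 4021, [9,10,12,13,3,10,12]), ([40,61,50,61], 264, [3,5,8,11,12,8,13,12,13]), ([], 2385, [1,11,13,5,12,9,13,12,11])], []⟩
def c4063 : Clm := ⟨6, 8, true, [13,12,9,11,10,12,13,2,1,11,12,7,8,13,4], [5,8,10,13,5,12,13,12,2,11,10], 5, [([], 4062, [])], []⟩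
def c4064 : Clm := ⟨8, 6, true, [5,11,2,11,10], [5,8,12,11,12,8,11,10,13,2,11,13,2,12,11,10], 13, [([], 4021, [1,3,10]), ([52,48,50,42,40], 264, [3,8,10,13,12,13,5]), ([370], 235, [1,10,11,10,12,9,13,12,11])], []⟩
def c4065 : Clm := ⟨6, 8, true, [1,13,10,13,12,9,11,13,2,11,5,11,12,4], [5,11,2,11,10], 5, [([], 4064, [])], []⟩
def c4066 : Clm := ⟨8, 6, true, [1,5,9,10,13,12,11,2,11,10], [3,8,12,9,11,10,12,11,13,2,1,7,11,12,4,8,13], 13, [([], 4021, [3,8,13,10,11,12]), ([50,48,42,40], 4020, [3,8,13,10,11,12,9,11,5]), ([], 4024, [3,9,11,12,11,13,12,8])], []⟩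
def c4067 : Clm := ⟨6, 8, true, [13,12,8,11,12,11,12,2,7,13,7,12,13,4], [1,5,9,10,13,12,11,2,11,10], 5, [([], 4066, [])], []⟩
def c4068 : Clm := ⟨8, 5, true, [12,9,13,5,10,12,11,2,11,10], [1,13,12,9,11,12,13,2,1,11,13,12,4,9,12], 13, [([], 4021, [12,8,11,3,5,12]), ([61,89,54,61,40], 264, [9,11,10,12,9,11,12]), ([373], 1068, [3,8,10,11,10,12,9,13])], []⟩
def c4069 : Clm := ⟨5, 8, true, [12,8,12,13,3,12,2,4,6,12,13,7,13,5], [12,9,13,5,10,12,11,2,11,10], 5, [([], 4068, [])], []⟩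
def c4070 : Clm := ⟨8, 6, true, [10,12,11,3,10,12,11,2,11,10], [9,10,11,3,2,6,13,6,6,5,4], 13, [([], 4021, [3,5,10,12,13,12]), ([61,88,40], 264, [10,12,9,13,10,13]), ([], 588, [1,5,8,11,13,12,9,11])], []⟩
def c4071 : Clm := ⟨6, 8, true, [8,10,11,3,5,2,7,11,12,13,4,6,8], [10,12,11,3,10,12,11,2,11,10], 5, [([], 4070, [])], []⟩
def c4072 : Clm := ⟨8, 5, true, [13,5,10,11,2,11,10], [3,13,12,9,13,12,9,13,12,2,13,2,6,12,11,5,12], 13, [([], 4021, [11,3,5]), ([50,88,46,42], 264, [3,12,13,10,12,13,12,9]), ([372,370], 1629, [5,10,12,8,11,13,12,11,13])], []⟩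
def c4073 : Clm := ⟨5, 8, true, [3,10,11,13,12,8,11,10,2,4,7,13,12,13,2,13], [13,5,10,11,2,11,10], 5, [([], 4072, [])], []⟩
def c4074 : Clm := ⟨8, 6, true, [1,9,11,12,11,2,11,10], [10,11,12,9,13,10,12,13,2,4,13,12,7,11,2], 13, [([], 4021, [8,13,3,5,10,12]), ([46,60,42,54], 264, [1,13,12,8,13,5]), ([], 1079, [9,12,9,11,10,12])], []⟩
def c4075 : Clm := ⟨6, 8, true, [10,12,9,13,10,12,11,2,4,6,12,11,13,12,6], [1,9,11,12,11,2,11,10], 5, [([], 4074, [])], []⟩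
def c4076 : Clm := ⟨8, 5, true, [1,9,11,13,10,12,11,2,11,10], [3,5,10,13,10,12,8,12,2,1,7,11,12,4,8], 13, [([], 4021, [8,11,3,13,12]), ([49,42,88,49], 3693, [11,3,12,9,11,12,8,11]), ([], 3708, [8,10,11,12,9,13,10,13])], []⟩
def c4077 : Clm := ⟨5, 8, true, [3,5,10,13,10,12,8,12,2,7,11,12,4,3,8], [1,9,11,13,10,12,11,2,11,10], 5, [([], 4076, [])], []⟩
def c4078 : Clm := ⟨8, 5, true, [13,10,13,10,12,11,2,11,10], [8,11,12,11,12,2,1,4,12,4,7,13,2], 13, [([], 4021, [10,13,3,10,12]), ([40,50,48], 3693, [12,13,3,10,12,8,12,11]), ([7393,7390], 3724, [3,9,12,11,12,8,13])], []⟩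
def c4079 : Clm := ⟨5, 8, true, [5,8,10,13,10,12,11,10,2,1,4,12,6,13,5,10], [13,10,13,10,12,11,2,11,10], 5, [([], 4078, [])], []⟩
def c4080 : Clm := ⟨8, 6, true, [8,11,5,12,11,2,11,10], [5,8,11,13,12,13,5,10,2,1,6,13,4,6,6], 13, [([], 4021, [3,9,13,10,12]), ([40,61,50,61], 264, [3,11,13,12,9,13]), ([372,370], 1079, [1,8,12,11,10,13,12,9,13])], []⟩
def c4081 : Clm := ⟨6, 8, true, [3,10,12,9,11,13,12,2,6,9,13,7,13,2], [8,11,5,12,11,2,11,10], 5, [([], 4080, [])], []⟩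
def c4082 : Clm := ⟨8, 4, true, [13,12,8,13,5,12,11,2,11,10], [8,10,13,5,12,11,13,2,1,11,12,4,13,6], 13, [([], 4021, [11,3,12,9,11,10,12]), ([46,89,46,41], 264, [12,9,13,12,8,13,10]), ([], 319, [5,11,12,8,13,12])], []⟩
def c4083 : Clm := ⟨4, 8, true, [8,10,13,5,12,11,13,2,11,12,4,13,3,6], [13,12,8,13,5,12,11,2,11,10], 5, [([], 4082, [])], []⟩
def c4084 : Clm := ⟨8, 6, true, [3,10,11,10,12,11,2,11,10], [10,11,12,8,13,12,9,13,2,4,3,13], 13, [([], 4021, [5,10,13,3,12]), ([89,89,60,48], 4020, [1,12,8,13,12,9,11]), ([8044], 4030, [3,9,10,13,12,8,13,10,13])], []⟩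
def c4085 : Clm := ⟨6, 8, true, [10,11,12,8,13,12,9,13,2,4,13], [3,10,11,10,12,11,2,11,10], 5, [([], 4084, [])], []⟩
def c4086 : Clm := ⟨8, 5, true, [1,10,12,13,10,2,11,10], [5,10,13,10,12,8,2,4,3,13], 13, [([], 4021, [12,13,3,5]), ([50,60,88,40], 4020, [1,9,10,12,8,11]), ([], 4039, [8,10,13,12,9,13,10,13])], []⟩
def c4087 : Clm := ⟨5, 8, true, [5,10,13,10,12,8,2,4,13], [1,10,12,13,10,2,11,10], 5, [([], 4086, [])], []⟩
def c4088 : Clm := ⟨8, 6, true, [3,13,10,2,11,10], [1,10,13,10,12,9,13,10,2,4,12,11,10], 13, [([], 4021, [5,10,13,3,5]), ([52,48,50,42,40], 264, [5,8,10,11,12,13]), ([], 207, [8,13,5,12,11,12,9])], []⟩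
def c4089 : Clm := ⟨6, 8, true, [1,10,13,10,12,9,13,10,2,4,3,12,11,10], [3,13,10,2,11,10], 5, [([], 4088, [])], []⟩
def c4090 : Clm := ⟨8, 5, true, [8,10,11,13,12,13,5,2,11,10], [8,12,9,13,12,11,12,2,4,5,6,5,13,3,4], 13, [([], 4021, [1,9,11,13,12]), ([61,89,54,61,40], 264, [3,13,10,12,13]), ([372,370], 1629, [3,5,9,13,12,11,10,12,8])], []⟩
def c4091 : Clm := ⟨5, 8, true, [3,8,12,9,13,10,13,2,4,13,7,5,13,2], [8,10,11,13,12,13,5,2,11,10], 5, [([], 4090, [])], []⟩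
def c4092 : Clm := ⟨8, 3, true, [1,13,5,11,2,11,10], [3,8,11,13,12,2,11,10], 13, [([], 4021, [3,11,10]), ([41,61,89], 61, [1,10,11,13]), ([], 73, [8,10,13,5,12,11,10])], []⟩
def c4093 : Clm := ⟨3, 8, true, [3,8,11,13,10,12,2,1,11,10], [1,13,5,11,2,11,10], 5, [([], 4092, [])], []⟩
def c4094 : Clm := ⟨8, 3, true, [1,10,11,5,13,2,1,11,10], [3,8,11,13,10,12,2,1,11,10], 5, [([], 4093, [])], []⟩
def c4095 : Clm := ⟨8, 6, true, [9,11,10,12,13,5,2,11,10], [9,13,10,13,12,9,11,13,2,1,7,11,12,4,13], 13, [([], 4021, [1,5,8,11,12]), ([49,61,88,88], 4020, [3,9,10,12,8,13,12,9,12]), ([], 4054, [8,10,13,12,8,13,10])], []⟩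
def c4096 : Clm := ⟨6, 8, true, [9,13,10,13,12,9,11,13,2,7,11,12,4,13,3], [9,11,10,12,13,5,2,11,10], 5, [([], 4095, [])], []⟩
def c4097 : Clm := ⟨8, 4, true, [1,10,12,13,10,12,11,2,11,10], [10,12,11,13,5,12,11,2,7,7,13,12,4,7], 13, [([], 4021, [3,5,10,12,11,12]), ([61,88,40], 264, [8,13,10,13,12,13,12,8]), ([], 301, [1,9,12,9,11,5,13])], []⟩
def c4098 : Clm := ⟨4, 8, true, [1,10,13,10,12,11,13,2,1,13,5,12,7,13,4], [1,10,12,13,10,12,11,2,11,10], 5, [([], 4097, [])], []⟩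
def c4099 : Clm := ⟨8, 5, true, [11,12,11,13,2,11,10], [5,9,10,13,12,11,10,13,2,1,13,12,4,12], 13, [([], 4021, [3,5,11,12,13,10]), ([52,48,50,42,40], 264, [8,13,12,13,5,10,13,12]), ([], 1629, [1,13,10,12,9,13,10,12])], []⟩
def c4100 : Clm := ⟨5, 8, true, [5,9,10,13,12,11,10,13,2,13,12,4,3,12], [11,12,11,13,2,11,10], 5, [([], 4099, [])], []⟩
def c4101 : Clm := ⟨8, 5, true, [11,12,11,13,10,2,1,11,10], [5,9,10,13,12,11,10,13,2,13,12,4,3,12], 5, [([], 4100, [])], []⟩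
def c4102 : Clm := ⟨8, 6, true, [3,12,13,5,10,12,11,2,11,10], [3,9,10,13,10,12,11,13,12,2,7,13,7,12,4,9], 13, [([], 4021, [1,12,11,5,12]), ([50,88,46,42], 264, [12,9,11,5,10]), ([373], 1011, [1,5,12,9,11,12,11,13])], []⟩
def c4103 : Clm := ⟨6, 8, true, [5,12,11,12,8,11,10,13,2,11,12,7,11,12,4], [3,12,13,5,10,12,11,2,11,10], 5, [([], 4102, [])], []⟩
def c4104 : Clm := ⟨8, 6, true, [3,8,11,13,12,11,2,11,10], [5,8,13,12,9,11,13,12,11,2,13,12,4,3,2,12], 13, [([], 4021, [9,11,13,5,10,12]), ([46,89,46,41], 264, [1,10,12,11]), ([372,370], 1079, [3,9,12,9,11,10,12,8])], []⟩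
def c4105 : Clm := ⟨6, 8, true, [5,8,11,10,12,9,11,10,12,2,4,7,12,11,13,2,6], [3,8,11,13,12,11,2,11,10], 5, [([], 4104, [])], []⟩
def c4106 : Clm := ⟨8, 6, true, [1,5,13,5,12,11,2,11,10], [1,8,11,10,12,8,11,10,2,6,13,4,6,6], 13, [([], 4021, [3,5,11,10,12]), ([60,52,41,50], 264, [1,8,13,12,9,13,12,11]), ([], 2385, [11,12,11,12,8,12,13])], []⟩
def c4107 : Clm := ⟨6, 8, true, [8,11,3,12,8,11,10,2,6,13,4,6,6,10], [1,5,13,5,12,11,2,11,10], 5, [([], 4106, [])], []⟩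
def c4108 : Clm := ⟨8, 5, true, [8,10,13,10,13,12,11,2,11,10], [3,10,11,12,8,12,11,10,12,4,6,5,10,4], 13, [([], 4021, [5,9,13,3,5,12]), ([61,89,54,61,40], 264, [8,10,12,9,13,10,13,12]), ([], 285, [3,9,11,12,9,11,12,9,13])], []⟩
def c4109 : Clm := ⟨5, 8, true, [3,8,10,12,8,11,5,12,9,2,7,13,5,10], [8,10,13,10,13,12,11,2,11,10], 5, [([], 4108, [])], []⟩
def c4110 : Clm := ⟨8, 4, true, [5,12,11,2,11,10], [5,8,12,11,5,11,2,11,10], 13, [([], 4021, [1,3,10,12]), ([50,89,50,48], 3693, [5,10,12,13]), ([], 3704, [5,11,12,11,13,12])], []⟩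
def c4111 : Clm := ⟨4, 8, true, [5,8,10,12,11,13,2,1,11,10], [5,12,11,2,11,10], 5, [([], 4110, [])], []⟩
def c4112 : Clm := ⟨8, 4, true, [5,12,11,10,2,1,11,10], [5,8,10,12,11,13,2,1,11,10], 5, [([], 4111, [])], []⟩
def c4113 : Clm := ⟨8, 5, true, [5,10,12,13,10,12,11,2,11,10], [1,5,9,12,11,5,12,2,7,13,2,6,5,6], 13, [([], 4021, [10,12,11,3,12]), ([52,48,50,42,40], 264, [11,10,12,8,13,10,12]), ([], 3153, [5,8,12,11,5,11,12,9,11])], []⟩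
def c4114 : Clm := ⟨5, 8, true, [1,5,9,12,11,5,12,2,7,13,6,5,6,10,2], [5,10,12,13,10,12,11,2,11,10], 5, [([], 4113, [])], []⟩
def c4115 : Clm := ⟨8, 5, true, [1,8,11,5,12,11,2,11,10], [1,10,12,9,13,5,12,13,2,4,6,12,13,6,5,10], 13, [([], 4021, [9,13,3,10,12]), ([40,61,50,61], 264, [11,3,13,12,9]), ([372,370], 3159, [1,5,9,12,11,5,12])], []⟩
def c4116 : Clm := ⟨5, 8, true, [11,12,8,13,12,13,2,13,12,4,6,13,12,8], [1,8,11,5,12,11,2,11,10], 5, [([], 4115, [])], []⟩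
def c4117 : Clm := ⟨8, 6, true, [3,5,8,12,13,10,2,11,10], [3,10,13,10,12,11,13,12,8,2,4,3,6,13,7], 13, [([], 4021, [9,10,12,13,3,5]), ([50,60,42,60], 264, [3,9,10,12,13,10,13,12]), ([], 207, [1,12,11,13,5,12,9,11])], []⟩
def c4118 : Clm := ⟨6, 8, true, [3,10,13,10,12,11,13,12,8,2,4,6,13,7], [3,5,8,12,13,10,2,11,10], 5, [([], 4117, [])], []⟩
def c4119 : Clm := ⟨8, 5, true, [1,11,13,5,12,11,2,11,10], [11,3,12,8,13,10,12,13,2,7,11,10], 13, [([], 4021, [10,13,5,13,12]), ([89,89,60,48], 4020, [1,13,12,8,13,12,9,13]), ([], 4045, [5,9,11,5,11,12,11,13,12,8])], []⟩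
def c4120 : Clm := ⟨5, 8, true, [1,9,13,10,12,9,11,12,2,1,7,11,10], [1,11,13,5,12,11,2,11,10], 5, [([], 4119, [])], []⟩
def c4121 : Clm := ⟨8, 6, true, [1,8,13,12,11,2,11,10], [1,9,12,11,5,10,12,11,2,4,6,13,12,11,2,1], 13, [([], 4021, [3,9,11,5,10,12]), ([40,61,50,61], 264, [1,8,12,8,13,5,12]), ([], 1530, [3,9,11,12,11,10,12,9,12])], []⟩
def c4122 : Clm := ⟨6, 8, true, [1,9,12,11,5,10,12,11,2,4,6,13,12,11,2,3], [1,8,13,12,11,2,11,10], 5, [([], 4121, [])], []⟩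
def c4123 : Clm := ⟨8, 5, true, [1,11,5,11,2,11,10], [10,13,10,12,8,13,10,2,11,12,11,13,6], 13, [([], 4021, [13,3,10]), ([49,50,40], 4020, [3,5,10,13,10]), ([8044], 4027, [3,11,13])], []⟩
def c4124 : Clm := ⟨5, 8, true, [11,10,13,12,8,11,2,6,13,12,11,13], [1,11,5,11,2,11,10], 5, [([], 4123, [])], []⟩
def c4125 : Clm := ⟨8, 5, true, [12,9,13,5,12,11,2,11,10], [1,13,12,8,13,10,13,2,4,13,6,13,10,12,13], 13, [([], 4021, [12,8,11,3,10,12]), ([46,60,42,54], 264, [3,9,12,9,13,12]), ([373,370], 1068, [8,13,12,8,13,12,8,11,10])], []⟩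
def c4126 : Clm := ⟨5, 8, true, [13,5,12,8,13,10,2,4,12,13,6,5,11,13], [12,9,13,5,12,11,2,11,10], 5, [([], 4125, [])], []⟩
def c4127 : Clm := ⟨8, 6, true, [1,12,9,11,5,10,12,11,2,11,10], [1,9,10,13,5,10,12,11,13,2,13,7,5,4,13,6], 13, [([], 4021, [12,8,13,3,5,12]), ([61,89,54,61,40], 264, [1,12,13,10,13,12,8,11]), ([373], 1011, [9,12,8,11,12,11,13,5])], []⟩
def c4128 : Clm := ⟨6, 8, true, [5,9,10,11,5,12,11,13,2,13,7,13,5,4,6], [1,12,9,11,5,10,12,11,2,11,10], 5, [([], 4127, [])], []⟩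
def c4129 : Clm := ⟨8, 5, true, [5,8,13,12,11,2,11,10], [3,9,12,11,13,12,9,12,2,11,12,7,13,2,13,3], 13, [([], 4021, [3,9,10,13,10,13,12]), ([40,61,50,61], 264, [11,3,13,12,9,11]), ([], 1629, [10,12,8,13,5,12])], []⟩
def c4130 : Clm := ⟨5, 8, true, [9,10,11,12,9,11,13,2,1,13,2,12,4,5,12], [5,8,13,12,11,2,11,10], 5, [([], 4129, [])], []⟩
def c4131 : Clm := ⟨8, 5, true, [5,8,13,12,11,10,2,1,11,10], [9,10,11,12,9,11,13,2,1,13,2,12,4,5,12], 5, [([], 4130, [])], []⟩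
def c4132 : Clm := ⟨8, 5, true, [8,10,13,5,10,12,11,2,11,10], [1,9,13,10,12,8,11,12,8,2,1,4,6,13,12,4,9], 13, [([], 4021, [1,9,13,10,13,10,12]), ([46,89,46,41], 264, [9,13,12,8,13,10,12,13]), ([], 3153, [3,11,12,11,13,12,8])], []⟩
def c4133 : Clm := ⟨5, 8, true, [1,9,13,10,12,8,11,12,8,2,4,6,13,12,4,3,9], [8,10,13,5,10,12,11,2,11,10], 5, [([], 4132, [])], []⟩
def c4134 : Clm := ⟨8, 5, true, [12,13,3,5,10,2,11,10], [5,9,10,13,3,5,2,1,7,13,7,13,4], 13, [([], 4021, [1,12,13,10,13,10]), ([50,89,50,48], 3693, [1,12,11,13,10]), ([7393], 3724, [5,8,11,12,11,13,5,12,11])], []⟩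
def c4135 : Clm := ⟨5, 8, true, [1,8,12,11,13,12,8,13,2,6,11,12,11,2,1], [12,13,3,5,10,2,11,10], 5, [([], 4134, [])], []⟩
def c4136 : Clm := ⟨8, 6, true, [1,12,8,13,5,12,11,2,11,10], [1,12,11,12,8,12,13,10,11,2,1,6,9,13,7,5,4], 13, [([], 4021, [3,12,9,11,10,12]), ([89,61,88,41], 4020, [8,12,8,13,10,12,8,13]), ([8044], 4036, [9,11,12,11,5,11,5,12,9,13])], []⟩
def c4137 : Clm := ⟨6, 8, true, [1,12,11,12,8,12,13,10,11,2,6,9,13,7,5,4,3], [1,12,8,13,5,12,11,2,11,10], 5, [([], 4136, [])], []⟩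
def c4138 : Clm := ⟨8, 6, true, [8,12,8,13,5,12,11,2,11,10], [3,8,11,12,9,11,10,12,2,1,7,13,7,12,4,8], 13, [([], 4021, [9,12,9,11,3,10,12]), ([46,60,42,54], 264, [8,12,8,11,13,12,9]), ([373], 1659, [1,9,10,13,10,12,11])], []⟩
def c4139 : Clm := ⟨6, 8, true, [5,8,13,12,8,13,2,7,11,12,9,13,4,13], [8,12,8,13,5,12,11,2,11,10], 5, [([], 4138, [])], []⟩
def c4140 : Clm := ⟨8, 6, true, [8,12,11,2,11,10], [1,10,13,12,8,11,13,12,2,13,4,6,13,7], 13, [([], 4021, [1,3,5,9,10,12]), ([50,60,42,60], 264, [9,11,5,12,11,12,11,10]), ([370], 235, [1,12,8,11,5,10,12,13])], []⟩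
def c4141 : Clm := ⟨6, 8, true, [1,9,12,11,10,12,11,12,2,11,5,11,12,4,9], [8,12,11,2,11,10], 5, [([], 4140, [])], []⟩
def c4142 : Clm := ⟨8, 6, true, [5,13,5,10,11,2,11,10], [5,8,13,10,12,13,12,2,1,6,6,13,6,12,4], 13, [([], 4021, [5,11,3,5]), ([48,54,40], 264, [1,8,11,10,13,12]), ([372,370], 2385, [9,12,8,13,3,5,12,11])], []⟩
def c4143 : Clm := ⟨6, 8, true, [5,10,12,9,11,13,12,13,2,1,11,12,7,9,13,4], [5,13,5,10,11,2,11,10], 5, [([], 4142, [])], []⟩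
def c4144 : Clm := ⟨8, 6, true, [8,10,11,13,12,11,2,11,10], [9,11,12,9,11,12,13,2,1,13,5,7,12,4,13], 13, [([], 4021, [9,11,5,11,12]), ([54,61,49,40], 264, [1,9,10,11,13,12,13]), ([372,370], 1079, [3,8,12,13,5,10,13,12,9])], []⟩
def c4145 : Clm := ⟨6, 8, true, [3,13,12,9,13,12,9,11,13,2,1,7,13,2,12,13,10], [8,10,11,13,12,11,2,11,10], 5, [([], 4144, [])], []⟩
def c4146 : Clm := ⟨8, 6, true, [1,9,13,5,10,12,13,5,2,11,10], [3,5,8,13,5,10,12,9,11,2,7,13,5,6,10], 13, [([], 4021, [1,5,8,13,5,12]), ([49,42,88,49], 3693, [1,5,12,8,13,12,9,12,11]), ([7390], 3783, [3,5,12,11,12,13,10,13,12])], []⟩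
def c4147 : Clm := ⟨6, 8, true, [1,8,13,12,11,13,4,10,12,4,9], [1,9,13,5,10,12,13,5,2,11,10], 5, [([], 4146, [])], []⟩
def c4148 : Clm := ⟨8, 6, true, [1,9,11,5,10,12,11,2,11,10], [5,9,11,12,11,10,12,13,12,2,1,11,12,4,6,8], 13, [([], 4021, [8,13,3,5,12]), ([49,61,88,88], 4020, [8,11,12,9,11,10,12,9,13]), ([], 4052, [5,12,13,5,12,9,13])], []⟩
def c4149 : Clm := ⟨6, 8, true, [9,11,12,11,5,11,5,12,9,2,1,6,9,13,2,7], [1,9,11,5,10,12,11,2,11,10], 5, [([], 4148, [])], []⟩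
def c4150 : Clm := ⟨8, 6, true, [9,12,13,5,10,12,11,2,11,10], [9,10,12,8,11,13,12,2,4,6,13,12,13,10], 13, [([], 4021, [8,12,11,3,5,12]), ([50,88,46,42], 264, [3,10,11,13,12,8,12,11,10]), ([372,370], 1530, [8,10,12,8,13,12])], []⟩
def c4151 : Clm := ⟨6, 8, true, [8,10,13,10,13,12,11,12,9,2,13,12,13,7,10,4], [9,12,13,5,10,12,11,2,11,10], 5, [([], 4150, [])], []⟩
def c4152 : Clm := ⟨8, 6, true, [9,11,13,5,12,11,2,11,10], [3,9,10,11,10,12,9,11,12,2,4,6,13,12,13,10], 13, [([], 4021, [3,8,11,13,10,12]), ([88,88,41,49], 4020, [12,9,11,5,12,13,5,10]), ([], 4036, [5,12,11,5,12,9])], []⟩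
def c4153 : Clm := ⟨6, 8, true, [12,13,12,8,11,10,12,11,2,13,12,13,7,10,4], [9,11,13,5,12,11,2,11,10], 5, [([], 4152, [])], []⟩
def c4154 : Clm := ⟨8, 5, true, [12,8,13,10,13,12,11,2,11,10], [1,8,11,13,12,8,11,10,4,6,6], 13, [([], 4021, [10,12,9,13,3,5,12]), ([49,50,88,50], 3693, [10,11,12,8,11,5,11,5]), ([], 3701, [5,8,11,5,12,13,12,8])], []⟩
def c4155 : Clm := ⟨5, 8, true, [5,12,9,13,10,12,11,12,4,6,6], [12,8,13,10,13,12,11,2,11,10], 5, [([], 4154, [])], []⟩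
def c4156 : Clm := ⟨8, 5, true, [12,8,13,10,13,12,11,10,2,1,11,10], [5,12,9,13,10,12,11,12,4,6,6], 5, [([], 4155, [])], []⟩
def c4157 : Clm := ⟨8, 5, true, [9,11,3,13,12,11,2,11,10], [8,10,12,11,10,12,13,5,4,6,9], 13, [([], 4021, [1,8,11,13,5,10,12]), ([49,50,88,50], 3693, [5,12,9,13,10,12,11,10]), ([7392], 3701, [5,9,10,11,12,8,13,10])], []⟩
def c4158 : Clm := ⟨5, 8, true, [3,5,8,10,12,13,10,12,4,6,9], [9,11,3,13,12,11,2,11,10], 5, [([], 4157, [])], []⟩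
def c4159 : Clm := ⟨8, 6, true, [9,12,9,13,5,12,11,2,11,10], [5,11,13,12,9,11,13,12,8,2,1,13,4,12,11,10], 13, [([], 4021, [8,12,8,11,3,10,12]), ([89,61,88,41], 4020, [9,10,13,3,10,12,8]), ([8044], 4033, [5,9,11,5,12,11,12,11])], []⟩
def c4160 : Clm := ⟨6, 8, true, [8,13,3,10,12,8,11,12,8,2,11,13,12,4,13], [9,12,9,13,5,12,11,2,11,10], 5, [([], 4159, [])], []⟩
def c4161 : Clm := ⟨8, 5, true, [9,10,13,10,13,12,11,2,11,10], [1,10,12,9,11,12,13,12,4,6,6], 13, [([], 4021, [5,8,13,3,5,12]), ([49,42,88,49], 3693, [3,9,13,12,8,11,12,11]), ([7392], 3701, [1,9,10,13,5,10,12,13,10])], []⟩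
def c4162 : Clm := ⟨5, 8, true, [1,10,12,9,12,13,12,4,6,6], [9,10,13,10,13,12,11,2,11,10], 5, [([], 4161, [])], []⟩
def c4163 : Clm := ⟨8, 6, true, [10,13,10,12,11,2,11,10], [3,13,12,8,11,12,11,10,2,1,4,12,6,13,6,5], 13, [([], 4021, [5,10,11,3,12]), ([89,89,60,48], 4020, [1,8,13,12,9,12,13]), ([8044], 4024, [8,11,12,11,13,12,9])], []⟩
def c4164 : Clm := ⟨6, 8, true, [11,10,12,8,13,5,12,13,2,13,12,13,4,6,6], [10,13,10,12,11,2,11,10], 5, [([], 4163, [])], []⟩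
def c4165 : Clm := ⟨8, 5, true, [3,13,10,11,12,11,2,11,10], [8,13,12,8,11,10,4,6,6], 13, [([], 4021, [5,10,13,3,5,12]), ([50,89,50,48], 3693, [1,5,8,11,10,12,9,11,10,12]), ([7392], 3701, [11,13,12,13,12,9])], []⟩
def c4166 : Clm := ⟨5, 8, true, [3,8,13,10,12,8,11,10,4,6,6], [3,13,10,11,12,11,2,11,10], 5, [([], 4165, [])], []⟩
def c4167 : Clm := ⟨8, 3, true, [11,12,13,10,11,12,13,2,11,10], [5,10,11,12,11,13,12,13,2,6,13,4,6,13], 13, [([], 4021, [11,3,10,12,13,12]), ([41,61,89], 61, [1,8,10,12,13,12,9,13]), ([170,111], 87, [5,9,12,8,11,5,11,12])], []⟩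
def c4168 : Clm := ⟨3, 8, true, [1,12,11,10,12,11,12,13,2,6,11,13,2,6,13], [11,12,13,10,11,12,13,2,11,10], 5, [([], 4167, [])], []⟩
def c4169 : Clm := ⟨8, 3, true, [10,11,12,13,10,11,12,13,2,1,11,10], [1,12,11,10,12,11,12,13,2,6,11,13,2,6,13], 5, [([], 4168, [])], []⟩
def c4170 : Clm := ⟨8, 5, true, [1,9,13,10,13,10,12,11,2,11,10], [5,9,10,13,12,11,10,2,4,3,6,12,6,13,4], 13, [([], 4021, [3,8,10,13,10,12]), ([50,48,42,40], 4020, [1,9,13,10,13,12,8,11,12]), ([8114], 4048, [8,12,11,10,13,12,8,12])], []⟩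
def c4171 : Clm := ⟨5, 8, true, [5,9,10,13,12,11,10,12,2,4,12,4,12,13,5], [1,9,13,10,13,10,12,11,2,11,10], 5, [([], 4170, [])], []⟩
def c4172 : Clm := ⟨8, 6, true, [9,12,13,3,5,10,2,11,10], [3,8,13,5,10,12,13,10,2,13,5,10], 13, [([], 4021, [1,8,12,13,10,13,10]), ([49,50,88,50], 3693, [1,5,12,9,11,13,10]), ([], 3783, [5,8,10,13,5,12,13,12])], []⟩
def c4173 : Clm := ⟨6, 8, true, [1,8,13,12,13,4,5,10,4], [9,12,13,3,5,10,2,11,10], 5, [([], 4172, [])], []⟩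
def c4174 : Clm := ⟨8, 5, true, [1,10,13,5,10,12,11,2,11,10], [11,5,12,9,11,10,12,9,4,6], 13, [([], 4021, [13,10,13,10,12]), ([50,89,50,48], 3693, [3,9,10,12,9,13,12,9]), ([7393], 3701, [11,12,11,12,8,13])], []⟩
def c4175 : Clm := ⟨5, 8, true, [3,5,10,11,12,8,11,12,13,4,6], [1,10,13,5,10,12,11,2,11,10], 5, [([], 4174, [])], []⟩
def c4176 : Clm := ⟨8, 6, true, [8,10,11,3,10,12,11,2,11,10], [3,9,10,11,5,2,6,13,6,6,5,4], 13, [([], 4021, [3,5,9,10,13,12]), ([50,60,42,60], 264, [3,12,9,12,13,10,12]), ([], 588, [9,11,3,12,8,11,12])], []⟩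
def c4177 : Clm := ⟨6, 8, true, [3,8,10,11,2,7,11,12,13,4,6,8], [8,10,11,3,10,12,11,2,11,10], 5, [([], 4176, [])], []⟩
def c4178 : Clm := ⟨8, 5, true, [8,13,5,12,11,2,11,10], [8,10,11,12,13,10,12,9,12,2,4,6,12,13,3,6,9], 13, [([], 4021, [9,11,3,10,12]), ([89,61,88,41], 4020, [9,13,3,10,12,8]), ([], 4041, [5,9,11,5,12,11,12,11])], []⟩
def c4179 : Clm := ⟨5, 8, true, [8,10,11,12,13,10,12,9,12,2,1,4,6,12,13,6,9], [8,13,5,12,11,2,11,10], 5, [([], 4178, [])], []⟩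
def c4180 : Clm := ⟨8, 6, true, [5,10,11,2,11,10], [10,13,12,8,11,13,10,2,13,4,6,13,7], 13, [([], 4021, [1,3,5]), ([50,88,46,42], 264, [9,10,12,13,3,10,12,11,12]), ([370], 235, [12,8,13,3,10,12,11])], []⟩
def c4181 : Clm := ⟨6, 8, true, [8,13,12,13,10,12,8,11,2,11,5,11,12,4,9], [5,10,11,2,11,10], 5, [([], 4180, [])], []⟩
def c4182 : Clm := ⟨8, 6, true, [1,10,13,10,12,11,2,11,10], [12,11,12,9,13,10,11,2,6,13,4,6,6,13], 13, [([], 4021, [3,5,10,11,12]), ([89,89,60,48], 4020, [1,8,13,12,9,12]), ([], 4050, [10,11,10,12,9,13,5,10])], []⟩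
def c4183 : Clm := ⟨6, 8, true, [12,11,10,12,9,11,12,2,13,5,12,7,13,4], [1,10,13,10,12,11,2,11,10], 5, [([], 4182, [])], []⟩
def c4184 : Clm := ⟨8, 6, true, [9,12,11,5,11,2,11,10], [3,8,13,10,12,11,2,11,5,4], 13, [([], 4021, [3,8,12,13,10]), ([49,50,40], 4020, [3,9,12,13,10,13]), ([8044], 4033, [1,3])], []⟩
def c4185 : Clm := ⟨6, 8, true, [5,8,11,5,12,11,2,1,13,2,1], [9,12,11,5,11,2,11,10], 5, [([], 4184, [])], []⟩
def c4186 : Clm := ⟨8, 6, true, [3,10,12,11,2,11,10], [1,8,13,5,12,9,11,4,5], 13, [([], 4021, [1,12]), ([48,89,61,46], 3693, [3,5,8,10,12]), ([7393], 3783, [1,8,10,11,12,13,12,9])], []⟩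
def c4187 : Clm := ⟨6, 8, true, [8,13,5,12,9,4,5], [3,10,12,11,2,11,10], 5, [([], 4186, [])], []⟩
def c4188 : Clm := ⟨8, 6, true, [9,10,11,5,12,13,5,2,11,10], [5,12,11,3,10,12,8,12,13,2,7,13,7,12,4,9], 13, [([], 4021, [3,8,10,11,10,12]), ([46,60,42,54], 264, [5,11,13,12,8,13,12,13,12]), ([372,370], 1530, [8,10,12,8,11,3,12,11,13])], []⟩
def c4189 : Clm := ⟨6, 8, true, [9,10,12,8,11,3,13,12,11,2,11,12,7,11,12,4], [9,10,11,5,12,13,5,2,11,10], 5, [([], 4188, [])], []⟩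
def c4190 : Clm := ⟨8, 5, true, [12,13,5,10,13,12,11,2,11,10], [3,5,13,5,12,13,10,12,9,2,11,12,13,4,10], 13, [([], 4021, [10,12,11,3,5,12]), ([61,88,40], 264, [12,9,11,5,10,13]), ([372,370], 3159, [11,12,11,12,9,13])], []⟩
def c4191 : Clm := ⟨5, 8, true, [9,12,8,13,12,11,10,12,2,4,12,13,10,12,9], [12,13,5,10,13,12,11,2,11,10], 5, [([], 4190, [])], []⟩
def c4192 : Clm := ⟨8, 5, true, [5,9,13,5,12,11,2,11,10], [8,12,9,13,12,9,11,4,10,2,12,4,7,5], 13, [([], 4021, [5,8,11,3,10,12]), ([46,60,42,54], 264, [5,11,3,12,8,13]), ([372,370], 1629, [3,9,12,13,12,13,10])], []⟩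
def c4193 : Clm := ⟨5, 8, true, [8,12,9,13,12,9,11,2,4,3,12,4,3,7,5], [5,9,13,5,12,11,2,11,10], 5, [([], 4192, [])], []⟩
def c4194 : Clm := ⟨8, 4, true, [3,9,12,13,10,2,11,10], [8,12,8,11,4], 13, [([], 4021, [5,8,10,12,13,3,5]), ([49,50,88,50], 3693, [1,10,12,9,11]), ([], 3698, [10,13,12,8,13,10,13])], []⟩
def c4195 : Clm := ⟨4, 8, true, [1,8,12,8,4], [3,9,12,13,10,2,11,10], 5, [([], 4194, [])], []⟩
def c4196 : Clm := ⟨8, 6, true, [9,13,12,11,2,11,10], [11,13,10,12,9,12,13,10,2,6,13,12,4,8,7], 13, [([], 4021, [8,11,3,5,10,12]), ([50,48,42,40], 4020, [8,13,3,5,10,12,9]), ([], 4036, [8,11,12,13,12])], []⟩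
def c4197 : Clm := ⟨6, 8, true, [8,11,13,12,13,5,10,13,2,7,11,12,9,13,4], [9,13,12,11,2,11,10], 5, [([], 4196, [])], []⟩
def c4198 : Clm := ⟨8, 5, true, [3,9,10,12,11,2,11,10], [3,12,11,10,12,11,12,9,2,1,6,11,10,12,8,13], 13, [([], 4021, [1,8,12]), ([49,42,88,49], 3693, [1,5,8,12,9]), ([7392,7390], 3724, [3,8,11,12,11,13,12,8,13])], []⟩
def c4199 : Clm := ⟨5, 8, true, [3,12,11,10,12,11,12,9,2,6,11,10,12,8,13], [3,9,10,12,11,2,11,10], 5, [([], 4198, [])], []⟩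
def c4200 : Clm := ⟨8, 6, true, [3,5,9,10,12,11,2,11,10], [8,13,5,10,12,13,10,4,10,2], 13, [([], 4021, [1,5,8,12]), ([49,61,88,88], 4020, [3,10,12,9]), ([], 4030, [1,8,13])], []⟩
def c4201 : Clm := ⟨6, 8, true, [8,13,5,10,12,13,10,2,4], [3,5,9,10,12,11,2,11,10], 5, [([], 4200, [])], []⟩
def c4202 : Clm := ⟨8, 6, true, [12,11,13,5,10,2,11,10], [1,8,13,12,9,13,5,10,13,2,4,13,3], 13, [([], 4021, [10,12,13,3,10]), ([49,50,40], 4020, [3,5,10,12,13,10]), ([8044], 4030, [3,11,13])], []⟩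
def c4203 : Clm := ⟨6, 8, true, [1,8,13,12,9,13,5,10,13,2,1,4,13], [12,11,13,5,10,2,11,10], 5, [([], 4202, [])], []⟩
def c4204 : Clm := ⟨8, 6, true, [12,11,13,5,2,1,11,10], [1,8,13,12,9,13,5,10,13,2,1,4,13], 5, [([], 4203, [])], []⟩
def c4205 : Clm := ⟨8, 6, true, [5,11,3,10,12,11,2,11,10], [12,13,10,12,8,11,10,2,6,9,13,4,6], 13, [([], 4021, [1,5,13,12]), ([50,60,88,40], 4020, [3,13,10,12,9,13,10,12,8]), ([], 4054, [9,11,10,13,12,9,13,10])], []⟩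
def c4206 : Clm := ⟨6, 8, true, [3,12,13,12,8,11,10,2,6,9,13,4,6,10], [5,11,3,10,12,11,2,11,10], 5, [([], 4205, [])], []⟩
def c4207 : Clm := ⟨8, 6, true, [1,5,8,13,12,11,2,11,10], [8,12,11,12,9,11,5,10,2,7,13,7,12,4], 13, [([], 4021, [3,5,9,11,5,10,12]), ([40,61,50,61], 264, [3,11,13,12,9,11,13]), ([373], 1659, [9,12,13,10,11,12,9])], []⟩
def c4208 : Clm := ⟨6, 8, true, [8,12,9,11,10,13,12,2,1,4,7,12,13,2,7], [1,5,8,13,12,11,2,11,10], 5, [([], 4207, [])], []⟩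
def c4209 : Clm := ⟨8, 5, true, [13,5,11,2,11,10], [8,10,11,5,12,13,10,4,5], 13, [([], 4021, [11,3,10]), ([41,61,89], 61, [10,11,3]), ([111,104,96], 120, [8,10,11,12,11,10,13])], []⟩
def c4210 : Clm := ⟨5, 8, true, [3,8,10,11,12,13,10,13,4,5], [13,5,11,2,11,10], 5, [([], 4209, [])], []⟩
def c4211 : Clm := ⟨8, 6, true, [8,13,5,13,5,12,11,2,11,10], [3,10,11,2,7,11,12,4,8], 13, [([], 4021, [9,10,11,3,13,12]), ([46,89,46,41], 264, [1,10,12]), ([], 588, [1,11,13,12,9,12,11])], []⟩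
def c4212 : Clm := ⟨6, 8, true, [3,10,11,2,1,7,11,12,4,3,8], [8,13,5,13,5,12,11,2,11,10], 5, [([], 4211, [])], []⟩
def c4213 : Clm := ⟨8, 5, true, [5,11,12,13,10,13,12,11,2,11,10], [12,8,12,13,5,13,12,4,6,5,6], 13, [([], 4021, [3,11,10,12,11,12]), ([41,61,89], 61, [12,8,11,10,12,9,11,10,12]), ([111,102], 120, [3,8,11,12,11,12])], []⟩
def c4214 : Clm := ⟨5, 8, true, [1,10,11,12,13,10,11,12,8,4,6,5,6], [5,11,12,13,10,13,12,11,2,11,10], 5, [([], 4213, [])], []⟩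
def c4215 : Clm := ⟨8, 6, true, [3,10,11,12,11,2,11,10], [11,3,12,8,11,12,13,10,2,7,11,12,4,9,13], 13, [([], 4021, [5,13,5,10,11,12]), ([60,52,41,50], 264, [9,11,5,11,12,8,13]), ([372,370], 1079, [11,3,12,9,11,13,10,12])], []⟩
def c4216 : Clm := ⟨6, 8, true, [10,12,13,5,12,8,13,12,2,1,6,9,13,2,6,13], [3,10,11,12,11,2,11,10], 5, [([], 4215, [])], []⟩
def c4217 : Clm := ⟨8, 6, true, [12,8,11,3,10,12,11,2,11,10], [5,12,13,10,12,9,13,2,1,7,11,12,4,9], 13, [([], 4021, [1,12,9,13,12]), ([49,61,88,88], 4020, [1,10,13,12,8,13,12,13,12]), ([], 4050, [9,11,10,13,12,9,13,10])], []⟩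
def c4218 : Clm := ⟨6, 8, true, [10,11,5,12,9,11,10,2,1,6,9,13,2,6], [12,8,11,3,10,12,11,2,11,10], 5, [([], 4217, [])], []⟩
def c4219 : Clm := ⟨8, 5, true, [3,10,11,2,11,10], [3,9,11,10,12,8,13,12,8,2,4,12,4,7,13,7,10], 13, [([], 4021, [1]), ([48,54,40], 264, [8,10,13,10,12,11,13,5]), ([373], 1068, [8,13,5,12,13,12,9,13,10])], []⟩
def c4220 : Clm := ⟨5, 8, true, [1,5,12,8,11,10,12,9,2,13,2,12,8,13,2,3], [3,10,11,2,11,10], 5, [([], 4219, [])], []⟩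
def c4221 : Clm := ⟨8, 6, true, [1,5,12,11,10,12,11,2,11,10], [3,8,11,12,9,11,10,2,13,7,5,4,13,6], 13, [([], 4021, [5,12,13,3,12]), ([50,88,46,42], 264, [10,12,9,13,10]), ([373], 1659, [10,11,3,10,12,8,11,12])], []⟩
def c4222 : Clm := ⟨6, 8, true, [3,8,11,12,9,11,2,13,7,13,5,4,6], [1,5,12,11,10,12,11,2,11,10], 5, [([], 4221, [])], []⟩
def c4223 : Clm := ⟨8, 6, true, [9,10,11,3,13,12,11,2,11,10], [5,9,10,13,10,12,9,2,1,7,13,7,12,4,8], 13, [([], 4021, [8,13,5,13,12]), ([49,61,88,88], 4020, [5,12,9,13,10,12,11,10]), ([], 4061, [9,10,11,3,12,8,13,10])], []⟩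
def c4224 : Clm := ⟨6, 8, true, [5,10,13,12,2,7,11,12,9,13,4,13], [9,10,11,3,13,12,11,2,11,10], 5, [([], 4223, [])], []⟩
def c4225 : Clm := ⟨8, 6, true, [12,11,3,5,10,12,11,2,11,10], [8,13,12,9,13,2,11,12,7,11,2], 13, [([], 4021, [1,12,13,5,12]), ([50,88,46,42], 264, [12,9,11,13,12,11,10,13]), ([372,370], 2385, [12,9,11,13,12,13,5])], []⟩
def c4226 : Clm := ⟨6, 8, true, [8,11,10,12,11,2,6,9,13,6,13,4], [12,11,3,5,10,12,11,2,11,10], 5, [([], 4225, [])], []⟩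
def c4227 : Clm := ⟨8, 6, true, [3,11,12,11,10,12,13,2,1,11,10], [8,11,10,12,11,2,6,9,13,6,13,4], 5, [([], 4226, [])], []⟩
def c4228 : Clm := ⟨8, 6, true, [13,10,13,12,11,2,11,10], [1,5,10,13,12,9,12,2,6,9,13,4,7], 13, [([], 4021, [10,13,3,5,12]), ([89,89,60,48], 4020, [1,8,13,12,9,12,11,13]), ([], 4061, [9,13,5])], []⟩
def c4229 : Clm := ⟨6, 8, true, [1,5,8,10,13,5,12,2,1,13,7,13,4,6], [13,10,13,12,11,2,11,10], 5, [([], 4228, [])], []⟩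
def c4230 : Clm := ⟨8, 6, true, [13,10,13,12,11,10,2,1,11,10], [1,5,8,10,13,5,12,2,1,13,7,13,4,6], 5, [([], 4229, [])], []⟩
def c4231 : Clm := ⟨8, 5, true, [1,9,12,11,5,11,2,11,10], [9,12,8,11,3,13,12,13,2,1,7,13,4,7,13,12], 13, [([], 4021, [8,12,13,3,10]), ([49,50,40], 4020, [1,9,12,13,10]), ([], 4041, [3,11,13])], []⟩
def c4232 : Clm := ⟨5, 8, true, [5,9,13,3,5,2,7,13,2,7,8,13], [1,9,12,11,5,11,2,11,10], 5, [([], 4231, [])], []⟩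
def c4233 : Clm := ⟨8, 5, true, [1,9,10,12,11,13,2,1,11,10], [5,9,13,3,5,2,7,13,2,7,8,13], 5, [([], 4232, [])], []⟩
def c4234 : Clm := ⟨8, 6, true, [1,8,13,10,13,12,11,2,11,10], [8,12,11,12,9,11,10,2,7,13,7,12,4], 13, [([], 4021, [3,9,10,13,5,12]), ([50,60,42,60], 264, [12,9,11,5,10,12,11]), ([373], 1659, [3,9,12,11,5,10,12,9,13])], []⟩
def c4235 : Clm := ⟨6, 8, true, [1,5,9,12,8,11,10,12,11,2,1,4,7,12,13,2,7], [1,8,13,10,13,12,11,2,11,10], 5, [([], 4234, [])], []⟩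
def c4236 : Clm := ⟨8, 6, true, [1,8,13,10,13,12,11,10,2,1,11,10], [1,5,9,12,8,11,10,12,11,2,1,4,7,12,13,2,7], 5, [([], 4235, [])], []⟩
def c4237 : Clm := ⟨8, 4, true, [3,12,13,10,2,11,10], [8,10,12,11,3,4], 13, [([], 4021, [5,10,12,13,3,5]), ([50,89,50,48], 3693, [1,5,10,12,11]), ([], 3698, [10,13,10,12,13,10,13])], []⟩
def c4238 : Clm := ⟨4, 8, true, [1,8,10,12,4], [3,12,13,10,2,11,10], 5, [([], 4237, [])], []⟩
def c4239 : Clm := ⟨8, 6, true, [10,12,13,10,13,12,11,2,11,10], [9,10,13,5,12,11,5,11,2,13,7,5,4,13,6], 13, [([], 4021, [5,12,13,3,5,12]), ([48,54,40], 264, [9,12,9,13,5,10,12,11,13]), ([373], 1011, [3,8,12,9,11,13])], []⟩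
def c4240 : Clm := ⟨6, 8, true, [9,10,13,5,10,12,11,13,2,13,7,13,5,4,6], [10,12,13,10,13,12,11,2,11,10], 5, [([], 4239, [])], []⟩
def c4241 : Clm := ⟨8, 6, true, [3,5,8,10,12,11,2,11,10], [9,12,11,13,10,12,13,2,4,6,13,12,11,2], 13, [([], 4021, [1,5,9,12]), ([54,61,49,40], 264, [5,9,12,11,12,13,10,13]), ([], 1530, [9,10,11,12,9,11,12,13])], []⟩
def c4242 : Clm := ⟨6, 8, true, [9,12,11,13,10,12,13,2,4,6,13,12,11,10,2], [3,5,8,10,12,11,2,11,10], 5, [([], 4241, [])], []⟩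
def c4243 : Clm := ⟨8, 5, true, [9,13,5,12,13,12,2,11,10], [3,10,12,9,13,10,13,12,2,13,4,7,5,13,7], 13, [([], 4021, [8,12,13,3,10,12]), ([50,48,42,40], 4020, [9,13,3,10,12,8,11,13,12]), ([], 4043, [11,10,13,12,8,13,10])], []⟩
def c4244 : Clm := ⟨5, 8, true, [1,5,8,13,10,12,8,11,12,2,11,5,6,13,2,5], [9,13,5,12,13,12,2,11,10], 5, [([], 4243, [])], []⟩
def c4245 : Clm := ⟨8, 6, true, [3,8,10,11,10,12,11,2,11,10], [1,8,11,13,12,9,12,13,12,2,11,12,7,11,2,13], 13, [([], 4021, [5,9,10,13,3,12]), ([50,60,42,60], 264, [3,12,9,12,13,10,12,13]), ([372,370], 2385, [1,5,11,13,12,9,13,12,13])], []⟩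
def c4246 : Clm := ⟨6, 8, true, [1,8,11,10,12,9,11,2,1,13,7,5,7,13,4], [3,8,10,11,10,12,11,2,11,10], 5, [([], 4245, [])], []⟩
def c4247 : Clm := ⟨8, 6, true, [3,8,12,13,10,2,11,10], [5,9,11,5,11,12,11,12,2,4,12,8,11,10], 13, [([], 4021, [5,9,10,12,13,3,5]), ([46,89,46,41], 264, [5,12,13,5,12,11,10]), ([], 207, [3,13,10,13,12,8,11,10])], []⟩
def c4248 : Clm := ⟨6, 8, true, [5,9,12,13,12,9,13,10,13,2,4,6,13,7,9], [3,8,12,13,10,2,11,10], 5, [([], 4247, [])], []⟩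
def c4249 : Clm := ⟨8, 6, true, [3,8,12,13,2,1,11,10], [5,9,12,13,12,9,13,10,13,2,4,6,13,7,9], 5, [([], 4248, [])], []⟩
def c4250 : Clm := ⟨8, 6, true, [10,11,5,12,13,5,2,11,10], [12,9,13,3,12,8,11,10,13,2,11,12,4,6,8], 13, [([], 4021, [3,10,11,10,12]), ([60,52,41,50], 264, [9,11,5,11,12,8,11,13]), ([372,370], 1530, [1,8,10,12,8,13,12,8])], []⟩
def c4251 : Clm := ⟨6, 8, true, [10,12,9,12,11,12,13,10,13,2,1,6,9,13,2,1,7], [10,11,5,12,13,5,2,11,10], 5, [([], 4250, [])], []⟩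
def c4252 : Clm := ⟨8, 6, true, [12,8,13,5,10,12,11,2,11,10], [11,3,5,12,9,13,12,4,10,12,4,3,8], 13, [([], 4021, [12,9,11,3,5,12]), ([49,42,88,49], 3693, [1,9,12,8,13,12,9,13]), ([7392,7390], 3783, [1,5,8,11,12,9,13,10])], []⟩
def c4253 : Clm := ⟨6, 8, true, [11,3,5,12,9,13,12,11,4,10,12,4,8], [12,8,13,5,10,12,11,2,11,10], 5, [([], 4252, [])], []⟩
def c4254 : Clm := ⟨8, 6, true, [11,12,11,5,11,2,11,10], [3,9,11,12,9,11,12,13,2,1,7,11,12,4,8], 13, [([], 4021, [13,3,12,13,10]), ([52,48,50,42,40], 264, [3,8,11,12,13,10,13,12]), ([372,370], 1079, [1,9,12,9,13,5,10,11,12])], []⟩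
def c4255 : Clm := ⟨6, 8, true, [3,9,11,12,9,11,12,13,2,7,11,12,4,3,8], [11,12,11,5,11,2,11,10], 5, [([], 4254, [])], []⟩
def c4256 : Clm := ⟨8, 6, true, [1,11,13,5,10,2,11,10], [9,12,8,11,13,12,13,2,7,11,12,4,8,13], 13, [([], 4021, [3,10,13,10]), ([49,50,40], 4020, [1,13,10,13]), ([8044], 4024, [3,13])], []⟩
def c4257 : Clm := ⟨6, 8, true, [3,5,8,10,13,10,12,11,2,1,7,13,7,12,13,4], [1,11,13,5,10,2,11,10], 5, [([], 4256, [])], []⟩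
def c4258 : Clm := ⟨8, 5, true, [11,3,5,10,12,11,2,11,10], [5,11,13,12,9,11,12,9,2,13,2,6,12,13,12], 13, [([], 4021, [1,13,5,12]), ([50,60,88,40], 4020, [3,5,8,10,13,12,9,12,11]), ([], 4027, [12,8,12,13,12,9,13,12])], []⟩
def c4259 : Clm := ⟨5, 8, true, [11,10,13,12,8,11,12,2,4,13,12,6,13,12], [11,3,5,10,12,11,2,11,10], 5, [([], 4258, [])], []⟩
def c4260 : Clm := ⟨8, 6, true, [8,12,13,3,5,10,2,11,10], [8,12,11,12,8,11,10,2,7,11,12,11,13,4], 13, [([], 4021, [1,9,12,13,10,13,10]), ([46,89,46,41], 264, [12,11,12,11,10,13]), ([373,370], 1659, [1,8,11,10,12,9,12])], []⟩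
def c4261 : Clm := ⟨6, 8, true, [1,8,11,12,8,11,5,10,2,13,12,13,4,6], [8,12,13,3,5,10,2,11,10], 5, [([], 4260, [])], []⟩
def c4262 : Clm := ⟨8, 6, true, [1,12,11,10,12,11,2,11,10], [12,9,11,12,9,11,5,10,2,4,6,13,12,11,2], 13, [([], 4021, [12,13,3,12]), ([48,54,40], 264, [12,8,11,10,12,11]), ([373], 1659, [3,10,12,9,13,10,12,13])], []⟩
def c4263 : Clm := ⟨6, 8, true, [12,9,11,12,9,11,5,10,2,4,6,13,12,11,10,2], [1,12,11,10,12,11,2,11,10], 5, [([], 4262, [])], []⟩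
def c4264 : Clm := ⟨8, 6, true, [3,11,10,13,12,11,2,11,10], [10,12,11,12,9,11,10,4,6,5,12], 13, [([], 4021, [10,13,3,12]), ([50,89,50,48], 3693, [3,9,10,12,9,13,12,9,11]), ([7392], 3783, [9,10,12,11,13,12])], []⟩
def c4265 : Clm := ⟨6, 8, true, [3,13,12,9,12,11,13,12,4,6,5,12], [3,11,10,13,12,11,2,11,10], 5, [([], 4264, [])], []⟩
def c4266 : Clm := ⟨8, 4, true, [9,10,12,11,2,11,10], [1,12,8,11,13,5,10,2,11,10], 13, [([], 4021, [1,3,8,12]), ([49,42,88,49], 3693, [5,8,12,9,13]), ([], 3704, [12,13,10,13,12,11,10,12])], []⟩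
def c4267 : Clm := ⟨4, 8, true, [1,12,8,11,13,5,2,1,11,10], [9,10,12,11,2,11,10], 5, [([], 4266, [])], []⟩
def c4268 : Clm := ⟨8, 6, true, [9,11,3,5,10,12,11,2,11,10], [1,13,12,9,12,13,10,13,2,11,13,12,4,3,9], 13, [([], 4021, [1,8,13,5,12]), ([49,61,88,88], 4020, [8,11,12,9,11,10,12,9]), ([], 4033, [12,8,12,13,12,9,13,12])], []⟩
def c4269 : Clm := ⟨6, 8, true, [1,13,12,9,12,13,10,13,2,1,11,13,12,4,9], [9,11,3,5,10,12,11,2,11,10], 5, [([], 4268, [])], []⟩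
def c4270 : Clm := ⟨8, 5, true, [3,9,13,5,10,12,11,2,11,10], [3,9,12,11,5,10,13,12,2,7,7,11,10], 13, [([], 4021, [1,8,11,5,12]), ([49,61,88,88], 4020, [3,10,13,12,9]), ([], 4045, [5,9,12,13,5,12,9])], []⟩
def c4271 : Clm := ⟨5, 8, true, [5,9,10,12,13,3,12,2,1,7,7,11,10], [3,9,13,5,10,12,11,2,11,10], 5, [([], 4270, [])], []⟩
def c4272 : Clm := ⟨8, 6, true, [3,10,13,12,11,2,11,10], [1,8,11,10,12,11,12,8,2,6,13,5,7,10], 13, [([], 4021, [13,3,10,13,12]), ([40,50,48], 3693, [12,13,10,12,8,12,13]), ([7390], 3783, [8,10,12,11,12,8])], []⟩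
def c4273 : Clm := ⟨6, 8, true, [8,11,10,13,12,13,10,12,4,5,10,12,4,8], [3,10,13,12,11,2,11,10], 5, [([], 4272, [])], []⟩
def c4274 : Clm := ⟨8, 6, true, [11,5,12,11,2,11,10], [3,12,9,11,10,12,8,13,2,6,13,5,7,10], 13, [([], 4021, [3,13,10,12]), ([40,50,48], 3693, [11,5,10,12,8,11,12]), ([7393,7390], 3783, [11,10,12,11,10,12,11,12])], []⟩
def c4275 : Clm := ⟨6, 8, true, [5,12,9,11,12,4,5,10,12,4,8], [11,5,12,11,2,11,10], 5, [([], 4274, [])], []⟩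
def c4276 : Clm := ⟨8, 4, true, [8,11,10,12,13,5,2,11,10], [9,12,11,5,10,12,8,13,2,7,7,13,12,4,7], 13, [([], 4021, [1,5,9,11,12]), ([54,61,49,40], 264, [5,11,12,9,13,10,12]), ([], 301, [1,11,12,8,11,12,11,13])], []⟩
def c4277 : Clm := ⟨4, 8, true, [5,8,13,12,11,10,12,9,13,2,1,13,5,12,7,13,4], [8,11,10,12,13,5,2,11,10], 5, [([], 4276, [])], []⟩
def c4278 : Clm := ⟨8, 6, true, [5,12,13,3,5,10,2,11,10], [3,8,13,10,12,9,11,2,13,4], 13, [([], 4021, [10,12,11,3,5]), ([89,89,60,48], 4020, [1,9,12,8,13,5,13]), ([8044], 4033, [5,9,11,5])], []⟩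
def c4279 : Clm := ⟨6, 8, true, [1,8,13,10,12,9,2,13,4,10], [5,12,13,3,5,10,2,11,10], 5, [([], 4278, [])], []⟩
def c4280 : Clm := ⟨8, 5, true, [5,12,13,5,10,12,11,2,11,10], [8,10,13,12,9,13,5,10,13,2,1,4,12,13,6,12], 13, [([], 4021, [5,12,11,3,5,12]), ([48,54,40], 264, [12,8,11,10,12,13]), ([372,370], 3159, [12,13,12])], []⟩
def c4281 : Clm := ⟨5, 8, true, [8,10,13,12,9,13,5,10,13,2,4,12,13,3,6,12], [5,12,13,5,10,12,11,2,11,10], 5, [([], 4280, [])], []⟩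
def c4282 : Clm := ⟨8, 6, true, [1,12,13,5,10,12,13,5,2,11,10], [3,10,11,12,8,13,12,13,2,1,7,13,7,12,4,9], 13, [([], 4021, [1,5,12,13,5,12]), ([48,54,40], 264, [9,12,9,13,5,10,12,11]), ([372,370], 1530, [9,10,12,9,13,12,8,11])], []⟩
def c4283 : Clm := ⟨6, 8, true, [3,12,8,13,10,12,9,12,11,2,7,11,12,13,4,13], [1,12,13,5,10,12,13,5,2,11,10], 5, [([], 4282, [])], []⟩
def c4284 : Clm := ⟨8, 6, true, [13,12,13,5,10,12,13,2,1,11,10], [3,12,8,13,10,12,9,12,11,2,7,11,12,13,4,13], 5, [([], 4283, [])], []⟩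
def c4285 : Clm := ⟨8, 5, true, [3,9,13,12,9,13,10,12,2,11,10], [9,10,11,12,11,10,13,12,2,7,13,2,7,8,11], 13, [([], 4021, [13,3,10,12,9,13,12]), ([46,60,42,54], 264, [9,10,13,12,8,11,10,12,11]), ([], 3153, [8,12,11,13,12])], []⟩
def c4286 : Clm := ⟨5, 8, true, [9,10,11,13,12,11,10,13,2,7,13,2,4,7,8], [3,9,13,12,9,13,10,12,2,11,10], 5, [([], 4285, [])], []⟩
def c4287 : Clm := ⟨8, 5, true, [3,9,13,12,9,13,12,2,1,11,10], [9,10,11,13,12,11,10,13,2,7,13,2,4,7,8], 5, [([], 4286, [])], []⟩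
def c4288 : Clm := ⟨8, 6, true, [1,8,13,5,12,11,2,11,10], [5,8,11,5,12,11,10,12,2,11,12,7,11,2], 13, [([], 4021, [3,9,11,10,12]), ([89,61,88,41], 4020, [9,13,10,12,8,13]), ([8044], 4024, [3,10,12,13,10,12,13,10,12,13])], []⟩
def c4289 : Clm := ⟨6, 8, true, [5,8,10,13,10,12,8,11,2,6,9,13,6,13,4], [1,8,13,5,12,11,2,11,10], 5, [([], 4288, [])], []⟩
def c4290 : Clm := ⟨8, 6, true, [5,9,10,13,5,12,11,2,11,10], [1,8,11,12,13,10,11,12,2,6,6,13,6,12,4], 13, [([], 4021, [8,10,11,3,10,12]), ([46,60,42,54], 264, [9,11,3,13,12,9,13,12]), ([], 2385, [1,5,8,11,5,13,12,9])], []⟩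
def c4291 : Clm := ⟨6, 8, true, [1,8,11,10,12,11,12,8,2,11,12,7,9,13,4], [5,9,10,13,5,12,11,2,11,10], 5, [([], 4290, [])], []⟩
def c4292 : Clm := ⟨8, 6, true, [9,10,13,3,12,11,2,11,10], [1,13,10,12,9,12,13,12,8,2,4,3,6,13,7], 13, [([], 4021, [3,8,13,10,13,12]), ([50,48,42,40], 4020, [9,12,13,10,12,8,12]), ([], 4030, [11,13,12,13,12])], []⟩
def c4293 : Clm := ⟨6, 8, true, [1,13,10,12,9,12,13,12,8,2,4,6,13,7], [9,10,13,3,12,11,2,11,10], 5, [([], 4292, [])], []⟩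
def c4294 : Clm := ⟨8, 6, true, [1,5,9,13,12,11,2,13,5,10], [3,8,13,10,12,8,11,12,8,4,10,2], 15, [([], 4021, [3,8,13,10,12]), ([54,89,46,42], 4020, [8,11,5,12,9,11,10,12]), ([8044], 4030, [3,9,10,13,12,8,13,10])], []⟩
def c4295 : Clm := ⟨6, 8, true, [3,8,13,10,12,8,11,12,8,2,4], [1,5,9,13,12,11,2,13,5,10], 5, [([], 4294, [])], []⟩
def c4296 : Clm := ⟨8, 6, true, [11,3,10,13,2,13,5,10], [8,12,11,5,11,5,2,6,11,12,4,12,11,2], 15, [([], 4021, [1,11,5]), ([48,50,40], 264, [1,8,13,10,13,12,11]), ([], 2385, [9,12,8,13,5,12,13])], []⟩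
def c4297 : Clm := ⟨6, 8, true, [8,12,13,10,13,12,11,13,2,13,5,7,12,13,4], [11,3,10,13,2,13,5,10], 5, [([], 4296, [])], []⟩
def c4298 : Clm := ⟨8, 6, true, [3,5,10,13,10,12,11,10,2,13,5,10], [1,5,11,12,8,12,11,4,6,5,6], 15, [([], 4021, [5,10,13,3,5,12,13]), ([49,50,88,54,40], 4020, [5,10,11,13,12,11,12,9,12]), ([8044], 4033, [1,8,10,13,10,12,9,13,10])], []⟩
def c4299 : Clm := ⟨6, 8, true, [5,11,12,8,12,4,6,5,6], [3,5,10,13,10,12,11,10,2,13,5,10], 5, [([], 4298, [])], []⟩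
def c4300 : Clm := ⟨8, 7, true, [6], [7], 21, [([], 4021, [1,3]), ([], 3693, [1,3])], []⟩
def c4301 : Clm := ⟨7, 8, true, [1,3,7], [6], 5, [([], 4300, [])], []⟩
def c4302 : Clm := ⟨8, 7, true, [1,3,6], [1,3,7], 5, [([], 4301, [])], []⟩
def c4303 : Clm := ⟨8, 8, true, [9,6], [7], 21, [([], 4021, [1,3,8]), ([41], 4020, [1,3])], []⟩
def c4304 : Clm := ⟨8, 8, true, [1,3,7], [9,6], 5, [([], 4303, [])], []⟩
def c4305 : Clm := ⟨8, 6, true, [8,6], [12,11,13,12,8,13,12,13,4,5,6,10,13,6], 21, [([], 4021, [1,3,9]), ([60,50,42,40], 264, [5,9,12,11,5,10,12,11])], []⟩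
def c4306 : Clm := ⟨6, 8, true, [8,10,12,13,5,12,13,10,4,5,6,10,13,6], [8,6], 5, [([], 4305, [])], []⟩
def c4307 : Clm := ⟨8, 6, true, [9,7], [13,5,12,8,11,5,4,12,4,10,13], 27, [([], 4021, [1,3,8]), ([41], 4020, []), ([], 4301, [1,3]), ([7392], 4302, [9]), ([8114,8044,8115], 4033, [5,8,10,11,12,13,10,12,9]), ([370], 1025, [1,9,13,5,10,12,11,12,9]), ([370], 1025, [1,13,12,8,12,13,10,11])], []⟩
def c4308 : Clm := ⟨6, 8, true, [1,13,5,12,8,11,5,4,12,4,10,13], [9,7], 5, [([], 4307, [])], []⟩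
def c4309 : Clm := ⟨8, 6, true, [1,3,9,7], [1,13,5,12,8,11,5,4,12,4,10,13], 5, [([], 4308, [])], []⟩
def c4310 : Clm := ⟨8, 8, true, [12,8,4,7,9], [3,12,8,11,12,11,12,9,4,5,7,9], 43, [([], 4021, [1,3,12]), ([61,89,42], 264, [13,5,10,11,12,9,11,12]), ([], 4031, [5,11,12,13,12,9,13])], []⟩
def c4311 : Clm := ⟨8, 8, true, [3,12,8,12,11,12,9,4,5,7,9], [12,8,4,7,9], 5, [([], 4310, [])], []⟩
def c4312 : Clm := ⟨8, 8, true, [8,13,5,10,4,7,9], [9,12,13,3,10,11,12,9,4,12,4,7,10], 43, [([], 4021, [11,3,10]), ([60,60,42,40], 64, [1,10,12,11,5]), ([96,171,110], 4169, [5,13,5,12,11,12,8])], []⟩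
def c4313 : Clm := ⟨8, 8, true, [9,12,11,5,10,12,9,4,12,4,7,10], [8,13,5,10,4,7,9], 5, [([], 4312, [])], []⟩
def c4314 : Clm := ⟨8, 7, true, [12,9,4,7,9], [3,9,13,10,12,11,12,8,4,7,9,10,13], 43, [([], 4021, [1,3,12,9]), ([49,89,61,48,40], 264, [1,8,12,9,13,10,12,9]), ([372,370], 3792, [1,5,8,12,13,5,12,8])], []⟩
def c4315 : Clm := ⟨7, 8, true, [1,9,13,10,12,11,12,8,4,7,9,10,13], [12,9,4,7,9], 5, [([], 4314, [])], []⟩
def c4316 : Clm := ⟨8, 8, true, [12,9,12,4,7,9], [1,12,8,11,12,9,4,5,7,12], 43, [([], 4021, [1,3,5,9,12]), ([48,54,61], 264, [3,5,10,13,12,8,13,12]), ([], 4037, [3,12,9,11,5])], []⟩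
def c4317 : Clm := ⟨8, 8, true, [12,8,11,12,9,11,4,5,7,12], [12,9,12,4,7,9], 5, [([], 4316, [])], []⟩
def c4318 : Clm := ⟨8, 8, true, [1,12,9,12,11,4,7,9], [12,8,11,12,9,11,4,5,7,12], 5, [([], 4317, [])], []⟩
def c4319 : Clm := ⟨8, 6, true, [1,5,8,12,11,13,12,9,13,4,7,9,12], [8,12,9,11,13,4,5,7,9,10,4], 45, [([], 4318, [8,10,13,10,12,11,10]), ([8114,8044,8115], 4021, [1,3,5,12,8]), ([88,46,54,60], 264, [1,8,12,8,11,10,12,8])], []⟩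
def c4320 : Clm := ⟨6, 8, true, [3,5,8,10,12,9,13,2,13,5,6,9,10], [1,5,8,12,11,13,12,9,13,4,7,9,12], 5, [([], 4319, [])], []⟩
def c4321 : Clm := ⟨8, 3, true, [12,8,11,3,13,12,11,13,2,1,11,10], [3,13,5,10,12,11,13,12,8,2,11,12,11,2,3,13], 45, [([8068,8044,8115], 4313, [8,12,9,11,5,10,12]), ([8114,8044,8068], 4021, [8,10,11,3,10]), ([60,60,42,41], 64, [9,10,13,12,9,11,12,13])], []⟩
def c4322 : Clm := ⟨3, 8, true, [3,13,5,10,12,11,13,12,8,2,11,12,11,2,13], [12,8,11,3,13,12,11,13,2,1,11,10], 5, [([], 4321, [])], []⟩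
def c4323 : Clm := ⟨8, 6, true, [8,12,9,4,7,9], [1,9,11,5,11,12,8,11,13,12,4,7,10,12,4,9,12], 43, [([], 4021, [1,3,9,12,9]), ([60,50,89], 4020, [9,10,11,13,12,11,12]), ([8044], 4320, [1,12,8,12,11,13,12,9])], []⟩
def c4324 : Clm := ⟨6, 8, true, [8,13,3,12,13,10,11,12,9,2,7,9,13,10,12,6], [8,12,9,4,7,9], 5, [([], 4323, [])], []⟩
def c4325 : Clm := ⟨8, 6, true, [1,9,11,5,10,4,7,9], [11,3,12,8,13,12,9,13,4,12,6,5], 43, [([], 4021, [9,13,3,10]), ([49,50], 3693, [1,8,12,9,11,10,12,9,13]), ([7392], 3858, [5,11,12,9,11,13])], []⟩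
def c4326 : Clm := ⟨6, 8, true, [1,5,8,12,9,11,5,12,13,4,12,6,5], [1,9,11,5,10,4,7,9], 5, [([], 4325, [])], []⟩
def c4327 : Clm := ⟨8, 7, true, [1,11,10,12,9,12,4,7,9], [5,9,12,11,5,10,12,9,13,4,7,9,12], 43, [([], 4021, [9,13,3,10,12]), ([50,52,49,60], 264, [5,8,13,12,8,13,12,9]), ([], 3857, [1,5,11,12,8,11,13,12])], []⟩
def c4328 : Clm := ⟨7, 8, true, [9,11,13,12,13,5,10,12,9,4,7,9,12], [1,11,10,12,9,12,4,7,9], 5, [([], 4327, [])], []⟩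
def c4329 : Clm := ⟨8, 7, true, [3,11,10,12,9,12,11,4,7,9], [9,11,13,12,13,5,10,12,9,4,7,9,12], 5, [([], 4328, [])], []⟩
def c4330 : Clm := ⟨8, 6, true, [1,11,10,12,8,12,4,7,9], [12,9,11,3,12,8,4,6,5,9], 43, [([], 4021, [8,13,3,10,12,9]), ([50,48,42], 3693, [13,10,11,12,9,11]), ([7392], 3861, [8,11,5,11,12,13])], []⟩
def c4331 : Clm := ⟨6, 8, true, [3,12,9,11,12,8,11,4,6,5,9], [1,11,10,12,8,12,4,7,9], 5, [([], 4330, [])], []⟩
def c4332 : Clm := ⟨8, 7, true, [8,13,5,10,12,4,7,9], [9,12,13,3,5,10,12,9,11,4,7,9,12], 43, [([], 4021, [9,11,3,10,12,8]), ([52,60,50,41], 264, [5,8,11,12,11,12,9]), ([], 3860, [1,8,11,10,13,12,8,11,10])], []⟩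
def c4333 : Clm := ⟨7, 8, true, [9,12,13,5,10,12,9,4,7,9,12], [8,13,5,10,12,4,7,9], 5, [([], 4332, [])], []⟩
def c4334 : Clm := ⟨6, 8, true, [5,11,13,12,9,13,12,13,4,10,12,4,3,7], [1,9,11,4,5,12,4], 9, [([], 4309, [10,13,5,12,13,10,12,9]), ([8114,8044,8115], 4308, [5,13,12,9,12,11,12,9,11]), ([372], 4025, [1,3,9,12])], []⟩
def c4335 : Clm := ⟨8, 6, true, [8,11,12,11,12,8,4,5,12,4], [5,11,13,12,9,13,12,13,4,10,12,4,3,7], 5, [([], 4334, [])], []⟩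
def c4336 : Clm := ⟨6, 8, true, [5,11,13,12,9,13,12,11,13,4,10,12,4,7], [8,11,12,11,12,8,4,5,12,4], 5, [([], 4335, [])], []⟩
def c4337 : Clm := ⟨6, 8, true, [3,9,12,9,11,13,12,2,4,12,4,13,12,4,13], [11,5,11,5,12,11,4,7,10,12,4,8], 15, [([], 837, [11,13,12,11,10,12,9,12]), ([], 4025, [1,8,13,5,12]), ([], 4311, [1,9,12,8,13,12,9,12,11])], []⟩
def c4338 : Clm := ⟨8, 6, true, [11,5,11,5,12,4,7,10,12,4,3,8], [3,9,12,9,11,13,12,2,4,12,4,13,12,4,13], 5, [([], 4337, [])], []⟩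
def c4339 : Clm := ⟨6, 8, true, [9,12,13,5,10,11,12,8,11,2,11,5,10,12,4,12], [11,3,12,9,12,13,12,8,4,7,10,12,4,8], 15, [([], 1598, [10,12,8,13,12,9,11,10]), ([372,370], 4025, [1,5,8,11,12]), ([], 4311, [1,9,12,8,13,12,9,12])], []⟩
def c4340 : Clm := ⟨8, 6, true, [11,13,12,8,12,13,12,9,4,7,10,12,4,3,8], [9,12,13,5,10,11,12,8,11,2,11,5,10,12,4,12], 5, [([], 4339, [])], []⟩
def c4341 : Clm := ⟨6, 8, true, [8,11,10,12,11,13,12,8,2,6,9,13,10,12], [1,12,13,10,12,13,12,11,4,6,9], 15, [([], 1347, [3,12,8,11,12,9,13,10,13]), ([370], 4025, [13,5,13,12]), ([8114,8044,8115], 4304, [3,5,8,13,12,8])], []⟩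
def c4342 : Clm := ⟨8, 6, true, [3,12,13,10,12,13,12,4,6,9], [8,11,10,12,11,13,12,8,2,6,9,13,10,12], 5, [([], 4341, [])], []⟩
def c4343 : Clm := ⟨6, 8, true, [11,10,12,9,11,10,12,8,2,4,3,6,9,12,13], [1,8,12,9,11,13,12,9,11,2,7,13,2,7,5,4,13], 13, [([], 4025, [3,9,10,13,10,13,12]), ([8044], 4114, [8,12,13,5,13,5,12]), ([253,226,252], 4233, [5,9,10,12,8,13,3])], []⟩
def c4344 : Clm := ⟨8, 6, true, [3,10,11,10,12,8,11,12,9,2,13,4,6,9,13,7,12], [11,10,12,9,11,10,12,8,2,4,3,6,9,12,13], 5, [([], 4343, [])], []⟩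
def c4345 : Clm := ⟨6, 8, true, [11,5,12,11,13,12,9,2,6,11,10,12,13], [1,11,10,13,12,11,4,6,9], 15, [([], 1511, [5,12,8,11,3,10,12]), ([373,370], 4025, [1,3,5,12]), ([8114,8044,8115], 4304, [1,13,12,9,13,12,11])], []⟩
def c4346 : Clm := ⟨8, 6, true, [3,11,10,13,12,4,6,9], [11,5,12,11,13,12,9,2,6,11,10,12,13], 5, [([], 4345, [])], []⟩
def c4347 : Clm := ⟨6, 8, true, [5,13,12,8,11,13,12,2,13,6,10,12,11], [1,5,8,12,13,10,12,9,4,6,9], 15, [([], 1725, [1,12,8,11,12]), ([370], 4025, [1,5,11,12]), ([8114,8044,8115], 4304, [12,9,13,12,11,13])], []⟩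
def c4348 : Clm := ⟨8, 6, true, [8,12,11,10,12,9,13,5,4,6,9], [5,13,12,8,11,13,12,2,13,6,10,12,11], 5, [([], 4347, [])], []⟩
def c4349 : Clm := ⟨6, 8, true, [5,13,12,8,11,13,12,2,1,13,6,10,12,11], [8,12,11,10,12,9,13,5,4,6,9], 5, [([], 4348, [])], []⟩
def c4350 : Clm := ⟨6, 8, true, [12,9,11,13,12,11,10,2,4,13,3,12,7,11,10], [3,9,13,10,13,12,11,13,2,4,13,3], 13, [([], 4025, [3,5,9,10,11,12]), ([8044,8068], 4122, [3,8,13,10,11,12,8,11]), ([], 4284, [8,10,11,12,8,11,5,10])], []⟩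
def c4351 : Clm := ⟨8, 6, true, [3,9,13,10,13,12,11,13,2,1,4,13], [12,9,11,13,12,11,10,2,4,13,3,12,7,11,10], 5, [([], 4350, [])], []⟩
def c4352 : Clm := ⟨6, 8, true, [12,9,11,13,12,11,10,2,4,13,12,7,11,10], [3,9,13,10,13,12,11,13,2,1,4,13], 5, [([], 4351, [])], []⟩
def c4353 : Clm := ⟨8, 6, true, [8,13,10,12,8,13,12,11,2,13,2,12,11,10], [1,9,11,10,12,8,13,12,13,2,1,11,12,13,4,13,12], 15, [([], 4128, [12,9,13,12,11,10,12,8]), ([], 4025, [3,9,11,10,12]), ([], 4240, [5,8,11,5,11,12,11,13,12])], []⟩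
def c4354 : Clm := ⟨6, 8, true, [1,9,13,12,8,13,12,11,2,1,13,4,12,7,13,6], [8,13,10,12,8,13,12,11,2,13,2,12,11,10], 5, [([], 4353, [])], []⟩
def c4355 : Clm := ⟨6, 8, true, [10,12,9,13,12,8,11,4,6,12,4,7], [3,12,8,11,5,10,12,13,4,7,9,12], 13, [([], 4025, [12,8,11,3,5,12]), ([8114,8044,8115], 4043, [1,9,11,12,8,11,13,5]), ([228], 4287, [5,9,12,13,5,12,13])], []⟩
def c4356 : Clm := ⟨8, 6, true, [12,8,11,10,12,11,13,5,4,7,9,12], [10,12,9,13,12,8,11,4,6,12,4,7], 5, [([], 4355, [])], []⟩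
def c4357 : Clm := ⟨6, 8, true, [5,9,12,13,10,12,8,12,2,13,12,4,10,13,6,12], [3,8,12,13,5,10,12,8,13,2,4,13,12,13,2,4,5], 13, [([], 4025, [3,8,10,13,12]), ([], 4281, [1,12,8,11,12,8,11,5,12]), ([228,252], 4131, [8,12,8,13,10,11,12,9])], []⟩
def c4358 : Clm := ⟨8, 6, true, [1,12,11,5,10,12,9,11,12,13,2,13,10,12,13,2,11,5], [5,9,12,13,10,12,8,12,2,13,12,4,10,13,6,12], 5, [([], 4357, [])], []⟩
def c4359 : Clm := ⟨5, 8, true, [5,9,12,8,11,13,12,11,13,4,6,6,10,2,12], [8,11,10,13,12,9,11,4,6,9], 15, [([], 3025, [1,11,10,12,8]), ([370], 4025, [12,13,3,5]), ([8114,8044,8115], 4304, [13,3,12,9,13,12,13])], []⟩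
def c4360 : Clm := ⟨8, 5, true, [8,11,3,10,13,12,9,4,6,9], [5,9,12,8,11,13,12,11,13,4,6,6,10,2,12], 5, [([], 4359, [])], []⟩
def c4361 : Clm := ⟨6, 8, true, [8,11,10,12,11,12,8,13,2,1,7,11,10], [13,5,12,11,12,8,2,11,13,12,4,3,9], 13, [([], 4025, [1,9,12]), ([8114,8044,8115], 4043, [5,8,12,11,12,8,12]), ([226,252,227], 4046, [3,5,8,10,12,13,5,12,9])], []⟩
def c4362 : Clm := ⟨8, 6, true, [13,5,12,11,12,8,2,1,11,13,12,4,9], [8,11,10,12,11,12,8,13,2,1,7,11,10], 5, [([], 4361, [])], []⟩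
def c4363 : Clm := ⟨6, 8, true, [5,12,9,13,5,13,12,2,1,13,4,5,7,9], [12,9,13,5,10,13,12,13,2,1,4,12,9,11,5,4], 13, [([], 4025, [1,3,10,12]), ([8044], 4100, [5,8,13,5,12,13,12,9]), ([226,252,227], 4287, [12,13,5,10,13,12,11,12])], []⟩
def c4364 : Clm := ⟨8, 6, true, [12,8,11,10,12,8,13,12,11,2,6,9,13,4,12,13], [5,12,9,13,5,13,12,2,1,13,4,5,7,9], 5, [([], 4363, [])], []⟩
def c4365 : Clm := ⟨6, 8, true, [12,11,12,8,11,5,10,13,2,4,12,7,13,6,10,2], [1,10,11,5,12,11,10,12,2,6,13,2,6,11,13,4], 13, [([], 4025, [11,13,5,10,12]), ([8044], 4100, [3,9,11,13,12,11,12,8]), ([228], 4101, [5,8,13,5,10,12,9,13])], []⟩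
def c4366 : Clm := ⟨8, 6, true, [1,10,11,5,12,11,10,12,2,6,13,2,1,6,13,4], [12,11,12,8,11,5,10,13,2,4,12,7,13,6,10,2], 5, [([], 4365, [])], []⟩
def c4367 : Clm := ⟨6, 8, true, [12,11,12,8,11,5,10,13,2,4,12,7,13,2,6], [1,10,11,5,12,11,10,12,2,6,13,2,1,6,13,4], 5, [([], 4366, [])], []⟩
def c4368 : Clm := ⟨6, 8, true, [5,13,12,9,13,12,2,1,6,11,5,12,11], [1,8,12,13,12,9,2,4,12,11,10], 11, [([], 2310, [5,13,12,13,10,13,12,9]), ([372], 3046, [11,10,13,12,8,11,12,11,12]), ([373,370], 4025, [10,13,5,13,12])], []⟩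
def c4369 : Clm := ⟨8, 6, true, [1,8,12,13,12,9,2,4,3,12,11,10], [5,13,12,9,13,12,2,1,6,11,5,12,11], 5, [([], 4368, [])], []⟩
def c4370 : Clm := ⟨6, 8, true, [3,13,10,13,12,11,10,2,13,2,1,12,13,2], [8,12,11,3,12,8,2,4,5,12,11,10], 11, [([], 2567, [8,10,13,10,12,8,11,12]), ([372,370], 412, [12,9,13,10,12,9,13,12]), ([373], 4025, [3,9,11,5,10,12])], []⟩
def c4371 : Clm := ⟨8, 6, true, [8,12,11,10,12,9,11,10,2,4,7,13,6,9], [3,13,10,13,12,11,10,2,13,2,1,12,13,2], 5, [([], 4370, [])], []⟩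
def c4372 : Clm := ⟨6, 8, true, [1,10,13,12,11,12,8,2,13,12,4,10,12,9], [9,12,11,12,8,13,4,12,4,10,4], 11, [([], 2947, [10,12,8,13,12,9,11,10,12]), ([372], 2550, [5,10,12,9,11,12,8,11,13]), ([], 4025, [1,12,13])], []⟩
def c4373 : Clm := ⟨8, 6, true, [3,10,11,10,12,13,5,10,4,12,4,10,4,3], [1,10,13,12,11,12,8,2,13,12,4,10,12,9], 5, [([], 4372, [])], []⟩
def c4374 : Clm := ⟨6, 8, true, [3,5,8,10,13,10,12,13,2,6,13,4,6,13,10], [8,13,12,11,10,12,8,11,2,11,13,12,13,4], 11, [([], 227, [11,5,12,8,13,5,10]), ([372], 1727, [9,11,13,12,11,10,13,12,9]), ([], 4025, [1,9,13,12,13,10,13,10])], []⟩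
def c4375 : Clm := ⟨8, 6, true, [3,12,13,12,9,13,2,1,4,5,12,11,10], [3,5,8,10,13,10,12,13,2,6,13,4,6,13,10], 5, [([], 4374, [])], []⟩
def c4376 : Clm := ⟨6, 8, true, [8,10,11,3,12,13,2,6,13,4,6,5,11], [3,12,13,12,9,13,2,1,4,5,12,11,10], 5, [([], 4375, [])], []⟩
def c4377 : Clm := ⟨6, 8, true, [10,12,11,10,12,9,11,13,2,6,13,7,12,13], [3,9,10,11,10,12,13,5,10,2,4,5,12,11,10], 11, [([], 1914, [1,10,13,12,13,10,12,8,13]), ([372], 684, [11,10,12,11,13,12]), ([373], 4025, [5,9,12,13,3,10])], []⟩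
def c4378 : Clm := ⟨8, 6, true, [5,9,10,13,12,8,2,4,7,13,6,9], [10,12,11,10,12,9,11,13,2,6,13,7,12,13], 5, [([], 4377, [])], []⟩
def c4379 : Clm := ⟨6, 8, true, [9,11,10,12,2,1,6,13,2,1,7,12], [1,5,10,13,12,11,10,2,4,12,11,10], 11, [([], 3773, [12,11,5,10,12,8,11,5]), ([7390,7427,7413], 3831, [8,12,11,12,9,11,12,8]), ([372,370], 4025, [11,3,12,13,10])], []⟩
def c4380 : Clm := ⟨8, 6, true, [1,5,10,13,12,11,10,2,4,3,12,11,10], [9,11,10,12,2,1,6,13,2,1,7,12], 5, [([], 4379, [])], []⟩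
def c4381 : Clm := ⟨6, 8, true, [1,9,10,13,12,13,12,2,6,11,5,4,7,12], [1,5,10,13,12,11,10,2,4,3,12,11,10], 5, [([], 4380, [])], []⟩
def c4382 : Clm := ⟨8, 8, true, [3,5,10,13,10,12,11,2,7,13,6,8,12,4], [5,9,13,12,8,13,12,11,4,7,5,7,10,4], 11, [([], 4299, [1,10,12,11,12,9,12]), ([], 2605, [5,10,13,12,8,12,13]), ([373,370], 4025, [8,12,9,13,3,12])], []⟩
def c4383 : Clm := ⟨8, 8, true, [3,8,11,5,10,12,9,13,12,2,6,13,5,6,10], [3,5,10,13,10,12,11,2,7,13,6,8,12,4], 5, [([], 4382, [])], []⟩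
def c4384 : Clm := ⟨6, 8, true, [12,11,5,10,12,9,11,2,1,4,12,6,11,12,8], [3,8,10,13,10,12,11,13,12,2,4,6,13,3,7], 11, [([], 3586, [3,8,11,13,12,9,11,12,11]), ([], 370, [5,12,8,13,10,12,8,13]), ([373,370], 4025, [12,8,11,3,10,12,13])], []⟩
def c4385 : Clm := ⟨8, 6, true, [3,8,10,13,10,12,11,13,12,2,1,4,6,13,7], [12,11,5,10,12,9,11,2,1,4,12,6,11,12,8], 5, [([], 4384, [])], []⟩
def c4386 : Clm := ⟨6, 8, true, [8,12,11,5,11,5,12,9,2,11,5,12,13,4,10,12], [8,10,13,12,13,5,13,2,4,13,3], 11, [([], 3616, [3,5,13,12,9,12,13]), ([370], 2796, [3,8,13,12,13,10,12,8,12]), ([], 4025, [3,8,10,13,12])], []⟩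
def c4387 : Clm := ⟨8, 6, true, [8,10,13,12,13,5,13,2,1,4,13], [8,12,11,5,11,5,12,9,2,11,5,12,13,4,10,12], 5, [([], 4386, [])], []⟩
def c4388 : Clm := ⟨6, 8, true, [3,9,11,13,12,8,11,12,2,13,10,12,11,10], [3,9,12,13,12,9,2,4,12,11,10], 11, [([], 3786, [1,10,13,5,10,12]), ([7392], 3950, [13,12,13,10,13,12]), ([372], 4025, [3,8,13,10,12])], []⟩
def c4389 : Clm := ⟨8, 6, true, [3,9,12,13,12,9,2,4,3,12,11,10], [3,9,11,13,12,8,11,12,2,13,10,12,11,10], 5, [([], 4388, [])], []⟩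
def c4390 : Clm := ⟨3, 8, true, [1,11,13,5,10,12,8,2,1,13,4,7,13,6], [3,8,13,12,8,4,5,10,12,4,6], 11, [([], 4094, [1,9,12,13,5,10,12,8,11]), ([8068,8044,8068], 4107, [12,9,13,12,8,13,10,12,13]), ([372,370], 4025, [1,5,9,13,12])], []⟩
def c4391 : Clm := ⟨8, 3, true, [11,12,9,11,5,12,4,10,12,13,4,6], [1,11,13,5,10,12,8,2,1,13,4,7,13,6], 5, [([], 4390, [])], []⟩
def c4392 : Clm := ⟨6, 8, true, [3,11,10,12,13,10,12,8,2,1,11,5,4], [5,8,11,5,12,11,12,8,2,4,12,11,3,10], 11, [([], 982, [3,10,13,12]), ([], 2677, [1,9,12,9,13,10,11,12,8]), ([370], 4025, [1,9,13,10,12,11,5])], []⟩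
def c4393 : Clm := ⟨8, 6, true, [5,8,11,5,12,11,12,8,2,1,4,12,11,10], [3,11,10,12,13,10,12,8,2,1,11,5,4], 5, [([], 4392, [])], []⟩
def c4394 : Clm := ⟨6, 8, true, [1,9,12,11,5,12,8,2,6,13,6,13,2], [5,9,13,5,12,13,12,9,13,2,4,12,11,3,10], 11, [([], 1767, [1,12,8,13,5,12,13,10]), ([], 2244, [1,8,12,13,10]), ([372], 4025, [3,5,8,10,12,13,5])], []⟩
def c4395 : Clm := ⟨8, 6, true, [5,9,13,5,12,13,12,9,13,2,1,4,12,11,10], [1,9,12,11,5,12,8,2,6,13,6,13,2], 5, [([], 4394, [])], []⟩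
def c4396 : Clm := ⟨8, 8, true, [11,13,5,12,8,11,4,5,12,4], [3,5,8,12,9,11,12,4,5,10,12,4,6], 11, [([], 4030, [5,12,11,12,9,12,11]), ([372,370], 1590, [12,9,12,13,5,12,9]), ([372], 4025, [1,5,13,12,13])], []⟩
def c4397 : Clm := ⟨6, 8, true, [1,9,10,12,9,13,5,12,13,2,1,4,5,12,8], [1,10,13,10,12,11,13,2,4,3], 11, [([], 1551, [3,10,12,9,11,13,12,8,13]), ([370], 2966, [8,11,3,12,9,11,12,13]), ([], 4025, [3,10,13,12,13])], []⟩
def c4398 : Clm := ⟨8, 6, true, [1,10,13,10,12,11,13,2,1,4], [1,9,10,12,9,13,5,12,13,2,1,4,5,12,8], 5, [([], 4397, [])], []⟩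
def c4399 : Clm := ⟨6, 8, true, [3,5,9,10,11,12,11,13,2,1,13,6,5,6,10], [9,12,9,13,3,5,12,4,5,10,12,4,6], 11, [([], 1019, [13,12,8,13,12,9,13]), ([211,205], 635, [5,9,10,12,11,12,8]), ([372], 4025, [5,8,11,3,12,13])], []⟩
def c4400 : Clm := ⟨8, 6, true, [10,13,12,13,10,11,12,8,11,4,10,12,13,4,6], [3,5,9,10,11,12,11,13,2,1,13,6,5,6,10], 5, [([], 4399, [])], []⟩
def c4401 : Clm := ⟨6, 8, true, [11,3,12,9,11,12,8,13,2,4,7,9,13,6,10], [3,8,12,13,12,9,13,2,4,12,11,10], 11, [([], 1366, [3,12,9,13,12,8,13,12]), ([], 251, [1,12,9,13,5,10,11,12,13]), ([], 4025, [3,5,11,5,10,12])], []⟩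
def c4402 : Clm := ⟨8, 6, true, [3,8,12,13,12,9,13,2,4,3,12,11,10], [11,3,12,9,11,12,8,13,2,4,7,9,13,6,10], 5, [([], 4401, [])], []⟩
def c4403 : Clm := ⟨6, 8, true, [5,9,11,12,9,11,10,2,1,11,5], [10,11,2,4,3], 11, [([], 1765, [3,5,10,12,9,13,12,11,10]), ([370], 2775, [9,11,12,9,11,10]), ([373], 4025, [1,3,10])], []⟩
def c4404 : Clm := ⟨8, 6, true, [10,11,2,1,4], [5,9,11,12,9,11,10,2,1,11,5], 5, [([], 4403, [])], []⟩
def c4405 : Clm := ⟨6, 8, true, [1,5,10,12,9,11,12,9,13,2,1,11,5,12], [9,11,12,11,12,8,13,4,12,4,10,4], 11, [([], 3008, [12,8,13,10,13,12,9,11]), ([372], 2161, [5,13,3,12,9,11,10,13,12]), ([373,370], 4025, [12,13,3])], []⟩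
def c4406 : Clm := ⟨8, 6, true, [5,10,13,3,12,11,10,4,12,4,10,4,3], [1,5,10,12,9,11,12,9,13,2,1,11,5,12], 5, [([], 4405, [])], []⟩
def c4407 : Clm := ⟨6, 8, true, [5,8,10,13,5,12,9,13,2,1,7,13,6,13], [3,8,12,8,4,5,10,12,4,6], 11, [([], 388, [5,11,13,10,12,11,13,12,9]), ([], 531, [1,9,12,8,11,10,12,9,13]), ([373], 4025, [9,11,3,5,12])], []⟩
def c4408 : Clm := ⟨8, 6, true, [1,11,5,11,12,9,13,12,4,10,12,13,4,6], [5,8,10,13,5,12,9,13,2,1,7,13,6,13], 5, [([], 4407, [])], []⟩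
def c4409 : Clm := ⟨6, 8, true, [9,12,9,11,13,12,9,2,4,12,13,2,4], [9,12,11,13,5,10,12,13,4,10,2], 11, [([], 3441, [5,10,13,10,12,11,12,9]), ([373], 1238, [13,5,12,13,10]), ([372,370], 4025, [9,10,11,3,10,12])], []⟩
def c4410 : Clm := ⟨8, 6, true, [9,12,11,13,5,10,12,13,2,4], [9,12,9,11,13,12,9,2,4,12,13,2,4], 5, [([], 4409, [])], []⟩
def c4411 : Clm := ⟨6, 8, true, [11,3,13,12,8,11,12,2,1,4,6,12,13,10], [1,5,8,10,13,12,11,10,2,4,12,11,10], 11, [([], 3298, [9,13,10,12,11,13,5,12]), ([], 1572, [3,12,9,13,12,8,13,10,11]), ([372,370], 4025, [8,11,3,12,13,10])], []⟩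
def c4412 : Clm := ⟨8, 6, true, [1,5,8,10,13,12,11,10,2,4,3,12,11,10], [11,3,13,12,8,11,12,2,1,4,6,12,13,10], 5, [([], 4411, [])], []⟩
def c4413 : Clm := ⟨6, 8, true, [5,8,12,11,13,10,12,8,2,6,13,7,8,13], [9,10,13,3,12,9,11,13,2,4,7,13,3,6], 11, [([], 3000, [1,12,11,13,12,13,5]), ([370], 3543, [10,13,10,12,8,12,13]), ([370], 4025, [3,10,12,8,13,12])], []⟩
def c4414 : Clm := ⟨8, 6, true, [9,10,13,3,12,9,11,13,2,1,4,7,13,6], [5,8,12,11,13,10,12,8,2,6,13,7,8,13], 5, [([], 4413, [])], []⟩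
def c4415 : Clm := ⟨6, 8, true, [9,11,13,10,12,11,10,2,1,6,13,4,5,7], [12,13,10,12,9,11,5,12,2,4,3], 11, [([], 915, [1,10,11,13,12,9,13]), ([372,370], 849, [1,12,13,5,12,11,10]), ([372,370], 4025, [9,12,13,3,10,12])], []⟩
def c4416 : Clm := ⟨8, 6, true, [12,13,10,12,9,11,5,12,2,1,4], [9,11,13,10,12,11,10,2,1,6,13,4,5,7], 5, [([], 4415, [])], []⟩
def c4417 : Clm := ⟨6, 8, true, [3,9,13,12,8,13,12,9,2,1,4,7,12,13,6], [3,10,11,2,4,3], 11, [([], 2983, [10,11,12]), ([], 989, [5,9,10,11,5]), ([373,370], 4025, [11,3,10])], []⟩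
def c4418 : Clm := ⟨8, 6, true, [3,10,11,2,1,4], [3,9,13,12,8,13,12,9,2,1,4,7,12,13,6], 5, [([], 4417, [])], []⟩
def c4419 : Clm := ⟨6, 8, true, [5,10,12,13,12,13,10,13,2,4,12,8,11,13], [3,8,10,11,12,11,10,2,4,5,12,11,10], 11, [([], 3298, [1,9,10,12,11,13,12,13]), ([372], 1637, [10,12,8,12,13,3]), ([372], 4025, [5,8,11,3,12,13,10])], []⟩
def c4420 : Clm := ⟨8, 6, true, [8,10,11,10,12,8,2,4,7,13,6,9], [5,10,12,13,12,13,10,13,2,4,12,8,11,13], 5, [([], 4419, [])], []⟩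
def c4421 : Clm := ⟨8, 8, true, [9,12,13,3,10,13,12,8,13,4,5,12,4], [5,8,12,9,11,12,4,5,10,12,4,6], 11, [([], 4050, [3,12,8,11,12,8,11,13]), ([370], 1511, [3,12,8,13,5,10,12,13]), ([373,370], 4025, [12,11,3,5])], []⟩
def c4422 : Clm := ⟨8, 8, true, [11,12,9,11,12,8,11,12,11,4,10,12,13,4,6], [9,12,13,3,10,13,12,8,13,4,5,12,4], 5, [([], 4421, [])], []⟩
def c4423 : Clm := ⟨6, 8, true, [9,11,13,2,13,12,4,6,13,12,8], [5,9,11,5,12,13,12,9,11,2,4,12,11,10], 11, [([], 3383, [1,12,8,11,13,12,9,11,13]), ([372,370], 2383, [1,11,10,12,9,13,12,8,11]), ([372,370], 4025, [5,8,13,3,5,10,12])], []⟩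
def c4424 : Clm := ⟨8, 6, true, [5,9,11,5,12,13,12,9,11,2,4,3,12,11,10], [9,11,13,2,13,12,4,6,13,12,8], 5, [([], 4423, [])], []⟩
def c4425 : Clm := ⟨6, 8, true, [1,13,10,12,13,12,9,2,7,13,6,5,4,7], [3,5,8,10,13,12,9,12,2,11,13,12,13,4], 11, [([], 2841, [10,12,8,12,11,5,12,11]), ([373], 1822, [3,8,12,9,11,10,12]), ([373], 4025, [3,10,12,13,5,12])], []⟩
def c4426 : Clm := ⟨8, 6, true, [5,8,10,13,12,9,11,10,2,1,4,5,12,11,10], [1,13,10,12,13,12,9,2,7,13,6,5,4,7], 5, [([], 4425, [])], []⟩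
def c4427 : Clm := ⟨6, 8, true, [9,13,10,2,4,13,7,10], [11,3,13,12,8,12,11,12,4,5,10,12,4,6], 11, [([], 637, [1,5,10,11,12,8,12]), ([373,370], 2250, [1,5,12,11,13,10,12,9,13]), ([372], 4025, [1,8,11,5,12,13])], []⟩
def c4428 : Clm := ⟨8, 6, true, [1,9,12,9,11,5,11,12,4,10,12,13,4,6], [9,13,10,2,4,13,7,10], 5, [([], 4427, [])], []⟩
def c4429 : Clm := ⟨5, 8, true, [12,9,11,3,13,12,8,2,11,13,12,8], [5,11,5,12,11,12,8,2,4,5,12,11,10], 11, [([], 794, [1,9,12,9,13,5,10,11]), ([], 877, [1,11,13,5,12,9,11,10]), ([373], 4025, [5,8,11,3,10,12])], []⟩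
def c4430 : Clm := ⟨8, 5, true, [12,11,3,5,10,12,9,13,2,4,7,13,6,9], [12,9,11,3,13,12,8,2,11,13,12,8], 5, [([], 4429, [])], []⟩
def c4431 : Clm := ⟨8, 3, true, [3,11,12,8,11,13,10,2,11,12,4,5,9], [1,8,12,11,10,12,13,12,2,4,6,13,4,6,9], 17, [([], 4367, [3,5,11,5]), ([], 4025, [10,11,3,13,12,13]), ([8044,8114,8114,8114], 4168, [3,9,10,13,10,12,13,12,8])], []⟩
def c4432 : Clm := ⟨3, 8, true, [1,8,12,11,10,12,13,10,12,2,4,6,13,4,6,9], [3,11,12,8,11,13,10,2,11,12,4,5,9], 5, [([], 4431, [])], []⟩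
def c4433 : Clm := ⟨6, 8, true, [8,12,8,11,3,12,11,10,2,13,7,13,2,7,12,13], [12,8,4,5,10,12,4,6], 11, [([], 2375, [3,12,9,12,13,5,10]), ([372,370], 810, [5,9,10,12,8,13,3,5]), ([372], 4025, [1,3,5,8,12])], []⟩
def c4434 : Clm := ⟨8, 6, true, [9,13,5,13,12,9,13,12,4,10,12,13,4,6], [8,12,8,11,3,12,11,10,2,13,7,13,2,7,12,13], 5, [([], 4433, [])], []⟩
def c4435 : Clm := ⟨8, 6, true, [5,13,5,10,12,8,2,4,7,13,5,6,5], [1,5,8,10,12,11,12,13,2,1,11,5,11,12,8], 17, [([], 4107, [8,10,11,12,11,5,12,8]), ([373,370], 4025, [3,10,11,13,12]), ([8044,8115,8115], 4376, [11,13,12,13,5,12,8])], []⟩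
def c4436 : Clm := ⟨6, 8, true, [1,5,8,10,12,11,12,13,10,2,1,11,5,11,12,8], [5,13,5,10,12,8,2,4,7,13,5,6,5], 5, [([], 4435, [])], []⟩
def c4437 : Clm := ⟨6, 8, true, [11,5,10,12,9,13,12,13,2,6,13,7,8], [5,8,12,13,5,10,12,8,11,2,11,13,12,13,4], 11, [([], 641, [3,10,13,12,13,5,13]), ([], 1011, [8,10,11,12,8,11,12,8]), ([], 4025, [3,9,10,12,13])], []⟩
def c4438 : Clm := ⟨8, 6, true, [1,5,12,11,5,12,9,2,1,4,5,12,11,10], [11,5,10,12,9,13,12,13,2,6,13,7,8], 5, [([], 4437, [])], []⟩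
def c4439 : Clm := ⟨6, 8, true, [10,12,8,12,11,5,12,2,4,12,8,13,3], [10,13,10,12,11,13,2,4,3], 11, [([], 3125, [1,5,8,12,9,11,10,12,9,13]), ([372,370], 2194, [9,12,8,11,5,11,12,9]), ([372], 4025, [10,13,3,12,13])], []⟩
def c4440 : Clm := ⟨8, 6, true, [10,13,10,12,11,13,2,1,4], [10,12,8,12,11,5,12,2,4,12,8,13,3], 5, [([], 4439, [])], []⟩
def c4441 : Clm := ⟨6, 8, true, [3,12,8,11,12,13,10,12,2,4,5,11,12,8,13], [12,9,11,12,13,12,8,12,4,12,4,10,4], 11, [([], 1644, [9,10,12,8,13,10,13,12]), ([373], 1576, [1,8,11,12,9,11,13,12,8]), ([], 4025, [1,11,13,12,13])], []⟩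
def c4442 : Clm := ⟨8, 6, true, [1,10,11,12,11,10,13,4,12,4,10,4,3], [3,12,8,11,12,13,10,12,2,4,5,11,12,8,13], 5, [([], 4441, [])], []⟩
def c4443 : Clm := ⟨6, 8, true, [3,9,10,12,11,13,12,13,4,6,5], [8,13,5,13,12,9,13,10,12,4,5,12,4], 15, [([], 4025, [1,3,9,12]), ([8115,8044,8068,8114], 4043, [11,12,9,13,12,13,10,13]), ([226,252,227], 4046, [11,5,12,13,5,10])], []⟩
def c4444 : Clm := ⟨8, 6, true, [1,12,13,10,12,11,5,4,5,12,4], [3,9,10,12,11,13,12,13,4,6,5], 5, [([], 4443, [])], []⟩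
def c4445 : Clm := ⟨6, 8, true, [1,10,12,13,12,9,13,2,4,12,7,11,5,6], [5,8,12,11,12,8,12,4,6,5,10,12,4], 11, [([], 3151, [3,8,11,5,10,12,9]), ([372], 1866, [5,12,13,12,9,13,10]), ([373], 4025, [12,9,11,3,5,12])], []⟩
def c4446 : Clm := ⟨8, 6, true, [3,12,8,11,13,12,8,4,6,10,12,13,4], [1,10,12,13,12,9,13,2,4,12,7,11,5,6], 5, [([], 4445, [])], []⟩
def c4447 : Clm := ⟨6, 8, true, [8,12,8,11,12,11,10,13,2,4,7,13,5,6,13,12], [1,5,8,13,5,12,11,12,8,2,4,12,11,3,10], 11, [([], 2153, [3,10,11,13,12,8,13,12,9]), ([372], 949, [8,12,8,11,13,12,11,13]), ([], 4025, [1,9,11,13,5,10,12,13])], []⟩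
def c4448 : Clm := ⟨8, 6, true, [1,5,8,13,5,12,11,12,8,2,1,4,12,11,10], [8,12,8,11,12,11,10,13,2,4,7,13,5,6,13,12], 5, [([], 4447, [])], []⟩
def c4449 : Clm := ⟨6, 8, true, [1,5,8,12,11,10,12,8,13,2,6,13,2,6,13,12], [1,5,8,13,5,12,11,12,8,2,1,4,12,11,10], 5, [([], 4448, [])], []⟩
def c4450 : Clm := ⟨3, 8, true, [8,11,3,5,12,9,13,12,9,2,1,11,12,13,2,11], [5,12,8,13,12,8,11,12,2,4,12,11,3,10], 11, [([], 817, [11,12,8,11,12,8,11,5,10]), ([], 2671, [1,8,11,10,12,9,11,10]), ([], 4025, [9,10,11,3,13,12,13])], []⟩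
def c4451 : Clm := ⟨8, 3, true, [5,12,8,13,12,8,11,12,2,1,4,12,11,10], [8,11,3,5,12,9,13,12,9,2,1,11,12,13,2,11], 5, [([], 4450, [])], []⟩
def c4452 : Clm := ⟨6, 8, true, [1,12,9,12,11,5,10,12,9,13,2,13,2,11,12,6,13,6], [12,11,3,10,12,8,11,2,11,13,12,13,4], 11, [([], 3654, [8,12,9,13,10,12,11,5]), ([372], 2041, [13,3,5,10,12]), ([], 4025, [8,10,13,5,13,12,13])], []⟩
def c4453 : Clm := ⟨8, 6, true, [1,9,12,13,12,9,2,1,4,5,12,11,10], [1,12,9,12,11,5,10,12,9,13,2,13,2,11,12,6,13,6], 5, [([], 4452, [])], []⟩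
def c4454 : Clm := ⟨6, 8, true, [1,8,10,12,9,13,5,10,2,7,13,10,13,6], [3,12,11,12,8,4,12,4,10,4], 11, [([], 810, [12,8,11,12,13,12,13]), ([373], 3356, [1,11,13,5,12,9,11,12,11]), ([], 4025, [5,8,13,3,5,12,13])], []⟩
def c4455 : Clm := ⟨8, 6, true, [8,10,11,5,12,13,5,10,4,12,4,10,4,3], [1,8,10,12,9,13,5,10,2,7,13,10,13,6], 5, [([], 4454, [])], []⟩
def c4456 : Clm := ⟨6, 8, true, [8,10,12,8,13,12,8,2,7,11,5,6,10], [8,10,11,5,12,13,5,10,4,12,4,10,4,3], 5, [([], 4455, [])], []⟩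
def c4457 : Clm := ⟨6, 8, true, [13,10,12,11,12,9,13,2,1,13,2,5,6,5,6,13], [1,8,11,13,12,8,11,4,5,10,12,4,6], 11, [([], 890, [3,8,12,8,11,5,12,11,10]), ([370], 1685, [1,12,11,13,12,8,13,10]), ([370], 4025, [9,12,13,3,5])], []⟩
def c4458 : Clm := ⟨8, 6, true, [3,12,9,11,5,12,11,4,10,12,13,4,6], [13,10,12,11,12,9,13,2,1,13,2,5,6,5,6,13], 5, [([], 4457, [])], []⟩
def c4459 : Clm := ⟨6, 8, true, [8,10,12,8,11,3,13,12,2,4,5,6,11,5,6,13], [3,12,9,11,5,12,11,4,10,12,13,4,6], 5, [([], 4458, [])], []⟩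
def c4460 : Clm := ⟨6, 8, true, [8,12,11,10,12,9,12,2,4,7,12,13,6,5,9], [5,9,12,11,5,12,9,13,4,12,4,10,4], 11, [([], 2876, [1,5,11,12,8,12,13,10]), ([372,370], 3083, [5,9,10,12,13,12,9,12]), ([], 4025, [5,8,12,13,3,5])], []⟩
def c4461 : Clm := ⟨8, 6, true, [8,13,4,12,4,10,4,3], [8,12,11,10,12,9,12,2,4,7,12,13,6,5,9], 5, [([], 4460, [])], []⟩
def c4462 : Clm := ⟨6, 8, true, [10,11,13,12,9,11,10,2,13,4,7,13,2,3], [5,9,11,5,12,11,12,8,2,4,12,11,3,10], 11, [([], 1185, [5,9,12,8,11,5,11,12,13]), ([373], 1566, [10,11,3,13,12]), ([], 4025, [1,13,10,12,11,5])], []⟩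
def c4463 : Clm := ⟨8, 6, true, [5,9,11,5,12,11,12,8,2,1,4,12,11,10], [10,11,13,12,9,11,10,2,13,4,7,13,2,3], 5, [([], 4462, [])], []⟩
def c4464 : Clm := ⟨6, 8, true, [1,9,11,5,11,12,9,11,13,4,10,12,6,9,11], [9,12,11,12,8,13,10,11,2,11,13,12,13,4], 11, [([], 1196, [8,12,11,12,11]), ([370], 427, [9,13,10,12,8,11,12,9]), ([370], 4025, [13,12,13,10,13,10])], []⟩
def c4465 : Clm := ⟨8, 6, true, [3,8,13,12,13,12,9,2,1,4,5,12,11,10], [1,9,11,5,11,12,9,11,13,4,10,12,6,9,11], 5, [([], 4464, [])], []⟩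
def c4466 : Clm := ⟨6, 8, true, [9,11,5,11,12,9,11,13,4,10,12,6,9,11], [3,8,13,12,13,12,9,2,1,4,5,12,11,10], 5, [([], 4465, [])], []⟩
def c4467 : Clm := ⟨6, 8, true, [11,3,13,12,8,11,12,2,11,12,13,10], [1,5,8,12,11,5,12,9,2,4,12,11,10], 11, [([], 3057, [3,10,11,5,12,13,12]), ([370], 1416, [13,10,12,13,10,12,11]), ([373], 4025, [3,10,12])], []⟩
def c4468 : Clm := ⟨8, 6, true, [1,5,8,12,11,5,12,9,2,4,3,12,11,10], [11,3,13,12,8,11,12,2,11,12,13,10], 5, [([], 4467, [])], []⟩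
def c4469 : Clm := ⟨6, 8, true, [1,5,12,8,13,12,9,4,5,6,6], [3,8,13,5,12,9,11,12,4,5,10,12,4,6], 11, [([], 324, [3,11,12,11,12,8,13,12]), ([252,226,253,226], 476, [8,11,12,11,5,11]), ([372], 4025, [11,3,5,12,13])], []⟩
def c4470 : Clm := ⟨8, 6, true, [12,9,13,12,8,13,12,13,4,10,12,13,4,6], [1,5,12,8,13,12,9,4,5,6,6], 5, [([], 4469, [])], []⟩
def c4471 : Clm := ⟨5, 8, true, [3,12,8,13,10,11,12,9,13,2,13,7,12,4,3,9,10], [12,11,10,12,8,11,10,2,4,3,6,13,7,13], 11, [([], 2730, [8,11,10,12,8,11,12,13]), ([373,370], 3454, [3,5,8,12,9,13,5]), ([372], 4025, [12,8,13,3,10,12])], []⟩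
def c4472 : Clm := ⟨8, 5, true, [12,11,10,12,11,2,4,7,13,6,8], [3,12,8,13,10,11,12,9,13,2,13,7,12,4,3,9,10], 5, [([], 4471, [])], []⟩
def c4473 : Clm := ⟨6, 8, true, [13,12,9,13,12,8,13,5,2,13,2,12,13,6], [3,5,13,5,4,12,4,10,4], 11, [([], 1627, [5,8,12,13,5,10,12,13]), ([372,370], 3630, [1,11,10,12,11,10,12,13]), ([372], 4025, [1,13,12])], []⟩
def c4474 : Clm := ⟨8, 6, true, [3,8,11,12,13,12,9,4,12,4,10,4,3], [13,12,9,13,12,8,13,5,2,13,2,12,13,6], 5, [([], 4473, [])], []⟩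
def c4475 : Clm := ⟨6, 8, true, [3,13,12,9,13,12,8,11,10,2,4,13,5,12,13,6], [3,8,11,12,13,12,9,4,12,4,10,4,3], 5, [([], 4474, [])], []⟩
def c4476 : Clm := ⟨6, 8, true, [3,13,12,9,12,13,10,12,2,4,6,12,13,7,5], [9,11,12,11,12,8,13,2,4,12,11,3,10], 11, [([], 3579, [8,10,12,8,13,3,10,12]), ([373,370], 1644, [1,12,13,10,12,9,12,13]), ([], 4025, [10,12,11,3,5])], []⟩
def c4477 : Clm := ⟨8, 6, true, [9,11,12,11,12,8,13,2,1,4,12,11,10], [3,13,12,9,12,13,10,12,2,4,6,12,13,7,5], 5, [([], 4476, [])], []⟩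
def c4478 : Clm := ⟨6, 8, true, [3,13,12,9,12,13,10,12,2,4,3,6,12,13,7,5], [9,11,12,11,12,8,13,2,1,4,12,11,10], 5, [([], 4477, [])], []⟩
def c4479 : Clm := ⟨8, 6, true, [9,10,13,5,10,12,11,4,6,9], [1,12,11,13,5,10,12,8,13,2,13,10,12,6,13], 11, [([], 4308, [1,13,10,12,8,12,13,12]), ([370], 4025, [1,9,13,12]), ([8114,8044,8115,8044], 4177, [9,11,5,12,13,5,13,12])], []⟩
def c4480 : Clm := ⟨6, 8, true, [1,12,11,13,5,10,12,8,13,2,1,13,10,12,6,13], [9,10,13,5,10,12,11,4,6,9], 5, [([], 4479, [])], []⟩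
def c4481 : Clm := ⟨8, 6, true, [3,13,10,12,9,11,12,11,4,6,9], [9,12,11,12,8,13,10,11,2,1,13,10,12,13,4], 11, [([], 4308, [3,8,12,8,13,10,12,9,13]), ([370], 4025, [1,9,11,12]), ([8114,8044,8115,8044], 4141, [5,12,11,5,12,9,11])], []⟩
def c4482 : Clm := ⟨6, 8, true, [1,10,12,9,11,12,8,11,12,11,2,7,7,13,6,5,10], [3,13,10,12,9,11,12,11,4,6,9], 5, [([], 4481, [])], []⟩
def c4483 : Clm := ⟨8, 6, true, [9,12,9,13,3,12,2,11,12,9,13,4], [9,12,13,12,13,5,4,5,6,5,10,4], 11, [([], 4173, [8,13,10,13,10,12,13,12,8]), ([370], 4025, [8,13,5,13,12]), ([8115,8044,8114], 4466, [1,9,13,10,13,12,11,12])], []⟩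
def c4484 : Clm := ⟨6, 8, true, [3,9,11,5,4,5,6,10,13,4], [9,12,9,13,3,12,2,11,12,9,13,4], 5, [([], 4483, [])], []⟩
def c4485 : Clm := ⟨6, 8, true, [1,9,10,12,9,11,10,2,1,11,5], [3,5,10,13,5,2,13,4], 13, [([], 1787, [5,8,13,10,12,9,12,13]), ([372], 3218, [8,13,12,8,11,13,12,13]), ([372,370], 4025, [1,3,5,10])], []⟩
def c4486 : Clm := ⟨8, 6, true, [5,10,13,5,11,2,13,4,10], [1,9,10,12,9,11,10,2,1,11,5], 5, [([], 4485, [])], []⟩
def c4487 : Clm := ⟨6, 8, true, [3,8,10,12,11,13,12,8,2,7,13,6,10,12,13], [12,13,3,10,12,11,12,9,2,11,5,4], 13, [([], 849, [13,12,9,12,11,12,9,11]), ([373], 2620, [1,10,13,12,11,10]), ([370], 4025, [3,5,9,10,13,12])], []⟩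
def c4488 : Clm := ⟨8, 6, true, [9,12,13,5,13,5,12,2,1,13,2,1], [3,8,10,12,11,13,12,8,2,7,13,6,10,12,13], 5, [([], 4487, [])], []⟩
def c4489 : Clm := ⟨6, 8, true, [8,11,10,12,13,10,12,9,2,4,13,10,12,11,2,13], [1,5,12,11,5,12,9,13,2,1,4,12,13,5,10], 13, [([], 4031, [11,5,10,12,9,13,12,8,13]), ([8115,8044], 4063, [3,5,8,12,13,12,8,11,10]), ([370], 4025, [3,9,10,12])], []⟩
def c4490 : Clm := ⟨8, 6, true, [5,12,11,12,9,13,10,13,12,2,11,13,12,4], [8,11,10,12,13,10,12,9,2,4,13,10,12,11,2,13], 5, [([], 4489, [])], []⟩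
def c4491 : Clm := ⟨6, 8, true, [9,12,11,12,8,2,13,5], [5,12,13,10,12,13,12,8,2,11,5,4], 13, [([], 4249, [3,8,13,10,11,12,9,11,13]), ([8114,8044], 4107, [3,8,11,5,10,13,12,13]), ([370], 4025, [3,8,11,5,10,13,12])], []⟩
def c4492 : Clm := ⟨8, 6, true, [5,8,12,11,5,11,12,2,1,13,2,1], [9,12,11,12,8,2,13,5], 5, [([], 4491, [])], []⟩
def c4493 : Clm := ⟨6, 8, true, [11,5,12,8,13,10,12,2,1,6,13,7,5], [1,5,9,12,11,5,12,9,13,2,1,4,12,13,5,10], 13, [([], 3911, [9,11,3,12,8,11,13,10]), ([7390,7427], 3715, [3,5,8,12,13,12,8,11,10]), ([370], 4025, [3,8,10,12])], []⟩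
def c4494 : Clm := ⟨8, 6, true, [12,11,12,8,11,5,10,13,2,11,13,12,4], [11,5,12,8,13,10,12,2,1,6,13,7,5], 5, [([], 4493, [])], []⟩
def c4495 : Clm := ⟨6, 8, true, [1,5,8,10,11,5,12,9,2,4,5,7,13,12,8], [5,8,10,13,3,12,11,10,13,2,1,4,12,13,5,10], 13, [([], 1895, [8,12,13,3,10,11,12,13]), ([], 3101, [1,12,9,12,11,10,12,9,11]), ([372], 4025, [8,12,13,3,10])], []⟩
def c4496 : Clm := ⟨8, 6, true, [8,13,5,10,13,2,11,13,12,4], [1,5,8,10,11,5,12,9,2,4,5,7,13,12,8], 5, [([], 4495, [])], []⟩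
def c4497 : Clm := ⟨8, 6, true, [8,10,11,13,12,8,13,12,2,6,6,13,5,7,10], [3,8,12,11,5,10,12,9,2,1,7,9,11,5,4,12], 11, [([], 4336, [3,12,13,10,12,13,10,12,13]), ([372], 4025, [1,5,9,12]), ([], 4459, [5,13,5])], []⟩
def c4498 : Clm := ⟨6, 8, true, [5,8,13,12,11,10,12,9,2,1,7,9,13,2,12], [8,10,11,13,12,8,13,12,2,6,6,13,5,7,10], 5, [([], 4497, [])], []⟩
def c4499 : Clm := ⟨8, 6, true, [1,9,12,8,13,5,2,4,3,12,11,12], [12,8,11,5,12,9,11,2,1,13,12,13], 11, [([], 4173, [5,12,9,11,13,12,13,10]), ([370], 4025, [8,11,3,5,12]), ([8114,8114,8114,8044], 4352, [1,13,5,12,8,11,13])], []⟩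
def c4500 : Clm := ⟨6, 8, true, [12,8,11,5,12,9,11,10,2,1,13,12,13], [1,9,12,8,13,5,2,4,3,12,11,12], 5, [([], 4499, [])], []⟩
def c4501 : Clm := ⟨8, 6, true, [5,10,12,9,11,13,12,2,1,4,12,11,10], [9,10,13,10,12,9,11,2,7,13,2,6,9,12], 11, [([], 4246, [3,12,13,5,12,9,13,10]), ([370], 4025, [5,9,11,3,10,12]), ([8068,8114,8044,8068], 4269, [8,10,11,5,12,11,12,8])], []⟩
def c4502 : Clm := ⟨6, 8, true, [5,8,12,11,12,9,13,10,2,4,6,12,13,10,13], [5,10,12,9,11,13,12,2,1,4,12,11,10], 5, [([], 4501, [])], []⟩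
def c4503 : Clm := ⟨8, 6, true, [9,12,8,13,3,5,10,2,13,6,13,5,4,6], [10,12,11,13,12,9,13,2,1,13,12,4,7,13], 11, [([], 4173, [3,10,12,9,11,13,12]), ([370], 4025, [1,8,11,5,12]), ([8114], 4061, [11,10,13,12,13,10,12])], []⟩
def c4504 : Clm := ⟨6, 8, true, [9,13,5,10,11,12,13,10,2,7,13,7,13,2,1], [9,12,8,13,3,5,10,2,13,6,13,5,4,6], 5, [([], 4503, [])], []⟩
def c4505 : Clm := ⟨6, 8, true, [1,13,10,13,12,11,2,13,2,6,6,13,5], [5,8,11,12,13,10,12,8,13,2,11,13,2,12,11,10], 13, [([], 2526, [10,11,3,12,8,11,12,13,10]), ([], 2620, [1,12,9,11,10,12,8,13,5]), ([370], 4025, [9,10,12,13,3,5])], []⟩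
def c4506 : Clm := ⟨8, 6, true, [1,5,12,11,10,12,9,13,2,11,5,11,12,4], [1,13,10,13,12,11,2,13,2,6,6,13,5], 5, [([], 4505, [])], []⟩
def c4507 : Clm := ⟨8, 6, true, [11,12,8,13,12,13,5,10,2,7,13,6,5,4], [11,12,9,11,12,9,13,10,2,1,7,13,6], 11, [([], 4235, [3,8,11,5,10,12,9,13,12]), ([373,370], 4025, [3,12,8,11,10,12]), ([8115,8044,8068,8044], 4456, [8,10,12,13,3,10,12,11])], []⟩
def c4508 : Clm := ⟨6, 8, true, [11,12,9,11,12,9,13,2,7,13,6], [11,12,8,13,12,13,5,10,2,7,13,6,5,4], 5, [([], 4507, [])], []⟩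
def c4509 : Clm := ⟨6, 8, true, [1,10,11,13,12,11,2,6,13,7], [3,11,12,13,10,12,8,11,2,1,13,4,7,13,6], 13, [([], 241, [3,9,13,10,12,9,11,12,9]), ([], 2620, [5,11,13,12,8,13,12,13]), ([370], 4025, [3,10,12,8,11,12])], []⟩
def c4510 : Clm := ⟨8, 6, true, [12,13,3,10,12,11,12,2,1,11,13,12,4,8], [1,10,11,13,12,11,2,6,13,7], 5, [([], 4509, [])], []⟩
def c4511 : Clm := ⟨6, 8, true, [1,10,12,9,13,10,12,13,12,2,1,13,2,12,4,6,12], [8,11,12,11,13,5,10,12,13,2,1,13,4,6,13,7], 13, [([], 4426, [11,12,9,13,12,8,13,12,11]), ([8115,8068,8044,8115,8044], 4235, [1,9,13,12,8,13,12,11,13]), ([373,370], 4025, [12,8,11,3,10,12])], []⟩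
def c4512 : Clm := ⟨8, 6, true, [5,12,13,12,8,13,10,13,2,7,13,5,6,13,4], [1,10,12,9,13,10,12,13,12,2,1,13,2,12,4,6,12], 5, [([], 4511, [])], []⟩
def c4513 : Clm := ⟨8, 6, true, [8,11,12,13,10,12,8,13,2,4,13], [8,12,9,13,10,13,12,2,1,7,9,13,2,12,8], 11, [([], 4226, [1,8,10,11,5,12,13]), ([370], 4025, [5,10,11,3,12]), ([8068,8044,8115,8068], 4381, [3,10,12,8,12,11,5,12,13])], []⟩
def c4514 : Clm := ⟨6, 8, true, [5,11,12,8,13,2,1,4,12,9,11,5,6], [8,11,12,13,10,12,8,13,2,4,13], 5, [([], 4513, [])], []⟩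
def c4515 : Clm := ⟨8, 6, true, [5,9,10,12,8,13,12,13,2,4,7,13,6,9], [3,11,12,13,12,8,13,2,4,3,13,7,13,4], 11, [([], 4107, [3,9,12,13,5,10,12,9]), ([370], 4025, [3,8,13,10,12]), ([8044,8114,8068,8044], 4475, [12,9,12,11,5,10,12,9,13])], []⟩
def c4516 : Clm := ⟨6, 8, true, [3,11,12,13,12,8,13,10,2,4,13,3,7,13,4], [5,9,10,12,8,13,12,13,2,4,7,13,6,9], 5, [([], 4515, [])], []⟩
def c4517 : Clm := ⟨6, 8, true, [1,5,8,13,5,10,12,9,2,6,6,13,12,4,7,5], [8,10,13,5,10,12,11,13,2,1,13,4], 13, [([], 4230, [11,5,11,12,8,12,11,12]), ([8114,8044,8115,8068,8044], 4235, [1,12,8,13,12,9,13,5]), ([373,370], 4025, [3,8,11,10,13,12])], []⟩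
def c4518 : Clm := ⟨8, 6, true, [8,10,13,3,12,13,10,2,11,13,2], [1,5,8,13,5,10,12,9,2,6,6,13,12,4,7,5], 5, [([], 4517, [])], []⟩
def c4519 : Clm := ⟨8, 6, true, [1,8,13,10,11,12,8,13,2,1,4,12,11,10], [3,9,10,12,8,11,13,12,11,2,6,13,2,1,7,12,13], 11, [([], 4063, [12,13,5,12,9,11,10]), ([370], 4025, [1,9,11,13,5,10,12]), ([8044,8114,8114], 4246, [3,5,9,12,13,10,12,8])], []⟩
def c4520 : Clm := ⟨6, 8, true, [11,13,12,8,12,11,12,9,11,2,13,12,4,10,4,12], [1,8,13,10,11,12,8,13,2,1,4,12,11,10], 5, [([], 4519, [])], []⟩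
def c4521 : Clm := ⟨8, 6, true, [8,13,5,13,12,9,12,11,10,4,6,6], [1,10,12,11,10,12,8,13,2,13,6,5,10,13,5], 11, [([], 4308, [3,11,10,12,13,12,9,12]), ([370], 4025, [12,8,11,3,5,12]), ([8068,8114,8044], 4096, [8,10,12,9,13])], []⟩
def c4522 : Clm := ⟨6, 8, true, [1,9,11,12,9,11,13,12,2,1,13,7,10,13,4], [8,13,5,13,12,9,12,11,10,4,6,6], 5, [([], 4521, [])], []⟩
def c4523 : Clm := ⟨8, 6, true, [3,8,10,13,10,12,11,13,2,4,3,6,13,7], [5,10,13,3,12,9,12,13,2,13,12,13,4,12,9], 13, [([], 4024, [12,9,11,10,12]), ([373,370], 4236, [5,9,13,12,8,13,10,12,13]), ([8068,8044,8068], 4514, [1,9,10,11,10,12,11,12,9])], []⟩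
def c4524 : Clm := ⟨6, 8, true, [8,12,11,5,11,5,12,13,2,7,13,2,12,4,10], [3,8,10,13,10,12,11,13,2,4,3,6,13,7], 5, [([], 4523, [])], []⟩
def c4525 : Clm := ⟨8, 7, true, [3,8,12,13,12,9,2,4,12,11,10], [5,9,10,12,13,12,8,11,10,2,4,12,7,13,2,4], 13, [([], 4024, [1,11,5,10,12]), ([372,370], 2369, [11,10,12,8,13,5]), ([373,370], 3868, [9,13,12,9,11,10,12,8])], []⟩
def c4526 : Clm := ⟨7, 8, true, [5,9,11,12,13,12,9,13,2,4,7,12,9,13,4], [3,8,12,13,12,9,2,4,12,11,10], 5, [([], 4525, [])], []⟩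
def c4527 : Clm := ⟨8, 7, true, [3,8,12,13,12,9,2,4,3,12,11,10], [5,9,11,12,13,12,9,13,2,4,7,12,9,13,4], 5, [([], 4526, [])], []⟩
def c4528 : Clm := ⟨8, 6, true, [3,9,11,12,11,12,8,13,2,4,5,12,11,10], [11,12,8,12,13,12,9,13,4,12,4,7,10,2], 13, [([], 4024, [5,11,5,10,12]), ([372,370], 2369, [1,8,12,9,13,10,12,8,11]), ([370], 1608, [1,11,12,8,13,10,11])], []⟩
def c4529 : Clm := ⟨6, 8, true, [11,12,8,12,13,12,9,13,2,4,12,4,7], [3,9,11,12,11,12,8,13,2,4,5,12,11,10], 5, [([], 4528, [])], []⟩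
def c4530 : Clm := ⟨6, 8, true, [5,11,13,12,13,5,12,9,2,13,12,6,9,13], [3,12,9,13,10,12,11,10,2,6,9,11,10], 15, [([], 1068, [1,9,10,11,12,11,13,12]), ([252,227], 4028, [1,11,5,12]), ([], 4318, [1,8,12,11,5,11,12,9])], []⟩
def c4531 : Clm := ⟨8, 6, true, [3,12,9,13,10,12,11,2,1,6,9,11,10], [5,11,13,12,13,5,12,9,2,13,12,6,9,13], 5, [([], 4530, [])], []⟩
def c4532 : Clm := ⟨6, 8, true, [1,5,12,9,11,5,12,11,10,2,13,12,11,10], [1,9,13,5,12,11,12,8,2,4,5,12,11,10], 11, [([], 3790, [10,12,13,10,12,13,12,8]), ([7393], 3760, [8,11,5,11,12,11,12,9]), ([226,252], 4028, [1,11,13,5,10,12])], []⟩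
def c4533 : Clm := ⟨8, 6, true, [1,9,12,13,5,10,12,9,11,2,4,7,13,6,9], [1,5,12,9,11,5,12,11,10,2,13,12,11,10], 5, [([], 4532, [])], []⟩
def c4534 : Clm := ⟨6, 8, true, [5,12,11,10,12,13,12,9,2,6,9,11,5,4,12], [5,12,13,10,12,11,12,9,4,10,2], 11, [([], 2238, [5,10,13,12,8,12,11]), ([372], 673, [5,9,11,13,12,11,12,8]), ([252,227], 4028, [3,9,11,5,10,13,12])], []⟩
def c4535 : Clm := ⟨8, 6, true, [5,12,13,10,12,11,12,9,2,4], [5,12,11,10,12,13,12,9,2,6,9,11,5,4,12], 5, [([], 4534, [])], []⟩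
def c4536 : Clm := ⟨6, 8, true, [11,3,12,11,13,12,9,13,2,1,6,9,13,2,1,12], [5,12,13,10,12,11,12,9,2,4], 5, [([], 4535, [])], []⟩
def c4537 : Clm := ⟨6, 8, true, [10,13,12,13,12,8,12,11,2,7,13,2,12,4,13], [1,10,13,2,11,13,12,13,4], 11, [([], 1258, [3,12,9,11,13,12,9,11,13]), ([], 2352, [1,11,12,8,11,5,12,11]), ([228,252,227], 4028, [12,13,3,10,13])], []⟩
def c4538 : Clm := ⟨8, 6, true, [10,13,3,12,11,10,2,1,4,5,12,11,10], [10,13,12,13,12,8,12,11,2,7,13,2,12,4,13], 5, [([], 4537, [])], []⟩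
def c4539 : Clm := ⟨3, 9, true, [10,13,8,6,13,2], [], 1, [], []⟩
def c4540 : Clm := ⟨9, 3, true, [1,3], [11,12,8,12,11,10,2,6], 5, [([], 4539, [])], []⟩
def c4541 : Clm := ⟨3, 9, true, [11,12,8,12,11,2,6], [1,3], 5, [([], 4540, [])], []⟩
def c4542 : Clm := ⟨9, 9, false, [], [3,8,11,13,12,8,11,13,12], 3, [([], 4539, []), ([170,101,110,98], 4539, [3,9,11,13,12,9,11,13,12])], []⟩
def c4543 : Clm := ⟨9, 9, false, [], [1,13,12,13,10,13,12,9,13], 3, [([], 4539, []), ([170,99,110,100], 4539, [1,11,10,12,13,10,12,8,11])], []⟩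
def c4544 : Clm := ⟨9, 6, true, [4], [8,13,12,13,5,12,8,13,2,4,6,13,7,5,13,7], 9, [([], 4541, [1,3]), ([170,98], 760, [8,13,12,9,13,10,13,10,12]), ([373,370], 2685, [8,12,11,12,11,10,13])], []⟩
def c4545 : Clm := ⟨6, 9, true, [8,13,12,13,5,12,8,13,2,4,7,7,13,12,6,11], [4], 5, [([], 4544, [])], []⟩
def c4546 : Clm := ⟨9, 6, true, [1,11,4], [8,13,12,13,5,12,8,13,2,4,7,7,13,12,6,11], 5, [([], 4545, [])], []⟩
def c4547 : Clm := ⟨9, 6, true, [5,4], [1,11,13,12,9,13,5,13,12,2,13,2,12,7,8,11], 9, [([], 4541, [1,3,5]), ([96,170,110,96], 736, [1,12,8,13,12,9,13,10,12]), ([373], 2572, [3,9,11,13,10,12,11])], []⟩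
def c4548 : Clm := ⟨6, 9, true, [5,9,10,11,12,11,13,12,13,2,13,2,12,4,8], [5,4], 5, [([], 4547, [])], []⟩
def c4549 : Clm := ⟨9, 9, false, [5,4], [8,13,12,11,10,12,9,11,2,7,13,6,9,10,12], 3, [([], 4548, []), ([373,370], 4545, [3,12,8,13,10,12,13])], []⟩
def c4550 : Clm := ⟨9, 6, true, [13,5,10,12,4], [3,8,12,13,10,12,9,11,2,1,7,13,7,10,12], 9, [([], 4541, [11,3,10,12]), ([170,110,96], 210, [1,11,12,9,11,13]), ([], 449, [1,9,12,9,11,13,12,8,11])], []⟩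
def c4551 : Clm := ⟨6, 9, true, [3,8,12,13,10,12,9,11,10,2,7,13,7,10,12], [13,5,10,12,4], 5, [([], 4550, [])], []⟩
def c4552 : Clm := ⟨9, 6, true, [13,3,5,10,12,11,4], [3,8,12,13,10,12,9,11,10,2,7,13,7,10,12], 5, [([], 4551, [])], []⟩
def c4553 : Clm := ⟨9, 6, true, [1,11,5,10,12,4], [8,12,13,12,13,5,10,13,2,6,6,13,6,10,12], 9, [([], 4541, [13,3,10,12]), ([104], 204, [11,12,8,11,5]), ([], 414, [3,11,12,9,11,12,9])], []⟩
def c4554 : Clm := ⟨6, 9, true, [5,8,10,11,12,11,13,2,11,10,12,4,7,12], [1,11,5,10,12,4], 5, [([], 4553, [])], []⟩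
def c4555 : Clm := ⟨9, 6, true, [3,11,5,10,12,11,4], [5,8,10,11,12,11,13,2,11,10,12,4,7,12], 5, [([], 4554, [])], []⟩
def c4556 : Clm := ⟨9, 6, true, [3,5,10,11,2,11,10], [1,9,11,13,12,9,11,13,12,2,6,13,12,6,13], 13, [([], 4541, [1,5]), ([170,98], 760, [1,9,11,12,8,11,5,12,11,10]), ([373], 2520, [9,10,13,12,9,13,12,11])], []⟩
def c4557 : Clm := ⟨6, 9, true, [3,11,10,12,13,10,12,8,11,2,6,13,12,6,13], [3,5,10,11,2,11,10], 5, [([], 4556, [])], []⟩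
def c4558 : Clm := ⟨9, 6, true, [3,11,10,13,2,1,11,10], [3,11,10,12,13,10,12,8,11,2,6,13,12,6,13], 5, [([], 4557, [])], []⟩
def c4559 : Clm := ⟨9, 6, true, [1,10,13,10,2,11,10], [1,8,11,10,12,13,5,12,8,2,4,7,13,3,12,13], 13, [([], 4541, [13,3,5]), ([170,98], 760, [5,8,10,12,13,10,12,9,12]), ([], 1922, [9,10,12,8,13,3,5,12])], []⟩
def c4560 : Clm := ⟨6, 9, true, [1,8,11,10,12,13,5,12,8,2,4,7,13,12,13], [1,10,13,10,2,11,10], 5, [([], 4559, [])], []⟩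
def c4561 : Clm := ⟨9, 6, true, [1,10,13,2,1,11,10], [1,8,11,10,12,13,5,12,8,2,4,7,13,12,13], 5, [([], 4560, [])], []⟩
def c4562 : Clm := ⟨9, 6, true, [8,13,10,12,11,2,11,10], [8,11,3,10,12,9,11,13,12,2,13,6,12,8,11], 13, [([], 4541, [9,11,3,12]), ([104,171,110,96], 760, [1,8,11,12,9,11,13,10,12,11]), ([372], 940, [12,13,10,12,11,12,13])], []⟩
def c4563 : Clm := ⟨6, 9, true, [1,5,8,13,12,9,11,13,12,2,13,6,12,8,11], [8,13,10,12,11,2,11,10], 5, [([], 4562, [])], []⟩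
def c4564 : Clm := ⟨9, 6, true, [8,13,10,12,11,10,2,1,11,10], [1,5,8,13,12,9,11,13,12,2,13,6,12,8,11], 5, [([], 4563, [])], []⟩
def c4565 : Clm := ⟨9, 9, true, [8,13,5,10,4,7,9], [8,12,9,13,5,10,11,4,7,9], 43, [([], 4541, [11,3,10]), ([170,111], 66, [5,8,10,12,11,3]), ([104,100,98], 4540, [8,10,12,8,13,5,10])], []⟩
def c4566 : Clm := ⟨3, 10, true, [4,13,7,2], [], 1, [], []⟩
def c4567 : Clm := ⟨10, 3, true, [1,3], [5,11,5,13,2,4,7], 5, [([], 4566, [])], []⟩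
def c4568 : Clm := ⟨3, 10, true, [5,11,5,13,4,7,10,2], [1,3], 5, [([], 4567, [])], []⟩
def c4569 : Clm := ⟨10, 10, false, [], [1,13], 3, [([], 4566, []), ([99,103,100], 4566, [1,11])], []⟩
def c4570 : Clm := ⟨10, 10, false, [], [10,11,12,9,12,11,10], 3, [([], 4566, []), ([170,101,110], 4566, [10,11,12,8,12,11,10])], []⟩
def c4571 : Clm := ⟨10, 9, true, [5,4], [1,8,11,5,10,12,11,12,9,13,4], 9, [([], 4568, [1,3,5]), ([111], 96, [3,9,11,13,10,12,9,11,13]), ([170,104,96], 4540, [8,11,10,12,13,12,9,11])], []⟩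
def c4572 : Clm := ⟨9, 10, true, [1,8,10,13,10,12,11,12,9,13,4], [5,4], 5, [([], 4571, [])], []⟩
def c4573 : Clm := ⟨10, 9, true, [1,5,11,4], [1,8,10,13,10,12,11,12,9,13,4], 5, [([], 4572, [])], []⟩
def c4574 : Clm := ⟨10, 6, true, [5,10,4], [12,8,13,5,13,12,9,2,13,5,7,9], 9, [([], 4568, [1,3,10]), ([100,111], 1283, [5,8,12,11,3,12]), ([373], 2686, [12,13,10,12,8,13,12])], []⟩
def c4575 : Clm := ⟨6, 10, true, [10,12,8,11,3,13,12,9,2,1,13,5,7,9], [5,10,4], 5, [([], 4574, [])], []⟩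
def c4576 : Clm := ⟨10, 6, true, [3,5,10,11,4], [10,12,8,11,3,13,12,9,2,1,13,5,7,9], 5, [([], 4575, [])], []⟩
def c4577 : Clm := ⟨10, 6, true, [12,4], [8,10,13,12,9,12,11,13,2,1,7,13,7,10,12,11], 9, [([], 4568, [1,3,12]), ([110,110,104,96], 201, [13,12,9,12,11,12,13]), ([], 454, [9,11,12,8,13,12,8])], []⟩
def c4578 : Clm := ⟨6, 10, true, [8,10,13,12,9,12,11,13,2,7,13,7,10,12,11], [12,4], 5, [([], 4577, [])], []⟩
def c4579 : Clm := ⟨10, 6, true, [1,12,11,4], [8,10,13,12,9,12,11,13,2,7,13,7,10,12,11], 5, [([], 4578, [])], []⟩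
def c4580 : Clm := ⟨10, 6, true, [10,4], [5,8,12,11,3,10,12,2,4,13,10,12,4,5], 9, [([], 4568, [1,3,5,10]), ([100,111], 700, [1,10,12,11,12,11]), ([373], 2571, [8,12,9,11,3,10])], []⟩
def c4581 : Clm := ⟨6, 10, true, [1,8,13,12,8,13,12,9,2,4,13,5,7,12,11,13], [10,4], 5, [([], 4580, [])], []⟩
def c4582 : Clm := ⟨10, 6, true, [3,10,11,4], [1,8,13,12,8,13,12,9,2,4,13,5,7,12,11,13], 5, [([], 4581, [])], []⟩
def c4583 : Clm := ⟨10, 6, true, [5,12,4], [5,8,11,12,13,10,12,13,2,6,6,13,6,10,12], 9, [([], 4568, [1,3,5,12]), ([171,104], 189, [1,9,11,13,12,9,13,12]), ([], 415, [5,9,13,5,12,13,12,13])], []⟩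
def c4584 : Clm := ⟨6, 10, true, [5,8,10,13,3,5,12,2,11,10,12,4,7,12], [5,12,4], 5, [([], 4583, [])], []⟩
def c4585 : Clm := ⟨10, 6, true, [1,5,12,11,4], [5,8,10,13,3,5,12,2,11,10,12,4,7,12], 5, [([], 4584, [])], []⟩
def c4586 : Clm := ⟨10, 9, true, [1,11,4,5], [1,8,13,5,10,12,13,12,9,4], 7, [([], 4568, [1,3]), ([111], 96, [3,9,11,13,10,12,9,11]), ([98,170], 4540, [3,8,13,5,10,12,13,12,9])], []⟩
def c4587 : Clm := ⟨9, 10, true, [1,8,13,5,10,11,12,13,12,9,4], [1,11,4,5], 5, [([], 4586, [])], []⟩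
def c4588 : Clm := ⟨10, 10, false, [1,11,4,5], [9,13,3,10,13,12,11,13,2,7,13,5,6,10], 3, [([], 4587, []), ([9099,9087,9099,9084,9098], 4587, [5,10,12,9,11,3,12,9])], []⟩
def c4589 : Clm := ⟨10, 10, true, [3,10,12,11,4,5], [5,11,5,10,12,9,11,4], 7, [([], 4568, [1,3,5,10,12]), ([96,171,102], 2555, [5,8,10,12,13,10,12,9]), ([171], 4567, [1,13,5,10,12,9,13,5])], []⟩
def c4590 : Clm := ⟨10, 10, true, [3,10,13,10,13,12,9,4], [3,10,12,11,4,5], 5, [([], 4589, [])], []⟩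
def c4591 : Clm := ⟨10, 6, true, [5,10,11,2,11,10], [8,12,11,10,12,8,12,13,4,10,2,12,4,7,5], 13, [([], 4568, [1,3,5]), ([100], 4567, [13,5,13]), ([], 4575, [1,5,11,5,13])], []⟩
def c4592 : Clm := ⟨6, 10, true, [8,12,11,10,12,8,12,13,2,4,3,12,4,3,7,5], [5,10,11,2,11,10], 5, [([], 4591, [])], []⟩
def c4593 : Clm := ⟨10, 6, true, [11,10,13,2,1,11,10], [8,12,11,10,12,8,12,13,2,4,3,12,4,3,7,5], 5, [([], 4592, [])], []⟩
def c4594 : Clm := ⟨10, 6, true, [5,11,2,11,10], [11,3,12,8,11,13,12,13,2,6,11,13,12,8,11], 13, [([], 4568, [1,3,10]), ([100,111], 700, [1,10,12,11,12,11]), ([373,370], 1511, [13,5,10,11,12,9,11])], []⟩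
def c4595 : Clm := ⟨6, 10, true, [1,5,9,10,13,12,11,12,9,2,7,9,13,6,9,12], [5,11,2,11,10], 5, [([], 4594, [])], []⟩
def c4596 : Clm := ⟨10, 6, true, [5,11,10,2,1,11,10], [1,5,9,10,13,12,11,12,9,2,7,9,13,6,9,12], 5, [([], 4595, [])], []⟩
def c4597 : Clm := ⟨10, 6, true, [10,12,11,2,11,10], [1,5,9,10,13,12,11,10,13,2,4,12,7,13,3,2], 13, [([], 4568, [1,3,12]), ([171,104], 189, [1,9,11,13,12,9,13,12]), ([], 343, [10,12,13,10,12,13,10,12,13])], []⟩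
def c4598 : Clm := ⟨6, 10, true, [12,9,12,13,5,13,12,9,2,1,4,7,12,8,13,5], [10,12,11,2,11,10], 5, [([], 4597, [])], []⟩
def c4599 : Clm := ⟨10, 6, true, [1,5,11,2,11,10], [5,11,5,12,11,10,2,4,7,12,9], 13, [([], 4568, [3,10]), ([100,111], 700, [1,10,11,12,11,12,13]), ([], 962, [1,5,8,13,10,12,9,12])], []⟩
def c4600 : Clm := ⟨6, 10, true, [5,11,5,12,11,10,4,7,10,2,12,9], [1,5,11,2,11,10], 5, [([], 4599, [])], []⟩
def c4601 : Clm := ⟨10, 6, true, [3,5,10,11,2,11,10], [5,13,12,8,13,12,11,13,2,4,12,7,13,6,6,10], 13, [([], 4568, [1,5]), ([100], 4567, [1,13,5]), ([9138], 4581, [1,13])], []⟩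
def c4602 : Clm := ⟨6, 10, true, [3,5,11,10,12,8,12,13,12,2,13,2,6,13,5,12], [3,5,10,11,2,11,10], 5, [([], 4601, [])], []⟩
def c4603 : Clm := ⟨10, 6, true, [3,10,12,11,2,11,10], [8,12,11,5,10,13,12,13,2,4,12,9,13,4,6,9], 13, [([], 4568, [1,12]), ([171,104], 189, [9,11,13,12,9,13,12,13]), ([373,370], 1968, [8,11,13,12,11,10,12,9,12])], []⟩
def c4604 : Clm := ⟨6, 10, true, [1,9,13,12,11,13,5,2,1,4,12,4,7,13,12,4], [3,10,12,11,2,11,10], 5, [([], 4603, [])], []⟩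
def c4605 : Clm := ⟨10, 6, true, [5,10,12,11,2,11,10], [3,11,13,12,9,11,12,8,11,2,1,7,7,13,12,9], 13, [([], 4568, [1,3,5,12]), ([110,110,104,96], 201, [13,12,9,12,11,12,13]), ([372,370], 2238, [12,9,12,13,12,8,11,10])], []⟩
def c4606 : Clm := ⟨6, 10, true, [9,10,13,3,12,9,11,12,9,2,7,7,13,12,9], [5,10,12,11,2,11,10], 5, [([], 4605, [])], []⟩
def c4607 : Clm := ⟨10, 6, true, [12,11,10,13,2,1,11,10], [9,10,13,3,12,9,11,12,9,2,7,7,13,12,9], 5, [([], 4606, [])], []⟩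
def c4608 : Clm := ⟨10, 5, true, [9,10,12,11,2,11,10], [1,9,10,12,11,5,12,11,10,2,7,11,12,13,2,7], 13, [([], 4568, [1,3,8,12]), ([96,170,111,96], 189, [5,11,12,8,12,11,12,11]), ([], 331, [8,10,13,10,12,13,10])], []⟩
def c4609 : Clm := ⟨5, 10, true, [1,12,9,12,11,5,12,2,4,6,13,12,11,13], [9,10,12,11,2,11,10], 5, [([], 4608, [])], []⟩
def c4610 : Clm := ⟨10, 5, true, [8,10,12,11,2,11,10], [3,10,11,10,12,11,13,2,4,12,9,13,4], 13, [([], 4568, [1,3,9,12]), ([100,110,104], 189, [11,12,8,11,5]), ([372], 277, [12,13,5,10,11,12,11,12])], []⟩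
def c4611 : Clm := ⟨5, 10, true, [5,9,12,8,11,10,12,2,4,12,9,13,4,10], [8,10,12,11,2,11,10], 5, [([], 4610, [])], []⟩
def c4612 : Clm := ⟨10, 6, true, [1,11,5,11,2,11,10], [5,12,13,5,10,11,2,4,7,12,9,13,5], 13, [([], 4568, [13,3,10]), ([110,110], 1283, [8,11,13,12,13,5,12]), ([370], 382, [9,12,8])], []⟩
def c4613 : Clm := ⟨6, 10, true, [3,12,8,11,5,10,13,12,8,2,4,3,7,12,13,4], [1,11,5,11,2,11,10], 5, [([], 4612, [])], []⟩
def c4614 : Clm := ⟨10, 6, true, [1,10,11,13,2,1,11,10], [3,12,8,11,5,10,13,12,8,2,4,3,7,12,13,4], 5, [([], 4613, [])], []⟩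
def c4615 : Clm := ⟨10, 6, true, [1,11,10,12,11,2,11,10], [10,11,3,12,11,13,12,2,1,4,6,12,6,13,4], 13, [([], 4568, [13,3,12]), ([171,104], 189, [1,5,11,12,8,13]), ([372,370], 517, [8,10,13,3,12,9,13,10])], []⟩
def c4616 : Clm := ⟨6, 10, true, [9,12,13,12,9,13,10,13,10,2,4,6,5,8,13,12,8], [1,11,10,12,11,2,11,10], 5, [([], 4615, [])], []⟩
def c4617 : Clm := ⟨10, 6, true, [3,5,10,12,11,2,11,10], [3,5,9,13,12,2,7,11,13,2,12,13], 13, [([], 4568, [1,5,12]), ([110,110,104,96], 201, [1,13,12,9,12,11,12]), ([372,370], 2532, [5,12,13,5,12,13])], []⟩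
def c4618 : Clm := ⟨6, 10, true, [1,9,10,11,12,11,12,13,2,7,13,4,12,13], [3,5,10,12,11,2,11,10], 5, [([], 4617, [])], []⟩
def c4619 : Clm := ⟨10, 8, true, [3,9,10,12,11,2,11,10], [12,9,11,13,5,12,2,11,12,4,5,10,4,13], 13, [([], 4568, [1,8,12]), ([96,170,111,96], 189, [8,12,8,11,3,12,9,11]), ([370], 4204, [1,9,10,13,12,11,12])], []⟩
def c4620 : Clm := ⟨8, 10, true, [5,10,12,8,11,12,8,2,4,13,6,5,13,6,13], [3,9,10,12,11,2,11,10], 5, [([], 4619, [])], []⟩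
def c4621 : Clm := ⟨10, 7, true, [3,8,10,12,11,2,11,10], [11,13,12,9,13,5,12,13,2,4,12,13,2,6,13,7], 13, [([], 4568, [1,9,12]), ([100,110,104], 189, [5,13,3,12,8]), ([372,370], 3924, [1,9,13,10,12,13,12,8,13])], []⟩
def c4622 : Clm := ⟨7, 10, true, [8,12,8,11,5,12,13,10,2,1,7,13,2,12,13,2], [3,8,10,12,11,2,11,10], 5, [([], 4621, [])], []⟩
def c4623 : Clm := ⟨10, 6, true, [5,9,10,12,11,2,11,10], [3,9,11,12,9,11,10,13,2,4,13,3,7,13], 13, [([], 4568, [1,3,5,8,12]), ([98,171,110,96], 201, [10,12,9,13,12,13,10,13]), ([373], 2307, [5,12,11,3,12,9])], []⟩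
def c4624 : Clm := ⟨6, 10, true, [3,9,11,12,9,11,10,13,2,4,13,7,13], [5,9,10,12,11,2,11,10], 5, [([], 4623, [])], []⟩
def c4625 : Clm := ⟨10, 6, true, [5,8,10,12,11,2,11,10], [11,5,12,13,5,13,12,8,2,7,7,13,2,6,5], 13, [([], 4568, [1,3,5,9,12]), ([102,170], 201, [3,13,12,8,12,11,12,8]), ([], 2529, [3,5,13,5,12,13,12,9])], []⟩
def c4626 : Clm := ⟨6, 10, true, [5,9,12,8,13,3,2,4,13,7,7,13,12,8], [5,8,10,12,11,2,11,10], 5, [([], 4625, [])], []⟩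
def c4627 : Clm := ⟨10, 6, true, [12,11,2,11,10], [8,10,11,12,9,11,12,9,2,13,2,4,6,13,2], 13, [([], 4568, [1,3,5,10,12]), ([96,171,102], 2555, [9,13,12,8,11,13,10,12]), ([96,110,98], 360, [12,11,3,12,8,12,13])], []⟩
def c4628 : Clm := ⟨6, 10, true, [1,13,10,12,9,11,10,12,2,1,13,2,6,5,11,2], [12,11,2,11,10], 5, [([], 4627, [])], []⟩
def c4629 : Clm := ⟨10, 6, true, [5,13,10,12,11,2,11,10], [3,5,11,12,8,13,12,2,1,11,12,13,4,10], 13, [([], 4568, [5,11,3,12]), ([110,110,104,96], 201, [11,5,11,5,12,9]), ([373], 1440, [10,12,9,13,3,12,8])], []⟩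
def c4630 : Clm := ⟨6, 10, true, [3,5,11,12,8,13,12,2,11,12,11,13,4,10], [5,13,10,12,11,2,11,10], 5, [([], 4629, [])], []⟩
def c4631 : Clm := ⟨10, 6, true, [5,9,12,11,2,11,10], [5,8,10,11,13,12,11,12,9,2,4,5,7,13,5,12], 13, [([], 4568, [1,3,8,10,12]), ([170,98,96], 1283, [1,5,9,11]), ([372], 2989, [11,12,11,5,10,13,12,9,13])], []⟩
def c4632 : Clm := ⟨6, 10, true, [5,8,10,11,13,12,11,12,9,2,4,3,5,7,13,5,12], [5,9,12,11,2,11,10], 5, [([], 4631, [])], []⟩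
def c4633 : Clm := ⟨10, 6, true, [1,12,11,5,11,2,11,10], [12,11,13,2,4,13,12,13,7,7,13], 13, [([], 4568, [12,13,3,10]), ([110,110], 1283, [5,12,11,13,12,8]), ([372], 933, [5,8,12,13,5,10,12,8,11])], []⟩
def c4634 : Clm := ⟨6, 10, true, [12,8,11,13,5,10,12,9,2,4,3,12,13,4,6,13], [1,12,11,5,11,2,11,10], 5, [([], 4633, [])], []⟩
def c4635 : Clm := ⟨10, 6, true, [1,11,5,10,12,11,2,11,10], [1,12,11,13,10,12,13,2,11,12,4,10,11,12], 13, [([], 4568, [13,3,5,12]), ([110,110,104,96], 201, [11,5,11,5,12,9,11]), ([370], 1097, [1,8,10,12,8,11,12,11,13])], []⟩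
def c4636 : Clm := ⟨6, 10, true, [8,10,12,13,10,13,12,13,12,2,6,11,12,9,13,2], [1,11,5,10,12,11,2,11,10], 5, [([], 4635, [])], []⟩
def c4637 : Clm := ⟨10, 6, true, [1,11,5,12,11,2,11,10], [10,12,13,12,11,2,1,6,13,2,12,7,13], 13, [([], 4568, [13,3,10,12]), ([104,96], 2555, [5,10,12,9,11,13,12,11,13]), ([171,111,102], 703, [1,12,8,13,5,13,12,8,13])], []⟩
def c4638 : Clm := ⟨6, 10, true, [3,9,11,12,8,2,4,5,7,13,7,5], [1,11,5,12,11,2,11,10], 5, [([], 4637, [])], []⟩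
def c4639 : Clm := ⟨10, 6, true, [1,12,11,2,11,10], [1,13,12,9,13,12,13,5,10,2,13,7,10,13,2,13], 13, [([], 4568, [3,5,10,12]), ([96,171,102], 2555, [3,8,12,11,5,10,13,12,9]), ([100,98,96], 360, [9,12,11,12,9,12])], []⟩
def c4640 : Clm := ⟨6, 10, true, [5,13,5,12,13,12,9,13,2,4,5,13,12,6,13,2], [1,12,11,2,11,10], 5, [([], 4639, [])], []⟩
def c4641 : Clm := ⟨10, 6, true, [1,5,8,12,11,2,11,10], [11,13,5,10,12,8,13,2,1,6,9,13,4,12,13], 13, [([], 4568, [3,9,10,12]), ([110,171,100], 1283, [12,13,12,13,5]), ([372], 1637, [3,5,10,13,12,8,13,12,13])], []⟩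
def c4642 : Clm := ⟨6, 10, true, [11,13,5,10,12,13,12,8,2,4,12,9,11,5,4], [1,5,8,12,11,2,11,10], 5, [([], 4641, [])], []⟩
def c4643 : Clm := ⟨10, 6, true, [1,5,8,12,11,10,2,1,11,10], [11,13,5,10,12,13,12,8,2,4,12,9,11,5,4], 5, [([], 4642, [])], []⟩
def c4644 : Clm := ⟨10, 6, true, [11,5,12,11,2,11,10], [1,8,10,11,2,4,5,12,13,7,9,10], 13, [([], 4568, [3,13,10,12]), ([104,96], 2555, [1,8,13,12,13,10,13,12,8]), ([111,171,110,96], 703, [9,12,11,10,13,12,13,10])], []⟩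
def c4645 : Clm := ⟨6, 10, true, [3,5,10,13,10,12,9,13,12,2,11,10,12,8,13,2,11], [11,5,12,11,2,11,10], 5, [([], 4644, [])], []⟩
def c4646 : Clm := ⟨10, 6, true, [11,10,12,13,5,2,11,10], [1,10,11,12,9,12,13,12,11,2,1,6,13,4,12,7,13], 13, [([], 4568, [1,5,11,12]), ([110,110,104,96], 201, [11,5,11,5,12,9,13]), ([370], 1908, [3,12,8,13,12,13,10,11])], []⟩
def c4647 : Clm := ⟨6, 10, true, [1,12,8,11,12,8,11,10,2,6,13,4,10,12,7,13], [11,10,12,13,5,2,11,10], 5, [([], 4646, [])], []⟩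
def c4648 : Clm := ⟨10, 6, true, [11,10,12,13,5,10,2,1,11,10], [1,12,8,11,12,8,11,10,2,6,13,4,10,12,7,13], 5, [([], 4647, [])], []⟩
def c4649 : Clm := ⟨10, 6, true, [11,3,5,10,12,11,2,11,10], [1,12,8,11,5,12,13,5,2,1,13,2,6,12,8], 13, [([], 4568, [1,13,5,12]), ([110,110,104,96], 201, [11,5,11,5,12,9,11,13]), ([372,370], 2553, [3,9,12,11,12,9,11])], []⟩
def c4650 : Clm := ⟨6, 10, true, [12,8,11,10,12,8,13,2,13,2,13,6,6,12], [11,3,5,10,12,11,2,11,10], 5, [([], 4649, [])], []⟩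
def c4651 : Clm := ⟨10, 3, true, [9,12,11,2,11,10], [5,12,13,12,9,12,11,2,7,13,2,6,13,12,7], 13, [([], 4568, [1,3,5,8,10,12]), ([170,98,96], 700, [3,8,11,10,12,11,10]), ([], 217, [13,5,10,13,12,8,13])], []⟩
def c4652 : Clm := ⟨3, 10, true, [1,9,10,11,13,12,2,13,7,5,13,4,12], [9,12,11,2,11,10], 5, [([], 4651, [])], []⟩
def c4653 : Clm := ⟨10, 3, true, [9,12,11,10,2,1,11,10], [1,9,10,11,13,12,2,13,7,5,13,4,12], 5, [([], 4652, [])], []⟩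
def c4654 : Clm := ⟨10, 6, true, [8,12,11,2,11,10], [3,5,11,10,12,11,2,1,13,6,10,13,2,1], 13, [([], 4568, [1,3,5,9,10,12]), ([110,171,100], 700, [10,11,12,11,13,12,9]), ([], 499, [10,12,8,11,3,5,12])], []⟩
def c4655 : Clm := ⟨6, 10, true, [3,5,11,10,12,11,2,1,13,6,10,13,2,3], [8,12,11,2,11,10], 5, [([], 4654, [])], []⟩
def c4656 : Clm := ⟨10, 6, true, [8,12,11,10,2,1,11,10], [3,5,11,10,12,11,2,1,13,6,10,13,2,3], 5, [([], 4655, [])], []⟩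
def c4657 : Clm := ⟨10, 10, true, [3,10,11,10,12,11,2,11,10], [3,5,10,13,5,12,8,13,4,5,10,4], 13, [([], 4568, [5,10,13,3,12]), ([96,171,102], 2555, [3,8,12,11,5,10,12,9,11]), ([100,111], 4567, [5,10,13,5,12,8,11,13])], []⟩
def c4658 : Clm := ⟨10, 10, true, [1,10,11,12,8,13,10,11,2,13,5,10], [3,10,11,10,12,11,2,11,10], 5, [([], 4657, [])], []⟩
def c4659 : Clm := ⟨10, 10, true, [3,10,11,10,12,11,10,2,1,11,10], [1,10,11,12,8,13,10,11,2,13,5,10], 5, [([], 4658, [])], []⟩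
def c4660 : Clm := ⟨10, 6, true, [1,9,12,11,5,11,2,11,10], [1,5,9,12,11,12,9,2,4,13,6,5,10], 13, [([], 4568, [8,12,13,3,10]), ([110,110], 1283, [9,11,12,11,5,12,8]), ([370], 1189, [13,12,8,13,10,11,12])], []⟩
def c4661 : Clm := ⟨6, 10, true, [9,12,13,12,9,13,5,10,11,2,4,5,6,11,5], [1,9,12,11,5,11,2,11,10], 5, [([], 4660, [])], []⟩
def c4662 : Clm := ⟨10, 6, true, [1,9,11,5,12,11,2,11,10], [3,8,10,13,12,9,13,10,2,13,4,12,4,3,7,9], 13, [([], 4568, [8,13,3,10,12]), ([98,96,170], 700, [5,8,11,13,10]), ([372,370], 3168, [13,5,13,12,9])], []⟩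
def c4663 : Clm := ⟨6, 10, true, [3,8,10,13,12,9,13,10,2,1,13,4,12,4,7,9], [1,9,11,5,12,11,2,11,10], 5, [([], 4662, [])], []⟩
def c4664 : Clm := ⟨10, 3, true, [13,5,10,13,12,9,11,13,4,5,10,2], [8,11,10,12,9,13,12,8,2,4,7,12,8,13,3], 15, [([], 4659, [9,10,11,3]), ([9176,9176], 4568, [10,11,3,5,12]), ([96,171,102], 2555, [3,8,12,11,5,10,12,9,13])], []⟩
def c4665 : Clm := ⟨3, 10, true, [8,11,10,12,9,13,12,8,2,1,4,7,12,8,13], [13,5,10,13,12,9,11,13,4,5,10,2], 5, [([], 4664, [])], []⟩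
def c4666 : Clm := ⟨10, 3, true, [13,5,10,13,12,9,11,13,2,4,5], [8,11,10,12,9,13,12,8,2,1,4,7,12,8,13], 5, [([], 4665, [])], []⟩
def c4667 : Clm := ⟨10, 6, true, [5,10,12,13,10,12,11,2,11,10], [12,9,13,10,11,12,11,5,2,7,13,7,7,5,4], 13, [([], 4568, [10,12,11,3,12]), ([100,111], 700, [8,11,13,5,10,12,11,12,9]), ([], 1440, [12,13,5,12,8,11])], []⟩
def c4668 : Clm := ⟨6, 10, true, [1,5,8,11,13,12,9,11,10,2,11,13,12,4,7,9], [5,10,12,13,10,12,11,2,11,10], 5, [([], 4667, [])], []⟩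
def c4669 : Clm := ⟨10, 6, true, [12,11,13,5,10,2,11,10], [3,5,9,12,13,5,10,12,9,2,4,7,5,13,7], 13, [([], 4568, [10,12,13,3,10]), ([110,110], 1283, [12,11,5,11,12,8,11]), ([], 2587, [8,12,11,10,13,12,8])], []⟩
def c4670 : Clm := ⟨6, 10, true, [3,5,9,12,13,5,12,9,2,1,6,13,4,5,7], [12,11,13,5,10,2,11,10], 5, [([], 4669, [])], []⟩
def c4671 : Clm := ⟨10, 6, true, [3,12,11,10,13,12,11,2,11,10], [1,11,13,12,8,12,13,12,2,13,12,4,13,6,6], 13, [([], 4568, [10,12,13,3,12]), ([100,111], 700, [3,9,13,12,8,13,10,13]), ([370], 3016, [1,9,12,13,5,10,12,8,13])], []⟩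
def c4672 : Clm := ⟨6, 10, true, [12,8,11,5,10,13,12,13,2,7,13,7,13,10,4], [3,12,11,10,13,12,11,2,11,10], 5, [([], 4671, [])], []⟩
def c4673 : Clm := ⟨10, 6, true, [3,12,11,10,13,12,11,10,2,1,11,10], [12,8,11,5,10,13,12,13,2,7,13,7,13,10,4], 5, [([], 4672, [])], []⟩
def c4674 : Clm := ⟨6, 10, true, [1,9,11,12,11,13,12,8,13,2,7,9,11,12,4], [1,9,12,8,11,12,9,11,5,2,4,13,6,13,5,6], 15, [([], 4673, [8,13,12,13,10,12,8,12]), ([9176], 4568, [9,10,12,8,11,10,12,9,13]), ([96,110,102], 4666, [8,12,11,3,5,12,9])], []⟩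
def c4675 : Clm := ⟨10, 6, true, [8,12,13,12,8,11,12,2,4,6,12,13,2,12,4], [1,9,11,12,11,13,12,8,13,2,7,9,11,12,4], 5, [([], 4674, [])], []⟩
def c4676 : Clm := ⟨10, 10, true, [5,10,13,12,11,2,11,10], [1,10,11,10,12,11,10,4,5,10,2], 13, [([], 4568, [13,3,10,11,12]), ([104,96], 2555, [5,11,12,11,10,12,9,13,12]), ([110,110], 4666, [1,5,8,11,5,13])], []⟩
def c4677 : Clm := ⟨10, 10, true, [1,10,11,10,12,11,10,2,4,5], [5,10,13,12,11,2,11,10], 5, [([], 4676, [])], []⟩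
def c4678 : Clm := ⟨10, 10, true, [5,10,13,12,11,10,2,1,11,10], [1,10,11,10,12,11,10,2,4,5], 5, [([], 4677, [])], []⟩
def c4679 : Clm := ⟨10, 6, true, [11,12,11,5,11,2,11,10], [12,8,11,5,11,5,2,4,6,12,13,3,7], 13, [([], 4568, [13,3,12,13,10]), ([100,111], 700, [5,12,11,12,13,10,13,12]), ([373,370], 1607, [1,5,8,10,11,5,12,11,10])], []⟩
def c4680 : Clm := ⟨6, 10, true, [12,8,11,5,11,5,2,1,4,6,12,13,7], [11,12,11,5,11,2,11,10], 5, [([], 4679, [])], []⟩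
def c4681 : Clm := ⟨10, 6, true, [1,9,12,11,2,11,10], [3,5,10,13,12,11,10,2,1,4,12,13,10,2], 13, [([], 4568, [3,5,8,10,12]), ([170,98,96], 700, [8,11,5,12,11,10]), ([370], 194, [5,10,13,3,12,8,11])], []⟩
def c4682 : Clm := ⟨6, 10, true, [3,5,10,13,12,11,10,2,1,4,12,13,2], [1,9,12,11,2,11,10], 5, [([], 4681, [])], []⟩
def c4683 : Clm := ⟨6, 10, true, [1,9,11,10,12,13,12,8,11,2,4,3,12,4,12,11,2], [3,8,11,12,11,12,8,2,4,13,12,13,2,4,5], 15, [([], 4643, [1,12,13,10,13,12,13]), ([9141,9176], 4568, [5,12,13,12,9,12,11,10]), ([110,100], 4666, [8,11,5,12,13,12,9])], []⟩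
def c4684 : Clm := ⟨10, 6, true, [8,12,11,12,8,2,13,10,12,13,2,11,5], [1,9,11,10,12,13,12,8,11,2,4,3,12,4,12,11,2], 5, [([], 4683, [])], []⟩
def c4685 : Clm := ⟨10, 10, true, [13,3,10,11,12,9,2,11,5,4], [1,10,11,5,12,8,11,2,13,2], 15, [([], 4678, [8,11,3,10]), ([9177,9177], 4568, [3,5,10,13,5,12]), ([110,100], 4666, [9,13,3,5])], []⟩
def c4686 : Clm := ⟨10, 10, true, [1,10,11,5,12,8,11,2,13,10,2], [13,3,10,11,12,9,2,11,5,4], 5, [([], 4685, [])], []⟩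
def c4687 : Clm := ⟨10, 10, true, [3,10,11,12,11,13,10,2,4,3], [5,13,5,10,11,12,8,2,13,2,1], 17, [([], 4678, [13,5,13,5]), ([], 4568, [3,11,5,10,13,12]), ([98,96], 4666, [1,5,9,11,5,13])], []⟩
def c4688 : Clm := ⟨6, 10, true, [8,11,12,8,11,12,9,13,2,1,4,7,12,13,2,6], [3,9,12,11,12,9,12,2,1,13,12,4,10,4,13], 11, [([], 4585, [9,12,11,12,8,11,5,10]), ([], 4568, [1,13,5,12]), ([100,110,104], 4653, [11,12,11,12,9,12,11,10])], []⟩
def c4689 : Clm := ⟨10, 6, true, [8,11,12,11,5,10,13,12,2,4,6,12,13,2,7,7], [8,11,12,8,11,12,9,13,2,1,4,7,12,13,2,6], 5, [([], 4688, [])], []⟩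
def c4690 : Clm := ⟨6, 10, true, [1,12,13,5,10,12,13,12,9,2,1,6,9,13,4,6,13], [8,11,12,11,5,10,13,12,2,4,6,12,13,2,7,7], 5, [([], 4689, [])], []⟩
def c4691 : Clm := ⟨10, 6, true, [8,13,10,13,12,8,11,12,8,2,7,13,2,1,6,9], [13,5,10,11,12,11,13,2,13,5,12,7,13,4], 11, [([], 4686, [12,9,11,3,10,12,8,13,12]), ([9177,9177], 4568, [13,3,5,10,12]), ([96,111,171,96], 655, [1,9,12,11,5,12,9,13,10])], []⟩
def c4692 : Clm := ⟨6, 10, true, [10,12,11,13,5,12,11,2,6,13,4,6,6,13], [8,13,10,13,12,8,11,12,8,2,7,13,2,1,6,9], 5, [([], 4691, [])], []⟩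
def c4693 : Clm := ⟨10, 6, true, [5,13,5,12,9,11,10,2,13,12,4,3,2,6], [1,10,12,13,10,12,13,12,9,2,1,13,7,13,4,6], 11, [([], 4686, [3,12,8,13,5,12,9,11,12]), ([9177,9177], 4568, [3,13,5,10,12]), ([171,100,111], 697, [1,13,5,12,8,13,12,8,13])], []⟩
def c4694 : Clm := ⟨6, 10, true, [1,10,12,13,10,12,13,12,2,6,9,13,4,7], [5,13,5,12,9,11,10,2,13,12,4,3,2,6], 5, [([], 4693, [])], []⟩
def c4695 : Clm := ⟨9, 10, true, [3,8,10,12,9,11,13,2,1,11,10], [10,11,3,12,9,11,13,12,2,11,13,12,4], 11, [([], 4573, [3,10,11,12,13]), ([], 4568, [1,12,11,13,5,12]), ([171,100], 4666, [3,10,13,12,11,10,13])], []⟩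
def c4696 : Clm := ⟨10, 9, true, [1,10,11,12,9,13,10,2,1,4,12,13,5,10], [3,8,10,12,9,11,13,2,1,11,10], 5, [([], 4695, [])], []⟩
def c4697 : Clm := ⟨9, 10, true, [1,8,12,9,13,5,13,2,11,10], [1,10,11,12,9,13,10,2,1,4,12,13,5,10], 5, [([], 4696, [])], []⟩
def c4698 : Clm := ⟨10, 6, true, [3,11,5,12,8,13,12,8,2,7,7,13,6,5,10], [1,9,10,12,13,10,12,8,11,2,11,5,7,11,13,2,11], 13, [([], 4686, [1,9,10,11,12,11,12,8,13]), ([9177,9177], 4568, [3,11,10,12,11]), ([100,111], 1283, [1,12,11,13,5,12,8])], []⟩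
def c4699 : Clm := ⟨6, 10, true, [3,12,11,10,13,12,9,13,12,2,1,13,2,6,12,4,8], [3,11,5,12,8,13,12,8,2,7,7,13,6,5,10], 5, [([], 4698, [])], []⟩
def c4700 : Clm := ⟨10, 6, true, [5,10,13,12,9,13,10,12,2,1,13,10,12,13,4], [3,12,11,10,13,12,9,13,12,2,1,13,2,6,12,4,8], 5, [([], 4699, [])], []⟩
def c4701 : Clm := ⟨10, 6, true, [1,10,11,12,9,11,12,2,11,12,11,10,4], [1,10,12,13,10,12,11,12,2,4,3,12,4,3,8], 13, [([], 4686, [5,9,11,13,10,12,11,12,8]), ([9177,9177], 4568, [3,11,10,12,13]), ([100,111], 700, [10,12,13,12,11])], []⟩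
def c4702 : Clm := ⟨6, 10, true, [1,10,12,13,10,12,11,12,4,10,2,12,4,8], [1,10,11,12,9,11,12,2,11,12,11,10,4], 5, [([], 4701, [])], []⟩
def c4703 : Clm := ⟨10, 6, true, [3,10,11,12,9,11,12,9,2,1,6,13,4,6,8], [1,10,12,13,10,12,11,12,4,10,2,12,4,8], 5, [([], 4702, [])], []⟩
def c4704 : Clm := ⟨10, 6, true, [7], [5,13,5,11,4,5,7,10,4], 27, [([], 4568, [1,3]), ([111,104,98,96], 201, [5,8,12,11,5,12,8]), ([], 436, [13,10,13,12,9,11,10,12]), ([372], 554, [5,8,12,13,5,13,12,8]), ([], 452, [3,12,11,12,9,13]), ([], 554, [5,8,10,11,12,13,10,13]), ([], 447, [11,12,11,12,8,13])], []⟩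
def c4705 : Clm := ⟨6, 10, true, [10,11,2,13,5,6,10], [7], 5, [([], 4704, [])], []⟩
def c4706 : Clm := ⟨10, 6, true, [1,3,7], [10,11,2,13,5,6,10], 5, [([], 4705, [])], []⟩
def c4707 : Clm := ⟨10, 10, true, [8,4,7,9], [3,12,13,12,9,11,4,7,9], 43, [([], 4568, [1,3]), ([171], 71, [3,5,8,11,10,12]), ([104,96], 4567, [11,12,13,12,8])], []⟩
def c4708 : Clm := ⟨10, 6, true, [5,12,8,4,7,9], [10,13,12,13,5,13,2,11,13,6,13,10], 43, [([], 4568, [1,3,5,12]), ([96,170,111,102], 189, [8,13,3,12,8,13]), ([], 451, [11,12,9,13,12,9,13,12])], []⟩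
def c4709 : Clm := ⟨6, 10, true, [1,10,13,10,12,11,13,2,1,11,13,6,13,10], [5,12,8,4,7,9], 5, [([], 4708, [])], []⟩
def c4710 : Clm := ⟨3, 10, true, [9,10,13,10,13,12,8,11,12,2,13,2,13,6,12,11], [1,8,11,10,12,8,13,5,2,13,12,4,3,7,5], 13, [([], 4567, [11,12]), ([], 4578, [5,9,12,13,5,12,8]), ([373,370], 4689, [8,13,10,13,10,13])], []⟩
def c4711 : Clm := ⟨10, 3, true, [1,8,11,10,12,8,13,5,2,1,13,12,4,7,5], [9,10,13,10,13,12,8,11,12,2,13,2,13,6,12,11], 5, [([], 4710, [])], []⟩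
def c4712 : Clm := ⟨3, 10, true, [3,8,11,12,9,11,12,11,13,2,4,13,6,10,12,11], [1,8,11,10,12,8,13,5,2,1,13,12,4,7,5], 5, [([], 4711, [])], []⟩
def c4713 : Clm := ⟨10, 7, true, [1,8,11,5,11,12,8,2,4,3,12,13,4,6,13], [5,12,8,11,13,12,9,2,6,9,13,4,12,6], 17, [([], 4712, [3,8,12,9,13,12,11,13,10]), ([171], 4567, [8,12]), ([], 4622, [1,13])], []⟩
def c4714 : Clm := ⟨7, 10, true, [3,12,11,13,12,2,4,5,12,9,13,4,6], [1,8,11,5,11,12,8,2,4,3,12,13,4,6,13], 5, [([], 4713, [])], []⟩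
def c4715 : Clm := ⟨10, 10, true, [1,5,9,13,5,11,2,1,13,5,7,7,13,2], [1,10,13,12,8,11,12,13,10,2,11,10], 11, [([], 4714, [8,10,12,9,13,3,12,13]), ([7426,7412,7390], 3906, [10,12,8,11,3,5,12,13]), ([111,102], 4567, [12,13,12,8,13,12,11])], []⟩
def c4716 : Clm := ⟨10, 10, true, [1,10,13,12,8,11,12,13,2,1,11,10], [1,5,9,13,5,11,2,1,13,5,7,7,13,2], 5, [([], 4715, [])], []⟩
def c4717 : Clm := ⟨10, 10, true, [9,11,5,11,12,11,10,2,1,4,5,7,7,13,4], [1,10,13,12,8,11,12,13,2,1,11,10], 5, [([], 4716, [])], []⟩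
def c4718 : Clm := ⟨6, 10, true, [1,10,11,5,2,13,12,4,3,8], [5,11,5,11,12,9,2,1,6,13,6,12], 11, [([], 188, [10,13,10,13,12,9]), ([170,102], 4567, [8,10,11,5,12,9,11,10,12]), ([9141], 4717, [11,12,8,11,12,11,12,9,12])], []⟩
def c4719 : Clm := ⟨10, 6, true, [5,10,11,13,12,9,2,6,13,6,12], [1,10,11,5,2,13,12,4,3,8], 5, [([], 4718, [])], []⟩
def c4720 : Clm := ⟨10, 10, true, [1,5,9,12,11,5,2,4,13,12,8,13,4], [1,5,11,13,10,4,5,10,4], 13, [([], 4661, [13,12,9,13,10]), ([373,370], 1282, [9,12,11,5,10,12,11,13]), ([110,100], 4567, [1,13,10,13,10])], []⟩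
def c4721 : Clm := ⟨10, 10, true, [11,5,2,13,5,10], [1,5,9,12,11,5,2,4,13,12,8,13,4], 5, [([], 4720, [])], []⟩
def c4722 : Clm := ⟨10, 10, true, [1,5,9,12,8,11,10,12,9,2,1,4,12,8,11,13,6], [11,5,2,13,5,10], 5, [([], 4721, [])], []⟩
def c4723 : Clm := ⟨6, 10, true, [1,5,11,5,12,9,13,10,2,4,5,7,11,5,11], [9,11,10,12,11,12,11,2,1,7,9,13,7,12], 11, [([], 1282, [12,9,11,12,13,10,12,8,12]), ([110,100], 4567, [9,10,11]), ([9177,9177,9141], 4722, [1,5,8,13,5,10])], []⟩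
def c4724 : Clm := ⟨10, 6, true, [9,11,10,12,11,12,11,10,2,7,9,13,7,12], [1,5,11,5,12,9,13,10,2,4,5,7,11,5,11], 5, [([], 4723, [])], []⟩
def c4725 : Clm := ⟨6, 10, true, [8,10,12,8,11,5,12,11,13,2,1,13,6,5,4,10,13], [12,8,13,10,12,8,11,2,1,13,12,11,2], 45, [([], 361, [5,8,11,13,12,13,5,12,8]), ([111], 4567, [9,10,11,10,12,9,11]), ([9140,9177,9141,9176], 4717, [12,11,13,12])], []⟩
def c4726 : Clm := ⟨10, 6, true, [12,8,13,10,12,8,11,2,1,13,12,11,10,2], [8,10,12,8,11,5,12,11,13,2,1,13,6,5,4,10,13], 5, [([], 4725, [])], []⟩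
def c4727 : Clm := ⟨6, 10, true, [8,10,12,8,11,5,12,11,13,2,13,6,5,4,10,13], [12,8,13,10,12,8,11,2,1,13,12,11,10,2], 5, [([], 4726, [])], []⟩
def c4728 : Clm := ⟨6, 10, true, [1,13,10,12,8,13,12,9,11,2,4,12,8,13,5,13], [13,5,12,9,11,13,10,2,6,11,13,2,6,13], 15, [([], 4558, [1,11,10,12,11,10]), ([9085,9098,9087,9098], 4573, [1,11,13,10,12]), ([9176,9176,9138], 4678, [13,5,10,12,13,12,9])], []⟩
def c4729 : Clm := ⟨10, 6, true, [10,11,12,13,12,9,2,6,13,4,6,13], [1,13,10,12,8,13,12,9,11,2,4,12,8,13,5,13], 5, [([], 4728, [])], []⟩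
def c4730 : Clm := ⟨6, 10, true, [3,10,13,10,12,11,2,1,4,12,13,7,7,10], [1,13,5,12,9,13,2,1,6,13,6,10], 15, [([], 4555, [3,10,13,10,12,8,13,12]), ([9098,9084,9099,9087,9098], 4573, [3,10,12]), ([9176,9176], 4678, [13,5,10,13,12,13,12,9])], []⟩
def c4731 : Clm := ⟨10, 6, true, [1,13,5,12,9,13,10,2,6,13,6,10], [3,10,13,10,12,11,2,1,4,12,13,7,7,10], 5, [([], 4730, [])], []⟩
def c4732 : Clm := ⟨6, 10, true, [1,5,10,12,13,12,11,2,4,12,4,13,12,4,5], [1,13,5,12,9,13,10,2,6,13,6,10], 5, [([], 4731, [])], []⟩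
def c4733 : Clm := ⟨6, 10, true, [8,10,11,10,12,8,11,10,2,1,11,12,4,12,6], [5,10,13,12,8,11,12,2,4,12,11,13,12,8], 15, [([], 4558, [1,12,13,10,12,13,10,12,9]), ([9099,9086,9098,9087,9084,9098], 4573, [1,3,5,10,12]), ([9176,9176,9138], 4678, [5,8,11,10,12,11,12,8])], []⟩
def c4734 : Clm := ⟨10, 6, true, [10,11,12,13,10,12,9,12,2,7,13,4,7,13], [8,10,11,10,12,8,11,10,2,1,11,12,4,12,6], 5, [([], 4733, [])], []⟩
def c4735 : Clm := ⟨9, 10, true, [8,10,11,10,12,13,5,12,8,4,12,4,10,4], [1,5,9,11,10,12,2,4,3,6,12,13,5], 13, [([], 4573, [8,13,3,12]), ([9176,9176,9176,9140], 4705, [8,13,3,12,9,12,11,12]), ([373,370], 4614, [9,12,11,12,13,10,13,12])], []⟩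
def c4736 : Clm := ⟨10, 9, true, [1,5,9,11,10,12,2,4,6,12,13,5], [8,10,11,10,12,13,5,12,8,4,12,4,10,4], 5, [([], 4735, [])], []⟩
def c4737 : Clm := ⟨9, 10, true, [1,9,11,13,10,12,11,10,4,12,4,10,4,3], [1,5,9,11,10,12,2,4,6,12,13,5], 5, [([], 4736, [])], []⟩
def c4738 : Clm := ⟨6, 10, true, [8,10,11,12,2,1,11,12,4,3,6], [1,5,8,12,9,11,10,12,13,2,7,13,2,6,13,3], 15, [([], 4552, [8,10,13,12,8,13,10,11]), ([9099,9099,9085,9099,9099], 4573, [11,12,13,12,9,12,11,10]), ([9176,9176], 4686, [5,13,5,12,13,12,9])], []⟩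
def c4739 : Clm := ⟨10, 6, true, [1,5,8,12,9,11,10,12,13,2,7,13,2,1,6,13], [8,10,11,12,2,1,11,12,4,3,6], 5, [([], 4738, [])], []⟩
def c4740 : Clm := ⟨6, 10, true, [3,9,12,9,11,5,10,12,11,2,13,7,12,4,6,10], [1,11,12,8,13,10,2,1,7,13,7,10], 15, [([], 4555, [9,10,12,8,13,3,10,12]), ([9099,9099,9099,9085,9099], 4573, [3,5,10,11,12,8,12,11,12]), ([9176,9176,9138], 4678, [10,11,10,12,11,12,8])], []⟩
def c4741 : Clm := ⟨10, 6, true, [1,11,12,8,13,2,7,13,7,10], [3,9,12,9,11,5,10,12,11,2,13,7,12,4,6,10], 5, [([], 4740, [])], []⟩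
def c4742 : Clm := ⟨9, 10, true, [8,10,13,10,13,12,11,12,9,2,11,13,2], [3,8,11,13,12,11,12,4,6,6], 15, [([], 4573, [1,3,10]), ([9177,9177,9141], 4613, [5,10,11,5]), ([372], 4706, [3,9,12,13,5,10,12,9])], []⟩
def c4743 : Clm := ⟨10, 9, true, [3,8,13,12,11,12,4,6,6], [8,10,13,10,13,12,11,12,9,2,11,13,2], 5, [([], 4742, [])], []⟩
def c4744 : Clm := ⟨6, 10, true, [13,12,8,11,12,11,12,9,2,4,5,12,4,13,12], [1,9,10,11,12,9,13,10,11,4,12,4,10,4], 11, [([], 871, [1,9,12,8,11,5,11,12,9,13]), ([370], 4552, [1,10,13,12,8,11,12,11,12]), ([9098,9086,9099,9099,9086,9098], 4573, [12,11,12,8,12,13])], []⟩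
def c4745 : Clm := ⟨10, 6, true, [11,12,11,5,11,12,8,11,4,12,4,10,4,3], [13,12,8,11,12,11,12,9,2,4,5,12,4,13,12], 5, [([], 4744, [])], []⟩
def c4746 : Clm := ⟨6, 10, true, [8,11,13,12,9,12,2,4,5,6,13,5,12,4], [1,13,5,11,4,12,4,10,4], 11, [([], 2526, [10,12,8,11,12,11,5,10]), ([373], 4561, [1,5,9,12,11,10]), ([9099,9087,9098], 4573, [11,3,13,12])], []⟩
def c4747 : Clm := ⟨10, 6, true, [1,5,8,12,13,12,9,4,12,4,10,4,3], [8,11,13,12,9,12,2,4,5,6,13,5,12,4], 5, [([], 4746, [])], []⟩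
def c4748 : Clm := ⟨6, 10, true, [5,8,11,12,11,13,5,12,9,11,2,7,7,11,13,12,4], [13,3,10,13,2,4,3,13], 11, [([], 463, [9,12,8,13,3,10,12]), ([370], 4564, [3,5,10,13,10,12,9,11]), ([9099,9085,9098,9085,9099], 4573, [1,11,13,5,10])], []⟩
def c4749 : Clm := ⟨10, 6, true, [13,3,10,13,2,4,13], [5,8,11,12,11,13,5,12,9,11,2,7,7,11,13,12,4], 5, [([], 4748, [])], []⟩
def c4750 : Clm := ⟨6, 10, true, [3,11,12,13,10,12,2,4,13,3,7,5,13,2], [13,3,10,13,2,4,13], 5, [([], 4749, [])], []⟩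
def c4751 : Clm := ⟨6, 10, true, [3,11,12,11,13,12,8,2,4,13,12,13], [5,9,12,8,4,5,10,12,4,6], 11, [([], 2601, [3,11,12,13,12,9,13]), ([373], 4561, [1,5,9,10,11,5,12,11,10]), ([9087,9084,9099,9087,9098], 4573, [1,3,5,12])], []⟩
def c4752 : Clm := ⟨10, 6, true, [3,13,12,8,13,12,9,11,4,10,12,13,4,6], [3,11,12,11,13,12,8,2,4,13,12,13], 5, [([], 4751, [])], []⟩
def c4753 : Clm := ⟨6, 10, true, [12,9,11,13,5,12,13,2,7,7,13,12,4,12], [5,8,10,13,5,12,9,13,10,4,12,4,10,4], 11, [([], 2880, [5,10,12,9,11,12,9,13,10]), ([373], 4561, [12,8,12,13,12,8,13,10]), ([9099,9086,9098,9098,9087,9098], 4573, [8,12,11,12,9,11,12,11,13])], []⟩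
def c4754 : Clm := ⟨10, 6, true, [10,12,11,12,13,10,13,12,4,12,4,10,4,3], [12,9,11,13,5,12,13,2,7,7,13,12,4,12], 5, [([], 4753, [])], []⟩
def c4755 : Clm := ⟨6, 10, true, [5,9,12,13,5,12,11,2,4,12,6,11,12,13,2], [10,12,11,12,13,10,13,12,4,12,4,10,4,3], 5, [([], 4754, [])], []⟩
def c4756 : Clm := ⟨6, 10, true, [8,10,13,3,12,9,2,1,13,2,12,7,11,5], [1,9,13,5,4,12,4,10,4], 11, [([], 1844, [1,8,13,12,9,13,12]), ([373], 4546, [5,10,11,12,9,13,12,8]), ([9085,9099,9085,9098,9098], 4573, [1,9,11,13,12])], []⟩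
def c4757 : Clm := ⟨10, 6, true, [5,12,13,12,9,11,4,12,4,10,4,3], [8,10,13,3,12,9,2,1,13,2,12,7,11,5], 5, [([], 4756, [])], []⟩
def c4758 : Clm := ⟨10, 6, true, [1,9,13,10,12,13,12,11,10,2,4,7,12,11,5,6], [12,13,10,13,12,13,2,1,4,5,7,13,5], 17, [([], 4737, [3,13,5,10,12,13,12]), ([9098,9085,9098], 4573, [1,8,13,10,13,12,8,13]), ([9176,9176], 4750, [5,10,11])], []⟩
def c4759 : Clm := ⟨6, 10, true, [1,12,13,10,12,11,5,2,4,5,6,13,3,2], [1,9,13,10,12,13,12,11,10,2,4,7,12,11,5,6], 5, [([], 4758, [])], []⟩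
def c4760 : Clm := ⟨6, 10, true, [3,10,12,13,10,12,13,10,12,13,2,11,13,12,4,7,5], [9,10,11,3,12,9,13,10,4,12,4,10,4], 11, [([], 4593, [8,10,11,13,5,12,11,12,8]), ([9177,9138], 4737, [1,10,11,13,12,9,11,13]), ([9086,9099,9087,9098,9084,9098], 4573, [3,11,12,11,12,8,12,13])], []⟩
def c4761 : Clm := ⟨10, 6, true, [1,5,12,11,13,12,8,13,4,12,4,10,4,3], [3,10,12,13,10,12,13,10,12,13,2,11,13,12,4,7,5], 5, [([], 4760, [])], []⟩
def c4762 : Clm := ⟨6, 10, true, [8,10,13,5,12,13,10,2,4,12,13,2,7,9], [1,5,12,11,13,12,8,13,4,12,4,10,4,3], 5, [([], 4761, [])], []⟩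
def c4763 : Clm := ⟨6, 10, true, [5,8,11,13,12,9,11,2,4,6,5,6,13,12,6], [1,13,12,9,11,13,12,11,4,5,10,12,4,6], 11, [([], 2602, [12,8,11,13,5,12,13,10]), ([370], 4555, [8,13,5,13,12,9,13,10,12]), ([9098,9098,9098,9098,9085,9099], 4573, [5,12,11,12,9,12,13])], []⟩
def c4764 : Clm := ⟨10, 6, true, [11,12,9,11,5,12,13,5,4,10,12,13,4,6], [5,8,11,13,12,9,11,2,4,6,5,6,13,12,6], 5, [([], 4763, [])], []⟩
def c4765 : Clm := ⟨6, 10, true, [8,10,13,5,12,13,10,12,2,4,5,12,11], [1,10,12,8,13,12,11,10,4,5,10,12,4,6], 11, [([], 2787, [8,13,10,11,12,8,13]), ([370], 4564, [5,9,10,11,12,8,11]), ([9098,9085,9099,9087,9098], 4573, [5,12,11,13,12,8,13,12,13])], []⟩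
def c4766 : Clm := ⟨10, 6, true, [3,5,12,8,13,4,10,12,13,4,6], [8,10,13,5,12,13,10,12,2,4,5,12,11], 5, [([], 4765, [])], []⟩
def c4767 : Clm := ⟨6, 10, true, [3,8,13,5,10,12,13,12,2,4,3,13,12,13], [1,8,12,11,5,12,13,2,4,5,12,11,10], 11, [([], 2494, [3,9,13,12,8,13,10,12,9]), ([372], 4555, [8,13,10,11,12,9,11,12]), ([9098,9084,9099,9087,9098], 4573, [12,11,12,8,12,13,5,10])], []⟩
def c4768 : Clm := ⟨10, 6, true, [1,10,11,12,9,11,13,10,12,2,4,7,13,6,9], [3,8,13,5,10,12,13,12,2,4,3,13,12,13], 5, [([], 4767, [])], []⟩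
def c4769 : Clm := ⟨6, 10, true, [3,8,13,5,10,12,13,12,2,1,4,13,12,13], [1,10,11,12,9,11,13,10,12,2,4,7,13,6,9], 5, [([], 4768, [])], []⟩
def c4770 : Clm := ⟨6, 10, true, [8,12,8,11,3,13,12,9,2,4,13,5,7,7,13], [3,5,8,4,12,4,10,4], 11, [([], 2523, [9,11,3,12,9,11,12,11]), ([372], 4558, [11,12,9,11,12,8,13]), ([9087,9099,9087,9098,9085,9098], 4573, [8,11,3,12])], []⟩
def c4771 : Clm := ⟨10, 6, true, [3,9,12,11,5,12,9,4,12,4,10,4,3], [8,12,8,11,3,13,12,9,2,4,13,5,7,7,13], 5, [([], 4770, [])], []⟩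
def c4772 : Clm := ⟨6, 10, true, [3,12,9,11,12,13,10,11,12,2,1,13,6,5,4,8,10], [11,12,9,13,10,12,8,13,2,4,5,6,11,12,4], 17, [([], 4561, [10,13,12,11,10,12,9]), ([9099,9087,9098,9084,9098,9098], 4573, [10,13,3,10]), ([9176,9176,9140], 4722, [10,13,5,11])], []⟩
def c4773 : Clm := ⟨10, 6, true, [11,5,10,12,11,12,13,10,2,4,7,13,12,4,10], [3,12,9,11,12,13,10,11,12,2,1,13,6,5,4,8,10], 5, [([], 4772, [])], []⟩
def c4774 : Clm := ⟨6, 10, true, [3,5,8,12,13,12,11,2,13,4,12,7,13,12], [5,12,13,3,12,8,2,4,12,11,10], 11, [([], 2814, [5,11,5,12,11,10,12,8]), ([372], 4546, [3,10,12,13,10,12,13,12,9]), ([9098,9098,9098,9084,9099], 4573, [12,11,10,12,8,12])], []⟩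
def c4775 : Clm := ⟨10, 6, true, [5,12,13,3,12,8,2,4,3,12,11,10], [3,5,8,12,13,12,11,2,13,4,12,7,13,12], 5, [([], 4774, [])], []⟩
def c4776 : Clm := ⟨6, 10, true, [11,3,12,8,13,12,13,10,11,2,6,13,2,12,11,10], [5,12,13,3,12,8,2,4,3,12,11,10], 5, [([], 4775, [])], []⟩
def c4777 : Clm := ⟨6, 10, true, [1,8,13,12,13,5,2,4,3,6,12,13,6,9], [11,12,11,13,5,12,8,11,2,4,12,11,10], 11, [([], 2572, [10,11,12,8,11,12,13,10]), ([373,370], 4546, [11,3,10,12,8,13,12,9,11]), ([9098,9098,9087,9084,9099], 4573, [13,12,11,12,8,12,13,10])], []⟩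
def c4778 : Clm := ⟨10, 6, true, [11,12,11,13,5,12,8,11,2,4,3,12,11,10], [1,8,13,12,13,5,2,4,3,6,12,13,6,9], 5, [([], 4777, [])], []⟩
def c4779 : Clm := ⟨10, 6, true, [8,13,3,5,10,12,9,11,2,13,2,13,6,9,12,11], [1,12,13,5,10,12,13,5,2,1,4,5,7,5], 17, [([], 4737, [1,9,11,12,8,13,12]), ([9085,9098,9098], 4573, [3,13,12,8,13,12,8,13]), ([9176,9176,9140,9138], 4690, [9,10,12,11,10,12,13,5,10])], []⟩
def c4780 : Clm := ⟨6, 10, true, [1,12,13,5,10,12,13,5,2,4,3,5,7,5], [8,13,3,5,10,12,9,11,2,13,2,13,6,9,12,11], 5, [([], 4779, [])], []⟩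
def c4781 : Clm := ⟨10, 10, true, [1,5,9,11,10,2,4,7,12,7,13,3], [3,13,12,9,13,12,11,4,5,10,12,4,6], 11, [([], 4780, [8,10,12,9,11,12,11]), ([373], 4558, [9,10,13,12,9,11,12,13]), ([9084,9099,9085,9098], 4573, [3,11,12,8,13,12,8])], []⟩
def c4782 : Clm := ⟨10, 10, true, [5,8,13,3,12,8,11,4,10,12,13,4,6], [1,5,9,11,10,2,4,7,12,7,13,3], 5, [([], 4781, [])], []⟩
def c4783 : Clm := ⟨10, 10, true, [1,5,9,11,10,2,1,4,7,12,7,13], [5,8,13,3,12,8,11,4,10,12,13,4,6], 5, [([], 4782, [])], []⟩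
def c4784 : Clm := ⟨10, 6, true, [1,12,13,10,12,11,12,2,6,11,10,12,11,2], [8,12,9,13,12,2,4,6,5,6,13,12], 17, [([], 4737, [1,12,9,11,13]), ([9087,9098,9087,9084,9098,9098], 4573, [3,8,11,13,10,12,13,10,12]), ([9176,9140,9176], 4655, [1,12,13,5,10,13,12])], []⟩
def c4785 : Clm := ⟨6, 10, true, [8,12,9,13,12,2,4,3,6,5,6,13,12], [1,12,13,10,12,11,12,2,6,11,10,12,11,2], 5, [([], 4784, [])], []⟩
def c4786 : Clm := ⟨10, 6, true, [1,10,11,12,13,10,12,8,2,4,5,12,11,13,7,8], [3,9,11,12,9,11,10,13,2,13,12,6,13], 11, [([], 4697, [5,9,11,12,13,10,12,8]), ([], 4573, [1,3,10,12]), ([9177,9138], 4776, [12,13,10,13,12,11])], []⟩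
def c4787 : Clm := ⟨6, 10, true, [3,11,10,12,8,12,11,2,13,12,6,13], [1,10,11,12,13,10,12,8,2,4,5,12,11,13,7,8], 5, [([], 4786, [])], []⟩
def c4788 : Clm := ⟨10, 6, true, [8,12,11,3,5,12,9,2,7,13,2,6,9,13], [9,11,3,12,8,13,10,2,4,5,13,7,5,9], 11, [([], 4697, [9,11,5,11,12,13,10,12,8]), ([], 4573, [3,10,12]), ([], 4769, [5,9,10,13,3,12,9,11,10])], []⟩
def c4789 : Clm := ⟨6, 10, true, [9,11,3,12,8,13,2,1,13,4,5,7,5,9], [8,12,11,3,5,12,9,2,7,13,2,6,9,13], 5, [([], 4788, [])], []⟩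
def c4790 : Clm := ⟨10, 6, true, [10,11,10,12,9,11,12,8,2,4,6,13,5,6,9,13], [9,11,3,12,8,13,2,1,13,4,5,7,5,9], 5, [([], 4789, [])], []⟩
def c4791 : Clm := ⟨6, 10, true, [3,9,11,13,12,9,11,13,12,2,7,11,12,13,4,12,13], [8,13,12,9,12,11,4,5,7,10,12,4], 13, [([], 2526, [1,10,12,9,13,10,12,8,11]), ([], 4558, [1,5,9,11,13,10,12,11]), ([9087,9084,9099,9087,9098], 4573, [1,5,11,13,12])], []⟩
def c4792 : Clm := ⟨10, 6, true, [9,11,13,10,12,13,12,8,2,6,6,13,5,7,10], [3,9,11,13,12,9,11,13,12,2,7,11,12,13,4,12,13], 5, [([], 4791, [])], []⟩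
def c4793 : Clm := ⟨10, 10, true, [3,12,9,13,12,11,10,2,4,5,7,13,10], [3,5,9,13,12,8,11,4,5,7,10,12,4], 13, [([], 4789, [3,12,8,12,13,12,9,13,10]), ([372], 4558, [12,9,13,10,13,10]), ([9087,9084,9099,9087,9098], 4573, [5,13,3,12])], []⟩
def c4794 : Clm := ⟨10, 10, true, [1,5,9,10,12,11,5,12,8,2,6,6,13,5,7,10], [3,12,9,13,12,11,10,2,4,5,7,13,10], 5, [([], 4793, [])], []⟩
def c4795 : Clm := ⟨10, 10, true, [12,9,13,3,12,2,1,4,13,7,5,11], [1,5,9,10,12,11,5,12,8,2,6,6,13,5,7,10], 5, [([], 4794, [])], []⟩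
def c4796 : Clm := ⟨6, 10, true, [1,9,12,11,10,13,12,8,12,2,7,9,13,10,13,6], [11,12,8,13,12,13,12,9,4,6,10,12,4,9], 13, [([], 2787, [12,11,13,12,8,13]), ([370], 4564, [9,11,13,10,12,9,11]), ([9099,9084,9098,9084,9098,9098], 4573, [3,12,11,13,12,9,12,13])], []⟩
def c4797 : Clm := ⟨10, 6, true, [10,13,3,5,12,9,11,10,4,12,4,10,13,4], [1,9,12,11,10,13,12,8,12,2,7,9,13,10,13,6], 5, [([], 4796, [])], []⟩
def c4798 : Clm := ⟨6, 10, true, [5,8,13,5,12,9,13,10,2,11,12,11,2,13,6], [8,12,11,5,10,12,9,11,2,4,12,11,13,5,7], 13, [([], 4564, [9,11,3,10,12,13,12,9]), ([9099,9084,9098,9084,9098,9098], 4573, [11,12,13,12,9,12,11]), ([9176,9176,9138], 4686, [3,8,11,13,12,11,12,8])], []⟩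
def c4799 : Clm := ⟨10, 6, true, [8,12,11,5,10,12,9,11,2,1,4,5,12,11,13,7], [5,8,13,5,12,9,13,10,2,11,12,11,2,13,6], 5, [([], 4798, [])], []⟩
def c4800 : Clm := ⟨6, 10, true, [1,10,12,8,12,13,12,9,13,2,4,6,13,5,7], [3,10,11,12,9,11,13,2,11,5,4,12,13,4], 13, [([], 4555, [8,11,10,12,13,5,12]), ([9099,9099,9086,9099], 4573, [1,11,13,10,12,11,12]), ([9176,9176,9138], 4686, [5,8,11,12,11,13,5,12,11])], []⟩
def c4801 : Clm := ⟨10, 6, true, [13,5,10,13,12,8,11,13,2,6,13,4,6,8,12,4], [1,10,12,8,12,13,12,9,13,2,4,6,13,5,7], 5, [([], 4800, [])], []⟩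
def c4802 : Clm := ⟨6, 10, true, [1,9,10,11,13,12,9,11,13,2,1,13,4,6,13], [3,9,13,12,9,13,12,8,2,4,13,12,13,2,11,13], 45, [([], 4558, [5,8,10,13,3,5,12,9]), ([9087,9098,9098,9084,9098], 4573, [1,3,10]), ([9177,9141,9176,9140], 4795, [10,11,10,12,13,5,10])], []⟩
def c4803 : Clm := ⟨10, 6, true, [1,8,11,13,12,8,13,12,13,2,13,12,13,2,1,13,4], [1,9,10,11,13,12,9,11,13,2,1,13,4,6,13], 5, [([], 4802, [])], []⟩
def c4804 : Clm := ⟨6, 10, true, [1,8,11,5,12,9,13,5,10,2,4,12,4,13,2,12,13], [11,10,13,12,9,12,11,10,2,7,13,2,7,11], 45, [([], 4561, [1,12,11,13,12,9,13,5]), ([9099,9085,9099,9099], 4573, [1,8,13,10,13,12,9,13]), ([9177,9141,9176,9141], 4783, [1,10,11,12,11,10])], []⟩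
def c4805 : Clm := ⟨10, 6, true, [8,12,11,3,5,10,12,8,2,7,13,2,4,7], [1,8,11,5,12,9,13,5,10,2,4,12,4,13,2,12,13], 5, [([], 4804, [])], []⟩
def c4806 : Clm := ⟨6, 10, true, [9,10,11,12,8,2,11,12,4,3,7], [8,10,13,5,12,11,12,9,2,1,4,6,6,12,11], 11, [([], 4706, [9,10,12,11,12,8,13]), ([9177,9140,9176], 4572, [3,13,12,11,12,8,12,13]), ([9098,9087,9098,9086,9099,9085], 4736, [5,13,10,12,8,11,12,11])], []⟩
def c4807 : Clm := ⟨10, 6, true, [8,10,13,5,12,11,12,9,2,4,6,6,12,11,3], [9,10,11,12,8,2,11,12,4,3,7], 5, [([], 4806, [])], []⟩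
def c4808 : Clm := ⟨6, 10, true, [12,8,13,5,13,12,9,2,13,7,5,4,8], [5,13,5,12,11,12,9,2,6,9,13,7,5,4], 9, [([], 4576, [1,3,5,8,12]), ([9177,9141,9176,9141], 4762, [5,10,11,5,12,11,10,12,8]), ([372], 4700, [3,12,9,13,12,13,10])], []⟩
def c4809 : Clm := ⟨10, 6, true, [3,11,5,12,9,13,2,6,9,13,7,13,12,4], [12,8,13,5,13,12,9,2,13,7,5,4,8], 5, [([], 4808, [])], []⟩
def c4810 : Clm := ⟨6, 10, true, [12,8,13,5,13,12,9,12,2,13,7,13,12,4,8], [3,11,5,12,9,13,2,6,9,13,7,13,12,4], 5, [([], 4809, [])], []⟩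
def c4811 : Clm := ⟨10, 6, true, [13,3,12,8,13,10,13,2,4,3,7,13,12,4], [5,12,11,5,12,9,2,4,12,13,7,12,7], 15, [([], 4732, [3,8,12,13,10,12]), ([373], 4576, [8,10,11,3,13,12]), ([9141,9177,9140], 4680, [5,12,8,13,10,12,11,10])], []⟩
def c4812 : Clm := ⟨6, 10, true, [5,12,11,5,10,2,4,3,12,9,11,12,4], [13,3,12,8,13,10,13,2,4,3,7,13,12,4], 5, [([], 4811, [])], []⟩
def c4813 : Clm := ⟨10, 6, true, [13,3,12,8,13,10,13,2,4,7,13,3,12,4,3], [5,12,11,5,10,2,4,3,12,9,11,12,4], 5, [([], 4812, [])], []⟩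
def c4814 : Clm := ⟨10, 6, true, [8,10,11,12,13,10,12,9,2,4,6,12,8,13,5,13], [8,12,13,12,8,13,10,13,2,4,5,7,7], 15, [([], 4624, [8,11,5,11,12,11,10,12]), ([372,370], 4576, [1,13,10,13,10,12]), ([9140], 4655, [12,8,11,12,8,11,5,12])], []⟩
def c4815 : Clm := ⟨6, 10, true, [8,12,13,12,8,13,10,13,4,5,7,7,10,2], [8,10,11,12,13,10,12,9,2,4,6,12,8,13,5,13], 5, [([], 4814, [])], []⟩
def c4816 : Clm := ⟨6, 10, true, [8,11,13,10,12,8,2,13,6,6,12,4], [8,12,8,13,3,12,11,2,13,7,12,11], 13, [([], 4576, [1,3,10,12]), ([9140], 4655, [1,9,10,13,5,10,12,13,10]), ([372,370], 4778, [1,5,13,5,12,8])], []⟩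
def c4817 : Clm := ⟨10, 6, true, [8,12,8,13,3,12,11,10,2,13,7,12,11], [8,11,13,10,12,8,2,13,6,6,12,4], 5, [([], 4816, [])], []⟩
def c4818 : Clm := ⟨10, 6, true, [8,11,12,13,10,11,2,1,13,2,1], [8,12,11,12,9,11,2,6,13,2,12,13,4,12], 15, [([], 4575, [9,10,13,10,12,11]), ([373], 4576, [8,13,3,10,13,12]), ([], 4672, [1,12,8,11,12,8,11,5,12])], []⟩
def c4819 : Clm := ⟨6, 10, true, [9,11,12,11,5,11,12,8,11,2,4,5,11,12,7,13,7], [8,11,12,13,10,11,2,1,13,2,1], 5, [([], 4818, [])], []⟩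
def c4820 : Clm := ⟨6, 10, true, [1,12,11,10,4,5,7,9,10,2], [3,5,12,8,11,12,8,13,10,2,11,5,12,7,11,13,2], 13, [([], 4576, [13,3,10,12]), ([], 4680, [5,8,12,11,5,12,9]), ([], 4813, [3,8,11,13,12,11,12])], []⟩
def c4821 : Clm := ⟨10, 6, true, [13,12,9,11,13,10,12,2,1,11,12,4,5,6,6], [1,12,11,10,4,5,7,9,10,2], 5, [([], 4820, [])], []⟩
def c4822 : Clm := ⟨6, 10, true, [3,10,11,12,9,11,13,10,4,6,10,2,12,9,12], [8,10,13,10,12,11,12,9,2,1,6,13,2,12,8,13], 13, [([], 4576, [3,8,10,13,10,13,12]), ([], 4672, [3,5,9,10,11,12,13,10]), ([372,370], 4790, [5,9,11,13,10])], []⟩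
def c4823 : Clm := ⟨10, 6, true, [1,8,10,13,10,12,2,6,13,6,5,4,10], [3,10,11,12,9,11,13,10,4,6,10,2,12,9,12], 5, [([], 4822, [])], []⟩
def c4824 : Clm := ⟨6, 10, true, [9,12,11,3,10,13,12,8,11,2,4,5,13,6,9,13,12], [3,12,13,10,13,2,4,12,11,5,10,12,4], 13, [([], 4576, [3,10,12,13,10]), ([9176,9176,9140], 4595, [1,10,12,13,10]), ([], 4607, [5,8,10,11,13,12,13,12,9])], []⟩
def c4825 : Clm := ⟨10, 6, true, [12,11,13,12,8,12,2,1,4,13,7,5,13,7,9], [9,12,11,3,10,13,12,8,11,2,4,5,13,6,9,13,12], 5, [([], 4824, [])], []⟩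
def c4826 : Clm := ⟨10, 6, true, [10,12,13,10,12,13,12,9,2,6,11,12,4,3,8], [12,11,5,4,10,2,12,4,10,12], 15, [([], 4680, [1,12,8,13,5,12,9,11,13]), ([372], 4576, [8,12,13,3,10,12]), ([], 4672, [1,9,11])], []⟩
def c4827 : Clm := ⟨6, 10, true, [1,11,13,12,9,11,10,13,2,7,13,2,6,12,8], [10,12,13,10,12,13,12,9,2,6,11,12,4,3,8], 5, [([], 4826, [])], []⟩
def c4828 : Clm := ⟨10, 6, true, [8,11,3,10,12,13,2,13,4,10], [3,8,12,9,13,10,12,11,2,4,5,13,7,5,13,6], 15, [([], 4575, [3,9,10,13,10,12]), ([372], 4576, [3,8,13,10,13,12]), ([], 4672, [13,12,8,11,12,8,11,5,12])], []⟩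
def c4829 : Clm := ⟨6, 10, true, [3,8,12,9,13,10,12,8,11,2,4,12,9,13,5,13,12], [8,11,3,10,12,13,2,13,4,10], 5, [([], 4828, [])], []⟩
def c4830 : Clm := ⟨6, 10, true, [8,12,8,13,5,13,12,9,2,1,6,9,13,7,5,4], [1,12,8,12,13,5,10,12,8,2,13,6,5,6,8,10], 13, [([], 4576, [9,10,13,3,5,12]), ([9140,9176,9141], 4652, [1,12,11,12,8,12,13,10,11]), ([96,171,98], 4711, [1,8,12,11,5,11,12,11,10])], []⟩
def c4831 : Clm := ⟨10, 6, true, [1,9,11,13,12,9,13,12,9,2,1,6,13,6,10,12,4], [8,12,8,13,5,13,12,9,2,1,6,9,13,7,5,4], 5, [([], 4830, [])], []⟩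
def c4832 : Clm := ⟨6, 10, true, [8,12,8,13,5,13,12,9,2,6,9,13,7,5,4,3], [1,9,11,13,12,9,13,12,9,2,1,6,13,6,10,12,4], 5, [([], 4831, [])], []⟩
def c4833 : Clm := ⟨6, 10, true, [12,8,11,13,10,12,9,2,13,5,7,9,10], [12,13,10,12,11,4,6,5,8,10,4], 13, [([], 4576, [1,3,5,10]), ([9176,9176,9140], 4613, [1,13,10,11]), ([372], 4706, [9,11,12,13,12,9,13,10])], []⟩
def c4834 : Clm := ⟨10, 6, true, [1,5,10,11,12,8,13,2,7,7,13,5,10], [12,8,11,13,10,12,9,2,13,5,7,9,10], 5, [([], 4833, [])], []⟩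
def c4835 : Clm := ⟨6, 10, true, [1,9,11,5,10,12,11,12,8,4,5,6,9,10,4], [1,5,10,11,12,8,13,2,7,7,13,5,10], 5, [([], 4834, [])], []⟩
def c4836 : Clm := ⟨6, 10, true, [1,9,12,11,13,5,12,8,2,1,13,5,7,5,4,9], [3,10,12,11,2,11,5,4,12,11,10], 13, [([], 4576, [3,5,11,12,13,10]), ([], 4595, [3,10,13,12,13,10]), ([], 4607, [13,5,12,11,10])], []⟩
def c4837 : Clm := ⟨10, 6, true, [1,5,12,13,5,2,1,13,2,12,11,10], [1,9,12,11,13,5,12,8,2,1,13,5,7,5,4,9], 5, [([], 4836, [])], []⟩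
def c4838 : Clm := ⟨10, 6, true, [3,5,8,11,12,8,13,12,13,2,6,13,7,13,5,4,6], [1,8,12,9,11,13,5,2,6,6,13,2,6,5,4], 15, [([], 4632, [1,5,12,13]), ([372,370], 4576, [9,13,3,10,12]), ([], 4668, [8,11,5,12,13,5,13,12])], []⟩
def c4839 : Clm := ⟨6, 10, true, [1,5,10,13,12,8,11,2,4,5,6,13,7,9,12], [3,5,8,11,12,8,13,12,13,2,6,13,7,13,5,4,6], 5, [([], 4838, [])], []⟩
def c4840 : Clm := ⟨6, 10, true, [3,12,9,13,10,12,13,10,2,4,13,7,12,4], [8,10,12,13,5,12,8,2,4,5,12,11,10], 11, [([], 3459, [13,3,12,11]), ([210,332,210,200], 1448, [5,11,5,12,11,10,12]), ([370], 4576, [9,13,3,5,10,12])], []⟩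
def c4841 : Clm := ⟨10, 6, true, [9,11,3,12,8,11,13,12,2,4,7,13,6,9], [3,12,9,13,10,12,13,10,2,4,13,7,12,4], 5, [([], 4840, [])], []⟩
def c4842 : Clm := ⟨6, 10, true, [1,12,9,13,10,13,12,11,2,7,9,13,2,4], [1,8,13,12,9,12,2,11,13,12,13,4], 11, [([], 2706, [3,5,12,11,12,13,10]), ([372], 1097, [8,12,9,11,10,12,8,13,5]), ([], 4576, [3,10,12,13,5,12])], []⟩
def c4843 : Clm := ⟨10, 6, true, [8,13,12,9,11,10,2,1,4,5,12,11,10], [1,12,9,13,10,13,12,11,2,7,9,13,2,4], 5, [([], 4842, [])], []⟩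
def c4844 : Clm := ⟨6, 10, true, [5,12,8,13,12,9,11,2,6,13,2,12,13,12], [3,12,13,10,11,12,9,11,5,2,4,6,13,3,7,13], 11, [([], 2037, [5,8,12,9,11,3]), ([], 2887, [1,8,10,11,12,11,12,8]), ([], 4576, [3,12,9,11,10,13,12])], []⟩
def c4845 : Clm := ⟨10, 6, true, [3,12,13,10,11,12,9,11,5,2,4,6,13,7,13], [5,12,8,13,12,9,11,2,6,13,2,12,13,12], 5, [([], 4844, [])], []⟩
def c4846 : Clm := ⟨6, 10, true, [1,5,8,13,12,8,13,12,2,13,4,12,13,4,12], [3,10,11,13,12,9,11,12,4,5,10,12,4,6], 11, [([], 2976, [10,11,5,12,9,11,12]), ([372,370], 3051, [12,13,12,9,11,12,8,11,10]), ([372], 4576, [1,9,11,5,12,13])], []⟩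
def c4847 : Clm := ⟨10, 6, true, [12,9,11,13,5,10,12,4,10,12,13,4,6], [1,5,8,13,12,8,13,12,2,13,4,12,13,4,12], 5, [([], 4846, [])], []⟩
def c4848 : Clm := ⟨6, 10, true, [9,12,8,13,10,13,12,13,5,2,13,6,9,10,13,2], [10,11,5,12,11,12,8,2,4,12,11,3,10], 11, [([], 1569, [11,10,12,8,13,5,12]), ([370], 1258, [1,9,12,13,12,9,12,11]), ([372], 4576, [1,8,13,10,12,11,5])], []⟩
def c4849 : Clm := ⟨10, 6, true, [10,11,5,12,11,12,8,2,1,4,12,11,10], [9,12,8,13,10,13,12,13,5,2,13,6,9,10,13,2], 5, [([], 4848, [])], []⟩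
def c4850 : Clm := ⟨6, 10, true, [5,9,10,11,5,12,11,10,2,4,5,6,5,13,12], [5,8,11,12,9,11,10,2,4,12,11,3,10], 11, [([], 3039, [3,10,12,8,11,12,11]), ([370], 3648, [3,9,10,13,12,11]), ([], 4576, [5,13,3,5,10,12,11,12])], []⟩
def c4851 : Clm := ⟨10, 6, true, [5,8,11,12,9,11,10,2,1,4,12,11,10], [5,9,10,11,5,12,11,10,2,4,5,6,5,13,12], 5, [([], 4850, [])], []⟩
def c4852 : Clm := ⟨6, 10, true, [3,8,10,12,9,11,13,12,2,7,7,13,4,7,12,9], [1,5,8,11,5,12,9,11,10,2,4,12,11,3,10], 11, [([], 1336, [10,12,8,11,12,9,13,12]), ([373], 1520, [5,9,12,8,11,5,10,12,13]), ([372,370], 4576, [3,10,12,11,12])], []⟩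
def c4853 : Clm := ⟨10, 6, true, [1,5,8,11,5,12,9,11,10,2,1,4,12,11,10], [3,8,10,12,9,11,13,12,2,7,7,13,4,7,12,9], 5, [([], 4852, [])], []⟩
def c4854 : Clm := ⟨5, 10, true, [5,8,13,12,9,13,12,11,2,7,13,2,6,8,11], [5,10,12,11,12,8,13,4,12,4,10,4], 11, [([], 663, [10,11,12,8,12,11,12,11,10]), ([373], 3103, [8,12,11,3,5,10,12,8]), ([], 4576, [1,8,12,13])], []⟩
def c4855 : Clm := ⟨10, 5, true, [8,13,3,10,12,11,10,4,12,4,10,4,3], [5,8,13,12,9,13,12,11,2,7,13,2,6,8,11], 5, [([], 4854, [])], []⟩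
def c4856 : Clm := ⟨6, 10, true, [9,12,8,13,10,12,13,2,11,12,7,8,13,2,13], [9,13,12,8,11,10,2,4,12,11,3,10], 11, [([], 2706, [11,13,10,12,11,13,12]), ([372], 1097, [10,11,12,8,13,12,11,10]), ([370], 4576, [10,12,11,3,5,12])], []⟩
def c4857 : Clm := ⟨10, 6, true, [9,13,12,8,11,10,2,1,4,12,11,10], [9,12,8,13,10,12,13,2,11,12,7,8,13,2,13], 5, [([], 4856, [])], []⟩
def c4858 : Clm := ⟨4, 10, true, [3,8,10,12,11,13,12,9,2,1,6,13,7,13,4], [3,9,10,13,5,12,11,12,8,4,12,4,10,4], 11, [([], 4112, [1,10,12,13,10,12,8,13]), ([8114,8114], 4478, [1,8,10,11,12,9,11,10,13]), ([373], 4576, [5,13,5,13,12,13])], []⟩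
def c4859 : Clm := ⟨10, 4, true, [13,12,13,5,10,11,4,12,4,10,4,3], [3,8,10,12,11,13,12,9,2,1,6,13,7,13,4], 5, [([], 4858, [])], []⟩
def c4860 : Clm := ⟨6, 10, true, [5,8,13,10,12,8,2,7,13,7,10,12,9], [1,8,10,12,9,11,12,4,5,10,12,4,6], 11, [([], 1727, [3,12,11,5,10,12,8,11]), ([370], 2258, [12,13,10,12,11,13,5]), ([372], 4576, [1,5,13,12,13])], []⟩
def c4861 : Clm := ⟨10, 6, true, [1,9,11,12,13,10,13,12,8,11,4,10,12,13,4,6], [5,8,13,10,12,8,2,7,13,7,10,12,9], 5, [([], 4860, [])], []⟩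
def c4862 : Clm := ⟨6, 10, true, [1,9,10,13,5,12,13,10,12,2,1,6,9,13,12,7], [3,9,10,13,10,13,12,8,2,11,13,12,13,4], 11, [([], 854, [8,11,12,9,12]), ([], 3486, [1,5,9,13,12,8,11,10]), ([370], 4576, [3,13,5,10,12,11,12])], []⟩
def c4863 : Clm := ⟨10, 6, true, [5,8,11,10,12,9,11,10,2,1,4,5,12,11,10], [1,9,10,13,5,12,13,10,12,2,1,6,9,13,12,7], 5, [([], 4862, [])], []⟩
def c4864 : Clm := ⟨6, 10, true, [5,8,11,10,12,9,11,12,11,2,4,5,13,7,12,13], [5,8,10,12,11,12,8,4,12,4,10,4], 11, [([], 3462, [3,8,13,10,11,12,9,11,13]), ([], 692, [1,9,10,12,11,10,12,13]), ([373], 4576, [5,9,12,11,3,5])], []⟩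
def c4865 : Clm := ⟨10, 6, true, [9,13,3,5,12,11,10,4,12,4,10,4,3], [5,8,11,10,12,9,11,12,11,2,4,5,13,7,12,13], 5, [([], 4864, [])], []⟩
def c4866 : Clm := ⟨6, 10, true, [8,11,10,13,12,9,13,10,2,11,5,6,13,6], [8,13,3,5,12,11,10,2,4,12,11,3,10], 11, [([], 2832, [1,9,12,13,10,11,12,13]), ([372,370], 2807, [3,8,10,12,8,13,12,11,10]), ([372], 4576, [3,8,12,11,5,10,13])], []⟩
def c4867 : Clm := ⟨10, 6, true, [8,13,3,5,12,11,10,2,1,4,12,11,10], [8,11,10,13,12,9,13,10,2,11,5,6,13,6], 5, [([], 4866, [])], []⟩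
def c4868 : Clm := ⟨7, 10, true, [1,13,10,12,13,10,12,13,2,4,13,12,11,2,3,13], [5,11,3,5,12,11,10,2,4,12,11,10], 11, [([], 3992, [3,11,10,12,8,11,13,5]), ([], 568, [1,5,9,10,13,12,9]), ([373,370], 4576, [13,3,12,13,10])], []⟩
def c4869 : Clm := ⟨10, 7, true, [5,11,3,5,12,11,10,2,4,3,12,11,10], [1,13,10,12,13,10,12,13,2,4,13,12,11,2,3,13], 5, [([], 4868, [])], []⟩
def c4870 : Clm := ⟨6, 10, true, [1,5,8,12,11,5,12,8,13,2,11,12,4,12,6,13], [9,10,12,13,5,12,8,13,2,4,5,12,11,10], 11, [([], 2564, [1,10,12,9,13,12,9]), ([], 2848, [1,10,13,5,10,12,13]), ([372,370], 4576, [3,5,11,10,12])], []⟩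
def c4871 : Clm := ⟨10, 6, true, [1,11,12,8,11,13,5,10,12,2,4,7,13,6,9], [1,5,8,12,11,5,12,8,13,2,11,12,4,12,6,13], 5, [([], 4870, [])], []⟩
def c4872 : Clm := ⟨6, 10, true, [3,13,10,13,2,1,7,13,2,6,5,9], [5,9,10,13,12,13,12,9,2,4,12,11,10], 11, [([], 3334, [3,13,12,8,11,10]), ([370], 3295, [1,9,13,10,12,11,13,12]), ([373], 4576, [3,5,8,10,11,13,12])], []⟩
def c4873 : Clm := ⟨10, 6, true, [5,9,10,13,12,13,12,9,2,4,3,12,11,10], [3,13,10,13,2,1,7,13,2,6,5,9], 5, [([], 4872, [])], []⟩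
def c4874 : Clm := ⟨6, 10, true, [10,12,13,12,8,12,13,2,4,5,12,13,7,5], [5,8,10,12,11,12,8,2,4,5,12,11,10], 11, [([], 906, [5,13,12,13,12,8]), ([372,370], 3652, [1,12,8,11,12,9]), ([373], 4576, [1,3,5,9,10,12])], []⟩
def c4875 : Clm := ⟨10, 6, true, [5,8,13,12,9,12,11,13,12,2,4,7,13,6,9], [10,12,13,12,8,12,13,2,4,5,12,13,7,5], 5, [([], 4874, [])], []⟩
def c4876 : Clm := ⟨6, 10, true, [1,5,10,12,8,13,5,2,4,12,7,13,2,7,5], [1,13,12,13,5,10,2,4,5,12,11,10], 11, [([], 3271, [8,12,9,13,5,10,12,13,5]), ([372], 2651, [13,12,13,10,13,12]), ([373], 4576, [3,5,11,12,13,10])], []⟩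
def c4877 : Clm := ⟨10, 6, true, [3,5,11,10,12,8,2,4,7,13,6,9], [1,5,10,12,8,13,5,2,4,12,7,13,2,7,5], 5, [([], 4876, [])], []⟩
def c4878 : Clm := ⟨6, 10, true, [12,13,10,2,1,13,2,7,13,6,12], [5,10,12,13,3,12,9,2,4,12,11,10], 11, [([], 3994, [5,8,12,13,10,12,9,12,11]), ([7412,7427,7412,7390], 3718, [1,9,10,13,12,11,10,13,12,11]), ([373,370], 4576, [9,13,3,10,12])], []⟩
def c4879 : Clm := ⟨10, 6, true, [5,10,12,13,3,12,9,2,4,3,12,11,10], [12,13,10,2,1,13,2,7,13,6,12], 5, [([], 4878, [])], []⟩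
def c4880 : Clm := ⟨6, 10, true, [9,12,13,12,8,13,5,2,4,7,5,13,7,13,7], [5,11,13,10,12,9,11,12,4,5,10,12,4,6], 11, [([], 1217, [1,9,13,12,11,13,10]), ([], 2389, [3,8,10,11,13,12,13]), ([372,370], 4576, [1,9,13,5,12,13])], []⟩
def c4881 : Clm := ⟨10, 6, true, [10,12,9,11,3,13,12,4,10,12,13,4,6], [9,12,13,12,8,13,5,2,4,7,5,13,7,13,7], 5, [([], 4880, [])], []⟩
def c4882 : Clm := ⟨6, 10, true, [12,11,12,9,11,10,13,12,2,4,3,13,6,12,6], [1,10,12,13,10,12,8,13,10,12,2,11,13,12,13,4], 11, [([], 569, [3,10,12,13,12,9,12,13]), ([], 3195, [1,8,12,8,11,5,11,12,11,13]), ([], 4576, [3,8,10,12,13,5])], []⟩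
def c4883 : Clm := ⟨10, 6, true, [5,10,12,11,12,8,13,2,1,4,5,12,11,10], [12,11,12,9,11,10,13,12,2,4,3,13,6,12,6], 5, [([], 4882, [])], []⟩
def c4884 : Clm := ⟨6, 10, true, [1,12,8,12,11,13,12,13,2,6,13,12,4,5,11,12], [1,8,11,5,12,11,13,2,4,13,3], 11, [([], 1954, [3,10,11,10,12,8,13,5]), ([], 3680, [1,5,10,13,5,12,9,13,10]), ([], 4576, [8,13,10,13,10,12])], []⟩
def c4885 : Clm := ⟨10, 6, true, [1,8,11,5,12,11,13,2,1,4,13], [1,12,8,12,11,13,12,13,2,6,13,12,4,5,11,12], 5, [([], 4884, [])], []⟩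
def c4886 : Clm := ⟨6, 10, true, [8,12,9,13,12,11,10,12,13,2,11,12,13,10,2,4], [8,10,11,5,13,12,8,4,5,10,12,4,6], 11, [([], 2582, [1,11,12,8,11,12,8,11,5,10]), ([370], 3126, [3,8,12,8,11,13,12,13]), ([370], 4576, [9,13,3,5,12])], []⟩
def c4887 : Clm := ⟨10, 6, true, [10,11,13,12,9,13,12,4,10,12,13,4,6], [8,12,9,13,12,11,10,12,13,2,11,12,13,10,2,4], 5, [([], 4886, [])], []⟩
def c4888 : Clm := ⟨6, 10, true, [3,5,10,11,12,8,11,12,2,4,7,13,12,7,13], [3,8,10,13,12,9,12,4,5,10,12,4,6], 11, [([], 3244, [1,5,11,5,12]), ([373], 526, [12,8,11,10,12,9,12]), ([370], 4576, [1,11,13,5,12])], []⟩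
def c4889 : Clm := ⟨10, 6, true, [1,10,12,8,13,12,9,11,4,10,12,13,4,6], [3,5,10,11,12,8,11,12,2,4,7,13,12,7,13], 5, [([], 4888, [])], []⟩
def c4890 : Clm := ⟨6, 10, true, [13,10,13,12,8,13,12,2,13,5,6,13,12], [5,8,12,9,11,5,11,12,2,1,6,11,12,13,2,3], 17, [([], 1451, [12,13,10,13,10,12,9,13]), ([373], 4576, [1,11,5]), ([], 4722, [13,3])], []⟩
def c4891 : Clm := ⟨10, 6, true, [1,12,8,12,11,5,10,2,6,13,4,12,6,9], [13,10,13,12,8,13,12,2,13,5,6,13,12], 5, [([], 4890, [])], []⟩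
def c4892 : Clm := ⟨6, 10, true, [3,12,13,10,13,12,8,2,13,4,6,13,2,12,6], [8,11,12,11,5,11,5,2,4,13,3], 11, [([373,370], 3639, [5,8,12,13,5,12,8,13]), ([373], 3441, [1,5,11,10,12,8,11,12]), ([373], 4576, [3,8,13,10,13,12])], []⟩
def c4893 : Clm := ⟨10, 6, true, [8,11,12,11,5,11,5,2,1,4,13], [3,12,13,10,13,12,8,2,13,4,6,13,2,12,6], 5, [([], 4892, [])], []⟩
def c4894 : Clm := ⟨6, 10, true, [1,5,11,12,8,11,10,12,2,1,13,4,6,13,2,13], [8,11,12,11,5,11,5,2,1,4,13], 5, [([], 4893, [])], []⟩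
def c4895 : Clm := ⟨6, 10, true, [10,12,8,13,5,2,1,6,9,13,2,6,5], [8,10,12,13,5,12,8,11,4,12,4,10,4], 11, [([], 3462, [13,10,11,12,11,13]), ([373], 2190, [10,13,3,12,8,13,12,9]), ([373], 4576, [1,9,13,5,12,11,5])], []⟩
def c4896 : Clm := ⟨10, 6, true, [1,5,9,11,10,12,11,10,4,12,4,10,4,3], [10,12,8,13,5,2,1,6,9,13,2,6,5], 5, [([], 4895, [])], []⟩
def c4897 : Clm := ⟨6, 10, true, [8,13,3,12,9,11,10,12,2,7,13,6,5,4,10], [1,5,8,11,10,12,9,2,11,13,12,13,4], 11, [([], 337, [13,10,12,9,12,11,12,8]), ([100,170], 687, [1,12,8,11,5,12,13,10]), ([370], 4576, [3,11,10,12,13,12])], []⟩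
def c4898 : Clm := ⟨10, 6, true, [9,13,12,8,13,5,10,13,2,1,4,5,12,11,10], [8,13,3,12,9,11,10,12,2,7,13,6,5,4,10], 5, [([], 4897, [])], []⟩
def c4899 : Clm := ⟨6, 10, true, [8,12,8,13,10,12,9,2,4,6,9,13,5,12,13], [11,12,8,11,13,10,12,9,2,11,13,12,13,4], 11, [([], 1701, [1,5,13,12,8,13,12,11,10]), ([], 2944, [11,10,12,11,13,12]), ([373,370], 4576, [3,10,12,13])], []⟩
def c4900 : Clm := ⟨10, 6, true, [3,8,10,12,11,5,12,9,2,1,4,5,12,11,10], [8,12,8,13,10,12,9,2,4,6,9,13,5,12,13], 5, [([], 4899, [])], []⟩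
def c4901 : Clm := ⟨5, 10, true, [5,10,12,9,11,3,12,9,13,2,1,7,13,4,5,6,13], [9,13,3,12,11,10,2,4,12,11,10], 11, [([], 2653, [12,8,13,12,9]), ([372,370], 1642, [9,13,12,9,13,12,11]), ([], 4576, [9,12,13,3,10])], []⟩
def c4902 : Clm := ⟨10, 5, true, [9,13,3,12,11,10,2,4,3,12,11,10], [5,10,12,9,11,3,12,9,13,2,1,7,13,4,5,6,13], 5, [([], 4901, [])], []⟩
def c4903 : Clm := ⟨5, 10, true, [3,5,8,12,11,12,13,2,7,13,2,6,11,13], [9,13,3,12,11,10,2,4,3,12,11,10], 5, [([], 4902, [])], []⟩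
def c4904 : Clm := ⟨6, 10, true, [3,12,11,10,13,12,2,4,6,12,6,13,10], [9,13,3,5,12,11,10,2,4,12,11,3,10], 11, [([], 3244, [13,5,12,8,11,12,11]), ([370], 1225, [1,9,11,5,12,13,5,10]), ([373,370], 4576, [3,9,12,11,5,10,13])], []⟩
def c4905 : Clm := ⟨10, 6, true, [9,13,3,5,12,11,10,2,1,4,12,11,10], [3,12,11,10,13,12,2,4,6,12,6,13,10], 5, [([], 4904, [])], []⟩
def c4906 : Clm := ⟨5, 10, true, [12,8,12,13,5,12,11,10,2,6,13,6,6,5,4], [9,11,12,11,13,10,2,4,3], 11, [([], 763, [3,9,11,5,12,11]), ([370], 2375, [1,11,10,12,9,11,12,9]), ([], 4576, [9,10,13,3,12,13])], []⟩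
def c4907 : Clm := ⟨10, 5, true, [9,11,12,11,13,10,2,1,4], [12,8,12,13,5,12,11,10,2,6,13,6,6,5,4], 5, [([], 4906, [])], []⟩
def c4908 : Clm := ⟨6, 10, true, [9,10,13,12,8,11,12,2,4,13,12,13,4,13], [3,11,12,8,11,13,10,12,9,2,11,13,12,13,4], 11, [([], 3395, [8,13,12,9,13,10]), ([373,370], 1810, [8,12,8,11,5]), ([373,370], 4576, [10,12,13,3])], []⟩
def c4909 : Clm := ⟨10, 6, true, [8,10,12,11,5,12,9,2,1,4,5,12,11,10], [9,10,13,12,8,11,12,2,4,13,12,13,4,13], 5, [([], 4908, [])], []⟩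
def c4910 : Clm := ⟨5, 10, true, [9,11,12,13,10,13,12,13,2,6,13,4,12,4,7], [1,11,12,9,11,13,12,8,2,4,3], 11, [([], 794, [9,13,5,10,11,12,8,11]), ([], 867, [3,8,10,13,12,9,13,5,10]), ([372,370], 4576, [5,12,13,3,5,10,12])], []⟩
def c4911 : Clm := ⟨10, 5, true, [1,11,12,9,11,13,12,8,2,1,4], [9,11,12,13,10,13,12,13,2,6,13,4,12,4,7], 5, [([], 4910, [])], []⟩
def c4912 : Clm := ⟨6, 10, true, [11,5,12,8,13,10,2,4,5,12,8,13,3,7,9], [9,10,12,13,5,12,8,2,4,5,12,11,10], 11, [([], 3586, [8,11,13,12,8,11,10]), ([373,370], 3375, [10,12,13,10,12,9,12,13]), ([], 4576, [13,3,5,10,12])], []⟩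
def c4913 : Clm := ⟨10, 6, true, [11,3,12,8,11,13,12,2,4,7,13,6,9], [11,5,12,8,13,10,2,4,5,12,8,13,3,7,9], 5, [([], 4912, [])], []⟩
def c4914 : Clm := ⟨8, 10, true, [3,9,13,10,11,12,8,11,13,2,4,5,12,13,3,7], [10,12,11,3,5,12,9,2,4,12,11,10], 11, [([], 4536, [9,10,13,10,12,11,10,12,13]), ([370], 1280, [5,8,10,13,3]), ([373], 4576, [3,9,11,10,12])], []⟩
def c4915 : Clm := ⟨10, 8, true, [10,12,11,3,5,12,9,2,4,3,12,11,10], [3,9,13,10,11,12,8,11,13,2,4,5,12,13,3,7], 5, [([], 4914, [])], []⟩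
def c4916 : Clm := ⟨10, 10, true, [5,13,3,5,10,12,11,12,9,2,4,3,12,13,6,9,10], [10,13,12,13,5,12,8,13,2,4,5,12,11,10], 11, [([], 4812, [1,10,11,12,8,13,12,9,13]), ([373], 2465, [8,13,12,8,13,12,8]), ([372,370], 4576, [5,8,13,3,10,12])], []⟩
def c4917 : Clm := ⟨10, 10, true, [5,8,13,12,8,11,13,12,2,4,7,13,6,9], [5,13,3,5,10,12,11,12,9,2,4,3,12,13,6,9,10], 5, [([], 4916, [])], []⟩
def c4918 : Clm := ⟨10, 10, true, [5,13,3,5,10,12,11,12,9,2,4,12,13,6,9,10], [5,8,13,12,8,11,13,12,2,4,7,13,6,9], 5, [([], 4917, [])], []⟩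
def c4919 : Clm := ⟨10, 10, true, [3,8,12,13,10,13,12,2,13,12,4,3,8], [13,5,2,4,3], 11, [([], 4626, [5,10,12,13,5,12,9,11]), ([372], 2468, [10,11,3,5,12,13,10]), ([], 4576, [13,3,10])], []⟩
def c4920 : Clm := ⟨10, 10, true, [13,5,2,1,4], [3,8,12,13,10,13,12,2,13,12,4,3,8], 5, [([], 4919, [])], []⟩
def c4921 : Clm := ⟨5, 10, true, [5,10,13,3,2,1,11,12,4,10,13,4], [1,11,12,8,11,5,11,12,9,2,11,13,12,13,4], 11, [([], 404, [8,12,9,11,5,11,12,13]), ([], 908, [3,11,13,10,12,13,12,8]), ([373,370], 4576, [3,10,11,13,5,12,13])], []⟩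
def c4922 : Clm := ⟨10, 5, true, [5,8,10,12,13,12,9,13,2,1,4,5,12,11,10], [5,10,13,3,2,1,11,12,4,10,13,4], 5, [([], 4921, [])], []⟩
def c4923 : Clm := ⟨5, 10, true, [1,13,5,13,2,13,12,13,2,13,5], [5,8,10,12,13,12,9,13,2,1,4,5,12,11,10], 5, [([], 4922, [])], []⟩
def c4924 : Clm := ⟨6, 10, true, [10,13,10,12,11,12,8,2,4,12,4,13,12,7], [5,8,10,11,12,11,12,8,4,12,4,10,4], 11, [([], 2371, [5,12,13,12,8,13,12,13]), ([], 692, [3,5,11,12,9,12]), ([], 4576, [1,5,9,12,11,5])], []⟩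
def c4925 : Clm := ⟨10, 6, true, [9,13,3,12,11,10,13,4,12,4,10,4,3], [10,13,10,12,11,12,8,2,4,12,4,13,12,7], 5, [([], 4924, [])], []⟩
def c4926 : Clm := ⟨6, 10, true, [13,3,12,8,2,13,2,6,11,13,10], [10,12,13,5,12,8,2,4,5,12,11,10], 11, [([], 981, [3,8,12,13,10,13,12,13]), ([373], 3162, [1,12,9,11,5,11,12,8]), ([372,370], 4576, [8,13,3,5,10,12])], []⟩
def c4927 : Clm := ⟨10, 6, true, [8,11,3,12,8,11,13,12,2,4,7,13,6,9], [13,3,12,8,2,13,2,6,11,13,10], 5, [([], 4926, [])], []⟩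
def c4928 : Clm := ⟨5, 10, true, [1,11,13,12,8,11,10,12,13,2,13,12,4,3,7], [1,8,10,13,5,4,12,4,10,4], 11, [([], 380, [11,3,12,13,10,11,12,9]), ([372], 2590, [12,9,11,13,12,8,11]), ([370], 4576, [1,8,13,12])], []⟩
def c4929 : Clm := ⟨10, 5, true, [1,5,9,10,11,12,13,12,9,4,12,4,10,4,3], [1,11,13,12,8,11,10,12,13,2,13,12,4,3,7], 5, [([], 4928, [])], []⟩
def c4930 : Clm := ⟨6, 10, true, [10,11,3,12,8,12,2,4,5,7,7,13,12], [5,8,10,11,12,11,12,8,13,4,12,4,10,4], 11, [([], 1038, [8,10,12,8,13,3,10]), ([372], 1903, [8,12,13,12,8]), ([372], 4576, [9,12,13,3])], []⟩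
def c4931 : Clm := ⟨10, 6, true, [9,13,3,12,11,10,4,12,4,10,4,3], [10,11,3,12,8,12,2,4,5,7,7,13,12], 5, [([], 4930, [])], []⟩
def c4932 : Clm := ⟨6, 10, true, [3,13,5,12,9,11,10,2,6,13,6,5,12], [1,8,11,13,10,12,13,12,9,4,12,4,10,4], 11, [([], 1653, [11,10,12,9,13,10,12,13]), ([], 1048, [5,13,5,12,8,11,12,13,10]), ([373,370], 4576, [1,5,12,13,5])], []⟩
def c4933 : Clm := ⟨10, 6, true, [5,10,11,13,4,12,4,10,4,3], [3,13,5,12,9,11,10,2,6,13,6,5,12], 5, [([], 4932, [])], []⟩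
def c4934 : Clm := ⟨6, 10, true, [5,9,10,12,8,11,13,2,1,7,13,12,7,11], [3,9,10,12,13,5,12,8,2,4,5,12,11,10], 11, [([], 3845, [1,13,10,12,8,13,12,11]), ([7427,7412,7392], 3918, [3,10,11,13,12,8,12,11,13]), ([], 4576, [3,13,5,10,12])], []⟩
def c4935 : Clm := ⟨10, 6, true, [1,11,12,8,11,13,12,2,4,7,13,6,9], [5,9,10,12,8,11,13,2,1,7,13,12,7,11], 5, [([], 4934, [])], []⟩
def c4936 : Clm := ⟨6, 10, true, [12,9,11,5,12,2,6,11,5,6], [8,10,13,12,8,13,12,11,4,7,5,7,10,4], 11, [([], 4648, [5,8,13,12,9,11,10,13]), ([9140,9176,9140], 4835, [10,12,8,13,3,10]), ([373,370], 4576, [12,9,13,3,12])], []⟩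
def c4937 : Clm := ⟨10, 6, true, [13,3,10,13,12,9,13,12,2,6,13,5,6,10], [12,9,11,5,12,2,6,11,5,6], 5, [([], 4936, [])], []⟩
def c4938 : Clm := ⟨6, 10, true, [8,12,13,10,13,10,12,9,13,2,7,13,2,4,7,12], [1,8,11,12,11,13,10,2,4,3], 11, [([], 3320, [3,12,9,11,12,13,12,13]), ([372], 1208, [3,5,9,11,5,12,11,10]), ([373], 4576, [8,11,3,10,13,12,13])], []⟩
def c4939 : Clm := ⟨10, 6, true, [1,8,11,12,11,13,10,2,1,4], [8,12,13,10,13,10,12,9,13,2,7,13,2,4,7,12], 5, [([], 4938, [])], []⟩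
def c4940 : Clm := ⟨5, 10, true, [11,3,2,6,13,7,5,10,11,2], [3,10,12,9,12,13,10,12,2,6,13,7,5,13,4], 17, [([], 476, [8,13,12,11,10,12,9,11]), ([], 4576, [3,10,12,9,11,5,12]), ([9176,9176,9141,9138], 4716, [1,5,12,8,11,10,12,11,10])], []⟩
def c4941 : Clm := ⟨10, 5, true, [10,12,9,11,13,12,13,12,2,13,2,6,13,7,5], [11,3,2,6,13,7,5,10,11,2], 5, [([], 4940, [])], []⟩
def c4942 : Clm := ⟨6, 10, true, [12,8,13,10,12,11,13,2,4,6,5,8,13,12,8], [8,10,11,5,13,4,12,4,10,4], 11, [([], 2906, [9,13,5,10,11,12,9,13]), ([], 3088, [11,5,11,12,13,12,9]), ([], 4576, [8,13,3,12])], []⟩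
def c4943 : Clm := ⟨10, 6, true, [5,9,10,12,13,3,12,9,4,12,4,10,4,3], [12,8,13,10,12,11,13,2,4,6,5,8,13,12,8], 5, [([], 4942, [])], []⟩
def c4944 : Clm := ⟨8, 10, true, [3,8,13,10,12,9,11,4,6,10,12,4,9], [5,9,10,11,3,4,12,4,10,4], 11, [([], 4349, [1,8,13,10,12,9,11,13,12,11]), ([372], 1582, [1,8,10,12,8,13,12,9,13]), ([373], 4576, [1,9,11,12])], []⟩
def c4945 : Clm := ⟨10, 8, true, [1,10,12,11,5,12,9,11,4,12,4,10,4,3], [3,8,13,10,12,9,11,4,6,10,12,4,9], 5, [([], 4944, [])], []⟩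
def c4946 : Clm := ⟨5, 10, true, [5,10,13,10,12,11,12,2,4,7,12,8,13,12,13], [9,10,13,12,13,5,12,8,13,4,12,4,10,4], 11, [([], 3721, [1,11,12,8,11,13,10,12,9]), ([7413,7426,7390], 4011, [1,9,12,13,12,8,12,11,5]), ([370], 4576, [11,3,12,13])], []⟩
def c4947 : Clm := ⟨10, 5, true, [3,13,12,11,10,4,12,4,10,4,3], [5,10,13,10,12,11,12,2,4,7,12,8,13,12,13], 5, [([], 4946, [])], []⟩
def c4948 : Clm := ⟨10, 10, true, [1,12,9,11,5,2,4,12,11,12], [9,10,12,13,5,12,8,4,12,4,10,4], 11, [([], 4640, [1,10,11,12,11,12,8,13]), ([], 2891, [3,8,10,13,12,13]), ([370], 4576, [1,5,11,5,12,13])], []⟩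
def c4949 : Clm := ⟨5, 10, true, [10,12,8,11,12,11,13,5,2,4,3,13,6,12,4,10], [3,11,5,10,12,11,13,2,4,13,3], 11, [([], 444, [8,12,9,11]), ([370], 2680, [3,8,10,12,11,10,12,8,12]), ([373], 4576, [3,10,13,5,12])], []⟩
def c4950 : Clm := ⟨10, 5, true, [3,11,5,10,12,11,13,2,1,4,13], [10,12,8,11,12,11,13,5,2,4,3,13,6,12,4,10], 5, [([], 4949, [])], []⟩
def c4951 : Clm := ⟨6, 10, true, [8,10,12,8,11,12,2,4,6,13,6,5,13], [9,11,3,10,12,11,13,2,4,13,3], 11, [([], 4703, [1,12,11,10,12,9,13]), ([9176,9176,9176,9140], 4832, [13,5,13,5]), ([], 4576, [5,9,10,11,3,12])], []⟩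
def c4952 : Clm := ⟨10, 6, true, [9,11,3,10,12,11,13,2,1,4,13], [8,10,12,8,11,12,2,4,6,13,6,5,13], 5, [([], 4951, [])], []⟩
def c4953 : Clm := ⟨6, 10, true, [1,5,8,13,12,9,12,11,2,4,7,13,3,7,12], [5,11,5,12,11,10,2,4,12,11,10], 11, [([], 3016, [12,9,11,3,12,9,13,10]), ([373,370], 2915, [9,10,13,3,12,9]), ([373,370], 4576, [3,11,13,12,13,10])], []⟩
def c4954 : Clm := ⟨10, 6, true, [5,11,5,12,11,10,2,4,3,12,11,10], [1,5,8,13,12,9,12,11,2,4,7,13,3,7,12], 5, [([], 4953, [])], []⟩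
def c4955 : Clm := ⟨6, 10, true, [3,11,10,12,8,11,12,13,2,13,7,13,2,12,13], [3,8,11,10,12,11,13,5,2,4,3], 11, [([373,370], 3639, [8,11,12,11,5,12,8]), ([373], 3441, [3,13,5,10,12,8,11,12,13]), ([], 4576, [8,13,3,10,13,12,13])], []⟩
def c4956 : Clm := ⟨10, 6, true, [3,8,11,10,12,11,13,5,2,1,4], [3,11,10,12,8,11,12,13,2,13,7,13,2,12,13], 5, [([], 4955, [])], []⟩
def c4957 : Clm := ⟨5, 10, true, [3,9,12,8,11,12,9,11,4,7,5,9,10,4], [1,9,10,13,5,4,12,4,10,4], 11, [([], 149, [12,11,5,10,12,8,11,5]), ([332,210,205], 1126, [8,10,12,9,13,3]), ([], 4576, [1,9,13,12])], []⟩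
def c4958 : Clm := ⟨10, 5, true, [1,5,10,11,12,13,12,9,4,12,4,10,4,3], [3,9,12,8,11,12,9,11,4,7,5,9,10,4], 5, [([], 4957, [])], []⟩
def c4959 : Clm := ⟨6, 10, true, [1,10,11,12,9,11,13,10,2,4,3,12,6,9,11,5], [5,10,12,9,11,2,11,12,4], 15, [([], 4576, [8,13,3,5,12,13]), ([9177,9138], 4894, [1,12,8,11,12,8]), ([], 4607, [5,9,12])], []⟩
def c4960 : Clm := ⟨10, 6, true, [5,10,12,9,11,2,1,11,12,4,3], [1,10,11,12,9,11,13,10,2,4,3,12,6,9,11,5], 5, [([], 4959, [])], []⟩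
def c4961 : Clm := ⟨6, 10, true, [3,9,12,9,11,10,12,8,13,2,4,12,13,2,7,12,13], [1,9,11,10,12,11,13,2,4,13,3], 11, [([], 2683, [1,9,11,5,12,13,5,10]), ([373,370], 1271, [10,12,8,11,10,12,11]), ([372,370], 4576, [3,5,9,10,11,12])], []⟩
def c4962 : Clm := ⟨10, 6, true, [1,9,11,10,12,11,13,2,1,4,13], [3,9,12,9,11,10,12,8,13,2,4,12,13,2,7,12,13], 5, [([], 4961, [])], []⟩
def c4963 : Clm := ⟨5, 10, true, [9,11,13,12,13,5,10,4,6,5,6,10,13,4], [13,5,12,8,11,10,2,4,12,11,3,10], 11, [([], 4156, [12,9,11,3,12,8,11,10]), ([8044,8114,8114], 4299, [5,8,12,9,11,13,12,11]), ([373], 4576, [5,8,10,12,13,3,12])], []⟩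
def c4964 : Clm := ⟨10, 5, true, [13,5,12,8,11,10,2,1,4,12,11,10], [9,11,13,12,13,5,10,4,6,5,6,10,13,4], 5, [([], 4963, [])], []⟩
def c4965 : Clm := ⟨6, 10, true, [8,10,11,13,12,11,10,2,13,12,4,3,10], [8,10,13,10,13,12,9,2,11,13,12,13,4], 11, [([], 933, [5,12,13,3,12,8]), ([], 2774, [1,9,10,11,12,11,13,12,9]), ([372], 4576, [1,11,5,10,12,11,5,12])], []⟩
def c4966 : Clm := ⟨10, 6, true, [9,13,12,8,13,5,10,11,2,1,4,5,12,11,10], [8,10,11,13,12,11,10,2,13,12,4,3,10], 5, [([], 4965, [])], []⟩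
def c4967 : Clm := ⟨6, 10, true, [8,10,12,9,11,10,12,13,2,4,6,13,6,12], [1,5,12,8,13,12,13,10,13,4,5,10,12,4,6], 11, [([], 2635, [5,12,13,5,13,12,8]), ([370], 2360, [1,12,13,5,10,13,12,11]), ([370], 4576, [1,8,11,5,12,13])], []⟩
def c4968 : Clm := ⟨10, 6, true, [3,12,8,12,11,13,10,12,4,10,12,13,4,6], [8,10,12,9,11,10,12,13,2,4,6,13,6,12], 5, [([], 4967, [])], []⟩
def c4969 : Clm := ⟨7, 10, true, [1,9,12,9,13,5,10,12,11,2,1,4,13,7,13,12], [9,12,9,13,12,8,13,10,4,6,5,10,12,4], 11, [([], 3867, [5,13,12,9,11,12,8]), ([373,370], 2160, [9,12,9,13,10,11,12,13]), ([370], 4576, [5,12,9,13,3,12])], []⟩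
def c4970 : Clm := ⟨10, 7, true, [9,12,13,3,10,12,13,10,4,6,10,12,13,4], [1,9,12,9,13,5,10,12,11,2,1,4,13,7,13,12], 5, [([], 4969, [])], []⟩
def c4971 : Clm := ⟨10, 10, true, [1,13,5,12,8,13,10,2,6,13,4], [1,10,11,5,12,11,12,8,2,4,5,12,11,10], 11, [([], 4732, [8,13,12,13,5,10,13]), ([373,370], 3387, [1,5,13,5,12,11]), ([372,370], 4576, [8,10,11,3,13,12])], []⟩
def c4972 : Clm := ⟨10, 10, true, [12,13,10,13,12,9,13,2,4,7,13,6,9], [1,13,5,12,8,13,10,2,6,13,4], 5, [([], 4971, [])], []⟩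
def c4973 : Clm := ⟨6, 10, true, [13,12,8,13,10,13,12,9,2,11,5,4,12,9,13,2], [3,10,13,5,4,12,4,10,4], 11, [([], 3346, [3,11,12,8,11,10,12,11]), ([370], 2503, [1,5,8,10,11,12,9]), ([370], 4576, [1,11,13,12])], []⟩
def c4974 : Clm := ⟨10, 6, true, [5,8,10,12,13,12,9,11,4,12,4,10,4,3], [13,12,8,13,10,13,12,9,2,11,5,4,12,9,13,2], 5, [([], 4973, [])], []⟩
def c4975 : Clm := ⟨6, 10, true, [5,9,11,13,12,13,10,2,1,4,12,8,13,7,5,7], [5,9,10,12,11,12,8,2,4,12,11,3,10], 11, [([], 3894, [5,11,12,9,12,11,10,12]), ([7413,7426,7412,7390], 3828, [11,13,12,11,12,9,12,13]), ([372,370], 4576, [5,10,12,13,3])], []⟩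
def c4976 : Clm := ⟨10, 6, true, [5,9,10,12,11,12,8,2,1,4,12,11,10], [5,9,11,13,12,13,10,2,1,4,12,8,13,7,5,7], 5, [([], 4975, [])], []⟩
def c4977 : Clm := ⟨6, 10, true, [1,5,9,13,10,12,13,2,13,2,6,13,6,8], [13,3,5,12,11,10,2,4,12,11,3,10], 11, [([], 949, [1,5,12,9,11,13,12,13]), ([370], 465, [5,11,13,12,8,11,13,10]), ([372], 4576, [3,12,11,5,10,13])], []⟩
def c4978 : Clm := ⟨10, 6, true, [13,3,5,12,11,10,2,1,4,12,11,10], [1,5,9,13,10,12,13,2,13,2,6,13,6,8], 5, [([], 4977, [])], []⟩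
def c4979 : Clm := ⟨7, 10, true, [11,10,13,12,8,11,12,4,7,10,12,4], [3,9,10,13,5,4,12,4,10,4], 11, [([], 4329, [12,9,11,10,12,11,10]), ([8114,8044,8068,8114], 4189, [5,9,12,11,3,10,12,8,12]), ([370], 4576, [1,9,11,13,12])], []⟩
def c4980 : Clm := ⟨10, 7, true, [5,10,12,13,12,9,11,4,12,4,10,4,3], [11,10,13,12,8,11,12,4,7,10,12,4], 5, [([], 4979, [])], []⟩
def c4981 : Clm := ⟨6, 10, true, [12,9,11,13,5,12,2,11,12,13,4,13,12,8], [1,9,10,12,11,5,12,9,2,4,12,11,10], 11, [([], 1006, [5,8,10,12,13,12,13]), ([], 2055, [3,5,12,8,11,12,8,13]), ([], 4576, [8,11,3,10,12])], []⟩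
def c4982 : Clm := ⟨10, 6, true, [1,9,10,12,11,5,12,9,2,4,3,12,11,10], [12,9,11,13,5,12,2,11,12,13,4,13,12,8], 5, [([], 4981, [])], []⟩
def c4983 : Clm := ⟨8, 10, true, [8,11,5,10,12,13,12,9,13,2,6,13,12,4,6,8], [8,11,3,12,11,13,12,2,11,13,12,13,4], 11, [([], 4246, [5,9,10,12,8,13,3,5]), ([373], 1239, [5,9,10,13]), ([373], 4576, [8,12,11,3,10,13,12])], []⟩
def c4984 : Clm := ⟨10, 8, true, [3,8,11,12,13,10,2,1,4,5,12,11,10], [8,11,5,10,12,13,12,9,13,2,6,13,12,4,6,8], 5, [([], 4983, [])], []⟩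
def c4985 : Clm := ⟨10, 10, true, [11,12,9,11,12,11,13,12,2,4,12,4,3,11], [12,11,10,13,12,8,11,2,4,6,13,3,7], 11, [([9176,9140], 4972, [1,13,5,12,11,10,12,8]), ([9141,9177,9140], 4680, [9,12,8,11,12,13,12,13]), ([372], 4576, [12,8,13,3,10,12,13])], []⟩
def c4986 : Clm := ⟨10, 10, true, [12,11,10,13,12,8,11,2,1,4,6,13,7], [11,12,9,11,12,11,13,12,2,4,12,4,3,11], 5, [([], 4985, [])], []⟩
def c4987 : Clm := ⟨6, 10, true, [3,10,11,12,9,13,12,8,13,2,4,12,6,13,2,5,7], [11,10,12,11,13,2,4,13,3], 11, [([], 1994, [10,11,12,11,10,12,9]), ([372,370], 3543, [5,9,12,11,10,12,8,11,10]), ([372,370], 4576, [3,10,13,10,12])], []⟩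
def c4988 : Clm := ⟨10, 6, true, [11,10,12,11,13,2,1,4,13], [3,10,11,12,9,13,12,8,13,2,4,12,6,13,2,5,7], 5, [([], 4987, [])], []⟩
def c4989 : Clm := ⟨8, 10, true, [3,10,12,13,5,12,11,10,2,11,5,6,13,2,5], [1,8,10,12,13,5,12,8,13,2,4,12,11,3,10], 11, [([], 4352, [1,11,12,9,11,5,12,11,10]), ([370], 2545, [5,8,11,12,11,12,8]), ([370], 4576, [3,9,10,11,13,12,13])], []⟩
def c4990 : Clm := ⟨10, 8, true, [1,8,10,12,13,5,12,8,13,2,1,4,12,11,10], [3,10,12,13,5,12,11,10,2,11,5,6,13,2,5], 5, [([], 4989, [])], []⟩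
def c4991 : Clm := ⟨6, 10, true, [5,11,13,12,9,13,12,11,2,1,4,12,4,12,13,10], [9,11,5,12,11,13,10,2,4,3,7,13,6], 11, [([], 3896, [3,9,10,12,8,11,10,12]), ([7390,7427,7392], 3939, [3,12,11,5]), ([373], 4576, [12,9,11,3,10,12])], []⟩
def c4992 : Clm := ⟨10, 6, true, [9,11,5,12,11,13,10,2,4,7,13,6], [5,11,13,12,9,13,12,11,2,1,4,12,4,12,13,10], 5, [([], 4991, [])], []⟩
def c4993 : Clm := ⟨6, 10, true, [1,9,12,9,11,5,11,12,11,13,2,11,12,4,7,10,12,9], [3,13,10,12,8,12,11,12,2,13,6,5,4,13,10], 17, [([], 2437, [3,9,11,13,10,12,11,12,8]), ([], 4576, [8,13,5,13,12]), ([9176,9176,9140], 4918, [1,13,5,10,13])], []⟩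
def c4994 : Clm := ⟨10, 6, true, [3,9,13,12,9,11,10,13,12,2,13,6,13,5,4,10], [1,9,12,9,11,5,11,12,11,13,2,11,12,4,7,10,12,9], 5, [([], 4993, [])], []⟩
def c4995 : Clm := ⟨6, 10, true, [8,11,10,12,11,10,12,2,4,7,7,13,5,6,13], [11,3,12,11,13,2,4,13,3], 11, [([], 4227, [1,5,12,9,11,13,12,11,13]), ([8044,8114,8114,8114,8044], 4449, [9,12,8,13,10,13,12,11]), ([373], 4576, [3,11,10,13,12])], []⟩
def c4996 : Clm := ⟨10, 6, true, [11,3,12,11,13,2,1,4,13], [8,11,10,12,11,10,12,2,4,7,7,13,5,6,13], 5, [([], 4995, [])], []⟩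
def c4997 : Clm := ⟨6, 10, true, [3,9,10,12,11,13,12,2,4,7,13,3,6,6], [3,11,12,11,13,2,4,13,3], 11, [([], 4935, [5,8,10,11,12,11,12]), ([9177,9141,9177], 4624, [8,12,13,10,12]), ([372,370], 4576, [3,10,13,12])], []⟩
def c4998 : Clm := ⟨10, 6, true, [3,11,12,11,13,2,1,4,13], [3,9,10,12,11,13,12,2,4,7,13,3,6,6], 5, [([], 4997, [])], []⟩
def c4999 : Clm := ⟨6, 10, true, [3,9,10,12,11,13,12,2,1,4,7,13,6,6], [3,11,12,11,13,2,1,4,13], 5, [([], 4998, [])], []⟩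
def c5000 : Clm := ⟨10, 5, true, [3,5,8,10,12,9,11,13,2,7,9,13,12,7], [1,8,11,10,13,12,8,13,12,2,4,7,13,12,7,8,11], 17, [([], 4613, [12,9,13,12,13,12,9]), ([], 4576, [5,9,12,11,3,10,12]), ([9141,9138], 4903, [3,5,10,13,12,9,11])], []⟩
def c5001 : Clm := ⟨5, 10, true, [8,10,13,12,13,10,11,12,8,2,4,3,12,13,4,6,8,12], [3,5,8,10,12,9,11,13,2,7,9,13,12,7], 5, [([], 5000, [])], []⟩
def c5002 : Clm := ⟨6, 10, true, [8,11,5,13,2,4,13,5,6,13,4], [11,5,12,11,13,2,4,13,3], 11, [([], 1518, [5,10,11,12,9,11,13,5]), ([370], 2719, [1,5,11,10,12,8,11]), ([373,370], 4576, [1,13,5,10,11,12])], []⟩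
def c5003 : Clm := ⟨10, 6, true, [11,5,12,11,13,2,1,4,13], [8,11,5,13,2,4,13,5,6,13,4], 5, [([], 5002, [])], []⟩
def c5004 : Clm := ⟨6, 10, true, [1,5,8,11,5,12,11,4,6,12,4,10,4,3], [13,12,9,12,11,10,2,4,12,11,3,10], 11, [([], 311, [10,12,8,11,13,5]), ([], 325, [1,5,11,12,9,12,11,13,12]), ([373], 4576, [5,9,10,12,13,3,12])], []⟩
def c5005 : Clm := ⟨10, 6, true, [13,12,9,12,11,10,2,1,4,12,11,10], [1,5,8,11,5,12,11,4,6,12,4,10,4,3], 5, [([], 5004, [])], []⟩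
def c5006 : Clm := ⟨6, 10, true, [5,12,8,13,12,8,11,13,2,1,11,12,11,10,2], [5,13,5,12,11,13,2,4,3], 11, [([], 356, [5,11,12,9,11,10,12,13]), ([370], 2012, [1,10,13,5,10,12,13,10,12]), ([373], 4576, [10,13,3,5,12,13])], []⟩
def c5007 : Clm := ⟨10, 6, true, [5,13,5,12,11,13,2,1,4], [5,12,8,13,12,8,11,13,2,1,11,12,11,10,2], 5, [([], 5006, [])], []⟩
def c5008 : Clm := ⟨8, 10, true, [3,9,13,10,12,13,10,2,7,13,4,7,9,10], [8,10,13,12,13,5,12,8,13,2,4,5,12,11,10], 11, [([], 4197, [8,11,5,12,13,5,10]), ([373,370], 2975, [1,12,9,13,12,13,5]), ([370], 4576, [5,9,13,3,10,12])], []⟩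
def c5009 : Clm := ⟨10, 8, true, [5,9,13,12,8,11,13,12,2,4,7,13,6,9], [3,9,13,10,12,13,10,2,7,13,4,7,9,10], 5, [([], 5008, [])], []⟩
def c5010 : Clm := ⟨8, 10, true, [1,8,11,13,10,12,8,2,4,13,10,12,8,13,4], [5,8,13,5,12,11,13,2,1,13,4], 13, [([], 4091, [1,11,10,12,8,12,13,10]), ([226,252,228,226], 794, [1,12,8,11,12,9,11]), ([373,370], 4576, [5,8,10,11,3,12])], []⟩
def c5011 : Clm := ⟨10, 8, true, [1,8,11,12,13,10,11,2,11,13,2], [1,8,11,13,10,12,8,2,4,13,10,12,8,13,4], 5, [([], 5010, [])], []⟩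
def c5012 : Clm := ⟨6, 10, true, [3,10,12,8,12,13,10,2,4,13,6,13,5], [8,13,3,12,9,2,11,13,12,4,3], 13, [([], 1414, [3,5,9,10,13,12,8,11,10,13]), ([], 998, [10,11,12,8,11,12,11,10]), ([373,370], 4576, [10,12,11,3,5,12])], []⟩
def c5013 : Clm := ⟨10, 6, true, [8,13,3,12,9,2,1,11,13,12,4], [3,10,12,8,12,13,10,2,4,13,6,13,5], 5, [([], 5012, [])], []⟩
def c5014 : Clm := ⟨10, 10, true, [8,12,9,11,3,10,13,2,1,4,6,9,12,13], [1,8,10,12,13,10,12,9,11,13,2,13,6,10,13,2,7], 11, [([], 4810, [5,12,11,10,12,9]), ([], 4576, [12,9,13,3,12]), ([9176,9176,9140], 4918, [3,9,12,11,10,13])], []⟩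
def c5015 : Clm := ⟨10, 10, true, [3,12,13,10,12,9,12,13,12,2,4,7,13,3,7,5,8], [8,12,9,11,3,10,13,2,1,4,6,9,12,13], 5, [([], 5014, [])], []⟩
def c5016 : Clm := ⟨8, 10, true, [1,11,10,12,13,5,12,2,4,12,7,13,2,5,7], [8,10,12,11,5,12,9,13,2,1,4,12,13,5,10], 13, [([], 4203, [9,10,13,10,13,12,8,11,12]), ([373], 2006, [1,13,10,12,11,12,8,13]), ([373], 4576, [1,3,10,12])], []⟩
def c5017 : Clm := ⟨10, 8, true, [11,12,8,11,13,5,12,9,2,11,13,12,4], [1,11,10,12,13,5,12,2,4,12,7,13,2,5,7], 5, [([], 5016, [])], []⟩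
def c5018 : Clm := ⟨7, 10, true, [1,10,13,10,12,9,11,12,8,2,4,3,6,13,7,12,4], [8,10,12,11,12,9,11,5,2,1,4,12,13,5,10], 13, [([], 4527, [3,11,10,12,13,10,12,13]), ([], 4514, [1,9,12,11,13,10,12,13]), ([372,370], 4576, [3,13,10,12])], []⟩
def c5019 : Clm := ⟨10, 7, true, [11,12,8,11,5,11,12,9,2,11,13,12,4], [1,10,13,10,12,9,11,12,8,2,4,3,6,13,7,12,4], 5, [([], 5018, [])], []⟩
def c5020 : Clm := ⟨6, 10, true, [13,10,11,12,9,11,12,13,10,2,1,6,11,12,4], [5,10,11,5,12,9,11,12,11,4,5,7,10,12,4], 13, [([], 1781, [9,12,8,13,12,9,11,13]), ([373], 3054, [1,8,13,12,8,13,5,12,11,13]), ([], 4576, [9,12,11,3,5])], []⟩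
def c5021 : Clm := ⟨10, 6, true, [13,12,8,13,12,8,13,10,2,6,6,13,5,7,10], [13,10,11,12,9,11,12,13,10,2,1,6,11,12,4], 5, [([], 5020, [])], []⟩
def c5022 : Clm := ⟨6, 10, true, [3,5,12,8,11,10,2,7,7,13,12,4,6], [5,9,13,12,8,11,13,12,9,2,1,11,5,4], 13, [([], 2118, [8,13,3,10,13]), ([373], 1508, [13,5,10]), ([372], 4576, [9,12,13,3,10,12])], []⟩
def c5023 : Clm := ⟨10, 6, true, [8,11,13,10,12,11,12,8,2,1,13,2], [3,5,12,8,11,10,2,7,7,13,12,4,6], 5, [([], 5022, [])], []⟩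
def c5024 : Clm := ⟨6, 10, true, [1,8,13,12,8,13,12,13,2,6,13,2,12,11,12], [3,10,11,12,9,12,11,13,10,2,1,13,4,6,13,12,6], 11, [([], 1160, [10,13,10,12,13,12,9]), ([372], 4576, [10,12,9,11,3,5,12]), ([9176,9140], 4972, [5,8,12,13,5,13])], []⟩
def c5025 : Clm := ⟨10, 6, true, [10,11,12,9,12,13,2,4,13,6,6,12,13,10], [1,8,13,12,8,13,12,13,2,6,13,2,12,11,12], 5, [([], 5024, [])], []⟩
def c5026 : Clm := ⟨6, 10, true, [5,8,10,13,5,12,9,11,13,2,6,13,5,6,6,10], [5,8,13,12,9,11,10,12,4,6,10,12,4,8], 13, [([], 2454, [9,10,12,9,13,3,12,11,10]), ([373,370], 2633, [3,13,12,11]), ([370], 4576, [1,12,8,13,5,12])], []⟩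
def c5027 : Clm := ⟨10, 6, true, [1,5,10,12,8,11,5,4,6,5,6,10,13,4], [5,8,10,13,5,12,9,11,13,2,6,13,5,6,6,10], 5, [([], 5026, [])], []⟩
def c5028 : Clm := ⟨6, 10, true, [1,5,11,5,12,9,13,10,2,1,4,13,12,6,5,11], [3,10,12,9,12,11,4,5,7,10,12,4], 13, [([], 2952, [9,10,13,3,12,8,11,13]), ([372], 3054, [11,3,10,12,9,11,12]), ([], 4576, [1,5,9,12])], []⟩
def c5029 : Clm := ⟨10, 6, true, [1,8,11,10,12,13,12,8,11,2,6,6,13,5,7,10], [1,5,11,5,12,9,13,10,2,1,4,13,12,6,5,11], 5, [([], 5028, [])], []⟩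
def c5030 : Clm := ⟨5, 10, true, [5,9,13,3,12,8,2,7,13,2,6,5], [3,5,11,5,12,11,10,2,1,13,4,12,11,10], 13, [([], 548, [1,12,11,10,13,12,9,13]), ([373,370], 2383, [1,10,11,12,9,13,12,11]), ([372,370], 4576, [13,5,13,12,13,10])], []⟩
def c5031 : Clm := ⟨10, 5, true, [3,10,13,10,13,2,11,13,12,4,13], [5,9,13,3,12,8,2,7,13,2,6,5], 5, [([], 5030, [])], []⟩
def c5032 : Clm := ⟨6, 10, true, [13,10,13,12,9,13,10,2,1,13,2,12,7,13,7], [3,5,10,12,8,11,4,5,7,10,12,4], 13, [([], 5023, [1,8,13,10,12,8,11,10,12]), ([], 4810, [1,11,5,10]), ([], 4576, [1,5,8,12])], []⟩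
def c5033 : Clm := ⟨10, 6, true, [1,11,10,12,13,12,8,11,2,6,6,13,5,7,10], [13,10,13,12,9,13,10,2,1,13,2,12,7,13,7], 5, [([], 5032, [])], []⟩
def c5034 : Clm := ⟨6, 10, true, [3,5,11,5,12,9,11,10,2,1,13,4,5,7,9], [3,8,10,12,11,5,12,9,13,2,1,4,12,13,5,10], 13, [([], 2442, [5,10,12,8,13,10,12,11,12]), ([372], 2006, [1,13,10,12,11,10,12,8,13]), ([373], 4576, [3,10,12])], []⟩
def c5035 : Clm := ⟨10, 6, true, [1,11,5,12,8,11,13,12,9,2,11,13,12,4], [3,5,11,5,12,9,11,10,2,1,13,4,5,7,9], 5, [([], 5034, [])], []⟩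
def c5036 : Clm := ⟨6, 10, true, [12,11,3,10,13,12,9,2,1,4,12,4,13,6,5], [1,9,10,13,12,11,4,6,10,12,4,9], 13, [([], 2954, [8,12,11,13,5,12,8]), ([], 2922, [1,9,10,13,12,9,11,10]), ([372], 4576, [8,13,3,12])], []⟩
def c5037 : Clm := ⟨10, 6, true, [10,12,13,5,12,8,4,12,4,10,13,4], [12,11,3,10,13,12,9,2,1,4,12,4,13,6,5], 5, [([], 5036, [])], []⟩
def c5038 : Clm := ⟨6, 10, true, [1,9,12,9,13,12,11,10,2,13,12,13,2,3,13,6], [13,12,11,10,13,2,1,4,12,13,5,10], 13, [([], 3285, [1,5,13,5]), ([], 998, [3,10,12,8,12,13,10]), ([373,370], 4576, [3,11,12,13,10])], []⟩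
def c5039 : Clm := ⟨10, 6, true, [13,3,5,10,2,11,13,12,4], [1,9,12,9,13,12,11,10,2,13,12,13,2,3,13,6], 5, [([], 5038, [])], []⟩
def c5040 : Clm := ⟨6, 10, true, [1,12,9,12,11,13,12,8,2,1,13,2,5,7,9], [5,8,11,3,5,12,11,10,2,1,13,4,12,11,10], 13, [([], 2640, [5,8,10,11,3,12,9]), ([372,370], 1728, [12,11,3,13,12,9,13,12]), ([372], 4576, [5,8,11,3,12,13,10])], []⟩
def c5041 : Clm := ⟨10, 6, true, [3,5,8,11,5,10,2,11,13,12,4,13], [1,12,9,12,11,13,12,8,2,1,13,2,5,7,9], 5, [([], 5040, [])], []⟩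
def c5042 : Clm := ⟨6, 10, true, [1,11,13,12,8,12,11,12,2,13,12,13,2,1], [11,12,11,13,10,2,1,13,4], 13, [([], 3056, [11,13,10,12,9,11]), ([370], 2006, [3,8,12,8,13,12,9,13,10]), ([373], 4576, [13,10,13,10,12])], []⟩
def c5043 : Clm := ⟨10, 6, true, [3,11,10,12,13,10,13,2,11,13,2], [1,11,13,12,8,12,11,12,2,13,12,13,2,1], 5, [([], 5042, [])], []⟩
def c5044 : Clm := ⟨10, 6, true, [8,13,10,12,8,11,12,13,2,1,4,12,4,7,13], [1,10,11,12,8,13,10,2,4,7,9,12,13,7], 11, [([], 4810, [12,13,5,12,9,13,10]), ([], 4576, [1,12,9,13,12]), ([9177,9141,9176,9140], 4999, [13,5,12,8,11,5,10])], []⟩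
def c5045 : Clm := ⟨6, 10, true, [1,10,11,12,8,13,10,2,4,3,7,9,12,13,7], [8,13,10,12,8,11,12,13,2,1,4,12,4,7,13], 5, [([], 5044, [])], []⟩
def c5046 : Clm := ⟨7, 10, true, [12,9,11,5,13,2,1,4,12,9,13,5,4], [1,5,8,13,12,11,13,2,1,13,4], 13, [([], 3749, [9,12,11,12,11,10,13,12,13]), ([252,228], 794, [12,8,11,5,12,9,11]), ([373,370], 4576, [8,10,13,3,5,12])], []⟩
def c5047 : Clm := ⟨10, 7, true, [1,8,11,12,13,10,13,2,11,13,2], [12,9,11,5,13,2,1,4,12,9,13,5,4], 5, [([], 5046, [])], []⟩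
def c5048 : Clm := ⟨6, 10, true, [8,11,5,10,2,1,13,4,7,13,5,12,9], [13,3,12,9,11,10,12,2,4,3,13], 11, [([], 3347, [1,9,12,13,5,10,11,12,13]), ([373,370], 4576, [10,11,3,10,12]), ([9140,9177], 4590, [12,11,5,11,12,11,10])], []⟩
def c5049 : Clm := ⟨10, 6, true, [13,3,12,9,11,10,12,2,4,13], [8,11,5,10,2,1,13,4,7,13,5,12,9], 5, [([], 5048, [])], []⟩
def c5050 : Clm := ⟨10, 10, true, [9,11,10,12,13,12,13,2,4,7,5,9,13,7], [12,9,11,13,12,11,12,8,2,6,13,2,4,6,13,4], 11, [([], 4810, [3,10,11,5,12,13]), ([], 4576, [8,11,5,11,12]), ([9141,9176,9141], 4972, [3,12,11,12,9,11,12,11,10])], []⟩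
def c5051 : Clm := ⟨10, 10, true, [1,12,9,12,13,10,12,8,2,6,13,2,6,13,3,4], [9,11,10,12,13,12,13,2,4,7,5,9,13,7], 5, [([], 5050, [])], []⟩
def c5052 : Clm := ⟨6, 10, true, [9,12,8,13,10,13,12,13,5,2,4,3,6,6,13,12,6], [9,10,12,8,13,5,4,5,7,10,12,4], 13, [([], 632, [3,8,11,12,9,11,13,12]), ([370], 3191, [1,5,10,13,12,8,11,12,9]), ([370], 4576, [1,13,5,12])], []⟩
def c5053 : Clm := ⟨10, 6, true, [9,13,5,10,13,12,13,12,8,2,6,6,13,5,7,10], [9,12,8,13,10,13,12,13,5,2,4,3,6,6,13,12,6], 5, [([], 5052, [])], []⟩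
def c5054 : Clm := ⟨10, 10, true, [1,9,13,12,9,11,10,12,11,2,4,7,12,13,6,12,6], [11,12,11,13,5,10,2,1,13,4], 13, [([], 4727, [13,12,8,11,10,13,12,13]), ([373], 2006, [1,9,11,12,9,13,12,13,10]), ([373], 4576, [3,10,13,12])], []⟩
def c5055 : Clm := ⟨10, 10, true, [3,9,11,12,11,13,2,1,13,2,1,12,7,11], [1,5,10,12,11,12,8,2,1,13,4,12,11,10], 13, [([], 4923, [1,5,8,10,11,5,12,11]), ([252,226], 3610, [9,12,11,12,8,11,10,12]), ([372], 4576, [5,8,13,3,10,12])], []⟩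
def c5056 : Clm := ⟨10, 6, true, [3,8,12,9,13,12,8,13,12,2,1,7,13,7,10,12,11], [8,13,3,10,12,9,11,12,2,11,13,2,6,13], 13, [([], 4810, [3,5,10,13,12,11,10]), ([], 4576, [1,8,11,13,5,12]), ([9176,9140], 4640, [10,11,13,12,8,13,5])], []⟩
def c5057 : Clm := ⟨6, 10, true, [12,8,13,3,12,9,12,11,2,13,4,6,13], [3,8,12,9,13,12,8,13,12,2,1,7,13,7,10,12,11], 5, [([], 5056, [])], []⟩
def c5058 : Clm := ⟨6, 10, true, [12,8,13,10,12,8,13,12,2,11,12,4,13,6,5], [1,5,13,12,9,13,12,8,11,2,4,13,6,6,13,2], 47, [([], 2580, [8,11,10,13,12,9,11,13]), ([373], 2027, [13,10,12,8,11]), ([373,370], 4576, [11,3,10])], []⟩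
def c5059 : Clm := ⟨10, 6, true, [5,13,12,8,13,10,4,6,10,12,9,12,4], [12,8,13,10,12,8,13,12,2,11,12,4,13,6,5], 5, [([], 5058, [])], []⟩
def c5060 : Clm := ⟨6, 10, true, [3,11,13,10,12,8,11,12,9,2,4,5,13,7,13,12,9], [11,12,11,13,5,10,12,2,7,9,13,5,10], 47, [([], 2020, [5,8,13,3,12,9]), ([], 227, [5,12,9,11,5,11,12,8,11]), ([373,370], 4576, [1,3,10,12,9])], []⟩
def c5061 : Clm := ⟨10, 6, true, [5,13,12,13,10,12,11,12,4,6,5,9,10,4], [3,11,13,10,12,8,11,12,9,2,4,5,13,7,13,12,9], 5, [([], 5060, [])], []⟩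
def c5062 : Clm := ⟨7, 10, true, [3,5,9,13,10,12,9,13,2,4,3,5,7,12,13], [1,5,9,13,12,8,11,13,2,1,7,9,11,10], 47, [([], 3903, [9,13,10,13,12,13,5]), ([372,370], 2639, [10,13,3,12,8,11,10,12]), ([], 4576, [1,3,5,9,10,12])], []⟩
def c5063 : Clm := ⟨10, 7, true, [9,11,3,10,12,8,11,13,2,7,9,11,10], [3,5,9,13,10,12,9,13,2,4,3,5,7,12,13], 5, [([], 5062, [])], []⟩
def c5064 : Clm := ⟨7, 10, true, [1,8,11,10,12,8,13,12,8,2,11,12,11,10,2], [1,9,11,12,11,13,12,8,2,13,5,7,9,10], 47, [([], 3718, [11,3,10,12,9,11,12,8]), ([372], 3086, [3,12,9,12,13,12,9,13,10]), ([], 4576, [9,11,3,10,12])], []⟩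
def c5065 : Clm := ⟨10, 7, true, [12,11,10,12,13,10,12,13,4,5,6,9,10,4], [1,8,11,10,12,8,13,12,8,2,11,12,11,10,2], 5, [([], 5064, [])], []⟩
def c5066 : Clm := ⟨10, 10, true, [1,9,11,12,11,13,5,2,4,13,3], [1,5,8,10,13,12,9,12,13,10,2,1,13,4,7,12,8,13], 13, [([], 4575, [8,11,10,13,12]), ([370], 3497, [11,12,8,13,12,8,13]), ([], 5035, [3,12,9,11,13,12,9,11,13])], []⟩
def c5067 : Clm := ⟨6, 10, true, [1,10,11,10,12,9,13,2,4,12,4,13,3,12,11], [9,12,8,13,3,12,11,2,7,13,12,13,4,5,12], 17, [([], 4939, [1,10,11,12,11,13,12,8]), ([9177,9177,9141,9177], 4575, [3,11,5,12,13]), ([372], 5007, [8,11,12,13,10,12,9,12,13])], []⟩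
def c5068 : Clm := ⟨10, 6, true, [9,12,8,13,3,12,11,10,2,7,13,12,4,5,13,12], [1,10,11,10,12,9,13,2,4,12,4,13,3,12,11], 5, [([], 5067, [])], []⟩
def c5069 : Clm := ⟨10, 6, true, [1,11,12,8,11,13,5,10,12,2,1,11,13,12,4,9], [11,12,9,13,12,13,12,8,12,2,4,12,13,2,1], 15, [([], 4575, [8,12,9,11,10,12]), ([373,370], 4974, [1,9,12,11,13,12,8,13]), ([9177,9177,9177,9140], 4755, [8,11,10,12,11,12,11])], []⟩
def c5070 : Clm := ⟨6, 10, true, [11,12,9,13,12,13,12,8,12,2,4,12,13,2,3], [1,11,12,8,11,13,5,10,12,2,1,11,13,12,4,9], 5, [([], 5069, [])], []⟩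
def c5071 : Clm := ⟨8, 10, true, [1,9,11,13,10,12,8,11,13,12,2,13,2,6,13,3,7], [3,12,9,13,12,11,10,12,2,7,13,7,5,4,7], 17, [([], 5017, [1]), ([], 4575, [1,5,10,12]), ([], 4817, [1,13])], []⟩
def c5072 : Clm := ⟨10, 8, true, [8,12,8,13,3,12,11,2,1,13,7,12,13,4], [1,9,11,13,10,12,8,11,13,12,2,13,2,6,13,3,7], 5, [([], 5071, [])], []⟩
def c5073 : Clm := ⟨10, 6, true, [12,9,12,13,5,10,11,2,11,12,4,5,11,10], [1,11,13,5,12,9,11,10,2,4,3,6,12,4,12,13], 17, [([], 4717, [8,12,11,10,12,8,12]), ([9177,9140,9138], 4575, [3,9,13,12]), ([372], 3541, [1,8,11,12,9,12,13,12])], []⟩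
def c5074 : Clm := ⟨6, 10, true, [1,11,13,5,12,8,11,12,8,2,1,4,7,12,11,5,7], [12,9,12,13,5,10,11,2,11,12,4,5,11,10], 5, [([], 5073, [])], []⟩
def c5075 : Clm := ⟨6, 10, true, [9,10,11,5,12,11,13,10,2,7,13,4,6,5,11], [3,8,13,5,12,9,13,10,2,13,6,13,6], 11, [([], 4656, [8,10,13,5,12,11]), ([9141], 4575, [10,12,11,5]), ([], 4764, [1,10,13,12,8,13,12,13,10])], []⟩
def c5076 : Clm := ⟨10, 6, true, [3,8,13,5,12,9,13,2,13,6,13,6], [9,10,11,5,12,11,13,10,2,7,13,4,6,5,11], 5, [([], 5075, [])], []⟩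
def c5077 : Clm := ⟨6, 10, true, [3,9,10,11,12,13,10,2,1,6,13,4,7], [1,10,11,13,12,11,12,2,7,13,2,4], 11, [([], 4596, [5,8,12,11,10,12,9]), ([], 4575, [5,10,12,13,12]), ([373], 4741, [8,12,8,13,5,10,11,12])], []⟩
def c5078 : Clm := ⟨10, 6, true, [1,11,10,12,13,5,2,7,13,2,11], [3,9,10,11,12,13,10,2,1,6,13,4,7], 5, [([], 5077, [])], []⟩
def c5079 : Clm := ⟨10, 6, true, [11,13,12,9,11,13,10,12,2,4,3,12,4,3,6,5], [1,8,12,11,5,10,12,9,11,2,4,3,12,13,4,12,6], 9, [([], 4690, [1,5,10,11,5,12,11,12,9]), ([372], 4579, [1,3,5,10,12]), ([9138], 4616, [3,8,11,12,13,12,9])], []⟩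
def c5080 : Clm := ⟨6, 10, true, [10,11,5,12,11,13,12,2,4,7,13,12,7,11], [11,13,12,9,11,13,10,12,2,4,3,12,4,3,6,5], 5, [([], 5079, [])], []⟩
def c5081 : Clm := ⟨6, 10, true, [8,11,10,12,9,12,13,10,2,4,5,6,13,5,12,8], [10,12,9,11,12,11,10,2,4,12,11,3,10], 11, [([], 2435, [13,12,8,12,11,12,8,11]), ([226,252], 2214, [3,9,10,12,8,11,12,9]), ([372], 4579, [5,9,11,13,10,12,13,10])], []⟩
def c5082 : Clm := ⟨10, 6, true, [10,12,9,11,12,11,10,2,1,4,12,11,10], [8,11,10,12,9,12,13,10,2,4,5,6,13,5,12,8], 5, [([], 5081, [])], []⟩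
def c5083 : Clm := ⟨5, 10, true, [1,13,5,10,12,9,13,12,2,1,4,5,7,13,12,8,13], [1,12,9,11,12,8,11,5,10,2,4,13,12,13,2,4,12], 13, [([], 508, [5,8,12,11,5,12]), ([], 4579, [5,11,10,12,9,11,10]), ([9141,9138], 4717, [3,9,11,12,11,12,9])], []⟩
def c5084 : Clm := ⟨10, 5, true, [13,12,8,11,13,12,2,7,9,13,4,7,13,10], [1,13,5,10,12,9,13,12,2,1,4,5,7,13,12,8,13], 5, [([], 5083, [])], []⟩
def c5085 : Clm := ⟨6, 10, true, [5,9,11,10,12,11,12,9,2,1,13,4,12,13,7,9], [1,8,13,5,12,9,11,2,13,5,12,13,10,2], 15, [([], 1716, [1,9,12,8,11,5,10,12,13]), ([], 4582, [10,12,11,3,5,12]), ([9177,9177,9141], 4722, [8,11,5,10,12,11,5,12,9])], []⟩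
def c5086 : Clm := ⟨10, 6, true, [1,8,13,5,12,9,11,2,13,5,12,13,2], [5,9,11,10,12,11,12,9,2,1,13,4,12,13,7,9], 5, [([], 5085, [])], []⟩
def c5087 : Clm := ⟨6, 10, true, [5,9,10,12,11,12,8,11,2,4,6,13,3,12,4,8], [1,5,9,12,11,12,9,12,2,1,6,6,13,4,12], 15, [([], 1836, [8,12,8,11,12,8,11,10]), ([], 4582, [9,11,3,12,13,10]), ([9177,9177,9141], 4722, [5,8,13,5,13,12,13,10])], []⟩
def c5088 : Clm := ⟨10, 6, true, [8,10,12,9,13,3,12,8,2,6,6,11,13,2,12], [5,9,10,12,11,12,8,11,2,4,6,13,3,12,4,8], 5, [([], 5087, [])], []⟩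
def c5089 : Clm := ⟨6, 10, true, [1,11,5,12,8,13,2,6,6,11,12,4,13], [1,8,13,10,13,10,4,12,4,10,4], 11, [([], 2183, [1,11,12,9,11,12,11,13]), ([373], 2098, [8,12,13,12,9,12,11]), ([], 4582, [5,8,13,5,13,12])], []⟩
def c5090 : Clm := ⟨10, 6, true, [9,10,12,13,12,9,13,4,12,4,10,4,3], [1,11,5,12,8,13,2,6,6,11,12,4,13], 5, [([], 5089, [])], []⟩
def c5091 : Clm := ⟨6, 10, true, [9,12,9,11,3,5,10,2,1,4,5,7,13,2,12,6], [3,13,10,12,9,13,12,9,2,1,7,9,13,6,12,4], 13, [([], 4585, [3,11,13,12,13,10]), ([], 4618, [10,13,5,10,12,13,10]), ([], 4607, [1,5,12,11,5])], []⟩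
def c5092 : Clm := ⟨10, 6, true, [3,13,10,12,13,10,12,9,12,2,6,13,6,13,12,4,8], [9,12,9,11,3,5,10,2,1,4,5,7,13,2,12,6], 5, [([], 5091, [])], []⟩
def c5093 : Clm := ⟨10, 3, true, [9,10,11,3,12,11,13,10,2,4,5,6,11,12,6,11], [1,8,12,8,13,5,10,11,2,1,13,4,7,13,12,4], 13, [([], 4894, [5,8,13,12,8,11,12,11,10]), ([], 4585, [8,10,11,3,12,13]), ([], 4568, [3,8,12,8,11,13,12])], []⟩
def c5094 : Clm := ⟨3, 10, true, [3,8,10,12,13,10,12,9,2,1,13,4,12,7,9,11], [9,10,11,3,12,11,13,10,2,4,5,6,11,12,6,11], 5, [([], 5093, [])], []⟩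
def c5095 : Clm := ⟨10, 10, true, [8,10,12,9,11,10,12,8,13,2,4,12,13,7,12,7], [13,5,12,11,12,8,12,2,4,7,13,7,12,13,10], 7, [([], 4716, [5,8,11,12,8,11,13,12,9]), ([9177,9140,9176,9138], 4590, [8,12,13,12,8,13,12]), ([9177,9141,9176], 4717, [12,9,13,10,13,12,13,10])], []⟩
def c5096 : Clm := ⟨6, 10, true, [11,5,10,12,11,12,8,2,13,2,6,13,2], [8,13,5,11,2,11,5,4,12,11,2], 11, [([], 3222, [3,12,8,11,10,12,9,12]), ([252,226,253,226], 1473, [5,10,12,8,13,12,9,11]), ([373], 4593, [8,11,5,11,12])], []⟩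
def c5097 : Clm := ⟨10, 6, true, [10,11,12,8,11,13,5,2,13,7,12,13,12,4], [11,5,10,12,11,12,8,2,13,2,6,13,2], 5, [([], 5096, [])], []⟩
def c5098 : Clm := ⟨5, 10, true, [5,12,11,3,10,12,8,12,2,4,5,12,8,13,6,12], [1,5,11,13,2,11,5,12,11,2], 11, [([], 3756, [3,8,12,9,13,12,11,13]), ([7393], 3839, [10,12,8,13,12,13,12]), ([373,370], 4593, [13,3,5,12])], []⟩
def c5099 : Clm := ⟨10, 5, true, [9,11,13,5,2,6,13,7,8,13,2], [5,12,11,3,10,12,8,12,2,4,5,12,8,13,6,12], 5, [([], 5098, [])], []⟩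
def c5100 : Clm := ⟨6, 10, true, [8,12,13,3,10,12,9,12,13,2,7,13,2,6,13,12], [5,11,5,2,13,2,1,12,13,4], 11, [([], 1241, [3,9,12,8,11,12,13]), ([], 666, [8,11,10,12,9,11,12,8]), ([], 4593, [12,13,3,10,13])], []⟩
def c5101 : Clm := ⟨10, 6, true, [5,11,5,2,13,2,12,11,13,4], [8,12,13,3,10,12,9,12,13,2,7,13,2,6,13,12], 5, [([], 5100, [])], []⟩

noncomputable def cl0 (y : ℕ) : Clm := (selA 8 y (selA 4 y (selA 2 y (selA 1 y c0 c1) (selA 3 y c2 c3)) (selA 6 y (selA 5 y c4 c5) (selA 7 y c6 c7))) (selA 12 y (selA 10 y (selA 9 y c8 c9) (selA 11 y c10 c11)) (selA 14 y (selA 13 y c12 c13) (selA 15 y c14 c15))))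

noncomputable def cl1 (y : ℕ) : Clm := (selA 24 y (selA 20 y (selA 18 y (selA 17 y c16 c17) (selA 19 y c18 c19)) (selA 22 y (selA 21 y c20 c21) (selA 23 y c22 c23))) (selA 28 y (selA 26 y (selA 25 y c24 c25) (selA 27 y c26 c27)) (selA 30 y (selA 29 y c28 c29) (selA 31 y c30 c31))))

noncomputable def cl2 (y : ℕ) : Clm := (selA 40 y (selA 36 y (selA 34 y (selA 33 y c32 c33) (selA 35 y c34 c35)) (selA 38 y (selA 37 y c36 c37) (selA 39 y c38 c39))) (selA 44 y (selA 42 y (selA 41 y c40 c41) (selA 43 y c42 c43)) (selA 46 y (selA 45 y c44 c45) (selA 47 y c46 c47))))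

noncomputable def cl3 (y : ℕ) : Clm := (selA 56 y (selA 52 y (selA 50 y (selA 49 y c48 c49) (selA 51 y c50 c51)) (selA 54 y (selA 53 y c52 c53) (selA 55 y c54 c55))) (selA 60 y (selA 58 y (selA 57 y c56 c57) (selA 59 y c58 c59)) (selA 62 y (selA 61 y c60 c61) (selA 63 y c62 c63))))

noncomputable def cl4 (y : ℕ) : Clm := (selA 72 y (selA 68 y (selA 66 y (selA 65 y c64 c65) (selA 67 y c66 c67)) (selA 70 y (selA 69 y c68 c69) (selA 71 y c70 c71))) (selA 76 y (selA 74 y (selA 73 y c72 c73) (selA 75 y c74 c75)) (selA 78 y (selA 77 y c76 c77) (selA 79 y c78 c79))))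

noncomputable def cl5 (y : ℕ) : Clm := (selA 88 y (selA 84 y (selA 82 y (selA 81 y c80 c81) (selA 83 y c82 c83)) (selA 86 y (selA 85 y c84 c85) (selA 87 y c86 c87))) (selA 92 y (selA 90 y (selA 89 y c88 c89) (selA 91 y c90 c91)) (selA 94 y (selA 93 y c92 c93) (selA 95 y c94 c95))))

noncomputable def cl6 (y : ℕ) : Clm := (selA 104 y (selA 100 y (selA 98 y (selA 97 y c96 c97) (selA 99 y c98 c99)) (selA 102 y (selA 101 y c100 c101) (selA 103 y c102 c103))) (selA 108 y (selA 106 y (selA 105 y c104 c105) (selA 107 y c106 c107)) (selA 110 y (selA 109 y c108 c109) (selA 111 y c110 c111))))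

noncomputable def cl7 (y : ℕ) : Clm := (selA 120 y (selA 116 y (selA 114 y (selA 113 y c112 c113) (selA 115 y c114 c115)) (selA 118 y (selA 117 y c116 c117) (selA 119 y c118 c119))) (selA 124 y (selA 122 y (selA 121 y c120 c121) (selA 123 y c122 c123)) (selA 126 y (selA 125 y c124 c125) (selA 127 y c126 c127))))

noncomputable def cl8 (y : ℕ) : Clm := (selA 136 y (selA 132 y (selA 130 y (selA 129 y c128 c129) (selA 131 y c130 c131)) (selA 134 y (selA 133 y c132 c133) (selA 135 y c134 c135))) (selA 140 y (selA 138 y (selA 137 y c136 c137) (selA 139 y c138 c139)) (selA 142 y (selA 141 y c140 c141) (selA 143 y c142 c143))))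

noncomputable def cl9 (y : ℕ) : Clm := (selA 152 y (selA 148 y (selA 146 y (selA 145 y c144 c145) (selA 147 y c146 c147)) (selA 150 y (selA 149 y c148 c149) (selA 151 y c150 c151))) (selA 156 y (selA 154 y (selA 153 y c152 c153) (selA 155 y c154 c155)) (selA 158 y (selA 157 y c156 c157) (selA 159 y c158 c159))))

noncomputable def cl10 (y : ℕ) : Clm := (selA 168 y (selA 164 y (selA 162 y (selA 161 y c160 c161) (selA 163 y c162 c163)) (selA 166 y (selA 165 y c164 c165) (selA 167 y c166 c167))) (selA 172 y (selA 170 y (selA 169 y c168 c169) (selA 171 y c170 c171)) (selA 174 y (selA 173 y c172 c173) (selA 175 y c174 c175))))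

noncomputable def cl11 (y : ℕ) : Clm := (selA 184 y (selA 180 y (selA 178 y (selA 177 y c176 c177) (selA 179 y c178 c179)) (selA 182 y (selA 181 y c180 c181) (selA 183 y c182 c183))) (selA 188 y (selA 186 y (selA 185 y c184 c185) (selA 187 y c186 c187)) (selA 190 y (selA 189 y c188 c189) (selA 191 y c190 c191))))

noncomputable def cl12 (y : ℕ) : Clm := (selA 200 y (selA 196 y (selA 194 y (selA 193 y c192 c193) (selA 195 y c194 c195)) (selA 198 y (selA 197 y c196 c197) (selA 199 y c198 c199))) (selA 204 y (selA 202 y (selA 201 y c200 c201) (selA 203 y c202 c203)) (selA 206 y (selA 205 y c204 c205) (selA 207 y c206 c207))))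

noncomputable def cl13 (y : ℕ) : Clm := (selA 216 y (selA 212 y (selA 210 y (selA 209 y c208 c209) (selA 211 y c210 c211)) (selA 214 y (selA 213 y c212 c213) (selA 215 y c214 c215))) (selA 220 y (selA 218 y (selA 217 y c216 c217) (selA 219 y c218 c219)) (selA 222 y (selA 221 y c220 c221) (selA 223 y c222 c223))))

noncomputable def cl14 (y : ℕ) : Clm := (selA 232 y (selA 228 y (selA 226 y (selA 225 y c224 c225) (selA 227 y c226 c227)) (selA 230 y (selA 229 y c228 c229) (selA 231 y c230 c231))) (selA 236 y (selA 234 y (selA 233 y c232 c233) (selA 235 y c234 c235)) (selA 238 y (selA 237 y c236 c237) (selA 239 y c238 c239))))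

noncomputable def cl15 (y : ℕ) : Clm := (selA 248 y (selA 244 y (selA 242 y (selA 241 y c240 c241) (selA 243 y c242 c243)) (selA 246 y (selA 245 y c244 c245) (selA 247 y c246 c247))) (selA 252 y (selA 250 y (selA 249 y c248 c249) (selA 251 y c250 c251)) (selA 254 y (selA 253 y c252 c253) (selA 255 y c254 c255))))

noncomputable def cl16 (y : ℕ) : Clm := (selA 264 y (selA 260 y (selA 258 y (selA 257 y c256 c257) (selA 259 y c258 c259)) (selA 262 y (selA 261 y c260 c261) (selA 263 y c262 c263))) (selA 268 y (selA 266 y (selA 265 y c264 c265) (selA 267 y c266 c267)) (selA 270 y (selA 269 y c268 c269) (selA 271 y c270 c271))))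

noncomputable def cl17 (y : ℕ) : Clm := (selA 280 y (selA 276 y (selA 274 y (selA 273 y c272 c273) (selA 275 y c274 c275)) (selA 278 y (selA 277 y c276 c277) (selA 279 y c278 c279))) (selA 284 y (selA 282 y (selA 281 y c280 c281) (selA 283 y c282 c283)) (selA 286 y (selA 285 y c284 c285) (selA 287 y c286 c287))))

noncomputable def cl18 (y : ℕ) : Clm := (selA 296 y (selA 292 y (selA 290 y (selA 289 y c288 c289) (selA 291 y c290 c291)) (selA 294 y (selA 293 y c292 c293) (selA 295 y c294 c295))) (selA 300 y (selA 298 y (selA 297 y c296 c297) (selA 299 y c298 c299)) (selA 302 y (selA 301 y c300 c301) (selA 303 y c302 c303))))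

noncomputable def cl19 (y : ℕ) : Clm := (selA 312 y (selA 308 y (selA 306 y (selA 305 y c304 c305) (selA 307 y c306 c307)) (selA 310 y (selA 309 y c308 c309) (selA 311 y c310 c311))) (selA 316 y (selA 314 y (selA 313 y c312 c313) (selA 315 y c314 c315)) (selA 318 y (selA 317 y c316 c317) (selA 319 y c318 c319))))

noncomputable def cl20 (y : ℕ) : Clm := (selA 328 y (selA 324 y (selA 322 y (selA 321 y c320 c321) (selA 323 y c322 c323)) (selA 326 y (selA 325 y c324 c325) (selA 327 y c326 c327))) (selA 332 y (selA 330 y (selA 329 y c328 c329) (selA 331 y c330 c331)) (selA 334 y (selA 333 y c332 c333) (selA 335 y c334 c335))))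

noncomputable def cl21 (y : ℕ) : Clm := (selA 344 y (selA 340 y (selA 338 y (selA 337 y c336 c337) (selA 339 y c338 c339)) (selA 342 y (selA 341 y c340 c341) (selA 343 y c342 c343))) (selA 348 y (selA 346 y (selA 345 y c344 c345) (selA 347 y c346 c347)) (selA 350 y (selA 349 y c348 c349) (selA 351 y c350 c351))))

noncomputable def cl22 (y : ℕ) : Clm := (selA 360 y (selA 356 y (selA 354 y (selA 353 y c352 c353) (selA 355 y c354 c355)) (selA 358 y (selA 357 y c356 c357) (selA 359 y c358 c359))) (selA 364 y (selA 362 y (selA 361 y c360 c361) (selA 363 y c362 c363)) (selA 366 y (selA 365 y c364 c365) (selA 367 y c366 c367))))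

noncomputable def cl23 (y : ℕ) : Clm := (selA 376 y (selA 372 y (selA 370 y (selA 369 y c368 c369) (selA 371 y c370 c371)) (selA 374 y (selA 373 y c372 c373) (selA 375 y c374 c375))) (selA 380 y (selA 378 y (selA 377 y c376 c377) (selA 379 y c378 c379)) (selA 382 y (selA 381 y c380 c381) (selA 383 y c382 c383))))

noncomputable def cl24 (y : ℕ) : Clm := (selA 392 y (selA 388 y (selA 386 y (selA 385 y c384 c385) (selA 387 y c386 c387)) (selA 390 y (selA 389 y c388 c389) (selA 391 y c390 c391))) (selA 396 y (selA 394 y (selA 393 y c392 c393) (selA 395 y c394 c395)) (selA 398 y (selA 397 y c396 c397) (selA 399 y c398 c399))))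

noncomputable def cl25 (y : ℕ) : Clm := (selA 408 y (selA 404 y (selA 402 y (selA 401 y c400 c401) (selA 403 y c402 c403)) (selA 406 y (selA 405 y c404 c405) (selA 407 y c406 c407))) (selA 412 y (selA 410 y (selA 409 y c408 c409) (selA 411 y c410 c411)) (selA 414 y (selA 413 y c412 c413) (selA 415 y c414 c415))))

noncomputable def cl26 (y : ℕ) : Clm := (selA 424 y (selA 420 y (selA 418 y (selA 417 y c416 c417) (selA 419 y c418 c419)) (selA 422 y (selA 421 y c420 c421) (selA 423 y c422 c423))) (selA 428 y (selA 426 y (selA 425 y c424 c425) (selA 427 y c426 c427)) (selA 430 y (selA 429 y c428 c429) (selA 431 y c430 c431))))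

noncomputable def cl27 (y : ℕ) : Clm := (selA 440 y (selA 436 y (selA 434 y (selA 433 y c432 c433) (selA 435 y c434 c435)) (selA 438 y (selA 437 y c436 c437) (selA 439 y c438 c439))) (selA 444 y (selA 442 y (selA 441 y c440 c441) (selA 443 y c442 c443)) (selA 446 y (selA 445 y c444 c445) (selA 447 y c446 c447))))

noncomputable def cl28 (y : ℕ) : Clm := (selA 456 y (selA 452 y (selA 450 y (selA 449 y c448 c449) (selA 451 y c450 c451)) (selA 454 y (selA 453 y c452 c453) (selA 455 y c454 c455))) (selA 460 y (selA 458 y (selA 457 y c456 c457) (selA 459 y c458 c459)) (selA 462 y (selA 461 y c460 c461) (selA 463 y c462 c463))))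

noncomputable def cl29 (y : ℕ) : Clm := (selA 472 y (selA 468 y (selA 466 y (selA 465 y c464 c465) (selA 467 y c466 c467)) (selA 470 y (selA 469 y c468 c469) (selA 471 y c470 c471))) (selA 476 y (selA 474 y (selA 473 y c472 c473) (selA 475 y c474 c475)) (selA 478 y (selA 477 y c476 c477) (selA 479 y c478 c479))))

noncomputable def cl30 (y : ℕ) : Clm := (selA 488 y (selA 484 y (selA 482 y (selA 481 y c480 c481) (selA 483 y c482 c483)) (selA 486 y (selA 485 y c484 c485) (selA 487 y c486 c487))) (selA 492 y (selA 490 y (selA 489 y c488 c489) (selA 491 y c490 c491)) (selA 494 y (selA 493 y c492 c493) (selA 495 y c494 c495))))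

noncomputable def cl31 (y : ℕ) : Clm := (selA 504 y (selA 500 y (selA 498 y (selA 497 y c496 c497) (selA 499 y c498 c499)) (selA 502 y (selA 501 y c500 c501) (selA 503 y c502 c503))) (selA 508 y (selA 506 y (selA 505 y c504 c505) (selA 507 y c506 c507)) (selA 510 y (selA 509 y c508 c509) (selA 511 y c510 c511))))

noncomputable def cl32 (y : ℕ) : Clm := (selA 520 y (selA 516 y (selA 514 y (selA 513 y c512 c513) (selA 515 y c514 c515)) (selA 518 y (selA 517 y c516 c517) (selA 519 y c518 c519))) (selA 524 y (selA 522 y (selA 521 y c520 c521) (selA 523 y c522 c523)) (selA 526 y (selA 525 y c524 c525) (selA 527 y c526 c527))))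

noncomputable def cl33 (y : ℕ) : Clm := (selA 536 y (selA 532 y (selA 530 y (selA 529 y c528 c529) (selA 531 y c530 c531)) (selA 534 y (selA 533 y c532 c533) (selA 535 y c534 c535))) (selA 540 y (selA 538 y (selA 537 y c536 c537) (selA 539 y c538 c539)) (selA 542 y (selA 541 y c540 c541) (selA 543 y c542 c543))))

noncomputable def cl34 (y : ℕ) : Clm := (selA 552 y (selA 548 y (selA 546 y (selA 545 y c544 c545) (selA 547 y c546 c547)) (selA 550 y (selA 549 y c548 c549) (selA 551 y c550 c551))) (selA 556 y (selA 554 y (selA 553 y c552 c553) (selA 555 y c554 c555)) (selA 558 y (selA 557 y c556 c557) (selA 559 y c558 c559))))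

noncomputable def cl35 (y : ℕ) : Clm := (selA 568 y (selA 564 y (selA 562 y (selA 561 y c560 c561) (selA 563 y c562 c563)) (selA 566 y (selA 565 y c564 c565) (selA 567 y c566 c567))) (selA 572 y (selA 570 y (selA 569 y c568 c569) (selA 571 y c570 c571)) (selA 574 y (selA 573 y c572 c573) (selA 575 y c574 c575))))

noncomputable def cl36 (y : ℕ) : Clm := (selA 584 y (selA 580 y (selA 578 y (selA 577 y c576 c577) (selA 579 y c578 c579)) (selA 582 y (selA 581 y c580 c581) (selA 583 y c582 c583))) (selA 588 y (selA 586 y (selA 585 y c584 c585) (selA 587 y c586 c587)) (selA 590 y (selA 589 y c588 c589) (selA 591 y c590 c591))))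

noncomputable def cl37 (y : ℕ) : Clm := (selA 600 y (selA 596 y (selA 594 y (selA 593 y c592 c593) (selA 595 y c594 c595)) (selA 598 y (selA 597 y c596 c597) (selA 599 y c598 c599))) (selA 604 y (selA 602 y (selA 601 y c600 c601) (selA 603 y c602 c603)) (selA 606 y (selA 605 y c604 c605) (selA 607 y c606 c607))))

noncomputable def cl38 (y : ℕ) : Clm := (selA 616 y (selA 612 y (selA 610 y (selA 609 y c608 c609) (selA 611 y c610 c611)) (selA 614 y (selA 613 y c612 c613) (selA 615 y c614 c615))) (selA 620 y (selA 618 y (selA 617 y c616 c617) (selA 619 y c618 c619)) (selA 622 y (selA 621 y c620 c621) (selA 623 y c622 c623))))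

noncomputable def cl39 (y : ℕ) : Clm := (selA 632 y (selA 628 y (selA 626 y (selA 625 y c624 c625) (selA 627 y c626 c627)) (selA 630 y (selA 629 y c628 c629) (selA 631 y c630 c631))) (selA 636 y (selA 634 y (selA 633 y c632 c633) (selA 635 y c634 c635)) (selA 638 y (selA 637 y c636 c637) (selA 639 y c638 c639))))

noncomputable def cl40 (y : ℕ) : Clm := (selA 648 y (selA 644 y (selA 642 y (selA 641 y c640 c641) (selA 643 y c642 c643)) (selA 646 y (selA 645 y c644 c645) (selA 647 y c646 c647))) (selA 652 y (selA 650 y (selA 649 y c648 c649) (selA 651 y c650 c651)) (selA 654 y (selA 653 y c652 c653) (selA 655 y c654 c655))))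

noncomputable def cl41 (y : ℕ) : Clm := (selA 664 y (selA 660 y (selA 658 y (selA 657 y c656 c657) (selA 659 y c658 c659)) (selA 662 y (selA 661 y c660 c661) (selA 663 y c662 c663))) (selA 668 y (selA 666 y (selA 665 y c664 c665) (selA 667 y c666 c667)) (selA 670 y (selA 669 y c668 c669) (selA 671 y c670 c671))))

noncomputable def cl42 (y : ℕ) : Clm := (selA 680 y (selA 676 y (selA 674 y (selA 673 y c672 c673) (selA 675 y c674 c675)) (selA 678 y (selA 677 y c676 c677) (selA 679 y c678 c679))) (selA 684 y (selA 682 y (selA 681 y c680 c681) (selA 683 y c682 c683)) (selA 686 y (selA 685 y c684 c685) (selA 687 y c686 c687))))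

noncomputable def cl43 (y : ℕ) : Clm := (selA 696 y (selA 692 y (selA 690 y (selA 689 y c688 c689) (selA 691 y c690 c691)) (selA 694 y (selA 693 y c692 c693) (selA 695 y c694 c695))) (selA 700 y (selA 698 y (selA 697 y c696 c697) (selA 699 y c698 c699)) (selA 702 y (selA 701 y c700 c701) (selA 703 y c702 c703))))

noncomputable def cl44 (y : ℕ) : Clm := (selA 712 y (selA 708 y (selA 706 y (selA 705 y c704 c705) (selA 707 y c706 c707)) (selA 710 y (selA 709 y c708 c709) (selA 711 y c710 c711))) (selA 716 y (selA 714 y (selA 713 y c712 c713) (selA 715 y c714 c715)) (selA 718 y (selA 717 y c716 c717) (selA 719 y c718 c719))))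

noncomputable def cl45 (y : ℕ) : Clm := (selA 728 y (selA 724 y (selA 722 y (selA 721 y c720 c721) (selA 723 y c722 c723)) (selA 726 y (selA 725 y c724 c725) (selA 727 y c726 c727))) (selA 732 y (selA 730 y (selA 729 y c728 c729) (selA 731 y c730 c731)) (selA 734 y (selA 733 y c732 c733) (selA 735 y c734 c735))))

noncomputable def cl46 (y : ℕ) : Clm := (selA 744 y (selA 740 y (selA 738 y (selA 737 y c736 c737) (selA 739 y c738 c739)) (selA 742 y (selA 741 y c740 c741) (selA 743 y c742 c743))) (selA 748 y (selA 746 y (selA 745 y c744 c745) (selA 747 y c746 c747)) (selA 750 y (selA 749 y c748 c749) (selA 751 y c750 c751))))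

noncomputable def cl47 (y : ℕ) : Clm := (selA 760 y (selA 756 y (selA 754 y (selA 753 y c752 c753) (selA 755 y c754 c755)) (selA 758 y (selA 757 y c756 c757) (selA 759 y c758 c759))) (selA 764 y (selA 762 y (selA 761 y c760 c761) (selA 763 y c762 c763)) (selA 766 y (selA 765 y c764 c765) (selA 767 y c766 c767))))

noncomputable def cl48 (y : ℕ) : Clm := (selA 776 y (selA 772 y (selA 770 y (selA 769 y c768 c769) (selA 771 y c770 c771)) (selA 774 y (selA 773 y c772 c773) (selA 775 y c774 c775))) (selA 780 y (selA 778 y (selA 777 y c776 c777) (selA 779 y c778 c779)) (selA 782 y (selA 781 y c780 c781) (selA 783 y c782 c783))))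

noncomputable def cl49 (y : ℕ) : Clm := (selA 792 y (selA 788 y (selA 786 y (selA 785 y c784 c785) (selA 787 y c786 c787)) (selA 790 y (selA 789 y c788 c789) (selA 791 y c790 c791))) (selA 796 y (selA 794 y (selA 793 y c792 c793) (selA 795 y c794 c795)) (selA 798 y (selA 797 y c796 c797) (selA 799 y c798 c799))))

noncomputable def cl50 (y : ℕ) : Clm := (selA 808 y (selA 804 y (selA 802 y (selA 801 y c800 c801) (selA 803 y c802 c803)) (selA 806 y (selA 805 y c804 c805) (selA 807 y c806 c807))) (selA 812 y (selA 810 y (selA 809 y c808 c809) (selA 811 y c810 c811)) (selA 814 y (selA 813 y c812 c813) (selA 815 y c814 c815))))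

noncomputable def cl51 (y : ℕ) : Clm := (selA 824 y (selA 820 y (selA 818 y (selA 817 y c816 c817) (selA 819 y c818 c819)) (selA 822 y (selA 821 y c820 c821) (selA 823 y c822 c823))) (selA 828 y (selA 826 y (selA 825 y c824 c825) (selA 827 y c826 c827)) (selA 830 y (selA 829 y c828 c829) (selA 831 y c830 c831))))

noncomputable def cl52 (y : ℕ) : Clm := (selA 840 y (selA 836 y (selA 834 y (selA 833 y c832 c833) (selA 835 y c834 c835)) (selA 838 y (selA 837 y c836 c837) (selA 839 y c838 c839))) (selA 844 y (selA 842 y (selA 841 y c840 c841) (selA 843 y c842 c843)) (selA 846 y (selA 845 y c844 c845) (selA 847 y c846 c847))))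

noncomputable def cl53 (y : ℕ) : Clm := (selA 856 y (selA 852 y (selA 850 y (selA 849 y c848 c849) (selA 851 y c850 c851)) (selA 854 y (selA 853 y c852 c853) (selA 855 y c854 c855))) (selA 860 y (selA 858 y (selA 857 y c856 c857) (selA 859 y c858 c859)) (selA 862 y (selA 861 y c860 c861) (selA 863 y c862 c863))))

noncomputable def cl54 (y : ℕ) : Clm := (selA 872 y (selA 868 y (selA 866 y (selA 865 y c864 c865) (selA 867 y c866 c867)) (selA 870 y (selA 869 y c868 c869) (selA 871 y c870 c871))) (selA 876 y (selA 874 y (selA 873 y c872 c873) (selA 875 y c874 c875)) (selA 878 y (selA 877 y c876 c877) (selA 879 y c878 c879))))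

noncomputable def cl55 (y : ℕ) : Clm := (selA 888 y (selA 884 y (selA 882 y (selA 881 y c880 c881) (selA 883 y c882 c883)) (selA 886 y (selA 885 y c884 c885) (selA 887 y c886 c887))) (selA 892 y (selA 890 y (selA 889 y c888 c889) (selA 891 y c890 c891)) (selA 894 y (selA 893 y c892 c893) (selA 895 y c894 c895))))

noncomputable def cl56 (y : ℕ) : Clm := (selA 904 y (selA 900 y (selA 898 y (selA 897 y c896 c897) (selA 899 y c898 c899)) (selA 902 y (selA 901 y c900 c901) (selA 903 y c902 c903))) (selA 908 y (selA 906 y (selA 905 y c904 c905) (selA 907 y c906 c907)) (selA 910 y (selA 909 y c908 c909) (selA 911 y c910 c911))))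

noncomputable def cl57 (y : ℕ) : Clm := (selA 920 y (selA 916 y (selA 914 y (selA 913 y c912 c913) (selA 915 y c914 c915)) (selA 918 y (selA 917 y c916 c917) (selA 919 y c918 c919))) (selA 924 y (selA 922 y (selA 921 y c920 c921) (selA 923 y c922 c923)) (selA 926 y (selA 925 y c924 c925) (selA 927 y c926 c927))))

noncomputable def cl58 (y : ℕ) : Clm := (selA 936 y (selA 932 y (selA 930 y (selA 929 y c928 c929) (selA 931 y c930 c931)) (selA 934 y (selA 933 y c932 c933) (selA 935 y c934 c935))) (selA 940 y (selA 938 y (selA 937 y c936 c937) (selA 939 y c938 c939)) (selA 942 y (selA 941 y c940 c941) (selA 943 y c942 c943))))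

noncomputable def cl59 (y : ℕ) : Clm := (selA 952 y (selA 948 y (selA 946 y (selA 945 y c944 c945) (selA 947 y c946 c947)) (selA 950 y (selA 949 y c948 c949) (selA 951 y c950 c951))) (selA 956 y (selA 954 y (selA 953 y c952 c953) (selA 955 y c954 c955)) (selA 958 y (selA 957 y c956 c957) (selA 959 y c958 c959))))

noncomputable def cl60 (y : ℕ) : Clm := (selA 968 y (selA 964 y (selA 962 y (selA 961 y c960 c961) (selA 963 y c962 c963)) (selA 966 y (selA 965 y c964 c965) (selA 967 y c966 c967))) (selA 972 y (selA 970 y (selA 969 y c968 c969) (selA 971 y c970 c971)) (selA 974 y (selA 973 y c972 c973) (selA 975 y c974 c975))))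

noncomputable def cl61 (y : ℕ) : Clm := (selA 984 y (selA 980 y (selA 978 y (selA 977 y c976 c977) (selA 979 y c978 c979)) (selA 982 y (selA 981 y c980 c981) (selA 983 y c982 c983))) (selA 988 y (selA 986 y (selA 985 y c984 c985) (selA 987 y c986 c987)) (selA 990 y (selA 989 y c988 c989) (selA 991 y c990 c991))))

noncomputable def cl62 (y : ℕ) : Clm := (selA 1000 y (selA 996 y (selA 994 y (selA 993 y c992 c993) (selA 995 y c994 c995)) (selA 998 y (selA 997 y c996 c997) (selA 999 y c998 c999))) (selA 1004 y (selA 1002 y (selA 1001 y c1000 c1001) (selA 1003 y c1002 c1003)) (selA 1006 y (selA 1005 y c1004 c1005) (selA 1007 y c1006 c1007))))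

noncomputable def cl63 (y : ℕ) : Clm := (selA 1016 y (selA 1012 y (selA 1010 y (selA 1009 y c1008 c1009) (selA 1011 y c1010 c1011)) (selA 1014 y (selA 1013 y c1012 c1013) (selA 1015 y c1014 c1015))) (selA 1020 y (selA 1018 y (selA 1017 y c1016 c1017) (selA 1019 y c1018 c1019)) (selA 1022 y (selA 1021 y c1020 c1021) (selA 1023 y c1022 c1023))))

noncomputable def cl64 (y : ℕ) : Clm := (selA 1032 y (selA 1028 y (selA 1026 y (selA 1025 y c1024 c1025) (selA 1027 y c1026 c1027)) (selA 1030 y (selA 1029 y c1028 c1029) (selA 1031 y c1030 c1031))) (selA 1036 y (selA 1034 y (selA 1033 y c1032 c1033) (selA 1035 y c1034 c1035)) (selA 1038 y (selA 1037 y c1036 c1037) (selA 1039 y c1038 c1039))))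

noncomputable def cl65 (y : ℕ) : Clm := (selA 1048 y (selA 1044 y (selA 1042 y (selA 1041 y c1040 c1041) (selA 1043 y c1042 c1043)) (selA 1046 y (selA 1045 y c1044 c1045) (selA 1047 y c1046 c1047))) (selA 1052 y (selA 1050 y (selA 1049 y c1048 c1049) (selA 1051 y c1050 c1051)) (selA 1054 y (selA 1053 y c1052 c1053) (selA 1055 y c1054 c1055))))

noncomputable def cl66 (y : ℕ) : Clm := (selA 1064 y (selA 1060 y (selA 1058 y (selA 1057 y c1056 c1057) (selA 1059 y c1058 c1059)) (selA 1062 y (selA 1061 y c1060 c1061) (selA 1063 y c1062 c1063))) (selA 1068 y (selA 1066 y (selA 1065 y c1064 c1065) (selA 1067 y c1066 c1067)) (selA 1070 y (selA 1069 y c1068 c1069) (selA 1071 y c1070 c1071))))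

noncomputable def cl67 (y : ℕ) : Clm := (selA 1080 y (selA 1076 y (selA 1074 y (selA 1073 y c1072 c1073) (selA 1075 y c1074 c1075)) (selA 1078 y (selA 1077 y c1076 c1077) (selA 1079 y c1078 c1079))) (selA 1084 y (selA 1082 y (selA 1081 y c1080 c1081) (selA 1083 y c1082 c1083)) (selA 1086 y (selA 1085 y c1084 c1085) (selA 1087 y c1086 c1087))))

noncomputable def cl68 (y : ℕ) : Clm := (selA 1096 y (selA 1092 y (selA 1090 y (selA 1089 y c1088 c1089) (selA 1091 y c1090 c1091)) (selA 1094 y (selA 1093 y c1092 c1093) (selA 1095 y c1094 c1095))) (selA 1100 y (selA 1098 y (selA 1097 y c1096 c1097) (selA 1099 y c1098 c1099)) (selA 1102 y (selA 1101 y c1100 c1101) (selA 1103 y c1102 c1103))))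

noncomputable def cl69 (y : ℕ) : Clm := (selA 1112 y (selA 1108 y (selA 1106 y (selA 1105 y c1104 c1105) (selA 1107 y c1106 c1107)) (selA 1110 y (selA 1109 y c1108 c1109) (selA 1111 y c1110 c1111))) (selA 1116 y (selA 1114 y (selA 1113 y c1112 c1113) (selA 1115 y c1114 c1115)) (selA 1118 y (selA 1117 y c1116 c1117) (selA 1119 y c1118 c1119))))

noncomputable def cl70 (y : ℕ) : Clm := (selA 1128 y (selA 1124 y (selA 1122 y (selA 1121 y c1120 c1121) (selA 1123 y c1122 c1123)) (selA 1126 y (selA 1125 y c1124 c1125) (selA 1127 y c1126 c1127))) (selA 1132 y (selA 1130 y (selA 1129 y c1128 c1129) (selA 1131 y c1130 c1131)) (selA 1134 y (selA 1133 y c1132 c1133) (selA 1135 y c1134 c1135))))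

noncomputable def cl71 (y : ℕ) : Clm := (selA 1144 y (selA 1140 y (selA 1138 y (selA 1137 y c1136 c1137) (selA 1139 y c1138 c1139)) (selA 1142 y (selA 1141 y c1140 c1141) (selA 1143 y c1142 c1143))) (selA 1148 y (selA 1146 y (selA 1145 y c1144 c1145) (selA 1147 y c1146 c1147)) (selA 1150 y (selA 1149 y c1148 c1149) (selA 1151 y c1150 c1151))))

noncomputable def cl72 (y : ℕ) : Clm := (selA 1160 y (selA 1156 y (selA 1154 y (selA 1153 y c1152 c1153) (selA 1155 y c1154 c1155)) (selA 1158 y (selA 1157 y c1156 c1157) (selA 1159 y c1158 c1159))) (selA 1164 y (selA 1162 y (selA 1161 y c1160 c1161) (selA 1163 y c1162 c1163)) (selA 1166 y (selA 1165 y c1164 c1165) (selA 1167 y c1166 c1167))))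

noncomputable def cl73 (y : ℕ) : Clm := (selA 1176 y (selA 1172 y (selA 1170 y (selA 1169 y c1168 c1169) (selA 1171 y c1170 c1171)) (selA 1174 y (selA 1173 y c1172 c1173) (selA 1175 y c1174 c1175))) (selA 1180 y (selA 1178 y (selA 1177 y c1176 c1177) (selA 1179 y c1178 c1179)) (selA 1182 y (selA 1181 y c1180 c1181) (selA 1183 y c1182 c1183))))

noncomputable def cl74 (y : ℕ) : Clm := (selA 1192 y (selA 1188 y (selA 1186 y (selA 1185 y c1184 c1185) (selA 1187 y c1186 c1187)) (selA 1190 y (selA 1189 y c1188 c1189) (selA 1191 y c1190 c1191))) (selA 1196 y (selA 1194 y (selA 1193 y c1192 c1193) (selA 1195 y c1194 c1195)) (selA 1198 y (selA 1197 y c1196 c1197) (selA 1199 y c1198 c1199))))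

noncomputable def cl75 (y : ℕ) : Clm := (selA 1208 y (selA 1204 y (selA 1202 y (selA 1201 y c1200 c1201) (selA 1203 y c1202 c1203)) (selA 1206 y (selA 1205 y c1204 c1205) (selA 1207 y c1206 c1207))) (selA 1212 y (selA 1210 y (selA 1209 y c1208 c1209) (selA 1211 y c1210 c1211)) (selA 1214 y (selA 1213 y c1212 c1213) (selA 1215 y c1214 c1215))))

noncomputable def cl76 (y : ℕ) : Clm := (selA 1224 y (selA 1220 y (selA 1218 y (selA 1217 y c1216 c1217) (selA 1219 y c1218 c1219)) (selA 1222 y (selA 1221 y c1220 c1221) (selA 1223 y c1222 c1223))) (selA 1228 y (selA 1226 y (selA 1225 y c1224 c1225) (selA 1227 y c1226 c1227)) (selA 1230 y (selA 1229 y c1228 c1229) (selA 1231 y c1230 c1231))))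

noncomputable def cl77 (y : ℕ) : Clm := (selA 1240 y (selA 1236 y (selA 1234 y (selA 1233 y c1232 c1233) (selA 1235 y c1234 c1235)) (selA 1238 y (selA 1237 y c1236 c1237) (selA 1239 y c1238 c1239))) (selA 1244 y (selA 1242 y (selA 1241 y c1240 c1241) (selA 1243 y c1242 c1243)) (selA 1246 y (selA 1245 y c1244 c1245) (selA 1247 y c1246 c1247))))

noncomputable def cl78 (y : ℕ) : Clm := (selA 1256 y (selA 1252 y (selA 1250 y (selA 1249 y c1248 c1249) (selA 1251 y c1250 c1251)) (selA 1254 y (selA 1253 y c1252 c1253) (selA 1255 y c1254 c1255))) (selA 1260 y (selA 1258 y (selA 1257 y c1256 c1257) (selA 1259 y c1258 c1259)) (selA 1262 y (selA 1261 y c1260 c1261) (selA 1263 y c1262 c1263))))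

noncomputable def cl79 (y : ℕ) : Clm := (selA 1272 y (selA 1268 y (selA 1266 y (selA 1265 y c1264 c1265) (selA 1267 y c1266 c1267)) (selA 1270 y (selA 1269 y c1268 c1269) (selA 1271 y c1270 c1271))) (selA 1276 y (selA 1274 y (selA 1273 y c1272 c1273) (selA 1275 y c1274 c1275)) (selA 1278 y (selA 1277 y c1276 c1277) (selA 1279 y c1278 c1279))))

noncomputable def cl80 (y : ℕ) : Clm := (selA 1288 y (selA 1284 y (selA 1282 y (selA 1281 y c1280 c1281) (selA 1283 y c1282 c1283)) (selA 1286 y (selA 1285 y c1284 c1285) (selA 1287 y c1286 c1287))) (selA 1292 y (selA 1290 y (selA 1289 y c1288 c1289) (selA 1291 y c1290 c1291)) (selA 1294 y (selA 1293 y c1292 c1293) (selA 1295 y c1294 c1295))))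

noncomputable def cl81 (y : ℕ) : Clm := (selA 1304 y (selA 1300 y (selA 1298 y (selA 1297 y c1296 c1297) (selA 1299 y c1298 c1299)) (selA 1302 y (selA 1301 y c1300 c1301) (selA 1303 y c1302 c1303))) (selA 1308 y (selA 1306 y (selA 1305 y c1304 c1305) (selA 1307 y c1306 c1307)) (selA 1310 y (selA 1309 y c1308 c1309) (selA 1311 y c1310 c1311))))

noncomputable def cl82 (y : ℕ) : Clm := (selA 1320 y (selA 1316 y (selA 1314 y (selA 1313 y c1312 c1313) (selA 1315 y c1314 c1315)) (selA 1318 y (selA 1317 y c1316 c1317) (selA 1319 y c1318 c1319))) (selA 1324 y (selA 1322 y (selA 1321 y c1320 c1321) (selA 1323 y c1322 c1323)) (selA 1326 y (selA 1325 y c1324 c1325) (selA 1327 y c1326 c1327))))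

noncomputable def cl83 (y : ℕ) : Clm := (selA 1336 y (selA 1332 y (selA 1330 y (selA 1329 y c1328 c1329) (selA 1331 y c1330 c1331)) (selA 1334 y (selA 1333 y c1332 c1333) (selA 1335 y c1334 c1335))) (selA 1340 y (selA 1338 y (selA 1337 y c1336 c1337) (selA 1339 y c1338 c1339)) (selA 1342 y (selA 1341 y c1340 c1341) (selA 1343 y c1342 c1343))))

noncomputable def cl84 (y : ℕ) : Clm := (selA 1352 y (selA 1348 y (selA 1346 y (selA 1345 y c1344 c1345) (selA 1347 y c1346 c1347)) (selA 1350 y (selA 1349 y c1348 c1349) (selA 1351 y c1350 c1351))) (selA 1356 y (selA 1354 y (selA 1353 y c1352 c1353) (selA 1355 y c1354 c1355)) (selA 1358 y (selA 1357 y c1356 c1357) (selA 1359 y c1358 c1359))))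

noncomputable def cl85 (y : ℕ) : Clm := (selA 1368 y (selA 1364 y (selA 1362 y (selA 1361 y c1360 c1361) (selA 1363 y c1362 c1363)) (selA 1366 y (selA 1365 y c1364 c1365) (selA 1367 y c1366 c1367))) (selA 1372 y (selA 1370 y (selA 1369 y c1368 c1369) (selA 1371 y c1370 c1371)) (selA 1374 y (selA 1373 y c1372 c1373) (selA 1375 y c1374 c1375))))

noncomputable def cl86 (y : ℕ) : Clm := (selA 1384 y (selA 1380 y (selA 1378 y (selA 1377 y c1376 c1377) (selA 1379 y c1378 c1379)) (selA 1382 y (selA 1381 y c1380 c1381) (selA 1383 y c1382 c1383))) (selA 1388 y (selA 1386 y (selA 1385 y c1384 c1385) (selA 1387 y c1386 c1387)) (selA 1390 y (selA 1389 y c1388 c1389) (selA 1391 y c1390 c1391))))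

noncomputable def cl87 (y : ℕ) : Clm := (selA 1400 y (selA 1396 y (selA 1394 y (selA 1393 y c1392 c1393) (selA 1395 y c1394 c1395)) (selA 1398 y (selA 1397 y c1396 c1397) (selA 1399 y c1398 c1399))) (selA 1404 y (selA 1402 y (selA 1401 y c1400 c1401) (selA 1403 y c1402 c1403)) (selA 1406 y (selA 1405 y c1404 c1405) (selA 1407 y c1406 c1407))))

noncomputable def cl88 (y : ℕ) : Clm := (selA 1416 y (selA 1412 y (selA 1410 y (selA 1409 y c1408 c1409) (selA 1411 y c1410 c1411)) (selA 1414 y (selA 1413 y c1412 c1413) (selA 1415 y c1414 c1415))) (selA 1420 y (selA 1418 y (selA 1417 y c1416 c1417) (selA 1419 y c1418 c1419)) (selA 1422 y (selA 1421 y c1420 c1421) (selA 1423 y c1422 c1423))))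

noncomputable def cl89 (y : ℕ) : Clm := (selA 1432 y (selA 1428 y (selA 1426 y (selA 1425 y c1424 c1425) (selA 1427 y c1426 c1427)) (selA 1430 y (selA 1429 y c1428 c1429) (selA 1431 y c1430 c1431))) (selA 1436 y (selA 1434 y (selA 1433 y c1432 c1433) (selA 1435 y c1434 c1435)) (selA 1438 y (selA 1437 y c1436 c1437) (selA 1439 y c1438 c1439))))

noncomputable def cl90 (y : ℕ) : Clm := (selA 1448 y (selA 1444 y (selA 1442 y (selA 1441 y c1440 c1441) (selA 1443 y c1442 c1443)) (selA 1446 y (selA 1445 y c1444 c1445) (selA 1447 y c1446 c1447))) (selA 1452 y (selA 1450 y (selA 1449 y c1448 c1449) (selA 1451 y c1450 c1451)) (selA 1454 y (selA 1453 y c1452 c1453) (selA 1455 y c1454 c1455))))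

noncomputable def cl91 (y : ℕ) : Clm := (selA 1464 y (selA 1460 y (selA 1458 y (selA 1457 y c1456 c1457) (selA 1459 y c1458 c1459)) (selA 1462 y (selA 1461 y c1460 c1461) (selA 1463 y c1462 c1463))) (selA 1468 y (selA 1466 y (selA 1465 y c1464 c1465) (selA 1467 y c1466 c1467)) (selA 1470 y (selA 1469 y c1468 c1469) (selA 1471 y c1470 c1471))))

noncomputable def cl92 (y : ℕ) : Clm := (selA 1480 y (selA 1476 y (selA 1474 y (selA 1473 y c1472 c1473) (selA 1475 y c1474 c1475)) (selA 1478 y (selA 1477 y c1476 c1477) (selA 1479 y c1478 c1479))) (selA 1484 y (selA 1482 y (selA 1481 y c1480 c1481) (selA 1483 y c1482 c1483)) (selA 1486 y (selA 1485 y c1484 c1485) (selA 1487 y c1486 c1487))))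

noncomputable def cl93 (y : ℕ) : Clm := (selA 1496 y (selA 1492 y (selA 1490 y (selA 1489 y c1488 c1489) (selA 1491 y c1490 c1491)) (selA 1494 y (selA 1493 y c1492 c1493) (selA 1495 y c1494 c1495))) (selA 1500 y (selA 1498 y (selA 1497 y c1496 c1497) (selA 1499 y c1498 c1499)) (selA 1502 y (selA 1501 y c1500 c1501) (selA 1503 y c1502 c1503))))

noncomputable def cl94 (y : ℕ) : Clm := (selA 1512 y (selA 1508 y (selA 1506 y (selA 1505 y c1504 c1505) (selA 1507 y c1506 c1507)) (selA 1510 y (selA 1509 y c1508 c1509) (selA 1511 y c1510 c1511))) (selA 1516 y (selA 1514 y (selA 1513 y c1512 c1513) (selA 1515 y c1514 c1515)) (selA 1518 y (selA 1517 y c1516 c1517) (selA 1519 y c1518 c1519))))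

noncomputable def cl95 (y : ℕ) : Clm := (selA 1528 y (selA 1524 y (selA 1522 y (selA 1521 y c1520 c1521) (selA 1523 y c1522 c1523)) (selA 1526 y (selA 1525 y c1524 c1525) (selA 1527 y c1526 c1527))) (selA 1532 y (selA 1530 y (selA 1529 y c1528 c1529) (selA 1531 y c1530 c1531)) (selA 1534 y (selA 1533 y c1532 c1533) (selA 1535 y c1534 c1535))))

noncomputable def cl96 (y : ℕ) : Clm := (selA 1544 y (selA 1540 y (selA 1538 y (selA 1537 y c1536 c1537) (selA 1539 y c1538 c1539)) (selA 1542 y (selA 1541 y c1540 c1541) (selA 1543 y c1542 c1543))) (selA 1548 y (selA 1546 y (selA 1545 y c1544 c1545) (selA 1547 y c1546 c1547)) (selA 1550 y (selA 1549 y c1548 c1549) (selA 1551 y c1550 c1551))))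

noncomputable def cl97 (y : ℕ) : Clm := (selA 1560 y (selA 1556 y (selA 1554 y (selA 1553 y c1552 c1553) (selA 1555 y c1554 c1555)) (selA 1558 y (selA 1557 y c1556 c1557) (selA 1559 y c1558 c1559))) (selA 1564 y (selA 1562 y (selA 1561 y c1560 c1561) (selA 1563 y c1562 c1563)) (selA 1566 y (selA 1565 y c1564 c1565) (selA 1567 y c1566 c1567))))

noncomputable def cl98 (y : ℕ) : Clm := (selA 1576 y (selA 1572 y (selA 1570 y (selA 1569 y c1568 c1569) (selA 1571 y c1570 c1571)) (selA 1574 y (selA 1573 y c1572 c1573) (selA 1575 y c1574 c1575))) (selA 1580 y (selA 1578 y (selA 1577 y c1576 c1577) (selA 1579 y c1578 c1579)) (selA 1582 y (selA 1581 y c1580 c1581) (selA 1583 y c1582 c1583))))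

noncomputable def cl99 (y : ℕ) : Clm := (selA 1592 y (selA 1588 y (selA 1586 y (selA 1585 y c1584 c1585) (selA 1587 y c1586 c1587)) (selA 1590 y (selA 1589 y c1588 c1589) (selA 1591 y c1590 c1591))) (selA 1596 y (selA 1594 y (selA 1593 y c1592 c1593) (selA 1595 y c1594 c1595)) (selA 1598 y (selA 1597 y c1596 c1597) (selA 1599 y c1598 c1599))))

noncomputable def cl100 (y : ℕ) : Clm := (selA 1608 y (selA 1604 y (selA 1602 y (selA 1601 y c1600 c1601) (selA 1603 y c1602 c1603)) (selA 1606 y (selA 1605 y c1604 c1605) (selA 1607 y c1606 c1607))) (selA 1612 y (selA 1610 y (selA 1609 y c1608 c1609) (selA 1611 y c1610 c1611)) (selA 1614 y (selA 1613 y c1612 c1613) (selA 1615 y c1614 c1615))))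

noncomputable def cl101 (y : ℕ) : Clm := (selA 1624 y (selA 1620 y (selA 1618 y (selA 1617 y c1616 c1617) (selA 1619 y c1618 c1619)) (selA 1622 y (selA 1621 y c1620 c1621) (selA 1623 y c1622 c1623))) (selA 1628 y (selA 1626 y (selA 1625 y c1624 c1625) (selA 1627 y c1626 c1627)) (selA 1630 y (selA 1629 y c1628 c1629) (selA 1631 y c1630 c1631))))

noncomputable def cl102 (y : ℕ) : Clm := (selA 1640 y (selA 1636 y (selA 1634 y (selA 1633 y c1632 c1633) (selA 1635 y c1634 c1635)) (selA 1638 y (selA 1637 y c1636 c1637) (selA 1639 y c1638 c1639))) (selA 1644 y (selA 1642 y (selA 1641 y c1640 c1641) (selA 1643 y c1642 c1643)) (selA 1646 y (selA 1645 y c1644 c1645) (selA 1647 y c1646 c1647))))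

noncomputable def cl103 (y : ℕ) : Clm := (selA 1656 y (selA 1652 y (selA 1650 y (selA 1649 y c1648 c1649) (selA 1651 y c1650 c1651)) (selA 1654 y (selA 1653 y c1652 c1653) (selA 1655 y c1654 c1655))) (selA 1660 y (selA 1658 y (selA 1657 y c1656 c1657) (selA 1659 y c1658 c1659)) (selA 1662 y (selA 1661 y c1660 c1661) (selA 1663 y c1662 c1663))))

noncomputable def cl104 (y : ℕ) : Clm := (selA 1672 y (selA 1668 y (selA 1666 y (selA 1665 y c1664 c1665) (selA 1667 y c1666 c1667)) (selA 1670 y (selA 1669 y c1668 c1669) (selA 1671 y c1670 c1671))) (selA 1676 y (selA 1674 y (selA 1673 y c1672 c1673) (selA 1675 y c1674 c1675)) (selA 1678 y (selA 1677 y c1676 c1677) (selA 1679 y c1678 c1679))))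

noncomputable def cl105 (y : ℕ) : Clm := (selA 1688 y (selA 1684 y (selA 1682 y (selA 1681 y c1680 c1681) (selA 1683 y c1682 c1683)) (selA 1686 y (selA 1685 y c1684 c1685) (selA 1687 y c1686 c1687))) (selA 1692 y (selA 1690 y (selA 1689 y c1688 c1689) (selA 1691 y c1690 c1691)) (selA 1694 y (selA 1693 y c1692 c1693) (selA 1695 y c1694 c1695))))

noncomputable def cl106 (y : ℕ) : Clm := (selA 1704 y (selA 1700 y (selA 1698 y (selA 1697 y c1696 c1697) (selA 1699 y c1698 c1699)) (selA 1702 y (selA 1701 y c1700 c1701) (selA 1703 y c1702 c1703))) (selA 1708 y (selA 1706 y (selA 1705 y c1704 c1705) (selA 1707 y c1706 c1707)) (selA 1710 y (selA 1709 y c1708 c1709) (selA 1711 y c1710 c1711))))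

noncomputable def cl107 (y : ℕ) : Clm := (selA 1720 y (selA 1716 y (selA 1714 y (selA 1713 y c1712 c1713) (selA 1715 y c1714 c1715)) (selA 1718 y (selA 1717 y c1716 c1717) (selA 1719 y c1718 c1719))) (selA 1724 y (selA 1722 y (selA 1721 y c1720 c1721) (selA 1723 y c1722 c1723)) (selA 1726 y (selA 1725 y c1724 c1725) (selA 1727 y c1726 c1727))))

noncomputable def cl108 (y : ℕ) : Clm := (selA 1736 y (selA 1732 y (selA 1730 y (selA 1729 y c1728 c1729) (selA 1731 y c1730 c1731)) (selA 1734 y (selA 1733 y c1732 c1733) (selA 1735 y c1734 c1735))) (selA 1740 y (selA 1738 y (selA 1737 y c1736 c1737) (selA 1739 y c1738 c1739)) (selA 1742 y (selA 1741 y c1740 c1741) (selA 1743 y c1742 c1743))))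

noncomputable def cl109 (y : ℕ) : Clm := (selA 1752 y (selA 1748 y (selA 1746 y (selA 1745 y c1744 c1745) (selA 1747 y c1746 c1747)) (selA 1750 y (selA 1749 y c1748 c1749) (selA 1751 y c1750 c1751))) (selA 1756 y (selA 1754 y (selA 1753 y c1752 c1753) (selA 1755 y c1754 c1755)) (selA 1758 y (selA 1757 y c1756 c1757) (selA 1759 y c1758 c1759))))

noncomputable def cl110 (y : ℕ) : Clm := (selA 1768 y (selA 1764 y (selA 1762 y (selA 1761 y c1760 c1761) (selA 1763 y c1762 c1763)) (selA 1766 y (selA 1765 y c1764 c1765) (selA 1767 y c1766 c1767))) (selA 1772 y (selA 1770 y (selA 1769 y c1768 c1769) (selA 1771 y c1770 c1771)) (selA 1774 y (selA 1773 y c1772 c1773) (selA 1775 y c1774 c1775))))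

noncomputable def cl111 (y : ℕ) : Clm := (selA 1784 y (selA 1780 y (selA 1778 y (selA 1777 y c1776 c1777) (selA 1779 y c1778 c1779)) (selA 1782 y (selA 1781 y c1780 c1781) (selA 1783 y c1782 c1783))) (selA 1788 y (selA 1786 y (selA 1785 y c1784 c1785) (selA 1787 y c1786 c1787)) (selA 1790 y (selA 1789 y c1788 c1789) (selA 1791 y c1790 c1791))))

noncomputable def cl112 (y : ℕ) : Clm := (selA 1800 y (selA 1796 y (selA 1794 y (selA 1793 y c1792 c1793) (selA 1795 y c1794 c1795)) (selA 1798 y (selA 1797 y c1796 c1797) (selA 1799 y c1798 c1799))) (selA 1804 y (selA 1802 y (selA 1801 y c1800 c1801) (selA 1803 y c1802 c1803)) (selA 1806 y (selA 1805 y c1804 c1805) (selA 1807 y c1806 c1807))))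

noncomputable def cl113 (y : ℕ) : Clm := (selA 1816 y (selA 1812 y (selA 1810 y (selA 1809 y c1808 c1809) (selA 1811 y c1810 c1811)) (selA 1814 y (selA 1813 y c1812 c1813) (selA 1815 y c1814 c1815))) (selA 1820 y (selA 1818 y (selA 1817 y c1816 c1817) (selA 1819 y c1818 c1819)) (selA 1822 y (selA 1821 y c1820 c1821) (selA 1823 y c1822 c1823))))

noncomputable def cl114 (y : ℕ) : Clm := (selA 1832 y (selA 1828 y (selA 1826 y (selA 1825 y c1824 c1825) (selA 1827 y c1826 c1827)) (selA 1830 y (selA 1829 y c1828 c1829) (selA 1831 y c1830 c1831))) (selA 1836 y (selA 1834 y (selA 1833 y c1832 c1833) (selA 1835 y c1834 c1835)) (selA 1838 y (selA 1837 y c1836 c1837) (selA 1839 y c1838 c1839))))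

noncomputable def cl115 (y : ℕ) : Clm := (selA 1848 y (selA 1844 y (selA 1842 y (selA 1841 y c1840 c1841) (selA 1843 y c1842 c1843)) (selA 1846 y (selA 1845 y c1844 c1845) (selA 1847 y c1846 c1847))) (selA 1852 y (selA 1850 y (selA 1849 y c1848 c1849) (selA 1851 y c1850 c1851)) (selA 1854 y (selA 1853 y c1852 c1853) (selA 1855 y c1854 c1855))))

noncomputable def cl116 (y : ℕ) : Clm := (selA 1864 y (selA 1860 y (selA 1858 y (selA 1857 y c1856 c1857) (selA 1859 y c1858 c1859)) (selA 1862 y (selA 1861 y c1860 c1861) (selA 1863 y c1862 c1863))) (selA 1868 y (selA 1866 y (selA 1865 y c1864 c1865) (selA 1867 y c1866 c1867)) (selA 1870 y (selA 1869 y c1868 c1869) (selA 1871 y c1870 c1871))))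

noncomputable def cl117 (y : ℕ) : Clm := (selA 1880 y (selA 1876 y (selA 1874 y (selA 1873 y c1872 c1873) (selA 1875 y c1874 c1875)) (selA 1878 y (selA 1877 y c1876 c1877) (selA 1879 y c1878 c1879))) (selA 1884 y (selA 1882 y (selA 1881 y c1880 c1881) (selA 1883 y c1882 c1883)) (selA 1886 y (selA 1885 y c1884 c1885) (selA 1887 y c1886 c1887))))

noncomputable def cl118 (y : ℕ) : Clm := (selA 1896 y (selA 1892 y (selA 1890 y (selA 1889 y c1888 c1889) (selA 1891 y c1890 c1891)) (selA 1894 y (selA 1893 y c1892 c1893) (selA 1895 y c1894 c1895))) (selA 1900 y (selA 1898 y (selA 1897 y c1896 c1897) (selA 1899 y c1898 c1899)) (selA 1902 y (selA 1901 y c1900 c1901) (selA 1903 y c1902 c1903))))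

noncomputable def cl119 (y : ℕ) : Clm := (selA 1912 y (selA 1908 y (selA 1906 y (selA 1905 y c1904 c1905) (selA 1907 y c1906 c1907)) (selA 1910 y (selA 1909 y c1908 c1909) (selA 1911 y c1910 c1911))) (selA 1916 y (selA 1914 y (selA 1913 y c1912 c1913) (selA 1915 y c1914 c1915)) (selA 1918 y (selA 1917 y c1916 c1917) (selA 1919 y c1918 c1919))))

noncomputable def cl120 (y : ℕ) : Clm := (selA 1928 y (selA 1924 y (selA 1922 y (selA 1921 y c1920 c1921) (selA 1923 y c1922 c1923)) (selA 1926 y (selA 1925 y c1924 c1925) (selA 1927 y c1926 c1927))) (selA 1932 y (selA 1930 y (selA 1929 y c1928 c1929) (selA 1931 y c1930 c1931)) (selA 1934 y (selA 1933 y c1932 c1933) (selA 1935 y c1934 c1935))))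

noncomputable def cl121 (y : ℕ) : Clm := (selA 1944 y (selA 1940 y (selA 1938 y (selA 1937 y c1936 c1937) (selA 1939 y c1938 c1939)) (selA 1942 y (selA 1941 y c1940 c1941) (selA 1943 y c1942 c1943))) (selA 1948 y (selA 1946 y (selA 1945 y c1944 c1945) (selA 1947 y c1946 c1947)) (selA 1950 y (selA 1949 y c1948 c1949) (selA 1951 y c1950 c1951))))

noncomputable def cl122 (y : ℕ) : Clm := (selA 1960 y (selA 1956 y (selA 1954 y (selA 1953 y c1952 c1953) (selA 1955 y c1954 c1955)) (selA 1958 y (selA 1957 y c1956 c1957) (selA 1959 y c1958 c1959))) (selA 1964 y (selA 1962 y (selA 1961 y c1960 c1961) (selA 1963 y c1962 c1963)) (selA 1966 y (selA 1965 y c1964 c1965) (selA 1967 y c1966 c1967))))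

noncomputable def cl123 (y : ℕ) : Clm := (selA 1976 y (selA 1972 y (selA 1970 y (selA 1969 y c1968 c1969) (selA 1971 y c1970 c1971)) (selA 1974 y (selA 1973 y c1972 c1973) (selA 1975 y c1974 c1975))) (selA 1980 y (selA 1978 y (selA 1977 y c1976 c1977) (selA 1979 y c1978 c1979)) (selA 1982 y (selA 1981 y c1980 c1981) (selA 1983 y c1982 c1983))))

noncomputable def cl124 (y : ℕ) : Clm := (selA 1992 y (selA 1988 y (selA 1986 y (selA 1985 y c1984 c1985) (selA 1987 y c1986 c1987)) (selA 1990 y (selA 1989 y c1988 c1989) (selA 1991 y c1990 c1991))) (selA 1996 y (selA 1994 y (selA 1993 y c1992 c1993) (selA 1995 y c1994 c1995)) (selA 1998 y (selA 1997 y c1996 c1997) (selA 1999 y c1998 c1999))))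

noncomputable def cl125 (y : ℕ) : Clm := (selA 2008 y (selA 2004 y (selA 2002 y (selA 2001 y c2000 c2001) (selA 2003 y c2002 c2003)) (selA 2006 y (selA 2005 y c2004 c2005) (selA 2007 y c2006 c2007))) (selA 2012 y (selA 2010 y (selA 2009 y c2008 c2009) (selA 2011 y c2010 c2011)) (selA 2014 y (selA 2013 y c2012 c2013) (selA 2015 y c2014 c2015))))

noncomputable def cl126 (y : ℕ) : Clm := (selA 2024 y (selA 2020 y (selA 2018 y (selA 2017 y c2016 c2017) (selA 2019 y c2018 c2019)) (selA 2022 y (selA 2021 y c2020 c2021) (selA 2023 y c2022 c2023))) (selA 2028 y (selA 2026 y (selA 2025 y c2024 c2025) (selA 2027 y c2026 c2027)) (selA 2030 y (selA 2029 y c2028 c2029) (selA 2031 y c2030 c2031))))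

noncomputable def cl127 (y : ℕ) : Clm := (selA 2040 y (selA 2036 y (selA 2034 y (selA 2033 y c2032 c2033) (selA 2035 y c2034 c2035)) (selA 2038 y (selA 2037 y c2036 c2037) (selA 2039 y c2038 c2039))) (selA 2044 y (selA 2042 y (selA 2041 y c2040 c2041) (selA 2043 y c2042 c2043)) (selA 2046 y (selA 2045 y c2044 c2045) (selA 2047 y c2046 c2047))))

noncomputable def cl128 (y : ℕ) : Clm := (selA 2056 y (selA 2052 y (selA 2050 y (selA 2049 y c2048 c2049) (selA 2051 y c2050 c2051)) (selA 2054 y (selA 2053 y c2052 c2053) (selA 2055 y c2054 c2055))) (selA 2060 y (selA 2058 y (selA 2057 y c2056 c2057) (selA 2059 y c2058 c2059)) (selA 2062 y (selA 2061 y c2060 c2061) (selA 2063 y c2062 c2063))))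

noncomputable def cl129 (y : ℕ) : Clm := (selA 2072 y (selA 2068 y (selA 2066 y (selA 2065 y c2064 c2065) (selA 2067 y c2066 c2067)) (selA 2070 y (selA 2069 y c2068 c2069) (selA 2071 y c2070 c2071))) (selA 2076 y (selA 2074 y (selA 2073 y c2072 c2073) (selA 2075 y c2074 c2075)) (selA 2078 y (selA 2077 y c2076 c2077) (selA 2079 y c2078 c2079))))

noncomputable def cl130 (y : ℕ) : Clm := (selA 2088 y (selA 2084 y (selA 2082 y (selA 2081 y c2080 c2081) (selA 2083 y c2082 c2083)) (selA 2086 y (selA 2085 y c2084 c2085) (selA 2087 y c2086 c2087))) (selA 2092 y (selA 2090 y (selA 2089 y c2088 c2089) (selA 2091 y c2090 c2091)) (selA 2094 y (selA 2093 y c2092 c2093) (selA 2095 y c2094 c2095))))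

noncomputable def cl131 (y : ℕ) : Clm := (selA 2104 y (selA 2100 y (selA 2098 y (selA 2097 y c2096 c2097) (selA 2099 y c2098 c2099)) (selA 2102 y (selA 2101 y c2100 c2101) (selA 2103 y c2102 c2103))) (selA 2108 y (selA 2106 y (selA 2105 y c2104 c2105) (selA 2107 y c2106 c2107)) (selA 2110 y (selA 2109 y c2108 c2109) (selA 2111 y c2110 c2111))))

noncomputable def cl132 (y : ℕ) : Clm := (selA 2120 y (selA 2116 y (selA 2114 y (selA 2113 y c2112 c2113) (selA 2115 y c2114 c2115)) (selA 2118 y (selA 2117 y c2116 c2117) (selA 2119 y c2118 c2119))) (selA 2124 y (selA 2122 y (selA 2121 y c2120 c2121) (selA 2123 y c2122 c2123)) (selA 2126 y (selA 2125 y c2124 c2125) (selA 2127 y c2126 c2127))))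

noncomputable def cl133 (y : ℕ) : Clm := (selA 2136 y (selA 2132 y (selA 2130 y (selA 2129 y c2128 c2129) (selA 2131 y c2130 c2131)) (selA 2134 y (selA 2133 y c2132 c2133) (selA 2135 y c2134 c2135))) (selA 2140 y (selA 2138 y (selA 2137 y c2136 c2137) (selA 2139 y c2138 c2139)) (selA 2142 y (selA 2141 y c2140 c2141) (selA 2143 y c2142 c2143))))

noncomputable def cl134 (y : ℕ) : Clm := (selA 2152 y (selA 2148 y (selA 2146 y (selA 2145 y c2144 c2145) (selA 2147 y c2146 c2147)) (selA 2150 y (selA 2149 y c2148 c2149) (selA 2151 y c2150 c2151))) (selA 2156 y (selA 2154 y (selA 2153 y c2152 c2153) (selA 2155 y c2154 c2155)) (selA 2158 y (selA 2157 y c2156 c2157) (selA 2159 y c2158 c2159))))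

noncomputable def cl135 (y : ℕ) : Clm := (selA 2168 y (selA 2164 y (selA 2162 y (selA 2161 y c2160 c2161) (selA 2163 y c2162 c2163)) (selA 2166 y (selA 2165 y c2164 c2165) (selA 2167 y c2166 c2167))) (selA 2172 y (selA 2170 y (selA 2169 y c2168 c2169) (selA 2171 y c2170 c2171)) (selA 2174 y (selA 2173 y c2172 c2173) (selA 2175 y c2174 c2175))))

noncomputable def cl136 (y : ℕ) : Clm := (selA 2184 y (selA 2180 y (selA 2178 y (selA 2177 y c2176 c2177) (selA 2179 y c2178 c2179)) (selA 2182 y (selA 2181 y c2180 c2181) (selA 2183 y c2182 c2183))) (selA 2188 y (selA 2186 y (selA 2185 y c2184 c2185) (selA 2187 y c2186 c2187)) (selA 2190 y (selA 2189 y c2188 c2189) (selA 2191 y c2190 c2191))))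

noncomputable def cl137 (y : ℕ) : Clm := (selA 2200 y (selA 2196 y (selA 2194 y (selA 2193 y c2192 c2193) (selA 2195 y c2194 c2195)) (selA 2198 y (selA 2197 y c2196 c2197) (selA 2199 y c2198 c2199))) (selA 2204 y (selA 2202 y (selA 2201 y c2200 c2201) (selA 2203 y c2202 c2203)) (selA 2206 y (selA 2205 y c2204 c2205) (selA 2207 y c2206 c2207))))

noncomputable def cl138 (y : ℕ) : Clm := (selA 2216 y (selA 2212 y (selA 2210 y (selA 2209 y c2208 c2209) (selA 2211 y c2210 c2211)) (selA 2214 y (selA 2213 y c2212 c2213) (selA 2215 y c2214 c2215))) (selA 2220 y (selA 2218 y (selA 2217 y c2216 c2217) (selA 2219 y c2218 c2219)) (selA 2222 y (selA 2221 y c2220 c2221) (selA 2223 y c2222 c2223))))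

noncomputable def cl139 (y : ℕ) : Clm := (selA 2232 y (selA 2228 y (selA 2226 y (selA 2225 y c2224 c2225) (selA 2227 y c2226 c2227)) (selA 2230 y (selA 2229 y c2228 c2229) (selA 2231 y c2230 c2231))) (selA 2236 y (selA 2234 y (selA 2233 y c2232 c2233) (selA 2235 y c2234 c2235)) (selA 2238 y (selA 2237 y c2236 c2237) (selA 2239 y c2238 c2239))))

noncomputable def cl140 (y : ℕ) : Clm := (selA 2248 y (selA 2244 y (selA 2242 y (selA 2241 y c2240 c2241) (selA 2243 y c2242 c2243)) (selA 2246 y (selA 2245 y c2244 c2245) (selA 2247 y c2246 c2247))) (selA 2252 y (selA 2250 y (selA 2249 y c2248 c2249) (selA 2251 y c2250 c2251)) (selA 2254 y (selA 2253 y c2252 c2253) (selA 2255 y c2254 c2255))))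

noncomputable def cl141 (y : ℕ) : Clm := (selA 2264 y (selA 2260 y (selA 2258 y (selA 2257 y c2256 c2257) (selA 2259 y c2258 c2259)) (selA 2262 y (selA 2261 y c2260 c2261) (selA 2263 y c2262 c2263))) (selA 2268 y (selA 2266 y (selA 2265 y c2264 c2265) (selA 2267 y c2266 c2267)) (selA 2270 y (selA 2269 y c2268 c2269) (selA 2271 y c2270 c2271))))

noncomputable def cl142 (y : ℕ) : Clm := (selA 2280 y (selA 2276 y (selA 2274 y (selA 2273 y c2272 c2273) (selA 2275 y c2274 c2275)) (selA 2278 y (selA 2277 y c2276 c2277) (selA 2279 y c2278 c2279))) (selA 2284 y (selA 2282 y (selA 2281 y c2280 c2281) (selA 2283 y c2282 c2283)) (selA 2286 y (selA 2285 y c2284 c2285) (selA 2287 y c2286 c2287))))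

noncomputable def cl143 (y : ℕ) : Clm := (selA 2296 y (selA 2292 y (selA 2290 y (selA 2289 y c2288 c2289) (selA 2291 y c2290 c2291)) (selA 2294 y (selA 2293 y c2292 c2293) (selA 2295 y c2294 c2295))) (selA 2300 y (selA 2298 y (selA 2297 y c2296 c2297) (selA 2299 y c2298 c2299)) (selA 2302 y (selA 2301 y c2300 c2301) (selA 2303 y c2302 c2303))))

noncomputable def cl144 (y : ℕ) : Clm := (selA 2312 y (selA 2308 y (selA 2306 y (selA 2305 y c2304 c2305) (selA 2307 y c2306 c2307)) (selA 2310 y (selA 2309 y c2308 c2309) (selA 2311 y c2310 c2311))) (selA 2316 y (selA 2314 y (selA 2313 y c2312 c2313) (selA 2315 y c2314 c2315)) (selA 2318 y (selA 2317 y c2316 c2317) (selA 2319 y c2318 c2319))))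

noncomputable def cl145 (y : ℕ) : Clm := (selA 2328 y (selA 2324 y (selA 2322 y (selA 2321 y c2320 c2321) (selA 2323 y c2322 c2323)) (selA 2326 y (selA 2325 y c2324 c2325) (selA 2327 y c2326 c2327))) (selA 2332 y (selA 2330 y (selA 2329 y c2328 c2329) (selA 2331 y c2330 c2331)) (selA 2334 y (selA 2333 y c2332 c2333) (selA 2335 y c2334 c2335))))

noncomputable def cl146 (y : ℕ) : Clm := (selA 2344 y (selA 2340 y (selA 2338 y (selA 2337 y c2336 c2337) (selA 2339 y c2338 c2339)) (selA 2342 y (selA 2341 y c2340 c2341) (selA 2343 y c2342 c2343))) (selA 2348 y (selA 2346 y (selA 2345 y c2344 c2345) (selA 2347 y c2346 c2347)) (selA 2350 y (selA 2349 y c2348 c2349) (selA 2351 y c2350 c2351))))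

noncomputable def cl147 (y : ℕ) : Clm := (selA 2360 y (selA 2356 y (selA 2354 y (selA 2353 y c2352 c2353) (selA 2355 y c2354 c2355)) (selA 2358 y (selA 2357 y c2356 c2357) (selA 2359 y c2358 c2359))) (selA 2364 y (selA 2362 y (selA 2361 y c2360 c2361) (selA 2363 y c2362 c2363)) (selA 2366 y (selA 2365 y c2364 c2365) (selA 2367 y c2366 c2367))))

noncomputable def cl148 (y : ℕ) : Clm := (selA 2376 y (selA 2372 y (selA 2370 y (selA 2369 y c2368 c2369) (selA 2371 y c2370 c2371)) (selA 2374 y (selA 2373 y c2372 c2373) (selA 2375 y c2374 c2375))) (selA 2380 y (selA 2378 y (selA 2377 y c2376 c2377) (selA 2379 y c2378 c2379)) (selA 2382 y (selA 2381 y c2380 c2381) (selA 2383 y c2382 c2383))))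

noncomputable def cl149 (y : ℕ) : Clm := (selA 2392 y (selA 2388 y (selA 2386 y (selA 2385 y c2384 c2385) (selA 2387 y c2386 c2387)) (selA 2390 y (selA 2389 y c2388 c2389) (selA 2391 y c2390 c2391))) (selA 2396 y (selA 2394 y (selA 2393 y c2392 c2393) (selA 2395 y c2394 c2395)) (selA 2398 y (selA 2397 y c2396 c2397) (selA 2399 y c2398 c2399))))

noncomputable def cl150 (y : ℕ) : Clm := (selA 2408 y (selA 2404 y (selA 2402 y (selA 2401 y c2400 c2401) (selA 2403 y c2402 c2403)) (selA 2406 y (selA 2405 y c2404 c2405) (selA 2407 y c2406 c2407))) (selA 2412 y (selA 2410 y (selA 2409 y c2408 c2409) (selA 2411 y c2410 c2411)) (selA 2414 y (selA 2413 y c2412 c2413) (selA 2415 y c2414 c2415))))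

noncomputable def cl151 (y : ℕ) : Clm := (selA 2424 y (selA 2420 y (selA 2418 y (selA 2417 y c2416 c2417) (selA 2419 y c2418 c2419)) (selA 2422 y (selA 2421 y c2420 c2421) (selA 2423 y c2422 c2423))) (selA 2428 y (selA 2426 y (selA 2425 y c2424 c2425) (selA 2427 y c2426 c2427)) (selA 2430 y (selA 2429 y c2428 c2429) (selA 2431 y c2430 c2431))))

noncomputable def cl152 (y : ℕ) : Clm := (selA 2440 y (selA 2436 y (selA 2434 y (selA 2433 y c2432 c2433) (selA 2435 y c2434 c2435)) (selA 2438 y (selA 2437 y c2436 c2437) (selA 2439 y c2438 c2439))) (selA 2444 y (selA 2442 y (selA 2441 y c2440 c2441) (selA 2443 y c2442 c2443)) (selA 2446 y (selA 2445 y c2444 c2445) (selA 2447 y c2446 c2447))))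

noncomputable def cl153 (y : ℕ) : Clm := (selA 2456 y (selA 2452 y (selA 2450 y (selA 2449 y c2448 c2449) (selA 2451 y c2450 c2451)) (selA 2454 y (selA 2453 y c2452 c2453) (selA 2455 y c2454 c2455))) (selA 2460 y (selA 2458 y (selA 2457 y c2456 c2457) (selA 2459 y c2458 c2459)) (selA 2462 y (selA 2461 y c2460 c2461) (selA 2463 y c2462 c2463))))

noncomputable def cl154 (y : ℕ) : Clm := (selA 2472 y (selA 2468 y (selA 2466 y (selA 2465 y c2464 c2465) (selA 2467 y c2466 c2467)) (selA 2470 y (selA 2469 y c2468 c2469) (selA 2471 y c2470 c2471))) (selA 2476 y (selA 2474 y (selA 2473 y c2472 c2473) (selA 2475 y c2474 c2475)) (selA 2478 y (selA 2477 y c2476 c2477) (selA 2479 y c2478 c2479))))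

noncomputable def cl155 (y : ℕ) : Clm := (selA 2488 y (selA 2484 y (selA 2482 y (selA 2481 y c2480 c2481) (selA 2483 y c2482 c2483)) (selA 2486 y (selA 2485 y c2484 c2485) (selA 2487 y c2486 c2487))) (selA 2492 y (selA 2490 y (selA 2489 y c2488 c2489) (selA 2491 y c2490 c2491)) (selA 2494 y (selA 2493 y c2492 c2493) (selA 2495 y c2494 c2495))))

noncomputable def cl156 (y : ℕ) : Clm := (selA 2504 y (selA 2500 y (selA 2498 y (selA 2497 y c2496 c2497) (selA 2499 y c2498 c2499)) (selA 2502 y (selA 2501 y c2500 c2501) (selA 2503 y c2502 c2503))) (selA 2508 y (selA 2506 y (selA 2505 y c2504 c2505) (selA 2507 y c2506 c2507)) (selA 2510 y (selA 2509 y c2508 c2509) (selA 2511 y c2510 c2511))))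

noncomputable def cl157 (y : ℕ) : Clm := (selA 2520 y (selA 2516 y (selA 2514 y (selA 2513 y c2512 c2513) (selA 2515 y c2514 c2515)) (selA 2518 y (selA 2517 y c2516 c2517) (selA 2519 y c2518 c2519))) (selA 2524 y (selA 2522 y (selA 2521 y c2520 c2521) (selA 2523 y c2522 c2523)) (selA 2526 y (selA 2525 y c2524 c2525) (selA 2527 y c2526 c2527))))

noncomputable def cl158 (y : ℕ) : Clm := (selA 2536 y (selA 2532 y (selA 2530 y (selA 2529 y c2528 c2529) (selA 2531 y c2530 c2531)) (selA 2534 y (selA 2533 y c2532 c2533) (selA 2535 y c2534 c2535))) (selA 2540 y (selA 2538 y (selA 2537 y c2536 c2537) (selA 2539 y c2538 c2539)) (selA 2542 y (selA 2541 y c2540 c2541) (selA 2543 y c2542 c2543))))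

noncomputable def cl159 (y : ℕ) : Clm := (selA 2552 y (selA 2548 y (selA 2546 y (selA 2545 y c2544 c2545) (selA 2547 y c2546 c2547)) (selA 2550 y (selA 2549 y c2548 c2549) (selA 2551 y c2550 c2551))) (selA 2556 y (selA 2554 y (selA 2553 y c2552 c2553) (selA 2555 y c2554 c2555)) (selA 2558 y (selA 2557 y c2556 c2557) (selA 2559 y c2558 c2559))))

noncomputable def cl160 (y : ℕ) : Clm := (selA 2568 y (selA 2564 y (selA 2562 y (selA 2561 y c2560 c2561) (selA 2563 y c2562 c2563)) (selA 2566 y (selA 2565 y c2564 c2565) (selA 2567 y c2566 c2567))) (selA 2572 y (selA 2570 y (selA 2569 y c2568 c2569) (selA 2571 y c2570 c2571)) (selA 2574 y (selA 2573 y c2572 c2573) (selA 2575 y c2574 c2575))))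

noncomputable def cl161 (y : ℕ) : Clm := (selA 2584 y (selA 2580 y (selA 2578 y (selA 2577 y c2576 c2577) (selA 2579 y c2578 c2579)) (selA 2582 y (selA 2581 y c2580 c2581) (selA 2583 y c2582 c2583))) (selA 2588 y (selA 2586 y (selA 2585 y c2584 c2585) (selA 2587 y c2586 c2587)) (selA 2590 y (selA 2589 y c2588 c2589) (selA 2591 y c2590 c2591))))

noncomputable def cl162 (y : ℕ) : Clm := (selA 2600 y (selA 2596 y (selA 2594 y (selA 2593 y c2592 c2593) (selA 2595 y c2594 c2595)) (selA 2598 y (selA 2597 y c2596 c2597) (selA 2599 y c2598 c2599))) (selA 2604 y (selA 2602 y (selA 2601 y c2600 c2601) (selA 2603 y c2602 c2603)) (selA 2606 y (selA 2605 y c2604 c2605) (selA 2607 y c2606 c2607))))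

noncomputable def cl163 (y : ℕ) : Clm := (selA 2616 y (selA 2612 y (selA 2610 y (selA 2609 y c2608 c2609) (selA 2611 y c2610 c2611)) (selA 2614 y (selA 2613 y c2612 c2613) (selA 2615 y c2614 c2615))) (selA 2620 y (selA 2618 y (selA 2617 y c2616 c2617) (selA 2619 y c2618 c2619)) (selA 2622 y (selA 2621 y c2620 c2621) (selA 2623 y c2622 c2623))))

noncomputable def cl164 (y : ℕ) : Clm := (selA 2632 y (selA 2628 y (selA 2626 y (selA 2625 y c2624 c2625) (selA 2627 y c2626 c2627)) (selA 2630 y (selA 2629 y c2628 c2629) (selA 2631 y c2630 c2631))) (selA 2636 y (selA 2634 y (selA 2633 y c2632 c2633) (selA 2635 y c2634 c2635)) (selA 2638 y (selA 2637 y c2636 c2637) (selA 2639 y c2638 c2639))))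

noncomputable def cl165 (y : ℕ) : Clm := (selA 2648 y (selA 2644 y (selA 2642 y (selA 2641 y c2640 c2641) (selA 2643 y c2642 c2643)) (selA 2646 y (selA 2645 y c2644 c2645) (selA 2647 y c2646 c2647))) (selA 2652 y (selA 2650 y (selA 2649 y c2648 c2649) (selA 2651 y c2650 c2651)) (selA 2654 y (selA 2653 y c2652 c2653) (selA 2655 y c2654 c2655))))

noncomputable def cl166 (y : ℕ) : Clm := (selA 2664 y (selA 2660 y (selA 2658 y (selA 2657 y c2656 c2657) (selA 2659 y c2658 c2659)) (selA 2662 y (selA 2661 y c2660 c2661) (selA 2663 y c2662 c2663))) (selA 2668 y (selA 2666 y (selA 2665 y c2664 c2665) (selA 2667 y c2666 c2667)) (selA 2670 y (selA 2669 y c2668 c2669) (selA 2671 y c2670 c2671))))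

noncomputable def cl167 (y : ℕ) : Clm := (selA 2680 y (selA 2676 y (selA 2674 y (selA 2673 y c2672 c2673) (selA 2675 y c2674 c2675)) (selA 2678 y (selA 2677 y c2676 c2677) (selA 2679 y c2678 c2679))) (selA 2684 y (selA 2682 y (selA 2681 y c2680 c2681) (selA 2683 y c2682 c2683)) (selA 2686 y (selA 2685 y c2684 c2685) (selA 2687 y c2686 c2687))))

noncomputable def cl168 (y : ℕ) : Clm := (selA 2696 y (selA 2692 y (selA 2690 y (selA 2689 y c2688 c2689) (selA 2691 y c2690 c2691)) (selA 2694 y (selA 2693 y c2692 c2693) (selA 2695 y c2694 c2695))) (selA 2700 y (selA 2698 y (selA 2697 y c2696 c2697) (selA 2699 y c2698 c2699)) (selA 2702 y (selA 2701 y c2700 c2701) (selA 2703 y c2702 c2703))))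

noncomputable def cl169 (y : ℕ) : Clm := (selA 2712 y (selA 2708 y (selA 2706 y (selA 2705 y c2704 c2705) (selA 2707 y c2706 c2707)) (selA 2710 y (selA 2709 y c2708 c2709) (selA 2711 y c2710 c2711))) (selA 2716 y (selA 2714 y (selA 2713 y c2712 c2713) (selA 2715 y c2714 c2715)) (selA 2718 y (selA 2717 y c2716 c2717) (selA 2719 y c2718 c2719))))

noncomputable def cl170 (y : ℕ) : Clm := (selA 2728 y (selA 2724 y (selA 2722 y (selA 2721 y c2720 c2721) (selA 2723 y c2722 c2723)) (selA 2726 y (selA 2725 y c2724 c2725) (selA 2727 y c2726 c2727))) (selA 2732 y (selA 2730 y (selA 2729 y c2728 c2729) (selA 2731 y c2730 c2731)) (selA 2734 y (selA 2733 y c2732 c2733) (selA 2735 y c2734 c2735))))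

noncomputable def cl171 (y : ℕ) : Clm := (selA 2744 y (selA 2740 y (selA 2738 y (selA 2737 y c2736 c2737) (selA 2739 y c2738 c2739)) (selA 2742 y (selA 2741 y c2740 c2741) (selA 2743 y c2742 c2743))) (selA 2748 y (selA 2746 y (selA 2745 y c2744 c2745) (selA 2747 y c2746 c2747)) (selA 2750 y (selA 2749 y c2748 c2749) (selA 2751 y c2750 c2751))))

noncomputable def cl172 (y : ℕ) : Clm := (selA 2760 y (selA 2756 y (selA 2754 y (selA 2753 y c2752 c2753) (selA 2755 y c2754 c2755)) (selA 2758 y (selA 2757 y c2756 c2757) (selA 2759 y c2758 c2759))) (selA 2764 y (selA 2762 y (selA 2761 y c2760 c2761) (selA 2763 y c2762 c2763)) (selA 2766 y (selA 2765 y c2764 c2765) (selA 2767 y c2766 c2767))))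

noncomputable def cl173 (y : ℕ) : Clm := (selA 2776 y (selA 2772 y (selA 2770 y (selA 2769 y c2768 c2769) (selA 2771 y c2770 c2771)) (selA 2774 y (selA 2773 y c2772 c2773) (selA 2775 y c2774 c2775))) (selA 2780 y (selA 2778 y (selA 2777 y c2776 c2777) (selA 2779 y c2778 c2779)) (selA 2782 y (selA 2781 y c2780 c2781) (selA 2783 y c2782 c2783))))

noncomputable def cl174 (y : ℕ) : Clm := (selA 2792 y (selA 2788 y (selA 2786 y (selA 2785 y c2784 c2785) (selA 2787 y c2786 c2787)) (selA 2790 y (selA 2789 y c2788 c2789) (selA 2791 y c2790 c2791))) (selA 2796 y (selA 2794 y (selA 2793 y c2792 c2793) (selA 2795 y c2794 c2795)) (selA 2798 y (selA 2797 y c2796 c2797) (selA 2799 y c2798 c2799))))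

noncomputable def cl175 (y : ℕ) : Clm := (selA 2808 y (selA 2804 y (selA 2802 y (selA 2801 y c2800 c2801) (selA 2803 y c2802 c2803)) (selA 2806 y (selA 2805 y c2804 c2805) (selA 2807 y c2806 c2807))) (selA 2812 y (selA 2810 y (selA 2809 y c2808 c2809) (selA 2811 y c2810 c2811)) (selA 2814 y (selA 2813 y c2812 c2813) (selA 2815 y c2814 c2815))))

noncomputable def cl176 (y : ℕ) : Clm := (selA 2824 y (selA 2820 y (selA 2818 y (selA 2817 y c2816 c2817) (selA 2819 y c2818 c2819)) (selA 2822 y (selA 2821 y c2820 c2821) (selA 2823 y c2822 c2823))) (selA 2828 y (selA 2826 y (selA 2825 y c2824 c2825) (selA 2827 y c2826 c2827)) (selA 2830 y (selA 2829 y c2828 c2829) (selA 2831 y c2830 c2831))))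

noncomputable def cl177 (y : ℕ) : Clm := (selA 2840 y (selA 2836 y (selA 2834 y (selA 2833 y c2832 c2833) (selA 2835 y c2834 c2835)) (selA 2838 y (selA 2837 y c2836 c2837) (selA 2839 y c2838 c2839))) (selA 2844 y (selA 2842 y (selA 2841 y c2840 c2841) (selA 2843 y c2842 c2843)) (selA 2846 y (selA 2845 y c2844 c2845) (selA 2847 y c2846 c2847))))

noncomputable def cl178 (y : ℕ) : Clm := (selA 2856 y (selA 2852 y (selA 2850 y (selA 2849 y c2848 c2849) (selA 2851 y c2850 c2851)) (selA 2854 y (selA 2853 y c2852 c2853) (selA 2855 y c2854 c2855))) (selA 2860 y (selA 2858 y (selA 2857 y c2856 c2857) (selA 2859 y c2858 c2859)) (selA 2862 y (selA 2861 y c2860 c2861) (selA 2863 y c2862 c2863))))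

noncomputable def cl179 (y : ℕ) : Clm := (selA 2872 y (selA 2868 y (selA 2866 y (selA 2865 y c2864 c2865) (selA 2867 y c2866 c2867)) (selA 2870 y (selA 2869 y c2868 c2869) (selA 2871 y c2870 c2871))) (selA 2876 y (selA 2874 y (selA 2873 y c2872 c2873) (selA 2875 y c2874 c2875)) (selA 2878 y (selA 2877 y c2876 c2877) (selA 2879 y c2878 c2879))))

noncomputable def cl180 (y : ℕ) : Clm := (selA 2888 y (selA 2884 y (selA 2882 y (selA 2881 y c2880 c2881) (selA 2883 y c2882 c2883)) (selA 2886 y (selA 2885 y c2884 c2885) (selA 2887 y c2886 c2887))) (selA 2892 y (selA 2890 y (selA 2889 y c2888 c2889) (selA 2891 y c2890 c2891)) (selA 2894 y (selA 2893 y c2892 c2893) (selA 2895 y c2894 c2895))))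

noncomputable def cl181 (y : ℕ) : Clm := (selA 2904 y (selA 2900 y (selA 2898 y (selA 2897 y c2896 c2897) (selA 2899 y c2898 c2899)) (selA 2902 y (selA 2901 y c2900 c2901) (selA 2903 y c2902 c2903))) (selA 2908 y (selA 2906 y (selA 2905 y c2904 c2905) (selA 2907 y c2906 c2907)) (selA 2910 y (selA 2909 y c2908 c2909) (selA 2911 y c2910 c2911))))

noncomputable def cl182 (y : ℕ) : Clm := (selA 2920 y (selA 2916 y (selA 2914 y (selA 2913 y c2912 c2913) (selA 2915 y c2914 c2915)) (selA 2918 y (selA 2917 y c2916 c2917) (selA 2919 y c2918 c2919))) (selA 2924 y (selA 2922 y (selA 2921 y c2920 c2921) (selA 2923 y c2922 c2923)) (selA 2926 y (selA 2925 y c2924 c2925) (selA 2927 y c2926 c2927))))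

noncomputable def cl183 (y : ℕ) : Clm := (selA 2936 y (selA 2932 y (selA 2930 y (selA 2929 y c2928 c2929) (selA 2931 y c2930 c2931)) (selA 2934 y (selA 2933 y c2932 c2933) (selA 2935 y c2934 c2935))) (selA 2940 y (selA 2938 y (selA 2937 y c2936 c2937) (selA 2939 y c2938 c2939)) (selA 2942 y (selA 2941 y c2940 c2941) (selA 2943 y c2942 c2943))))

noncomputable def cl184 (y : ℕ) : Clm := (selA 2952 y (selA 2948 y (selA 2946 y (selA 2945 y c2944 c2945) (selA 2947 y c2946 c2947)) (selA 2950 y (selA 2949 y c2948 c2949) (selA 2951 y c2950 c2951))) (selA 2956 y (selA 2954 y (selA 2953 y c2952 c2953) (selA 2955 y c2954 c2955)) (selA 2958 y (selA 2957 y c2956 c2957) (selA 2959 y c2958 c2959))))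

noncomputable def cl185 (y : ℕ) : Clm := (selA 2968 y (selA 2964 y (selA 2962 y (selA 2961 y c2960 c2961) (selA 2963 y c2962 c2963)) (selA 2966 y (selA 2965 y c2964 c2965) (selA 2967 y c2966 c2967))) (selA 2972 y (selA 2970 y (selA 2969 y c2968 c2969) (selA 2971 y c2970 c2971)) (selA 2974 y (selA 2973 y c2972 c2973) (selA 2975 y c2974 c2975))))

noncomputable def cl186 (y : ℕ) : Clm := (selA 2984 y (selA 2980 y (selA 2978 y (selA 2977 y c2976 c2977) (selA 2979 y c2978 c2979)) (selA 2982 y (selA 2981 y c2980 c2981) (selA 2983 y c2982 c2983))) (selA 2988 y (selA 2986 y (selA 2985 y c2984 c2985) (selA 2987 y c2986 c2987)) (selA 2990 y (selA 2989 y c2988 c2989) (selA 2991 y c2990 c2991))))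

noncomputable def cl187 (y : ℕ) : Clm := (selA 3000 y (selA 2996 y (selA 2994 y (selA 2993 y c2992 c2993) (selA 2995 y c2994 c2995)) (selA 2998 y (selA 2997 y c2996 c2997) (selA 2999 y c2998 c2999))) (selA 3004 y (selA 3002 y (selA 3001 y c3000 c3001) (selA 3003 y c3002 c3003)) (selA 3006 y (selA 3005 y c3004 c3005) (selA 3007 y c3006 c3007))))

noncomputable def cl188 (y : ℕ) : Clm := (selA 3016 y (selA 3012 y (selA 3010 y (selA 3009 y c3008 c3009) (selA 3011 y c3010 c3011)) (selA 3014 y (selA 3013 y c3012 c3013) (selA 3015 y c3014 c3015))) (selA 3020 y (selA 3018 y (selA 3017 y c3016 c3017) (selA 3019 y c3018 c3019)) (selA 3022 y (selA 3021 y c3020 c3021) (selA 3023 y c3022 c3023))))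

noncomputable def cl189 (y : ℕ) : Clm := (selA 3032 y (selA 3028 y (selA 3026 y (selA 3025 y c3024 c3025) (selA 3027 y c3026 c3027)) (selA 3030 y (selA 3029 y c3028 c3029) (selA 3031 y c3030 c3031))) (selA 3036 y (selA 3034 y (selA 3033 y c3032 c3033) (selA 3035 y c3034 c3035)) (selA 3038 y (selA 3037 y c3036 c3037) (selA 3039 y c3038 c3039))))

noncomputable def cl190 (y : ℕ) : Clm := (selA 3048 y (selA 3044 y (selA 3042 y (selA 3041 y c3040 c3041) (selA 3043 y c3042 c3043)) (selA 3046 y (selA 3045 y c3044 c3045) (selA 3047 y c3046 c3047))) (selA 3052 y (selA 3050 y (selA 3049 y c3048 c3049) (selA 3051 y c3050 c3051)) (selA 3054 y (selA 3053 y c3052 c3053) (selA 3055 y c3054 c3055))))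

noncomputable def cl191 (y : ℕ) : Clm := (selA 3064 y (selA 3060 y (selA 3058 y (selA 3057 y c3056 c3057) (selA 3059 y c3058 c3059)) (selA 3062 y (selA 3061 y c3060 c3061) (selA 3063 y c3062 c3063))) (selA 3068 y (selA 3066 y (selA 3065 y c3064 c3065) (selA 3067 y c3066 c3067)) (selA 3070 y (selA 3069 y c3068 c3069) (selA 3071 y c3070 c3071))))

noncomputable def cl192 (y : ℕ) : Clm := (selA 3080 y (selA 3076 y (selA 3074 y (selA 3073 y c3072 c3073) (selA 3075 y c3074 c3075)) (selA 3078 y (selA 3077 y c3076 c3077) (selA 3079 y c3078 c3079))) (selA 3084 y (selA 3082 y (selA 3081 y c3080 c3081) (selA 3083 y c3082 c3083)) (selA 3086 y (selA 3085 y c3084 c3085) (selA 3087 y c3086 c3087))))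

noncomputable def cl193 (y : ℕ) : Clm := (selA 3096 y (selA 3092 y (selA 3090 y (selA 3089 y c3088 c3089) (selA 3091 y c3090 c3091)) (selA 3094 y (selA 3093 y c3092 c3093) (selA 3095 y c3094 c3095))) (selA 3100 y (selA 3098 y (selA 3097 y c3096 c3097) (selA 3099 y c3098 c3099)) (selA 3102 y (selA 3101 y c3100 c3101) (selA 3103 y c3102 c3103))))

noncomputable def cl194 (y : ℕ) : Clm := (selA 3112 y (selA 3108 y (selA 3106 y (selA 3105 y c3104 c3105) (selA 3107 y c3106 c3107)) (selA 3110 y (selA 3109 y c3108 c3109) (selA 3111 y c3110 c3111))) (selA 3116 y (selA 3114 y (selA 3113 y c3112 c3113) (selA 3115 y c3114 c3115)) (selA 3118 y (selA 3117 y c3116 c3117) (selA 3119 y c3118 c3119))))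

noncomputable def cl195 (y : ℕ) : Clm := (selA 3128 y (selA 3124 y (selA 3122 y (selA 3121 y c3120 c3121) (selA 3123 y c3122 c3123)) (selA 3126 y (selA 3125 y c3124 c3125) (selA 3127 y c3126 c3127))) (selA 3132 y (selA 3130 y (selA 3129 y c3128 c3129) (selA 3131 y c3130 c3131)) (selA 3134 y (selA 3133 y c3132 c3133) (selA 3135 y c3134 c3135))))

noncomputable def cl196 (y : ℕ) : Clm := (selA 3144 y (selA 3140 y (selA 3138 y (selA 3137 y c3136 c3137) (selA 3139 y c3138 c3139)) (selA 3142 y (selA 3141 y c3140 c3141) (selA 3143 y c3142 c3143))) (selA 3148 y (selA 3146 y (selA 3145 y c3144 c3145) (selA 3147 y c3146 c3147)) (selA 3150 y (selA 3149 y c3148 c3149) (selA 3151 y c3150 c3151))))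

noncomputable def cl197 (y : ℕ) : Clm := (selA 3160 y (selA 3156 y (selA 3154 y (selA 3153 y c3152 c3153) (selA 3155 y c3154 c3155)) (selA 3158 y (selA 3157 y c3156 c3157) (selA 3159 y c3158 c3159))) (selA 3164 y (selA 3162 y (selA 3161 y c3160 c3161) (selA 3163 y c3162 c3163)) (selA 3166 y (selA 3165 y c3164 c3165) (selA 3167 y c3166 c3167))))

noncomputable def cl198 (y : ℕ) : Clm := (selA 3176 y (selA 3172 y (selA 3170 y (selA 3169 y c3168 c3169) (selA 3171 y c3170 c3171)) (selA 3174 y (selA 3173 y c3172 c3173) (selA 3175 y c3174 c3175))) (selA 3180 y (selA 3178 y (selA 3177 y c3176 c3177) (selA 3179 y c3178 c3179)) (selA 3182 y (selA 3181 y c3180 c3181) (selA 3183 y c3182 c3183))))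

noncomputable def cl199 (y : ℕ) : Clm := (selA 3192 y (selA 3188 y (selA 3186 y (selA 3185 y c3184 c3185) (selA 3187 y c3186 c3187)) (selA 3190 y (selA 3189 y c3188 c3189) (selA 3191 y c3190 c3191))) (selA 3196 y (selA 3194 y (selA 3193 y c3192 c3193) (selA 3195 y c3194 c3195)) (selA 3198 y (selA 3197 y c3196 c3197) (selA 3199 y c3198 c3199))))

noncomputable def cl200 (y : ℕ) : Clm := (selA 3208 y (selA 3204 y (selA 3202 y (selA 3201 y c3200 c3201) (selA 3203 y c3202 c3203)) (selA 3206 y (selA 3205 y c3204 c3205) (selA 3207 y c3206 c3207))) (selA 3212 y (selA 3210 y (selA 3209 y c3208 c3209) (selA 3211 y c3210 c3211)) (selA 3214 y (selA 3213 y c3212 c3213) (selA 3215 y c3214 c3215))))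

noncomputable def cl201 (y : ℕ) : Clm := (selA 3224 y (selA 3220 y (selA 3218 y (selA 3217 y c3216 c3217) (selA 3219 y c3218 c3219)) (selA 3222 y (selA 3221 y c3220 c3221) (selA 3223 y c3222 c3223))) (selA 3228 y (selA 3226 y (selA 3225 y c3224 c3225) (selA 3227 y c3226 c3227)) (selA 3230 y (selA 3229 y c3228 c3229) (selA 3231 y c3230 c3231))))

noncomputable def cl202 (y : ℕ) : Clm := (selA 3240 y (selA 3236 y (selA 3234 y (selA 3233 y c3232 c3233) (selA 3235 y c3234 c3235)) (selA 3238 y (selA 3237 y c3236 c3237) (selA 3239 y c3238 c3239))) (selA 3244 y (selA 3242 y (selA 3241 y c3240 c3241) (selA 3243 y c3242 c3243)) (selA 3246 y (selA 3245 y c3244 c3245) (selA 3247 y c3246 c3247))))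

noncomputable def cl203 (y : ℕ) : Clm := (selA 3256 y (selA 3252 y (selA 3250 y (selA 3249 y c3248 c3249) (selA 3251 y c3250 c3251)) (selA 3254 y (selA 3253 y c3252 c3253) (selA 3255 y c3254 c3255))) (selA 3260 y (selA 3258 y (selA 3257 y c3256 c3257) (selA 3259 y c3258 c3259)) (selA 3262 y (selA 3261 y c3260 c3261) (selA 3263 y c3262 c3263))))

noncomputable def cl204 (y : ℕ) : Clm := (selA 3272 y (selA 3268 y (selA 3266 y (selA 3265 y c3264 c3265) (selA 3267 y c3266 c3267)) (selA 3270 y (selA 3269 y c3268 c3269) (selA 3271 y c3270 c3271))) (selA 3276 y (selA 3274 y (selA 3273 y c3272 c3273) (selA 3275 y c3274 c3275)) (selA 3278 y (selA 3277 y c3276 c3277) (selA 3279 y c3278 c3279))))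

noncomputable def cl205 (y : ℕ) : Clm := (selA 3288 y (selA 3284 y (selA 3282 y (selA 3281 y c3280 c3281) (selA 3283 y c3282 c3283)) (selA 3286 y (selA 3285 y c3284 c3285) (selA 3287 y c3286 c3287))) (selA 3292 y (selA 3290 y (selA 3289 y c3288 c3289) (selA 3291 y c3290 c3291)) (selA 3294 y (selA 3293 y c3292 c3293) (selA 3295 y c3294 c3295))))

noncomputable def cl206 (y : ℕ) : Clm := (selA 3304 y (selA 3300 y (selA 3298 y (selA 3297 y c3296 c3297) (selA 3299 y c3298 c3299)) (selA 3302 y (selA 3301 y c3300 c3301) (selA 3303 y c3302 c3303))) (selA 3308 y (selA 3306 y (selA 3305 y c3304 c3305) (selA 3307 y c3306 c3307)) (selA 3310 y (selA 3309 y c3308 c3309) (selA 3311 y c3310 c3311))))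

noncomputable def cl207 (y : ℕ) : Clm := (selA 3320 y (selA 3316 y (selA 3314 y (selA 3313 y c3312 c3313) (selA 3315 y c3314 c3315)) (selA 3318 y (selA 3317 y c3316 c3317) (selA 3319 y c3318 c3319))) (selA 3324 y (selA 3322 y (selA 3321 y c3320 c3321) (selA 3323 y c3322 c3323)) (selA 3326 y (selA 3325 y c3324 c3325) (selA 3327 y c3326 c3327))))

noncomputable def cl208 (y : ℕ) : Clm := (selA 3336 y (selA 3332 y (selA 3330 y (selA 3329 y c3328 c3329) (selA 3331 y c3330 c3331)) (selA 3334 y (selA 3333 y c3332 c3333) (selA 3335 y c3334 c3335))) (selA 3340 y (selA 3338 y (selA 3337 y c3336 c3337) (selA 3339 y c3338 c3339)) (selA 3342 y (selA 3341 y c3340 c3341) (selA 3343 y c3342 c3343))))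

noncomputable def cl209 (y : ℕ) : Clm := (selA 3352 y (selA 3348 y (selA 3346 y (selA 3345 y c3344 c3345) (selA 3347 y c3346 c3347)) (selA 3350 y (selA 3349 y c3348 c3349) (selA 3351 y c3350 c3351))) (selA 3356 y (selA 3354 y (selA 3353 y c3352 c3353) (selA 3355 y c3354 c3355)) (selA 3358 y (selA 3357 y c3356 c3357) (selA 3359 y c3358 c3359))))

noncomputable def cl210 (y : ℕ) : Clm := (selA 3368 y (selA 3364 y (selA 3362 y (selA 3361 y c3360 c3361) (selA 3363 y c3362 c3363)) (selA 3366 y (selA 3365 y c3364 c3365) (selA 3367 y c3366 c3367))) (selA 3372 y (selA 3370 y (selA 3369 y c3368 c3369) (selA 3371 y c3370 c3371)) (selA 3374 y (selA 3373 y c3372 c3373) (selA 3375 y c3374 c3375))))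

noncomputable def cl211 (y : ℕ) : Clm := (selA 3384 y (selA 3380 y (selA 3378 y (selA 3377 y c3376 c3377) (selA 3379 y c3378 c3379)) (selA 3382 y (selA 3381 y c3380 c3381) (selA 3383 y c3382 c3383))) (selA 3388 y (selA 3386 y (selA 3385 y c3384 c3385) (selA 3387 y c3386 c3387)) (selA 3390 y (selA 3389 y c3388 c3389) (selA 3391 y c3390 c3391))))

noncomputable def cl212 (y : ℕ) : Clm := (selA 3400 y (selA 3396 y (selA 3394 y (selA 3393 y c3392 c3393) (selA 3395 y c3394 c3395)) (selA 3398 y (selA 3397 y c3396 c3397) (selA 3399 y c3398 c3399))) (selA 3404 y (selA 3402 y (selA 3401 y c3400 c3401) (selA 3403 y c3402 c3403)) (selA 3406 y (selA 3405 y c3404 c3405) (selA 3407 y c3406 c3407))))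

noncomputable def cl213 (y : ℕ) : Clm := (selA 3416 y (selA 3412 y (selA 3410 y (selA 3409 y c3408 c3409) (selA 3411 y c3410 c3411)) (selA 3414 y (selA 3413 y c3412 c3413) (selA 3415 y c3414 c3415))) (selA 3420 y (selA 3418 y (selA 3417 y c3416 c3417) (selA 3419 y c3418 c3419)) (selA 3422 y (selA 3421 y c3420 c3421) (selA 3423 y c3422 c3423))))

noncomputable def cl214 (y : ℕ) : Clm := (selA 3432 y (selA 3428 y (selA 3426 y (selA 3425 y c3424 c3425) (selA 3427 y c3426 c3427)) (selA 3430 y (selA 3429 y c3428 c3429) (selA 3431 y c3430 c3431))) (selA 3436 y (selA 3434 y (selA 3433 y c3432 c3433) (selA 3435 y c3434 c3435)) (selA 3438 y (selA 3437 y c3436 c3437) (selA 3439 y c3438 c3439))))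

noncomputable def cl215 (y : ℕ) : Clm := (selA 3448 y (selA 3444 y (selA 3442 y (selA 3441 y c3440 c3441) (selA 3443 y c3442 c3443)) (selA 3446 y (selA 3445 y c3444 c3445) (selA 3447 y c3446 c3447))) (selA 3452 y (selA 3450 y (selA 3449 y c3448 c3449) (selA 3451 y c3450 c3451)) (selA 3454 y (selA 3453 y c3452 c3453) (selA 3455 y c3454 c3455))))

noncomputable def cl216 (y : ℕ) : Clm := (selA 3464 y (selA 3460 y (selA 3458 y (selA 3457 y c3456 c3457) (selA 3459 y c3458 c3459)) (selA 3462 y (selA 3461 y c3460 c3461) (selA 3463 y c3462 c3463))) (selA 3468 y (selA 3466 y (selA 3465 y c3464 c3465) (selA 3467 y c3466 c3467)) (selA 3470 y (selA 3469 y c3468 c3469) (selA 3471 y c3470 c3471))))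

noncomputable def cl217 (y : ℕ) : Clm := (selA 3480 y (selA 3476 y (selA 3474 y (selA 3473 y c3472 c3473) (selA 3475 y c3474 c3475)) (selA 3478 y (selA 3477 y c3476 c3477) (selA 3479 y c3478 c3479))) (selA 3484 y (selA 3482 y (selA 3481 y c3480 c3481) (selA 3483 y c3482 c3483)) (selA 3486 y (selA 3485 y c3484 c3485) (selA 3487 y c3486 c3487))))

noncomputable def cl218 (y : ℕ) : Clm := (selA 3496 y (selA 3492 y (selA 3490 y (selA 3489 y c3488 c3489) (selA 3491 y c3490 c3491)) (selA 3494 y (selA 3493 y c3492 c3493) (selA 3495 y c3494 c3495))) (selA 3500 y (selA 3498 y (selA 3497 y c3496 c3497) (selA 3499 y c3498 c3499)) (selA 3502 y (selA 3501 y c3500 c3501) (selA 3503 y c3502 c3503))))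

noncomputable def cl219 (y : ℕ) : Clm := (selA 3512 y (selA 3508 y (selA 3506 y (selA 3505 y c3504 c3505) (selA 3507 y c3506 c3507)) (selA 3510 y (selA 3509 y c3508 c3509) (selA 3511 y c3510 c3511))) (selA 3516 y (selA 3514 y (selA 3513 y c3512 c3513) (selA 3515 y c3514 c3515)) (selA 3518 y (selA 3517 y c3516 c3517) (selA 3519 y c3518 c3519))))

noncomputable def cl220 (y : ℕ) : Clm := (selA 3528 y (selA 3524 y (selA 3522 y (selA 3521 y c3520 c3521) (selA 3523 y c3522 c3523)) (selA 3526 y (selA 3525 y c3524 c3525) (selA 3527 y c3526 c3527))) (selA 3532 y (selA 3530 y (selA 3529 y c3528 c3529) (selA 3531 y c3530 c3531)) (selA 3534 y (selA 3533 y c3532 c3533) (selA 3535 y c3534 c3535))))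

noncomputable def cl221 (y : ℕ) : Clm := (selA 3544 y (selA 3540 y (selA 3538 y (selA 3537 y c3536 c3537) (selA 3539 y c3538 c3539)) (selA 3542 y (selA 3541 y c3540 c3541) (selA 3543 y c3542 c3543))) (selA 3548 y (selA 3546 y (selA 3545 y c3544 c3545) (selA 3547 y c3546 c3547)) (selA 3550 y (selA 3549 y c3548 c3549) (selA 3551 y c3550 c3551))))

noncomputable def cl222 (y : ℕ) : Clm := (selA 3560 y (selA 3556 y (selA 3554 y (selA 3553 y c3552 c3553) (selA 3555 y c3554 c3555)) (selA 3558 y (selA 3557 y c3556 c3557) (selA 3559 y c3558 c3559))) (selA 3564 y (selA 3562 y (selA 3561 y c3560 c3561) (selA 3563 y c3562 c3563)) (selA 3566 y (selA 3565 y c3564 c3565) (selA 3567 y c3566 c3567))))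

noncomputable def cl223 (y : ℕ) : Clm := (selA 3576 y (selA 3572 y (selA 3570 y (selA 3569 y c3568 c3569) (selA 3571 y c3570 c3571)) (selA 3574 y (selA 3573 y c3572 c3573) (selA 3575 y c3574 c3575))) (selA 3580 y (selA 3578 y (selA 3577 y c3576 c3577) (selA 3579 y c3578 c3579)) (selA 3582 y (selA 3581 y c3580 c3581) (selA 3583 y c3582 c3583))))

noncomputable def cl224 (y : ℕ) : Clm := (selA 3592 y (selA 3588 y (selA 3586 y (selA 3585 y c3584 c3585) (selA 3587 y c3586 c3587)) (selA 3590 y (selA 3589 y c3588 c3589) (selA 3591 y c3590 c3591))) (selA 3596 y (selA 3594 y (selA 3593 y c3592 c3593) (selA 3595 y c3594 c3595)) (selA 3598 y (selA 3597 y c3596 c3597) (selA 3599 y c3598 c3599))))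

noncomputable def cl225 (y : ℕ) : Clm := (selA 3608 y (selA 3604 y (selA 3602 y (selA 3601 y c3600 c3601) (selA 3603 y c3602 c3603)) (selA 3606 y (selA 3605 y c3604 c3605) (selA 3607 y c3606 c3607))) (selA 3612 y (selA 3610 y (selA 3609 y c3608 c3609) (selA 3611 y c3610 c3611)) (selA 3614 y (selA 3613 y c3612 c3613) (selA 3615 y c3614 c3615))))

noncomputable def cl226 (y : ℕ) : Clm := (selA 3624 y (selA 3620 y (selA 3618 y (selA 3617 y c3616 c3617) (selA 3619 y c3618 c3619)) (selA 3622 y (selA 3621 y c3620 c3621) (selA 3623 y c3622 c3623))) (selA 3628 y (selA 3626 y (selA 3625 y c3624 c3625) (selA 3627 y c3626 c3627)) (selA 3630 y (selA 3629 y c3628 c3629) (selA 3631 y c3630 c3631))))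

noncomputable def cl227 (y : ℕ) : Clm := (selA 3640 y (selA 3636 y (selA 3634 y (selA 3633 y c3632 c3633) (selA 3635 y c3634 c3635)) (selA 3638 y (selA 3637 y c3636 c3637) (selA 3639 y c3638 c3639))) (selA 3644 y (selA 3642 y (selA 3641 y c3640 c3641) (selA 3643 y c3642 c3643)) (selA 3646 y (selA 3645 y c3644 c3645) (selA 3647 y c3646 c3647))))

noncomputable def cl228 (y : ℕ) : Clm := (selA 3656 y (selA 3652 y (selA 3650 y (selA 3649 y c3648 c3649) (selA 3651 y c3650 c3651)) (selA 3654 y (selA 3653 y c3652 c3653) (selA 3655 y c3654 c3655))) (selA 3660 y (selA 3658 y (selA 3657 y c3656 c3657) (selA 3659 y c3658 c3659)) (selA 3662 y (selA 3661 y c3660 c3661) (selA 3663 y c3662 c3663))))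

noncomputable def cl229 (y : ℕ) : Clm := (selA 3672 y (selA 3668 y (selA 3666 y (selA 3665 y c3664 c3665) (selA 3667 y c3666 c3667)) (selA 3670 y (selA 3669 y c3668 c3669) (selA 3671 y c3670 c3671))) (selA 3676 y (selA 3674 y (selA 3673 y c3672 c3673) (selA 3675 y c3674 c3675)) (selA 3678 y (selA 3677 y c3676 c3677) (selA 3679 y c3678 c3679))))

noncomputable def cl230 (y : ℕ) : Clm := (selA 3688 y (selA 3684 y (selA 3682 y (selA 3681 y c3680 c3681) (selA 3683 y c3682 c3683)) (selA 3686 y (selA 3685 y c3684 c3685) (selA 3687 y c3686 c3687))) (selA 3692 y (selA 3690 y (selA 3689 y c3688 c3689) (selA 3691 y c3690 c3691)) (selA 3694 y (selA 3693 y c3692 c3693) (selA 3695 y c3694 c3695))))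

noncomputable def cl231 (y : ℕ) : Clm := (selA 3704 y (selA 3700 y (selA 3698 y (selA 3697 y c3696 c3697) (selA 3699 y c3698 c3699)) (selA 3702 y (selA 3701 y c3700 c3701) (selA 3703 y c3702 c3703))) (selA 3708 y (selA 3706 y (selA 3705 y c3704 c3705) (selA 3707 y c3706 c3707)) (selA 3710 y (selA 3709 y c3708 c3709) (selA 3711 y c3710 c3711))))

noncomputable def cl232 (y : ℕ) : Clm := (selA 3720 y (selA 3716 y (selA 3714 y (selA 3713 y c3712 c3713) (selA 3715 y c3714 c3715)) (selA 3718 y (selA 3717 y c3716 c3717) (selA 3719 y c3718 c3719))) (selA 3724 y (selA 3722 y (selA 3721 y c3720 c3721) (selA 3723 y c3722 c3723)) (selA 3726 y (selA 3725 y c3724 c3725) (selA 3727 y c3726 c3727))))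

noncomputable def cl233 (y : ℕ) : Clm := (selA 3736 y (selA 3732 y (selA 3730 y (selA 3729 y c3728 c3729) (selA 3731 y c3730 c3731)) (selA 3734 y (selA 3733 y c3732 c3733) (selA 3735 y c3734 c3735))) (selA 3740 y (selA 3738 y (selA 3737 y c3736 c3737) (selA 3739 y c3738 c3739)) (selA 3742 y (selA 3741 y c3740 c3741) (selA 3743 y c3742 c3743))))

noncomputable def cl234 (y : ℕ) : Clm := (selA 3752 y (selA 3748 y (selA 3746 y (selA 3745 y c3744 c3745) (selA 3747 y c3746 c3747)) (selA 3750 y (selA 3749 y c3748 c3749) (selA 3751 y c3750 c3751))) (selA 3756 y (selA 3754 y (selA 3753 y c3752 c3753) (selA 3755 y c3754 c3755)) (selA 3758 y (selA 3757 y c3756 c3757) (selA 3759 y c3758 c3759))))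

noncomputable def cl235 (y : ℕ) : Clm := (selA 3768 y (selA 3764 y (selA 3762 y (selA 3761 y c3760 c3761) (selA 3763 y c3762 c3763)) (selA 3766 y (selA 3765 y c3764 c3765) (selA 3767 y c3766 c3767))) (selA 3772 y (selA 3770 y (selA 3769 y c3768 c3769) (selA 3771 y c3770 c3771)) (selA 3774 y (selA 3773 y c3772 c3773) (selA 3775 y c3774 c3775))))

noncomputable def cl236 (y : ℕ) : Clm := (selA 3784 y (selA 3780 y (selA 3778 y (selA 3777 y c3776 c3777) (selA 3779 y c3778 c3779)) (selA 3782 y (selA 3781 y c3780 c3781) (selA 3783 y c3782 c3783))) (selA 3788 y (selA 3786 y (selA 3785 y c3784 c3785) (selA 3787 y c3786 c3787)) (selA 3790 y (selA 3789 y c3788 c3789) (selA 3791 y c3790 c3791))))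

noncomputable def cl237 (y : ℕ) : Clm := (selA 3800 y (selA 3796 y (selA 3794 y (selA 3793 y c3792 c3793) (selA 3795 y c3794 c3795)) (selA 3798 y (selA 3797 y c3796 c3797) (selA 3799 y c3798 c3799))) (selA 3804 y (selA 3802 y (selA 3801 y c3800 c3801) (selA 3803 y c3802 c3803)) (selA 3806 y (selA 3805 y c3804 c3805) (selA 3807 y c3806 c3807))))

noncomputable def cl238 (y : ℕ) : Clm := (selA 3816 y (selA 3812 y (selA 3810 y (selA 3809 y c3808 c3809) (selA 3811 y c3810 c3811)) (selA 3814 y (selA 3813 y c3812 c3813) (selA 3815 y c3814 c3815))) (selA 3820 y (selA 3818 y (selA 3817 y c3816 c3817) (selA 3819 y c3818 c3819)) (selA 3822 y (selA 3821 y c3820 c3821) (selA 3823 y c3822 c3823))))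

noncomputable def cl239 (y : ℕ) : Clm := (selA 3832 y (selA 3828 y (selA 3826 y (selA 3825 y c3824 c3825) (selA 3827 y c3826 c3827)) (selA 3830 y (selA 3829 y c3828 c3829) (selA 3831 y c3830 c3831))) (selA 3836 y (selA 3834 y (selA 3833 y c3832 c3833) (selA 3835 y c3834 c3835)) (selA 3838 y (selA 3837 y c3836 c3837) (selA 3839 y c3838 c3839))))

noncomputable def cl240 (y : ℕ) : Clm := (selA 3848 y (selA 3844 y (selA 3842 y (selA 3841 y c3840 c3841) (selA 3843 y c3842 c3843)) (selA 3846 y (selA 3845 y c3844 c3845) (selA 3847 y c3846 c3847))) (selA 3852 y (selA 3850 y (selA 3849 y c3848 c3849) (selA 3851 y c3850 c3851)) (selA 3854 y (selA 3853 y c3852 c3853) (selA 3855 y c3854 c3855))))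

noncomputable def cl241 (y : ℕ) : Clm := (selA 3864 y (selA 3860 y (selA 3858 y (selA 3857 y c3856 c3857) (selA 3859 y c3858 c3859)) (selA 3862 y (selA 3861 y c3860 c3861) (selA 3863 y c3862 c3863))) (selA 3868 y (selA 3866 y (selA 3865 y c3864 c3865) (selA 3867 y c3866 c3867)) (selA 3870 y (selA 3869 y c3868 c3869) (selA 3871 y c3870 c3871))))

noncomputable def cl242 (y : ℕ) : Clm := (selA 3880 y (selA 3876 y (selA 3874 y (selA 3873 y c3872 c3873) (selA 3875 y c3874 c3875)) (selA 3878 y (selA 3877 y c3876 c3877) (selA 3879 y c3878 c3879))) (selA 3884 y (selA 3882 y (selA 3881 y c3880 c3881) (selA 3883 y c3882 c3883)) (selA 3886 y (selA 3885 y c3884 c3885) (selA 3887 y c3886 c3887))))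

noncomputable def cl243 (y : ℕ) : Clm := (selA 3896 y (selA 3892 y (selA 3890 y (selA 3889 y c3888 c3889) (selA 3891 y c3890 c3891)) (selA 3894 y (selA 3893 y c3892 c3893) (selA 3895 y c3894 c3895))) (selA 3900 y (selA 3898 y (selA 3897 y c3896 c3897) (selA 3899 y c3898 c3899)) (selA 3902 y (selA 3901 y c3900 c3901) (selA 3903 y c3902 c3903))))

noncomputable def cl244 (y : ℕ) : Clm := (selA 3912 y (selA 3908 y (selA 3906 y (selA 3905 y c3904 c3905) (selA 3907 y c3906 c3907)) (selA 3910 y (selA 3909 y c3908 c3909) (selA 3911 y c3910 c3911))) (selA 3916 y (selA 3914 y (selA 3913 y c3912 c3913) (selA 3915 y c3914 c3915)) (selA 3918 y (selA 3917 y c3916 c3917) (selA 3919 y c3918 c3919))))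

noncomputable def cl245 (y : ℕ) : Clm := (selA 3928 y (selA 3924 y (selA 3922 y (selA 3921 y c3920 c3921) (selA 3923 y c3922 c3923)) (selA 3926 y (selA 3925 y c3924 c3925) (selA 3927 y c3926 c3927))) (selA 3932 y (selA 3930 y (selA 3929 y c3928 c3929) (selA 3931 y c3930 c3931)) (selA 3934 y (selA 3933 y c3932 c3933) (selA 3935 y c3934 c3935))))

noncomputable def cl246 (y : ℕ) : Clm := (selA 3944 y (selA 3940 y (selA 3938 y (selA 3937 y c3936 c3937) (selA 3939 y c3938 c3939)) (selA 3942 y (selA 3941 y c3940 c3941) (selA 3943 y c3942 c3943))) (selA 3948 y (selA 3946 y (selA 3945 y c3944 c3945) (selA 3947 y c3946 c3947)) (selA 3950 y (selA 3949 y c3948 c3949) (selA 3951 y c3950 c3951))))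

noncomputable def cl247 (y : ℕ) : Clm := (selA 3960 y (selA 3956 y (selA 3954 y (selA 3953 y c3952 c3953) (selA 3955 y c3954 c3955)) (selA 3958 y (selA 3957 y c3956 c3957) (selA 3959 y c3958 c3959))) (selA 3964 y (selA 3962 y (selA 3961 y c3960 c3961) (selA 3963 y c3962 c3963)) (selA 3966 y (selA 3965 y c3964 c3965) (selA 3967 y c3966 c3967))))

noncomputable def cl248 (y : ℕ) : Clm := (selA 3976 y (selA 3972 y (selA 3970 y (selA 3969 y c3968 c3969) (selA 3971 y c3970 c3971)) (selA 3974 y (selA 3973 y c3972 c3973) (selA 3975 y c3974 c3975))) (selA 3980 y (selA 3978 y (selA 3977 y c3976 c3977) (selA 3979 y c3978 c3979)) (selA 3982 y (selA 3981 y c3980 c3981) (selA 3983 y c3982 c3983))))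

noncomputable def cl249 (y : ℕ) : Clm := (selA 3992 y (selA 3988 y (selA 3986 y (selA 3985 y c3984 c3985) (selA 3987 y c3986 c3987)) (selA 3990 y (selA 3989 y c3988 c3989) (selA 3991 y c3990 c3991))) (selA 3996 y (selA 3994 y (selA 3993 y c3992 c3993) (selA 3995 y c3994 c3995)) (selA 3998 y (selA 3997 y c3996 c3997) (selA 3999 y c3998 c3999))))

noncomputable def cl250 (y : ℕ) : Clm := (selA 4008 y (selA 4004 y (selA 4002 y (selA 4001 y c4000 c4001) (selA 4003 y c4002 c4003)) (selA 4006 y (selA 4005 y c4004 c4005) (selA 4007 y c4006 c4007))) (selA 4012 y (selA 4010 y (selA 4009 y c4008 c4009) (selA 4011 y c4010 c4011)) (selA 4014 y (selA 4013 y c4012 c4013) (selA 4015 y c4014 c4015))))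

noncomputable def cl251 (y : ℕ) : Clm := (selA 4024 y (selA 4020 y (selA 4018 y (selA 4017 y c4016 c4017) (selA 4019 y c4018 c4019)) (selA 4022 y (selA 4021 y c4020 c4021) (selA 4023 y c4022 c4023))) (selA 4028 y (selA 4026 y (selA 4025 y c4024 c4025) (selA 4027 y c4026 c4027)) (selA 4030 y (selA 4029 y c4028 c4029) (selA 4031 y c4030 c4031))))

noncomputable def cl252 (y : ℕ) : Clm := (selA 4040 y (selA 4036 y (selA 4034 y (selA 4033 y c4032 c4033) (selA 4035 y c4034 c4035)) (selA 4038 y (selA 4037 y c4036 c4037) (selA 4039 y c4038 c4039))) (selA 4044 y (selA 4042 y (selA 4041 y c4040 c4041) (selA 4043 y c4042 c4043)) (selA 4046 y (selA 4045 y c4044 c4045) (selA 4047 y c4046 c4047))))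

noncomputable def cl253 (y : ℕ) : Clm := (selA 4056 y (selA 4052 y (selA 4050 y (selA 4049 y c4048 c4049) (selA 4051 y c4050 c4051)) (selA 4054 y (selA 4053 y c4052 c4053) (selA 4055 y c4054 c4055))) (selA 4060 y (selA 4058 y (selA 4057 y c4056 c4057) (selA 4059 y c4058 c4059)) (selA 4062 y (selA 4061 y c4060 c4061) (selA 4063 y c4062 c4063))))

noncomputable def cl254 (y : ℕ) : Clm := (selA 4072 y (selA 4068 y (selA 4066 y (selA 4065 y c4064 c4065) (selA 4067 y c4066 c4067)) (selA 4070 y (selA 4069 y c4068 c4069) (selA 4071 y c4070 c4071))) (selA 4076 y (selA 4074 y (selA 4073 y c4072 c4073) (selA 4075 y c4074 c4075)) (selA 4078 y (selA 4077 y c4076 c4077) (selA 4079 y c4078 c4079))))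

noncomputable def cl255 (y : ℕ) : Clm := (selA 4088 y (selA 4084 y (selA 4082 y (selA 4081 y c4080 c4081) (selA 4083 y c4082 c4083)) (selA 4086 y (selA 4085 y c4084 c4085) (selA 4087 y c4086 c4087))) (selA 4092 y (selA 4090 y (selA 4089 y c4088 c4089) (selA 4091 y c4090 c4091)) (selA 4094 y (selA 4093 y c4092 c4093) (selA 4095 y c4094 c4095))))

noncomputable def cl256 (y : ℕ) : Clm := (selA 4104 y (selA 4100 y (selA 4098 y (selA 4097 y c4096 c4097) (selA 4099 y c4098 c4099)) (selA 4102 y (selA 4101 y c4100 c4101) (selA 4103 y c4102 c4103))) (selA 4108 y (selA 4106 y (selA 4105 y c4104 c4105) (selA 4107 y c4106 c4107)) (selA 4110 y (selA 4109 y c4108 c4109) (selA 4111 y c4110 c4111))))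

noncomputable def cl257 (y : ℕ) : Clm := (selA 4120 y (selA 4116 y (selA 4114 y (selA 4113 y c4112 c4113) (selA 4115 y c4114 c4115)) (selA 4118 y (selA 4117 y c4116 c4117) (selA 4119 y c4118 c4119))) (selA 4124 y (selA 4122 y (selA 4121 y c4120 c4121) (selA 4123 y c4122 c4123)) (selA 4126 y (selA 4125 y c4124 c4125) (selA 4127 y c4126 c4127))))

noncomputable def cl258 (y : ℕ) : Clm := (selA 4136 y (selA 4132 y (selA 4130 y (selA 4129 y c4128 c4129) (selA 4131 y c4130 c4131)) (selA 4134 y (selA 4133 y c4132 c4133) (selA 4135 y c4134 c4135))) (selA 4140 y (selA 4138 y (selA 4137 y c4136 c4137) (selA 4139 y c4138 c4139)) (selA 4142 y (selA 4141 y c4140 c4141) (selA 4143 y c4142 c4143))))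

noncomputable def cl259 (y : ℕ) : Clm := (selA 4152 y (selA 4148 y (selA 4146 y (selA 4145 y c4144 c4145) (selA 4147 y c4146 c4147)) (selA 4150 y (selA 4149 y c4148 c4149) (selA 4151 y c4150 c4151))) (selA 4156 y (selA 4154 y (selA 4153 y c4152 c4153) (selA 4155 y c4154 c4155)) (selA 4158 y (selA 4157 y c4156 c4157) (selA 4159 y c4158 c4159))))

noncomputable def cl260 (y : ℕ) : Clm := (selA 4168 y (selA 4164 y (selA 4162 y (selA 4161 y c4160 c4161) (selA 4163 y c4162 c4163)) (selA 4166 y (selA 4165 y c4164 c4165) (selA 4167 y c4166 c4167))) (selA 4172 y (selA 4170 y (selA 4169 y c4168 c4169) (selA 4171 y c4170 c4171)) (selA 4174 y (selA 4173 y c4172 c4173) (selA 4175 y c4174 c4175))))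

noncomputable def cl261 (y : ℕ) : Clm := (selA 4184 y (selA 4180 y (selA 4178 y (selA 4177 y c4176 c4177) (selA 4179 y c4178 c4179)) (selA 4182 y (selA 4181 y c4180 c4181) (selA 4183 y c4182 c4183))) (selA 4188 y (selA 4186 y (selA 4185 y c4184 c4185) (selA 4187 y c4186 c4187)) (selA 4190 y (selA 4189 y c4188 c4189) (selA 4191 y c4190 c4191))))

noncomputable def cl262 (y : ℕ) : Clm := (selA 4200 y (selA 4196 y (selA 4194 y (selA 4193 y c4192 c4193) (selA 4195 y c4194 c4195)) (selA 4198 y (selA 4197 y c4196 c4197) (selA 4199 y c4198 c4199))) (selA 4204 y (selA 4202 y (selA 4201 y c4200 c4201) (selA 4203 y c4202 c4203)) (selA 4206 y (selA 4205 y c4204 c4205) (selA 4207 y c4206 c4207))))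

noncomputable def cl263 (y : ℕ) : Clm := (selA 4216 y (selA 4212 y (selA 4210 y (selA 4209 y c4208 c4209) (selA 4211 y c4210 c4211)) (selA 4214 y (selA 4213 y c4212 c4213) (selA 4215 y c4214 c4215))) (selA 4220 y (selA 4218 y (selA 4217 y c4216 c4217) (selA 4219 y c4218 c4219)) (selA 4222 y (selA 4221 y c4220 c4221) (selA 4223 y c4222 c4223))))

noncomputable def cl264 (y : ℕ) : Clm := (selA 4232 y (selA 4228 y (selA 4226 y (selA 4225 y c4224 c4225) (selA 4227 y c4226 c4227)) (selA 4230 y (selA 4229 y c4228 c4229) (selA 4231 y c4230 c4231))) (selA 4236 y (selA 4234 y (selA 4233 y c4232 c4233) (selA 4235 y c4234 c4235)) (selA 4238 y (selA 4237 y c4236 c4237) (selA 4239 y c4238 c4239))))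

noncomputable def cl265 (y : ℕ) : Clm := (selA 4248 y (selA 4244 y (selA 4242 y (selA 4241 y c4240 c4241) (selA 4243 y c4242 c4243)) (selA 4246 y (selA 4245 y c4244 c4245) (selA 4247 y c4246 c4247))) (selA 4252 y (selA 4250 y (selA 4249 y c4248 c4249) (selA 4251 y c4250 c4251)) (selA 4254 y (selA 4253 y c4252 c4253) (selA 4255 y c4254 c4255))))

noncomputable def cl266 (y : ℕ) : Clm := (selA 4264 y (selA 4260 y (selA 4258 y (selA 4257 y c4256 c4257) (selA 4259 y c4258 c4259)) (selA 4262 y (selA 4261 y c4260 c4261) (selA 4263 y c4262 c4263))) (selA 4268 y (selA 4266 y (selA 4265 y c4264 c4265) (selA 4267 y c4266 c4267)) (selA 4270 y (selA 4269 y c4268 c4269) (selA 4271 y c4270 c4271))))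

noncomputable def cl267 (y : ℕ) : Clm := (selA 4280 y (selA 4276 y (selA 4274 y (selA 4273 y c4272 c4273) (selA 4275 y c4274 c4275)) (selA 4278 y (selA 4277 y c4276 c4277) (selA 4279 y c4278 c4279))) (selA 4284 y (selA 4282 y (selA 4281 y c4280 c4281) (selA 4283 y c4282 c4283)) (selA 4286 y (selA 4285 y c4284 c4285) (selA 4287 y c4286 c4287))))

noncomputable def cl268 (y : ℕ) : Clm := (selA 4296 y (selA 4292 y (selA 4290 y (selA 4289 y c4288 c4289) (selA 4291 y c4290 c4291)) (selA 4294 y (selA 4293 y c4292 c4293) (selA 4295 y c4294 c4295))) (selA 4300 y (selA 4298 y (selA 4297 y c4296 c4297) (selA 4299 y c4298 c4299)) (selA 4302 y (selA 4301 y c4300 c4301) (selA 4303 y c4302 c4303))))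

noncomputable def cl269 (y : ℕ) : Clm := (selA 4312 y (selA 4308 y (selA 4306 y (selA 4305 y c4304 c4305) (selA 4307 y c4306 c4307)) (selA 4310 y (selA 4309 y c4308 c4309) (selA 4311 y c4310 c4311))) (selA 4316 y (selA 4314 y (selA 4313 y c4312 c4313) (selA 4315 y c4314 c4315)) (selA 4318 y (selA 4317 y c4316 c4317) (selA 4319 y c4318 c4319))))

noncomputable def cl270 (y : ℕ) : Clm := (selA 4328 y (selA 4324 y (selA 4322 y (selA 4321 y c4320 c4321) (selA 4323 y c4322 c4323)) (selA 4326 y (selA 4325 y c4324 c4325) (selA 4327 y c4326 c4327))) (selA 4332 y (selA 4330 y (selA 4329 y c4328 c4329) (selA 4331 y c4330 c4331)) (selA 4334 y (selA 4333 y c4332 c4333) (selA 4335 y c4334 c4335))))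

noncomputable def cl271 (y : ℕ) : Clm := (selA 4344 y (selA 4340 y (selA 4338 y (selA 4337 y c4336 c4337) (selA 4339 y c4338 c4339)) (selA 4342 y (selA 4341 y c4340 c4341) (selA 4343 y c4342 c4343))) (selA 4348 y (selA 4346 y (selA 4345 y c4344 c4345) (selA 4347 y c4346 c4347)) (selA 4350 y (selA 4349 y c4348 c4349) (selA 4351 y c4350 c4351))))

noncomputable def cl272 (y : ℕ) : Clm := (selA 4360 y (selA 4356 y (selA 4354 y (selA 4353 y c4352 c4353) (selA 4355 y c4354 c4355)) (selA 4358 y (selA 4357 y c4356 c4357) (selA 4359 y c4358 c4359))) (selA 4364 y (selA 4362 y (selA 4361 y c4360 c4361) (selA 4363 y c4362 c4363)) (selA 4366 y (selA 4365 y c4364 c4365) (selA 4367 y c4366 c4367))))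

noncomputable def cl273 (y : ℕ) : Clm := (selA 4376 y (selA 4372 y (selA 4370 y (selA 4369 y c4368 c4369) (selA 4371 y c4370 c4371)) (selA 4374 y (selA 4373 y c4372 c4373) (selA 4375 y c4374 c4375))) (selA 4380 y (selA 4378 y (selA 4377 y c4376 c4377) (selA 4379 y c4378 c4379)) (selA 4382 y (selA 4381 y c4380 c4381) (selA 4383 y c4382 c4383))))

noncomputable def cl274 (y : ℕ) : Clm := (selA 4392 y (selA 4388 y (selA 4386 y (selA 4385 y c4384 c4385) (selA 4387 y c4386 c4387)) (selA 4390 y (selA 4389 y c4388 c4389) (selA 4391 y c4390 c4391))) (selA 4396 y (selA 4394 y (selA 4393 y c4392 c4393) (selA 4395 y c4394 c4395)) (selA 4398 y (selA 4397 y c4396 c4397) (selA 4399 y c4398 c4399))))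

noncomputable def cl275 (y : ℕ) : Clm := (selA 4408 y (selA 4404 y (selA 4402 y (selA 4401 y c4400 c4401) (selA 4403 y c4402 c4403)) (selA 4406 y (selA 4405 y c4404 c4405) (selA 4407 y c4406 c4407))) (selA 4412 y (selA 4410 y (selA 4409 y c4408 c4409) (selA 4411 y c4410 c4411)) (selA 4414 y (selA 4413 y c4412 c4413) (selA 4415 y c4414 c4415))))

noncomputable def cl276 (y : ℕ) : Clm := (selA 4424 y (selA 4420 y (selA 4418 y (selA 4417 y c4416 c4417) (selA 4419 y c4418 c4419)) (selA 4422 y (selA 4421 y c4420 c4421) (selA 4423 y c4422 c4423))) (selA 4428 y (selA 4426 y (selA 4425 y c4424 c4425) (selA 4427 y c4426 c4427)) (selA 4430 y (selA 4429 y c4428 c4429) (selA 4431 y c4430 c4431))))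

noncomputable def cl277 (y : ℕ) : Clm := (selA 4440 y (selA 4436 y (selA 4434 y (selA 4433 y c4432 c4433) (selA 4435 y c4434 c4435)) (selA 4438 y (selA 4437 y c4436 c4437) (selA 4439 y c4438 c4439))) (selA 4444 y (selA 4442 y (selA 4441 y c4440 c4441) (selA 4443 y c4442 c4443)) (selA 4446 y (selA 4445 y c4444 c4445) (selA 4447 y c4446 c4447))))

noncomputable def cl278 (y : ℕ) : Clm := (selA 4456 y (selA 4452 y (selA 4450 y (selA 4449 y c4448 c4449) (selA 4451 y c4450 c4451)) (selA 4454 y (selA 4453 y c4452 c4453) (selA 4455 y c4454 c4455))) (selA 4460 y (selA 4458 y (selA 4457 y c4456 c4457) (selA 4459 y c4458 c4459)) (selA 4462 y (selA 4461 y c4460 c4461) (selA 4463 y c4462 c4463))))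

noncomputable def cl279 (y : ℕ) : Clm := (selA 4472 y (selA 4468 y (selA 4466 y (selA 4465 y c4464 c4465) (selA 4467 y c4466 c4467)) (selA 4470 y (selA 4469 y c4468 c4469) (selA 4471 y c4470 c4471))) (selA 4476 y (selA 4474 y (selA 4473 y c4472 c4473) (selA 4475 y c4474 c4475)) (selA 4478 y (selA 4477 y c4476 c4477) (selA 4479 y c4478 c4479))))

noncomputable def cl280 (y : ℕ) : Clm := (selA 4488 y (selA 4484 y (selA 4482 y (selA 4481 y c4480 c4481) (selA 4483 y c4482 c4483)) (selA 4486 y (selA 4485 y c4484 c4485) (selA 4487 y c4486 c4487))) (selA 4492 y (selA 4490 y (selA 4489 y c4488 c4489) (selA 4491 y c4490 c4491)) (selA 4494 y (selA 4493 y c4492 c4493) (selA 4495 y c4494 c4495))))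

noncomputable def cl281 (y : ℕ) : Clm := (selA 4504 y (selA 4500 y (selA 4498 y (selA 4497 y c4496 c4497) (selA 4499 y c4498 c4499)) (selA 4502 y (selA 4501 y c4500 c4501) (selA 4503 y c4502 c4503))) (selA 4508 y (selA 4506 y (selA 4505 y c4504 c4505) (selA 4507 y c4506 c4507)) (selA 4510 y (selA 4509 y c4508 c4509) (selA 4511 y c4510 c4511))))

noncomputable def cl282 (y : ℕ) : Clm := (selA 4520 y (selA 4516 y (selA 4514 y (selA 4513 y c4512 c4513) (selA 4515 y c4514 c4515)) (selA 4518 y (selA 4517 y c4516 c4517) (selA 4519 y c4518 c4519))) (selA 4524 y (selA 4522 y (selA 4521 y c4520 c4521) (selA 4523 y c4522 c4523)) (selA 4526 y (selA 4525 y c4524 c4525) (selA 4527 y c4526 c4527))))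

noncomputable def cl283 (y : ℕ) : Clm := (selA 4536 y (selA 4532 y (selA 4530 y (selA 4529 y c4528 c4529) (selA 4531 y c4530 c4531)) (selA 4534 y (selA 4533 y c4532 c4533) (selA 4535 y c4534 c4535))) (selA 4540 y (selA 4538 y (selA 4537 y c4536 c4537) (selA 4539 y c4538 c4539)) (selA 4542 y (selA 4541 y c4540 c4541) (selA 4543 y c4542 c4543))))

noncomputable def cl284 (y : ℕ) : Clm := (selA 4552 y (selA 4548 y (selA 4546 y (selA 4545 y c4544 c4545) (selA 4547 y c4546 c4547)) (selA 4550 y (selA 4549 y c4548 c4549) (selA 4551 y c4550 c4551))) (selA 4556 y (selA 4554 y (selA 4553 y c4552 c4553) (selA 4555 y c4554 c4555)) (selA 4558 y (selA 4557 y c4556 c4557) (selA 4559 y c4558 c4559))))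

noncomputable def cl285 (y : ℕ) : Clm := (selA 4568 y (selA 4564 y (selA 4562 y (selA 4561 y c4560 c4561) (selA 4563 y c4562 c4563)) (selA 4566 y (selA 4565 y c4564 c4565) (selA 4567 y c4566 c4567))) (selA 4572 y (selA 4570 y (selA 4569 y c4568 c4569) (selA 4571 y c4570 c4571)) (selA 4574 y (selA 4573 y c4572 c4573) (selA 4575 y c4574 c4575))))

noncomputable def cl286 (y : ℕ) : Clm := (selA 4584 y (selA 4580 y (selA 4578 y (selA 4577 y c4576 c4577) (selA 4579 y c4578 c4579)) (selA 4582 y (selA 4581 y c4580 c4581) (selA 4583 y c4582 c4583))) (selA 4588 y (selA 4586 y (selA 4585 y c4584 c4585) (selA 4587 y c4586 c4587)) (selA 4590 y (selA 4589 y c4588 c4589) (selA 4591 y c4590 c4591))))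

noncomputable def cl287 (y : ℕ) : Clm := (selA 4600 y (selA 4596 y (selA 4594 y (selA 4593 y c4592 c4593) (selA 4595 y c4594 c4595)) (selA 4598 y (selA 4597 y c4596 c4597) (selA 4599 y c4598 c4599))) (selA 4604 y (selA 4602 y (selA 4601 y c4600 c4601) (selA 4603 y c4602 c4603)) (selA 4606 y (selA 4605 y c4604 c4605) (selA 4607 y c4606 c4607))))

noncomputable def cl288 (y : ℕ) : Clm := (selA 4616 y (selA 4612 y (selA 4610 y (selA 4609 y c4608 c4609) (selA 4611 y c4610 c4611)) (selA 4614 y (selA 4613 y c4612 c4613) (selA 4615 y c4614 c4615))) (selA 4620 y (selA 4618 y (selA 4617 y c4616 c4617) (selA 4619 y c4618 c4619)) (selA 4622 y (selA 4621 y c4620 c4621) (selA 4623 y c4622 c4623))))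

noncomputable def cl289 (y : ℕ) : Clm := (selA 4632 y (selA 4628 y (selA 4626 y (selA 4625 y c4624 c4625) (selA 4627 y c4626 c4627)) (selA 4630 y (selA 4629 y c4628 c4629) (selA 4631 y c4630 c4631))) (selA 4636 y (selA 4634 y (selA 4633 y c4632 c4633) (selA 4635 y c4634 c4635)) (selA 4638 y (selA 4637 y c4636 c4637) (selA 4639 y c4638 c4639))))

noncomputable def cl290 (y : ℕ) : Clm := (selA 4648 y (selA 4644 y (selA 4642 y (selA 4641 y c4640 c4641) (selA 4643 y c4642 c4643)) (selA 4646 y (selA 4645 y c4644 c4645) (selA 4647 y c4646 c4647))) (selA 4652 y (selA 4650 y (selA 4649 y c4648 c4649) (selA 4651 y c4650 c4651)) (selA 4654 y (selA 4653 y c4652 c4653) (selA 4655 y c4654 c4655))))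

noncomputable def cl291 (y : ℕ) : Clm := (selA 4664 y (selA 4660 y (selA 4658 y (selA 4657 y c4656 c4657) (selA 4659 y c4658 c4659)) (selA 4662 y (selA 4661 y c4660 c4661) (selA 4663 y c4662 c4663))) (selA 4668 y (selA 4666 y (selA 4665 y c4664 c4665) (selA 4667 y c4666 c4667)) (selA 4670 y (selA 4669 y c4668 c4669) (selA 4671 y c4670 c4671))))

noncomputable def cl292 (y : ℕ) : Clm := (selA 4680 y (selA 4676 y (selA 4674 y (selA 4673 y c4672 c4673) (selA 4675 y c4674 c4675)) (selA 4678 y (selA 4677 y c4676 c4677) (selA 4679 y c4678 c4679))) (selA 4684 y (selA 4682 y (selA 4681 y c4680 c4681) (selA 4683 y c4682 c4683)) (selA 4686 y (selA 4685 y c4684 c4685) (selA 4687 y c4686 c4687))))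

noncomputable def cl293 (y : ℕ) : Clm := (selA 4696 y (selA 4692 y (selA 4690 y (selA 4689 y c4688 c4689) (selA 4691 y c4690 c4691)) (selA 4694 y (selA 4693 y c4692 c4693) (selA 4695 y c4694 c4695))) (selA 4700 y (selA 4698 y (selA 4697 y c4696 c4697) (selA 4699 y c4698 c4699)) (selA 4702 y (selA 4701 y c4700 c4701) (selA 4703 y c4702 c4703))))

noncomputable def cl294 (y : ℕ) : Clm := (selA 4712 y (selA 4708 y (selA 4706 y (selA 4705 y c4704 c4705) (selA 4707 y c4706 c4707)) (selA 4710 y (selA 4709 y c4708 c4709) (selA 4711 y c4710 c4711))) (selA 4716 y (selA 4714 y (selA 4713 y c4712 c4713) (selA 4715 y c4714 c4715)) (selA 4718 y (selA 4717 y c4716 c4717) (selA 4719 y c4718 c4719))))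

noncomputable def cl295 (y : ℕ) : Clm := (selA 4728 y (selA 4724 y (selA 4722 y (selA 4721 y c4720 c4721) (selA 4723 y c4722 c4723)) (selA 4726 y (selA 4725 y c4724 c4725) (selA 4727 y c4726 c4727))) (selA 4732 y (selA 4730 y (selA 4729 y c4728 c4729) (selA 4731 y c4730 c4731)) (selA 4734 y (selA 4733 y c4732 c4733) (selA 4735 y c4734 c4735))))

noncomputable def cl296 (y : ℕ) : Clm := (selA 4744 y (selA 4740 y (selA 4738 y (selA 4737 y c4736 c4737) (selA 4739 y c4738 c4739)) (selA 4742 y (selA 4741 y c4740 c4741) (selA 4743 y c4742 c4743))) (selA 4748 y (selA 4746 y (selA 4745 y c4744 c4745) (selA 4747 y c4746 c4747)) (selA 4750 y (selA 4749 y c4748 c4749) (selA 4751 y c4750 c4751))))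

noncomputable def cl297 (y : ℕ) : Clm := (selA 4760 y (selA 4756 y (selA 4754 y (selA 4753 y c4752 c4753) (selA 4755 y c4754 c4755)) (selA 4758 y (selA 4757 y c4756 c4757) (selA 4759 y c4758 c4759))) (selA 4764 y (selA 4762 y (selA 4761 y c4760 c4761) (selA 4763 y c4762 c4763)) (selA 4766 y (selA 4765 y c4764 c4765) (selA 4767 y c4766 c4767))))

noncomputable def cl298 (y : ℕ) : Clm := (selA 4776 y (selA 4772 y (selA 4770 y (selA 4769 y c4768 c4769) (selA 4771 y c4770 c4771)) (selA 4774 y (selA 4773 y c4772 c4773) (selA 4775 y c4774 c4775))) (selA 4780 y (selA 4778 y (selA 4777 y c4776 c4777) (selA 4779 y c4778 c4779)) (selA 4782 y (selA 4781 y c4780 c4781) (selA 4783 y c4782 c4783))))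

noncomputable def cl299 (y : ℕ) : Clm := (selA 4792 y (selA 4788 y (selA 4786 y (selA 4785 y c4784 c4785) (selA 4787 y c4786 c4787)) (selA 4790 y (selA 4789 y c4788 c4789) (selA 4791 y c4790 c4791))) (selA 4796 y (selA 4794 y (selA 4793 y c4792 c4793) (selA 4795 y c4794 c4795)) (selA 4798 y (selA 4797 y c4796 c4797) (selA 4799 y c4798 c4799))))

noncomputable def cl300 (y : ℕ) : Clm := (selA 4808 y (selA 4804 y (selA 4802 y (selA 4801 y c4800 c4801) (selA 4803 y c4802 c4803)) (selA 4806 y (selA 4805 y c4804 c4805) (selA 4807 y c4806 c4807))) (selA 4812 y (selA 4810 y (selA 4809 y c4808 c4809) (selA 4811 y c4810 c4811)) (selA 4814 y (selA 4813 y c4812 c4813) (selA 4815 y c4814 c4815))))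

noncomputable def cl301 (y : ℕ) : Clm := (selA 4824 y (selA 4820 y (selA 4818 y (selA 4817 y c4816 c4817) (selA 4819 y c4818 c4819)) (selA 4822 y (selA 4821 y c4820 c4821) (selA 4823 y c4822 c4823))) (selA 4828 y (selA 4826 y (selA 4825 y c4824 c4825) (selA 4827 y c4826 c4827)) (selA 4830 y (selA 4829 y c4828 c4829) (selA 4831 y c4830 c4831))))

noncomputable def cl302 (y : ℕ) : Clm := (selA 4840 y (selA 4836 y (selA 4834 y (selA 4833 y c4832 c4833) (selA 4835 y c4834 c4835)) (selA 4838 y (selA 4837 y c4836 c4837) (selA 4839 y c4838 c4839))) (selA 4844 y (selA 4842 y (selA 4841 y c4840 c4841) (selA 4843 y c4842 c4843)) (selA 4846 y (selA 4845 y c4844 c4845) (selA 4847 y c4846 c4847))))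

noncomputable def cl303 (y : ℕ) : Clm := (selA 4856 y (selA 4852 y (selA 4850 y (selA 4849 y c4848 c4849) (selA 4851 y c4850 c4851)) (selA 4854 y (selA 4853 y c4852 c4853) (selA 4855 y c4854 c4855))) (selA 4860 y (selA 4858 y (selA 4857 y c4856 c4857) (selA 4859 y c4858 c4859)) (selA 4862 y (selA 4861 y c4860 c4861) (selA 4863 y c4862 c4863))))

noncomputable def cl304 (y : ℕ) : Clm := (selA 4872 y (selA 4868 y (selA 4866 y (selA 4865 y c4864 c4865) (selA 4867 y c4866 c4867)) (selA 4870 y (selA 4869 y c4868 c4869) (selA 4871 y c4870 c4871))) (selA 4876 y (selA 4874 y (selA 4873 y c4872 c4873) (selA 4875 y c4874 c4875)) (selA 4878 y (selA 4877 y c4876 c4877) (selA 4879 y c4878 c4879))))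

noncomputable def cl305 (y : ℕ) : Clm := (selA 4888 y (selA 4884 y (selA 4882 y (selA 4881 y c4880 c4881) (selA 4883 y c4882 c4883)) (selA 4886 y (selA 4885 y c4884 c4885) (selA 4887 y c4886 c4887))) (selA 4892 y (selA 4890 y (selA 4889 y c4888 c4889) (selA 4891 y c4890 c4891)) (selA 4894 y (selA 4893 y c4892 c4893) (selA 4895 y c4894 c4895))))

noncomputable def cl306 (y : ℕ) : Clm := (selA 4904 y (selA 4900 y (selA 4898 y (selA 4897 y c4896 c4897) (selA 4899 y c4898 c4899)) (selA 4902 y (selA 4901 y c4900 c4901) (selA 4903 y c4902 c4903))) (selA 4908 y (selA 4906 y (selA 4905 y c4904 c4905) (selA 4907 y c4906 c4907)) (selA 4910 y (selA 4909 y c4908 c4909) (selA 4911 y c4910 c4911))))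

noncomputable def cl307 (y : ℕ) : Clm := (selA 4920 y (selA 4916 y (selA 4914 y (selA 4913 y c4912 c4913) (selA 4915 y c4914 c4915)) (selA 4918 y (selA 4917 y c4916 c4917) (selA 4919 y c4918 c4919))) (selA 4924 y (selA 4922 y (selA 4921 y c4920 c4921) (selA 4923 y c4922 c4923)) (selA 4926 y (selA 4925 y c4924 c4925) (selA 4927 y c4926 c4927))))

noncomputable def cl308 (y : ℕ) : Clm := (selA 4936 y (selA 4932 y (selA 4930 y (selA 4929 y c4928 c4929) (selA 4931 y c4930 c4931)) (selA 4934 y (selA 4933 y c4932 c4933) (selA 4935 y c4934 c4935))) (selA 4940 y (selA 4938 y (selA 4937 y c4936 c4937) (selA 4939 y c4938 c4939)) (selA 4942 y (selA 4941 y c4940 c4941) (selA 4943 y c4942 c4943))))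

noncomputable def cl309 (y : ℕ) : Clm := (selA 4952 y (selA 4948 y (selA 4946 y (selA 4945 y c4944 c4945) (selA 4947 y c4946 c4947)) (selA 4950 y (selA 4949 y c4948 c4949) (selA 4951 y c4950 c4951))) (selA 4956 y (selA 4954 y (selA 4953 y c4952 c4953) (selA 4955 y c4954 c4955)) (selA 4958 y (selA 4957 y c4956 c4957) (selA 4959 y c4958 c4959))))

noncomputable def cl310 (y : ℕ) : Clm := (selA 4968 y (selA 4964 y (selA 4962 y (selA 4961 y c4960 c4961) (selA 4963 y c4962 c4963)) (selA 4966 y (selA 4965 y c4964 c4965) (selA 4967 y c4966 c4967))) (selA 4972 y (selA 4970 y (selA 4969 y c4968 c4969) (selA 4971 y c4970 c4971)) (selA 4974 y (selA 4973 y c4972 c4973) (selA 4975 y c4974 c4975))))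

noncomputable def cl311 (y : ℕ) : Clm := (selA 4984 y (selA 4980 y (selA 4978 y (selA 4977 y c4976 c4977) (selA 4979 y c4978 c4979)) (selA 4982 y (selA 4981 y c4980 c4981) (selA 4983 y c4982 c4983))) (selA 4988 y (selA 4986 y (selA 4985 y c4984 c4985) (selA 4987 y c4986 c4987)) (selA 4990 y (selA 4989 y c4988 c4989) (selA 4991 y c4990 c4991))))

noncomputable def cl312 (y : ℕ) : Clm := (selA 5000 y (selA 4996 y (selA 4994 y (selA 4993 y c4992 c4993) (selA 4995 y c4994 c4995)) (selA 4998 y (selA 4997 y c4996 c4997) (selA 4999 y c4998 c4999))) (selA 5004 y (selA 5002 y (selA 5001 y c5000 c5001) (selA 5003 y c5002 c5003)) (selA 5006 y (selA 5005 y c5004 c5005) (selA 5007 y c5006 c5007))))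

noncomputable def cl313 (y : ℕ) : Clm := (selA 5016 y (selA 5012 y (selA 5010 y (selA 5009 y c5008 c5009) (selA 5011 y c5010 c5011)) (selA 5014 y (selA 5013 y c5012 c5013) (selA 5015 y c5014 c5015))) (selA 5020 y (selA 5018 y (selA 5017 y c5016 c5017) (selA 5019 y c5018 c5019)) (selA 5022 y (selA 5021 y c5020 c5021) (selA 5023 y c5022 c5023))))

noncomputable def cl314 (y : ℕ) : Clm := (selA 5032 y (selA 5028 y (selA 5026 y (selA 5025 y c5024 c5025) (selA 5027 y c5026 c5027)) (selA 5030 y (selA 5029 y c5028 c5029) (selA 5031 y c5030 c5031))) (selA 5036 y (selA 5034 y (selA 5033 y c5032 c5033) (selA 5035 y c5034 c5035)) (selA 5038 y (selA 5037 y c5036 c5037) (selA 5039 y c5038 c5039))))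

noncomputable def cl315 (y : ℕ) : Clm := (selA 5048 y (selA 5044 y (selA 5042 y (selA 5041 y c5040 c5041) (selA 5043 y c5042 c5043)) (selA 5046 y (selA 5045 y c5044 c5045) (selA 5047 y c5046 c5047))) (selA 5052 y (selA 5050 y (selA 5049 y c5048 c5049) (selA 5051 y c5050 c5051)) (selA 5054 y (selA 5053 y c5052 c5053) (selA 5055 y c5054 c5055))))

noncomputable def cl316 (y : ℕ) : Clm := (selA 5064 y (selA 5060 y (selA 5058 y (selA 5057 y c5056 c5057) (selA 5059 y c5058 c5059)) (selA 5062 y (selA 5061 y c5060 c5061) (selA 5063 y c5062 c5063))) (selA 5068 y (selA 5066 y (selA 5065 y c5064 c5065) (selA 5067 y c5066 c5067)) (selA 5070 y (selA 5069 y c5068 c5069) (selA 5071 y c5070 c5071))))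

noncomputable def cl317 (y : ℕ) : Clm := (selA 5080 y (selA 5076 y (selA 5074 y (selA 5073 y c5072 c5073) (selA 5075 y c5074 c5075)) (selA 5078 y (selA 5077 y c5076 c5077) (selA 5079 y c5078 c5079))) (selA 5084 y (selA 5082 y (selA 5081 y c5080 c5081) (selA 5083 y c5082 c5083)) (selA 5086 y (selA 5085 y c5084 c5085) (selA 5087 y c5086 c5087))))

noncomputable def cl318 (y : ℕ) : Clm := (selA 5095 y (selA 5091 y (selA 5089 y c5088 (selA 5090 y c5089 c5090)) (selA 5093 y (selA 5092 y c5091 c5092) (selA 5094 y c5093 c5094))) (selA 5098 y (selA 5096 y c5095 (selA 5097 y c5096 c5097)) (selA 5100 y (selA 5099 y c5098 c5099) (selA 5101 y c5100 c5101))))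

noncomputable def cl (y : ℕ) : Clm := (selA 2544 y (selA 1264 y (selA 624 y (selA 304 y (selA 144 y (selA 64 y (selA 32 y (selA 16 y (cl0 y) (cl1 y)) (selA 48 y (cl2 y) (cl3 y))) (selA 96 y (selA 80 y (cl4 y) (cl5 y)) (selA 112 y (cl6 y) (selA 128 y (cl7 y) (cl8 y))))) (selA 224 y (selA 176 y (selA 160 y (cl9 y) (cl10 y)) (selA 192 y (cl11 y) (selA 208 y (cl12 y) (cl13 y)))) (selA 256 y (selA 240 y (cl14 y) (cl15 y)) (selA 272 y (cl16 y) (selA 288 y (cl17 y) (cl18 y)))))) (selA 464 y (selA 384 y (selA 336 y (selA 320 y (cl19 y) (cl20 y)) (selA 352 y (cl21 y) (selA 368 y (cl22 y) (cl23 y)))) (selA 416 y (selA 400 y (cl24 y) (cl25 y)) (selA 432 y (cl26 y) (selA 448 y (cl27 y) (cl28 y))))) (selA 544 y (selA 496 y (selA 480 y (cl29 y) (cl30 y)) (selA 512 y (cl31 y) (selA 528 y (cl32 y) (cl33 y)))) (selA 576 y (selA 560 y (cl34 y) (cl35 y)) (selA 592 y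 (cl36 y) (selA 608 y (cl37 y) (cl38 y))))))) (selA 944 y (selA 784 y (selA 704 y (selA 656 y (selA 640 y (cl39 y) (cl40 y)) (selA 672 y (cl41 y) (selA 688 y (cl42 y) (cl43 y)))) (selA 736 y (selA 720 y (cl44 y) (cl45 y)) (selA 752 y (cl46 y) (selA 768 y (cl47 y) (cl48 y))))) (selA 864 y (selA 816 y (selA 800 y (cl49 y) (cl50 y)) (selA 832 y (cl51 y) (selA 848 y (cl52 y) (cl53 y)))) (selA 896 y (selA 880 y (cl54 y) (cl55 y)) (selA 912 y (cl56 y) (selA 928 y (cl57 y) (cl58 y)))))) (selA 1104 y (selA 1024 y (selA 976 y (selA 960 y (cl59 y) (cl60 y)) (selA 992 y (cl61 y) (selA 1008 y (cl62 y) (cl63 y)))) (selA 1056 y (selA 1040 y (cl64 y) (cl65 y)) (selA 1072 y (cl66 y) (selA 1088 y (cl67 y) (cl68 y))))) (selA 1184 y (selA 1136 y (selA 1120 y (cl69 y) (cl70 y)) (selA 1152 y (cl71 y) (selA 1168 y (cl72 y) (cl73 y)))) (selA 1216 y (selA 1200 y (cl74 y) (cl75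 y)) (selA 1232 y (cl76 y) (selA 1248 y (cl77 y) (cl78 y)))))))) (selA 1904 y (selA 1584 y (selA 1424 y (selA 1344 y (selA 1296 y (selA 1280 y (cl79 y) (cl80 y)) (selA 1312 y (cl81 y) (selA 1328 y (cl82 y) (cl83 y)))) (selA 1376 y (selA 1360 y (cl84 y) (cl85 y)) (selA 1392 y (cl86 y) (selA 1408 y (cl87 y) (cl88 y))))) (selA 1504 y (selA 1456 y (selA 1440 y (cl89 y) (cl90 y)) (selA 1472 y (cl91 y) (selA 1488 y (cl92 y) (cl93 y)))) (selA 1536 y (selA 1520 y (cl94 y) (cl95 y)) (selA 1552 y (cl96 y) (selA 1568 y (cl97 y) (cl98 y)))))) (selA 1744 y (selA 1664 y (selA 1616 y (selA 1600 y (cl99 y) (cl100 y)) (selA 1632 y (cl101 y) (selA 1648 y (cl102 y) (cl103 y)))) (selA 1696 y (selA 1680 y (cl104 y) (cl105 y)) (selA 1712 y (cl106 y) (selA 1728 y (cl107 y) (cl108 y))))) (selA 1824 y (selA 1776 y (selA 1760 y (cl109 y) (cl110 y)) (selA 1792 y (cl111 y) (selA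 1808 y (cl112 y) (cl113 y)))) (selA 1856 y (selA 1840 y (cl114 y) (cl115 y)) (selA 1872 y (cl116 y) (selA 1888 y (cl117 y) (cl118 y))))))) (selA 2224 y (selA 2064 y (selA 1984 y (selA 1936 y (selA 1920 y (cl119 y) (cl120 y)) (selA 1952 y (cl121 y) (selA 1968 y (cl122 y) (cl123 y)))) (selA 2016 y (selA 2000 y (cl124 y) (cl125 y)) (selA 2032 y (cl126 y) (selA 2048 y (cl127 y) (cl128 y))))) (selA 2144 y (selA 2096 y (selA 2080 y (cl129 y) (cl130 y)) (selA 2112 y (cl131 y) (selA 2128 y (cl132 y) (cl133 y)))) (selA 2176 y (selA 2160 y (cl134 y) (cl135 y)) (selA 2192 y (cl136 y) (selA 2208 y (cl137 y) (cl138 y)))))) (selA 2384 y (selA 2304 y (selA 2256 y (selA 2240 y (cl139 y) (cl140 y)) (selA 2272 y (cl141 y) (selA 2288 y (cl142 y) (cl143 y)))) (selA 2336 y (selA 2320 y (cl144 y) (cl145 y)) (selA 2352 y (cl146 y) (selA 2368 y (cl147 y) (cl148 y))))) (selA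 2464 y (selA 2416 y (selA 2400 y (cl149 y) (cl150 y)) (selA 2432 y (cl151 y) (selA 2448 y (cl152 y) (cl153 y)))) (selA 2496 y (selA 2480 y (cl154 y) (cl155 y)) (selA 2512 y (cl156 y) (selA 2528 y (cl157 y) (cl158 y))))))))) (selA 3824 y (selA 3184 y (selA 2864 y (selA 2704 y (selA 2624 y (selA 2576 y (selA 2560 y (cl159 y) (cl160 y)) (selA 2592 y (cl161 y) (selA 2608 y (cl162 y) (cl163 y)))) (selA 2656 y (selA 2640 y (cl164 y) (cl165 y)) (selA 2672 y (cl166 y) (selA 2688 y (cl167 y) (cl168 y))))) (selA 2784 y (selA 2736 y (selA 2720 y (cl169 y) (cl170 y)) (selA 2752 y (cl171 y) (selA 2768 y (cl172 y) (cl173 y)))) (selA 2816 y (selA 2800 y (cl174 y) (cl175 y)) (selA 2832 y (cl176 y) (selA 2848 y (cl177 y) (cl178 y)))))) (selA 3024 y (selA 2944 y (selA 2896 y (selA 2880 y (cl179 y) (cl180 y)) (selA 2912 y (cl181 y) (selA 2928 y (cl182 y) (cl183 y))))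 (selA 2976 y (selA 2960 y (cl184 y) (cl185 y)) (selA 2992 y (cl186 y) (selA 3008 y (cl187 y) (cl188 y))))) (selA 3104 y (selA 3056 y (selA 3040 y (cl189 y) (cl190 y)) (selA 3072 y (cl191 y) (selA 3088 y (cl192 y) (cl193 y)))) (selA 3136 y (selA 3120 y (cl194 y) (cl195 y)) (selA 3152 y (cl196 y) (selA 3168 y (cl197 y) (cl198 y))))))) (selA 3504 y (selA 3344 y (selA 3264 y (selA 3216 y (selA 3200 y (cl199 y) (cl200 y)) (selA 3232 y (cl201 y) (selA 3248 y (cl202 y) (cl203 y)))) (selA 3296 y (selA 3280 y (cl204 y) (cl205 y)) (selA 3312 y (cl206 y) (selA 3328 y (cl207 y) (cl208 y))))) (selA 3424 y (selA 3376 y (selA 3360 y (cl209 y) (cl210 y)) (selA 3392 y (cl211 y) (selA 3408 y (cl212 y) (cl213 y)))) (selA 3456 y (selA 3440 y (cl214 y) (cl215 y)) (selA 3472 y (cl216 y) (selA 3488 y (cl217 y) (cl218 y)))))) (selA 3664 y (selA 3584 y (selA 3536 y (selA 3520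 y (cl219 y) (cl220 y)) (selA 3552 y (cl221 y) (selA 3568 y (cl222 y) (cl223 y)))) (selA 3616 y (selA 3600 y (cl224 y) (cl225 y)) (selA 3632 y (cl226 y) (selA 3648 y (cl227 y) (cl228 y))))) (selA 3744 y (selA 3696 y (selA 3680 y (cl229 y) (cl230 y)) (selA 3712 y (cl231 y) (selA 3728 y (cl232 y) (cl233 y)))) (selA 3776 y (selA 3760 y (cl234 y) (cl235 y)) (selA 3792 y (cl236 y) (selA 3808 y (cl237 y) (cl238 y)))))))) (selA 4464 y (selA 4144 y (selA 3984 y (selA 3904 y (selA 3856 y (selA 3840 y (cl239 y) (cl240 y)) (selA 3872 y (cl241 y) (selA 3888 y (cl242 y) (cl243 y)))) (selA 3936 y (selA 3920 y (cl244 y) (cl245 y)) (selA 3952 y (cl246 y) (selA 3968 y (cl247 y) (cl248 y))))) (selA 4064 y (selA 4016 y (selA 4000 y (cl249 y) (cl250 y)) (selA 4032 y (cl251 y) (selA 4048 y (cl252 y) (cl253 y)))) (selA 4096 y (selA 4080 y (cl254 y) (cl255 y)) (selA 4112 y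 (cl256 y) (selA 4128 y (cl257 y) (cl258 y)))))) (selA 4304 y (selA 4224 y (selA 4176 y (selA 4160 y (cl259 y) (cl260 y)) (selA 4192 y (cl261 y) (selA 4208 y (cl262 y) (cl263 y)))) (selA 4256 y (selA 4240 y (cl264 y) (cl265 y)) (selA 4272 y (cl266 y) (selA 4288 y (cl267 y) (cl268 y))))) (selA 4384 y (selA 4336 y (selA 4320 y (cl269 y) (cl270 y)) (selA 4352 y (cl271 y) (selA 4368 y (cl272 y) (cl273 y)))) (selA 4416 y (selA 4400 y (cl274 y) (cl275 y)) (selA 4432 y (cl276 y) (selA 4448 y (cl277 y) (cl278 y))))))) (selA 4784 y (selA 4624 y (selA 4544 y (selA 4496 y (selA 4480 y (cl279 y) (cl280 y)) (selA 4512 y (cl281 y) (selA 4528 y (cl282 y) (cl283 y)))) (selA 4576 y (selA 4560 y (cl284 y) (cl285 y)) (selA 4592 y (cl286 y) (selA 4608 y (cl287 y) (cl288 y))))) (selA 4704 y (selA 4656 y (selA 4640 y (cl289 y) (cl290 y)) (selA 4672 y (cl291 y) (selA 4688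 y (cl292 y) (cl293 y)))) (selA 4736 y (selA 4720 y (cl294 y) (cl295 y)) (selA 4752 y (cl296 y) (selA 4768 y (cl297 y) (cl298 y)))))) (selA 4944 y (selA 4864 y (selA 4816 y (selA 4800 y (cl299 y) (cl300 y)) (selA 4832 y (cl301 y) (selA 4848 y (cl302 y) (cl303 y)))) (selA 4896 y (selA 4880 y (cl304 y) (cl305 y)) (selA 4912 y (cl306 y) (selA 4928 y (cl307 y) (cl308 y))))) (selA 5024 y (selA 4976 y (selA 4960 y (cl309 y) (cl310 y)) (selA 4992 y (cl311 y) (selA 5008 y (cl312 y) (cl313 y)))) (selA 5056 y (selA 5040 y (cl314 y) (cl315 y)) (selA 5072 y (cl316 y) (selA 5088 y (cl317 y) (cl318 y))))))))))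

def gwL : List (List ℕ) := [[], [14], [14,4,14], [14,7,2,14], [14,4,2,14], [14,7,4,2,14], [14,6,4,2,14], [14,4,14,2,14], [14,4,14,6,2,14], [14,7,2,14,10,13,8,6,13,2,14], [14,7,2,14,4,13,7,2,14]]

noncomputable def D : Dce where
  inv := 18687341019346104589586641797777588480
  m := 14
  T := 14
  TI := 15
  KL := [1,3,5,8,9,10,11,12,13]
  ax := [[1], [2], [3], [4], [5], [6], [8]]
  sg := [[], [1], [], [3], [], [5], [], [], [9], [8], [5,10], [13], [12], [3,1,11,1,3]]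
  chk := fixB H.img 14 H.bs
  pats := [([], false), ([15,14], false), ([14], true), ([1,3,15], true), ([14,4,14,4,5,3,1,14,4,14,4,5,3,1], false), ([1,3,5,4,15,4,15,1,3,5,4,15,4], true), ([14,4,5,3,1,14,4,14,4,5,3,1,14,4], false), ([4,15,1,3,5,4,15,4,15,1,3,5,4], true), ([14,4,2,1,3,2,4,14,4,2,1,3,2,3,5,4,3,1,14,4,2,1,3,2,5,3,1,14,4,3,1], false), ([1,3,4,15,1,3,5,2,3,1,2,4,15,1,3,4,5,3,2,3,1,2,4,15,4,2,3,1,2,4], true), ([14,4,2,1,3,2,3,5,4,3,1,14,4,2,1,3,2,5,3,1,14,4,3,1,14,4,2,1,3,2,4], false), ([4,2,3,1,2,4,15,1,3,4,15,1,3,5,2,3,1,2,4,15,1,3,4,5,3,2,3,1,2,4], true), ([14,4,2,1,3,2,5,3,1,14,4,3,1,14,4,2,1,3,2,4,14,4,2,1,3,2,3,5,4,3,1], false), ([1,3,4,5,3,2,3,1,2,4,15,4,2,3,1,2,4,15,1,3,4,15,1,3,5,2,3,1,2,4], true), ([14,4,3,1,14,4,2,1,3,2,4,14,4,2,1,3,2,3,5,4,3,1,14,4,2,1,3,2,5,3,1], false), ([1,3,5,2,3,1,2,4,15,1,3,4,5,3,2,3,1,2,4,15,4,2,3,1,2,4,15,1,3,4],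 true), ([14,6,14,6,14,6,3,1], false), ([1,3,7,15,7,15,7], true), ([14,6,14,6,3,1,14,6], false), ([7,15,1,3,7,15,7], true), ([14,6,3,1,14,6,14,6], false), ([7,15,7,15,1,3,7], true), ([14,7,14,6,3,1,14,7,14,6,3,1,14,7,14,6,3,1,14,7,14,6], false), ([7,15,6,15,1,3,7,15,6,15,1,3,7,15,6,15,1,3,7,15,6], true), ([14,6,3,1,14,7,14,6,3,1,14,7,14,6,3,1,14,7,14,6,14,7], false), ([6,15,7,15,6,15,1,3,7,15,6,15,1,3,7,15,6,15,1,3,7], true), ([14,7,14,6,3,1,14,7,14,6,3,1,14,7,14,6,14,7,14,6,3,1], false), ([1,3,7,15,6,15,7,15,6,15,1,3,7,15,6,15,1,3,7,15,6], true), ([14,6,3,1,14,7,14,6,3,1,14,7,14,6,14,7,14,6,3,1,14,7], false), ([6,15,1,3,7,15,6,15,7,15,6,15,1,3,7,15,6,15,1,3,7], true), ([14,7,14,6,3,1,14,7,14,6,14,7,14,6,3,1,14,7,14,6,3,1], false), ([1,3,7,15,6,15,1,3,7,15,6,15,7,15,6,15,1,3,7,15,6], true), ([14,6,3,1,14,7,14,6,14,7,14,6,3,1,14,7,14,6,3,1,14,7], false),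 ([6,15,1,3,7,15,6,15,1,3,7,15,6,15,7,15,6,15,1,3,7], true), ([14,7,14,6,14,7,14,6,3,1,14,7,14,6,3,1,14,7,14,6,3,1], false), ([1,3,7,15,6,15,1,3,7,15,6,15,1,3,7,15,6,15,7,15,6], true), ([14,6,14,7,14,6,3,1,14,7,14,6,3,1,14,7,14,6,3,1,14,7], false), ([6,15,1,3,7,15,6,15,1,3,7,15,6,15,1,3,7,15,6,15,7], true), ([14,6,6,4,7,7,14,6,6,4,7,7,14,6,6,4,7,7,14,5,4,3,4,5,6,6,6,5,4,3,4,5,7,4,3,4,3,1,4,7,7], false), ([6,6,4,1,3,4,3,4,6,5,4,3,4,5,7,7,7,5,4,3,4,5,15,6,6,4,7,7,15,6,6,4,7,7,15,6,6,4,7,7], true), ([14,6,6,4,7,7,14,6,6,4,7,7,14,5,4,3,4,5,6,6,6,5,4,3,4,5,7,4,3,4,3,1,4,7,7,14,6,6,4,7,7], false), ([6,6,4,7,7,15,6,6,4,1,3,4,3,4,6,5,4,3,4,5,7,7,7,5,4,3,4,5,15,6,6,4,7,7,15,6,6,4,7,7], true), ([14,6,6,4,7,7,14,5,4,3,4,5,6,6,6,5,4,3,4,5,7,4,3,4,3,1,4,7,7,14,6,6,4,7,7,14,6,6,4,7,7], false), ([6,6,4,7,7,15,6,6,4,7,7,15,6,6,4,1,3,4,3,4,6,5,4,3,4,5,7,7,7,5,4,3,4,5,15,6,6,4,7,7],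 true), ([14,5,4,3,4,5,6,6,6,5,4,3,4,5,7,4,3,4,3,1,4,7,7,14,6,6,4,7,7,14,6,6,4,7,7,14,6,6,4,7,7], false), ([6,6,4,7,7,15,6,6,4,7,7,15,6,6,4,7,7,15,6,6,4,1,3,4,3,4,6,5,4,3,4,5,7,7,7,5,4,3,4,5], true)]
  gw := nthW gwL
  cl := cl


end Cfsg.H6.Th.D
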