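import Cfsg.Agent.H6.Th.D.B0
import Cfsg.Agent.H6.Th.D.B1
import Cfsg.Agent.H6.Th.D.B2
import Cfsg.Agent.H6.Th.D.B3
import Cfsg.Agent.H6.Th.D.B4
import Cfsg.Agent.H6.Th.D.B5
import Cfsg.Agent.H6.Th.D.B6
import Cfsg.Agent.H6.Th.D.B7
import Cfsg.Agent.H6.Th.D.B8
import Cfsg.Agent.H6.Th.D.B9
import Cfsg.Agent.H6.Th.D.B10
import Cfsg.Agent.H6.Th.D.B11
import Cfsg.Agent.H6.Th.D.B12

set_option autoImplicit false
set_option maxRecDepth 100000
set_option Elab.async false

namespace Cfsg.H6.Th.D

theorem hv {G : Type*} [Group G] {ev : ℕ → G} {H : Subgroup G} (h : D.Hyp ev H) :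
    ∀ c < 5102, D.Valid ev H (D.cl c) :=
  Dce.all_valid h (range_join (range_join (range_join (range_join (range_join (allR_range k0 (by norm_num : 0 + 100 = 100)) (range_join (allR_range k1 (by norm_num : 100 + 100 = 200)) (allR_range k2 (by norm_num : 200 + 100 = 300)))) (range_join (allR_range k3 (by norm_num : 300 + 100 = 400)) (range_join (allR_range k4 (by norm_num : 400 + 100 = 500)) (allR_range k5 (by norm_num : 500 + 100 = 600))))) (range_join (range_join (allR_range k6 (by norm_num : 600 + 100 = 700)) (range_join (allR_range k7 (by norm_num : 700 + 100 = 800)) (allR_range k8 (by norm_num : 800 + 100 = 900)))) (range_join (range_join (allR_range k9 (by norm_num : 900 + 100 = 1000)) (allR_range k10 (by norm_num : 1000 + 100 = 1100))) (range_join (allR_range k11 (by norm_num : 1100 + 100 = 1200)) (allR_range k12 (by norm_num : 1200 + 100 = 1300)))))) (range_join (range_join (range_join (allR_range k13 (by norm_num : 1300 + 100 = 1400)) (range_join (allR_range k14 (by norm_num : 1400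 + 100 = 1500)) (allR_range k15 (by norm_num : 1500 + 100 = 1600)))) (range_join (allR_range k16 (by norm_num : 1600 + 100 = 1700)) (range_join (allR_range k17 (by norm_num : 1700 + 100 = 1800)) (allR_range k18 (by norm_num : 1800 + 100 = 1900))))) (range_join (range_join (allR_range k19 (by norm_num : 1900 + 100 = 2000)) (range_join (allR_range k20 (by norm_num : 2000 + 100 = 2100)) (allR_range k21 (by norm_num : 2100 + 100 = 2200)))) (range_join (range_join (allR_range k22 (by norm_num : 2200 + 100 = 2300)) (allR_range k23 (by norm_num : 2300 + 100 = 2400))) (range_join (allR_range k24 (by norm_num : 2400 + 100 = 2500)) (allR_range k25 (by norm_num : 2500 + 100 = 2600))))))) (range_join (range_join (range_join (range_join (allR_range k26 (by norm_num : 2600 + 100 = 2700)) (range_join (allR_range k27 (by norm_num : 2700 + 100 = 2800)) (allR_range k28 (by norm_num : 2800 + 100 = 2900)))) (range_join (allR_range k29 (by norm_num : 2900 + 100 = 3000)) (range_join (allR_range k30 (by norm_num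 : 3000 + 100 = 3100)) (allR_range k31 (by norm_num : 3100 + 100 = 3200))))) (range_join (range_join (allR_range k32 (by norm_num : 3200 + 100 = 3300)) (range_join (allR_range k33 (by norm_num : 3300 + 100 = 3400)) (allR_range k34 (by norm_num : 3400 + 100 = 3500)))) (range_join (range_join (allR_range k35 (by norm_num : 3500 + 100 = 3600)) (allR_range k36 (by norm_num : 3600 + 100 = 3700))) (range_join (allR_range k37 (by norm_num : 3700 + 100 = 3800)) (allR_range k38 (by norm_num : 3800 + 100 = 3900)))))) (range_join (range_join (range_join (allR_range k39 (by norm_num : 3900 + 100 = 4000)) (range_join (allR_range k40 (by norm_num : 4000 + 100 = 4100)) (allR_range k41 (by norm_num : 4100 + 100 = 4200)))) (range_join (allR_range k42 (by norm_num : 4200 + 100 = 4300)) (range_join (allR_range k43 (by norm_num : 4300 + 100 = 4400)) (allR_range k44 (by norm_num : 4400 + 100 = 4500))))) (range_join (range_join (allR_range k45 (by norm_num : 4500 + 100 = 4600)) (range_join (allR_range k46 (by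 norm_num : 4600 + 100 = 4700)) (allR_range k47 (by norm_num : 4700 + 100 = 4800)))) (range_join (range_join (allR_range k48 (by norm_num : 4800 + 100 = 4900)) (allR_range k49 (by norm_num : 4900 + 100 = 5000))) (range_join (allR_range k50 (by norm_num : 5000 + 100 = 5100)) (allR_range k51 (by norm_num : 5100 + 2 = 5102))))))))

theorem top : ⊤ ≤ gen H.ev (D.genW [0,1,2,3,4,5,6]) :=
  H.top.trans (gen_le_of_letChk (by decide +kernel))

def E : List (ℕ × ℕ) := [(1, 17199), (0, 1), (2, 45864), (3, 2201472), (4, 1304576), (5, 11741184), (6, 105670656), (7, 5031936), (8, 8128512), (9, 179712), (10, 8805888)]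

theorem hT {G : Type*} [Group G] {ev : ℕ → G} {H : Subgroup G} {θ : Th.H.Grp →* G}
    (M : D.Model ev Th.H.ev θ Th.H.φ Th.H.img 17199) (h : D.Hyp ev H) :
    ∀ i ∈ E.map Prod.fst, ∀ p, D.InU ev H θ (E.map Prod.fst) (evL ev (D.gw i) * θ p * ev D.T) :=
  (List.forall_mem_cons.mpr ⟨Dce.fin_sound M h (hv h) f1, (List.forall_mem_cons.mpr ⟨Dce.fin_sound M h (hv h) f0, (List.forall_mem_cons.mpr ⟨Dce.fin_sound M h (hv h) f2, (List.forall_mem_cons.mpr ⟨Dce.fin_sound M h (hv h) f3, (List.forall_mem_cons.mpr ⟨Dce.fin_sound M h (hv h) f4, (List.forall_mem_cons.mpr ⟨Dce.fin_sound M h (hv h) f5, (List.forall_mem_cons.mpr ⟨Dce.fin_sound M h (hv h) f6, (List.forall_mem_cons.mpr ⟨Dce.fin_sound M h (hv h) f7, (List.forall_mem_cons.mpr ⟨Dce.fin_sound M h (hv h) f8, (List.forall_mem_cons.mpr ⟨Dce.fin_sound M h (hv h) f9, (List.forall_mem_cons.mpr ⟨Dce.fin_sound M h (hv h) f10, (by simp)⟩)⟩)⟩)⟩)⟩)⟩)⟩)⟩)⟩)⟩)⟩)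

theorem hE {G : Type*} [Group G] {ev : ℕ → G} {H : Subgroup G} {θ : Th.H.Grp →* G}
    (M : D.Model ev Th.H.ev θ Th.H.φ Th.H.img 17199) (h : D.Hyp ev H) :
    ∀ e ∈ E, Cover ((rcStab H (evL ev (D.gw e.1))).comap θ) ⊤ e.2 := by
  have := Th.H.finite
  exact (List.forall_mem_cons.mpr ⟨Dce.cover_one M h (hv h) (Gs := [10,11,12,13]) (by decide +kernel) s1 (by rw [Th.H.card]; decide +kernel), (List.forall_mem_cons.mpr ⟨Dce.cover_top M h (hv h) (Gs := [0,1,2,3,4,5,6]) (by decide +kernel) top, (List.forall_mem_cons.mpr ⟨Dce.cover_one M h (hv h) (Gs := [20,21,22,23,24,25,26,27,30,44]) (by decide +kernel) s2 (by rw [Th.H.card]; decide +kernel), (List.forall_mem_cons.mpr ⟨Dce.cover_one M h (hv h) (Gs := [48,49,50,51,52,55,85]) (by decide +kernel) s3 (by rw [Th.H.card]; decide +kernel), (List.forall_mem_cons.mpr ⟨Dce.cover_one M h (hv h) (Gs := [100,101,102,105,166]) (by decide +kernel) s4 (by rw [Th.H.card]; decide +kernel), (List.forall_mem_cons.mpr ⟨Dce.cover_one M h (hv h) (Gs := [113,114,126])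 (by decide +kernel) s5 (by rw [Th.H.card]; decide +kernel), (List.forall_mem_cons.mpr ⟨Dce.cover_one M h (hv h) (Gs := [185,186]) (by decide +kernel) s6 (by rw [Th.H.card]; decide +kernel), (List.forall_mem_cons.mpr ⟨Dce.cover_one M h (hv h) (Gs := [3695,3696,3706,3713]) (by decide +kernel) s7 (by rw [Th.H.card]; decide +kernel), (List.forall_mem_cons.mpr ⟨Dce.cover_one M h (hv h) (Gs := [4022,4034,4057]) (by decide +kernel) s8 (by rw [Th.H.card]; decide +kernel), (List.forall_mem_cons.mpr ⟨Dce.cover_one M h (hv h) (Gs := [4542,4543,4549]) (by decide +kernel) s9 (by rw [Th.H.card]; decide +kernel), (List.forall_mem_cons.mpr ⟨Dce.cover_one M h (hv h) (Gs := [4569,4570,4588]) (by decide +kernel) s10 (by rw [Th.H.card]; decide +kernel), (by simp)⟩)⟩)⟩)⟩)⟩)⟩)⟩)⟩)⟩)⟩)⟩)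

theorem model {G : Type*} [Group G] {ev : ℕ → G} {θ : H.Grp →* G}
    (hθ : ∀ l, 1 ≤ l → l < 14 → θ (H.ev l) = ev l) : D.Model ev H.ev θ H.φ H.img 17199 :=
  ⟨hθ, H.hφ, H.hφ.lt_of_gen (by norm_num) H.hX (by decide +kernel), stab, by decide +kernel⟩

theorem core {G : Type*} [Group G] {ev : ℕ → G} {θ : H.Grp →* G}
    (M : D.Model ev H.ev θ H.φ H.img 17199) (h : D.Hyp ev θ.range)
    (hU : ∀ x, D.InU ev θ.range θ (E.map Prod.fst) x) (hN : θ.range.index = 143127000)
    (N : Subgroup G) [N.Normal] (hle : N ≤ θ.range) : N = ⊥ := by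
  have := H.finite
  exact Dce.core_free (φ := H.φ) E.tail (i := 1) (k := 17199) (hE M h) hU le_rfl hN
    (Dce.genW_le M h (hv h) (Gs := [10,11,12,13]) (by decide +kernel)) s1 (by rw [H.card])
    (H.hφ.gen_le_fixS (by decide +kernel))
    (H.hφ.mem_orb (by norm_num) (W := [[2,1,4,5], [2,4,6], []]) (by decide +kernel)) H.main.2.1 N hle


end Cfsg.H6.Th.D
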